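import Groth.Agent.Lib.Helper67.Depth2

/-!
# Cohen–Macaulay modules (helper67)

* `depth M ≤ dim R/p` for `p ∈ Ass M`;
* associated primes of CM modules have `dim R/p = dim M`;
* regular ⟺ dimension drops, quotients of CM are CM;
* localization of CM modules, dimension formulas.
-/

universe u v w

namespace Groth.Agent.Lib.Helper67

open RingTheory.Sequence LocCoh
open scoped Pointwise

section Dim

variable {R : Type u} [CommRing R]

theorem ringKrullDim_quotient_succ_le_of_lt {p q : Ideal R} [hp : p.IsPrime] (hpq : p < q) :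
    ringKrullDim (R ⧸ q) + 1 ≤ ringKrullDim (R ⧸ p) := by
  obtain ⟨x, hxq, hxp⟩ := Set.exists_of_ssubset hpq
  have hne : (Ideal.Quotient.mk p x) ≠ 0 := by
    rwa [Ne, Ideal.Quotient.eq_zero_iff_mem]
  refine ringKrullDim_succ_le_of_surjective (Ideal.Quotient.factor hpq.le)
    (Ideal.Quotient.factor_surjective hpq.le) (mem_nonZeroDivisors_of_ne_zero hne) ?_
  rw [Ideal.Quotient.factor_mk, Ideal.Quotient.eq_zero_iff_mem]
  exact hxq

theorem ringKrullDim_quotient_le_of_le {I J : Ideal R} (h : I ≤ J) :
    ringKrullDim (R ⧸ J) ≤ ringKrullDim (R ⧸ I) :=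
  ringKrullDim_le_of_surjective (Ideal.Quotient.factor h) (Ideal.Quotient.factor_surjective h)

theorem ringKrullDim_quotient_le_supportDim {M : Type v} [AddCommGroup M] [Module R M]
    [Module.Finite R M] {p : Ideal R} (hp : Module.annihilator R M ≤ p) :
    ringKrullDim (R ⧸ p) ≤ Module.supportDim R M := by
  rw [Module.supportDim_eq_ringKrullDim_quotient_annihilator]
  exact ringKrullDim_quotient_le_of_le hp

theorem annihilator_le_of_mem_associatedPrimes {M : Type v} [AddCommGroup M] [Module R M]
    {p : Ideal R} (hp : p ∈ associatedPrimes R M) : Module.annihilator R M ≤ p := by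
  rw [← Submodule.annihilator_top]
  exact IsAssociatedPrime.annihilator_le hp

theorem mem_support_of_mem_associatedPrimes {M : Type v} [AddCommGroup M] [Module R M]
    [Module.Finite R M] {p : Ideal R} (hp : p ∈ associatedPrimes R M) :
    (⟨p, IsAssociatedPrime.isPrime hp⟩ : PrimeSpectrum R) ∈ Module.support R M := by
  rw [Module.mem_support_iff_of_finite]
  exact annihilator_le_of_mem_associatedPrimes hp

theorem supportDim_eq_of_support_eq {M : Type v} {N : Type w} [AddCommGroup M] [Module R M]
    [AddCommGroup N] [Module R N] (h : Module.support R M = Module.support R N) :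
    Module.supportDim R M = Module.supportDim R N := by
  unfold Module.supportDim
  rw [h]

end Dim

section AssDim

variable {R : Type u} [CommRing R] [IsNoetherianRing R]

/-- If `p ∈ Ass M` and `x` is `M`-regular in the Jacobson radical, there is `q ∈ Ass (M/xM)` with
`p ≤ q` and `x ∈ q`. -/
theorem exists_associatedPrime_quotSMulTop {M : Type v} [AddCommGroup M] [Module R M]
    [Module.Finite R M] {p : Ideal R} (hp : p ∈ associatedPrimes R M) {x : R}
    (hxJ : x ∈ Ideal.jacobson (⊥ : Ideal R)) (hx : IsSMulRegular M x) :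
    ∃ q ∈ associatedPrimes R (QuotSMulTop x M), p ≤ q ∧ x ∈ q := by
  obtain ⟨hpp, m₀, hm₀⟩ := (isAssociatedPrime_iff).mp hp
  set N : Submodule R M := Submodule.torsionBySet R M (p : Set R) with hN
  have hm₀N : m₀ ∈ N := by
    rw [hN, Submodule.mem_torsionBySet_iff]
    rintro ⟨a, ha⟩
    have : a ∈ (⊥ : Submodule R M).colon {m₀} := hm₀ ▸ ha
    simpa [Submodule.mem_colon_singleton] using this
  have hm₀0 : m₀ ≠ 0 := by
    rintro rfl
    apply hpp.ne_top
    rw [hm₀, Ideal.eq_top_iff_one, Submodule.mem_colon_singleton]
    simp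
  have hNbot : N ≠ ⊥ := fun h => hm₀0 (by rw [h] at hm₀N; exact (Submodule.mem_bot R).mp hm₀N)
  have hnoeth : IsNoetherian R M := isNoetherian_of_isNoetherianRing_of_finite R M
  -- there is `n ∈ N` with `n ∉ x M`
  have hex : ∃ n ∈ N, n ∉ (x • (⊤ : Submodule R M)) := by
    by_contra hcon
    push Not at hcon
    apply hNbot
    refine Submodule.eq_bot_of_le_smul_of_le_jacobson_bot (Ideal.span {x}) N
      (IsNoetherian.noetherian N) ?_ ((Ideal.span_singleton_le_iff_mem _).mpr hxJ)
    intro n hn
    obtain ⟨m, -, rfl⟩ := (Submodule.mem_smul_pointwise_iff_exists _ _ _).mp (hcon n hn)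
    have hmN : m ∈ N := by
      rw [hN, Submodule.mem_torsionBySet_iff] at hn ⊢
      intro a
      have := hn a
      rw [smul_comm] at this
      exact hx (by simpa using this)
    exact Submodule.smul_mem_smul (Ideal.mem_span_singleton_self x) hmN
  obtain ⟨n, hnN, hnx⟩ := hex
  have hne : (Submodule.Quotient.mk n : QuotSMulTop x M) ≠ 0 := by
    rwa [Ne, Submodule.Quotient.mk_eq_zero]
  obtain ⟨q, hq, hle⟩ := exists_le_isAssociatedPrime_of_isNoetherianRing R
    (Submodule.Quotient.mk n : QuotSMulTop x M) hne
  refine ⟨q, hq, fun a ha => hle ?_, hle ?_⟩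
  · rw [Submodule.mem_colon_singleton, ← Submodule.Quotient.mk_smul]
    rw [hN, Submodule.mem_torsionBySet_iff] at hnN
    rw [hnN ⟨a, ha⟩]
    simp
  · rw [Submodule.mem_colon_singleton, ← Submodule.Quotient.mk_smul, Submodule.mem_bot,
      Submodule.Quotient.mk_eq_zero]
    exact Submodule.smul_mem_pointwise_smul n x ⊤ trivial

theorem notMem_of_isSMulRegular_of_mem_associatedPrimes {M : Type v} [AddCommGroup M]
    [Module R M] {p : Ideal R} (hp : p ∈ associatedPrimes R M) {x : R} (hx : IsSMulRegular M x) :
    x ∉ p := by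
  intro hxp
  have : x ∈ ⋃ p ∈ associatedPrimes R M, (p : Set R) := Set.mem_biUnion hp hxp
  rw [biUnion_associatedPrimes_eq_compl_regular] at this
  exact this hx

variable [IsLocalRing R]

theorem natCast_le_ringKrullDim_quotient_of_le_depth (n : ℕ) :
    ∀ (M : Type u) [AddCommGroup M] [Module R M] [Module.Finite R M] (p : Ideal R),
      p ∈ associatedPrimes R M → (n : ℕ∞) ≤ depth R M →
      (n : WithBot ℕ∞) ≤ ringKrullDim (R ⧸ p) := by
  induction n with
  | zero =>
    intro M _ _ _ p hp _
    have : p.IsPrime := IsAssociatedPrime.isPrime hp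
    have : Nontrivial (R ⧸ p) := Ideal.Quotient.nontrivial_iff.mpr this.ne_top
    exact_mod_cast ringKrullDim_nonneg_of_nontrivial
  | succ n ih =>
    intro M _ _ _ p hp hle
    have hpp : p.IsPrime := IsAssociatedPrime.isPrime hp
    have hnt : Nontrivial M := by
      by_contra hcon
      rw [not_nontrivial_iff_subsingleton] at hcon
      rw [associatedPrimes.eq_empty_of_subsingleton] at hp
      exact hp
    have hmM := maximalIdeal_smul_top_ne_top (R := R) M
    have h1 : (1 : ℕ∞) ≤ depth R M := le_trans (by simp) hle
    rw [depth, one_le_idealDepth_iff] at h1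
    rcases h1 with h1 | ⟨x, hxm, hx⟩
    · exact absurd h1 hmM
    · have hxJ : x ∈ Ideal.jacobson (⊥ : Ideal R) := by
        rwa [IsLocalRing.jacobson_eq_maximalIdeal ⊥ bot_ne_top]
      obtain ⟨q, hq, hpq, hxq⟩ := exists_associatedPrime_quotSMulTop hp hxJ hx
      have hlt : p < q := lt_of_le_of_ne hpq (by
        rintro rfl
        exact notMem_of_isSMulRegular_of_mem_associatedPrimes hp hx hxq)
      have h2 := idealDepth_quotSMulTop_add_one (IsLocalRing.maximalIdeal R) M hmM x hxm hx
      have h3 : (n : ℕ∞) ≤ depth R (QuotSMulTop x M) := by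
        rw [depth, ← h2] at hle
        have : ((n : ℕ∞) + 1) ≤ idealDepth (IsLocalRing.maximalIdeal R) (QuotSMulTop x M) + 1 := by
          exact_mod_cast hle
        exact (ENat.add_le_add_iff_right ENat.one_ne_top).mp this
      have h4 := ih (QuotSMulTop x M) q hq h3
      have h5 := ringKrullDim_quotient_succ_le_of_lt hlt
      calc ((n + 1 : ℕ) : WithBot ℕ∞) = (n : WithBot ℕ∞) + 1 := by push_cast; rfl
        _ ≤ ringKrullDim (R ⧸ q) + 1 := by gcongr
        _ ≤ ringKrullDim (R ⧸ p) := h5

theorem depth_le_ringKrullDim_quotient_of_mem_associatedPrimes (M : Type u) [AddCommGroup M]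
    [Module R M] [Module.Finite R M] {p : Ideal R} (hp : p ∈ associatedPrimes R M) :
    ((depth R M : ℕ∞) : WithBot ℕ∞) ≤ ringKrullDim (R ⧸ p) := by
  have hnt : Nontrivial M := by
    by_contra hcon
    rw [not_nontrivial_iff_subsingleton] at hcon
    rw [associatedPrimes.eq_empty_of_subsingleton] at hp
    exact hp
  obtain ⟨n, hn⟩ := ENat.ne_top_iff_exists.mp (depth_ne_top (R := R) M)
  rw [← hn]
  exact natCast_le_ringKrullDim_quotient_of_le_depth n M p hp (by rw [← hn])

end AssDim

section WithBotENat

theorem withBot_enat_add_one_cancel {a b : WithBot ℕ∞} (h : a + 1 = b + 1) : a = b := by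
  induction a using WithBot.recBotCoe with
  | bot =>
    induction b using WithBot.recBotCoe with
    | bot => rfl
    | coe b =>
      exfalso
      rw [WithBot.bot_add] at h
      have : ((b + 1 : ℕ∞) : WithBot ℕ∞) = ⊥ := by rw [h]; rfl
      exact WithBot.coe_ne_bot this
  | coe a =>
    induction b using WithBot.recBotCoe with
    | bot =>
      exfalso
      rw [WithBot.bot_add] at h
      have : ((a + 1 : ℕ∞) : WithBot ℕ∞) = ⊥ := by rw [← h]; rfl
      exact WithBot.coe_ne_bot this
    | coe b =>
      have h' : a + 1 = b + 1 := by exact_mod_cast h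
      have := (ENat.add_left_injective_of_ne_top ENat.one_ne_top) h'
      rw [this]

theorem withBot_enat_le_of_add_one_le {a b : WithBot ℕ∞} (h : a + 1 ≤ b + 1) : a ≤ b := by
  induction a using WithBot.recBotCoe with
  | bot => exact bot_le
  | coe a =>
    induction b using WithBot.recBotCoe with
    | bot =>
      exfalso
      rw [WithBot.bot_add, le_bot_iff] at h
      have : ((a + 1 : ℕ∞) : WithBot ℕ∞) = ⊥ := by rw [← h]; rfl
      exact WithBot.coe_ne_bot this
    | coe b =>
      have h' : a + 1 ≤ b + 1 := by exact_mod_cast h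
      exact_mod_cast (ENat.add_le_add_iff_right ENat.one_ne_top).mp h'

theorem withBot_enat_coe_add_one (a : ℕ∞) : ((a + 1 : ℕ∞) : WithBot ℕ∞) = (a : WithBot ℕ∞) + 1 := rfl

end WithBotENat

section CM

variable {R : Type u} [CommRing R] [IsLocalRing R]

theorem nontrivial_of_isCohenMacaulayModule {M : Type v} [AddCommGroup M] [Module R M]
    (hM : IsCohenMacaulayModule R M) : Nontrivial M := by
  rw [← Module.supportDim_ne_bot_iff_nontrivial R]
  have hM' : Module.supportDim R M = ((depth R M : ℕ∞) : WithBot ℕ∞) := hM
  rw [hM']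
  exact WithBot.coe_ne_bot

theorem isCohenMacaulayModule_of_equiv {M : Type v} {N : Type w} [AddCommGroup M] [Module R M]
    [AddCommGroup N] [Module R N] (e : M ≃ₗ[R] N) (hM : IsCohenMacaulayModule R M) :
    IsCohenMacaulayModule R N := by
  have hM' : Module.supportDim R M = ((depth R M : ℕ∞) : WithBot ℕ∞) := hM
  show Module.supportDim R N = ((depth R N : ℕ∞) : WithBot ℕ∞)
  rw [← Module.supportDim_eq_of_equiv e, ← depth_congr e]
  exact hM'

theorem isCohenMacaulayModule_congr {M : Type v} {N : Type w} [AddCommGroup M] [Module R M]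
    [AddCommGroup N] [Module R N] (e : M ≃ₗ[R] N) :
    IsCohenMacaulayModule R M ↔ IsCohenMacaulayModule R N :=
  ⟨isCohenMacaulayModule_of_equiv e, isCohenMacaulayModule_of_equiv e.symm⟩

variable [IsNoetherianRing R]

/-- For a Cohen–Macaulay module, `dim R/p = dim M` for every associated prime. -/
theorem ringKrullDim_quotient_eq_supportDim_of_CM (M : Type u) [AddCommGroup M] [Module R M]
    [Module.Finite R M] (hM : IsCohenMacaulayModule R M) {p : Ideal R}
    (hp : p ∈ associatedPrimes R M) : ringKrullDim (R ⧸ p) = Module.supportDim R M := by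
  have hM' : Module.supportDim R M = ((depth R M : ℕ∞) : WithBot ℕ∞) := hM
  apply le_antisymm
  · exact ringKrullDim_quotient_le_supportDim (annihilator_le_of_mem_associatedPrimes hp)
  · rw [hM']
    exact depth_le_ringKrullDim_quotient_of_mem_associatedPrimes M hp

theorem isSMulRegular_of_supportDim_quotSMulTop_add_one_eq (M : Type u) [AddCommGroup M]
    [Module R M] [Module.Finite R M] (hM : IsCohenMacaulayModule R M) {g : R}
    (hdim : Module.supportDim R (QuotSMulTop g M) + 1 = Module.supportDim R M) :
    IsSMulRegular M g := by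
  have hnt := nontrivial_of_isCohenMacaulayModule hM
  by_contra hreg
  have : g ∈ ({r | IsSMulRegular M r}ᶜ : Set R) := hreg
  rw [← biUnion_associatedPrimes_eq_compl_regular] at this
  obtain ⟨p, hp, hgp⟩ := Set.mem_iUnion₂.mp this
  have hpp : p.IsPrime := IsAssociatedPrime.isPrime hp
  have h1 := ringKrullDim_quotient_eq_supportDim_of_CM M hM hp
  have hsupp : (⟨p, hpp⟩ : PrimeSpectrum R) ∈ Module.support R (QuotSMulTop g M) := by
    rw [Module.support_quotSMulTop]
    refine ⟨mem_support_of_mem_associatedPrimes hp, ?_⟩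
    simpa using hgp
  have h2 : ringKrullDim (R ⧸ p) ≤ Module.supportDim R (QuotSMulTop g M) :=
    ringKrullDim_quotient_le_supportDim (Module.annihilator_le_of_mem_support hsupp)
  obtain ⟨k, hk⟩ := supportDim_eq_natCast (R := R) M
  rw [h1] at h2
  have h3 : Module.supportDim R M + 1 ≤ Module.supportDim R M := by
    calc Module.supportDim R M + 1 ≤ Module.supportDim R (QuotSMulTop g M) + 1 := by gcongr
      _ = Module.supportDim R M := hdim
  rw [hk] at h3
  have h4 : ((k + 1 : ℕ) : WithBot ℕ∞) ≤ (k : ℕ) := by push_cast; exact h3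
  have h5 : k + 1 ≤ k := by exact_mod_cast h4
  omega

theorem isCohenMacaulayModule_quotSMulTop (M : Type u) [AddCommGroup M]
    [Module R M] [Module.Finite R M] (hM : IsCohenMacaulayModule R M) {g : R}
    (hg : g ∈ IsLocalRing.maximalIdeal R) (hreg : IsSMulRegular M g) :
    IsCohenMacaulayModule R (QuotSMulTop g M) := by
  have hnt := nontrivial_of_isCohenMacaulayModule hM
  have hM' : Module.supportDim R M = ((depth R M : ℕ∞) : WithBot ℕ∞) := hM
  have h1 := Module.supportDim_quotSMulTop_succ_eq_supportDim hreg hg
  have h2 := idealDepth_quotSMulTop_add_one (IsLocalRing.maximalIdeal R) M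
    (maximalIdeal_smul_top_ne_top M) g hg hreg
  show Module.supportDim R (QuotSMulTop g M) = ((depth R (QuotSMulTop g M) : ℕ∞) : WithBot ℕ∞)
  apply withBot_enat_add_one_cancel
  rw [h1, hM', depth, ← h2]
  rfl

theorem depth_quotSMulTop_add_one (M : Type u) [AddCommGroup M]
    [Module R M] [Module.Finite R M] [Nontrivial M] {g : R}
    (hg : g ∈ IsLocalRing.maximalIdeal R) (hreg : IsSMulRegular M g) :
    depth R (QuotSMulTop g M) + 1 = depth R M :=
  idealDepth_quotSMulTop_add_one (IsLocalRing.maximalIdeal R) M
    (maximalIdeal_smul_top_ne_top M) g hg hreg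

theorem supportDim_le_supportDim_quot_ofList_add_length (rs : List R) :
    ∀ (M : Type v) [AddCommGroup M] [Module R M] [Module.Finite R M],
      (∀ r ∈ rs, r ∈ IsLocalRing.maximalIdeal R) →
      Module.supportDim R M ≤
        Module.supportDim R (M ⧸ Ideal.ofList rs • (⊤ : Submodule R M)) + rs.length := by
  induction rs with
  | nil =>
    intro M _ _ _ _
    have e : (M ⧸ Ideal.ofList ([] : List R) • (⊤ : Submodule R M)) ≃ₗ[R] M :=
      Submodule.quotEquivOfEqBot _ (by simp)
    rw [Module.supportDim_eq_of_equiv e]
    simp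
  | cons r rs ih =>
    intro M _ _ _ hmem
    have h1 := Module.supportDim_le_supportDim_quotSMulTop_succ (M := M)
      (hmem r List.mem_cons_self)
    have h2 := ih (QuotSMulTop r M) (fun s hs => hmem s (List.mem_cons_of_mem _ hs))
    rw [Module.supportDim_eq_of_equiv
      (Submodule.quotOfListConsSMulTopEquivQuotSMulTopInner M r rs)]
    calc Module.supportDim R M ≤ Module.supportDim R (QuotSMulTop r M) + 1 := h1
      _ ≤ (Module.supportDim R (QuotSMulTop r M ⧸
            Ideal.ofList rs • (⊤ : Submodule R (QuotSMulTop r M))) + rs.length) + 1 := by gcongr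
      _ = _ := by rw [List.length_cons, Nat.cast_add, Nat.cast_one, add_assoc]

theorem isCohenMacaulayModule_quot_ofList (rs : List R) :
    ∀ (M : Type u) [AddCommGroup M] [Module R M] [Module.Finite R M],
      IsCohenMacaulayModule R M → (∀ r ∈ rs, r ∈ IsLocalRing.maximalIdeal R) →
      IsWeaklyRegular M rs →
      IsCohenMacaulayModule R (M ⧸ Ideal.ofList rs • (⊤ : Submodule R M)) := by
  induction rs with
  | nil =>
    intro M _ _ _ hM _ _
    have e : (M ⧸ Ideal.ofList ([] : List R) • (⊤ : Submodule R M)) ≃ₗ[R] M :=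
      Submodule.quotEquivOfEqBot _ (by simp)
    exact isCohenMacaulayModule_of_equiv e.symm hM
  | cons r rs ih =>
    intro M _ _ _ hM hmem hreg
    rw [isWeaklyRegular_cons_iff] at hreg
    have hQ := isCohenMacaulayModule_quotSMulTop M hM (hmem r List.mem_cons_self) hreg.1
    have h2 := ih (QuotSMulTop r M) hQ (fun s hs => hmem s (List.mem_cons_of_mem _ hs)) hreg.2
    exact isCohenMacaulayModule_of_equiv
      (Submodule.quotOfListConsSMulTopEquivQuotSMulTopInner M r rs).symm h2

theorem isWeaklyRegular_of_supportDim_of_CM (rs : List R) :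
    ∀ (M : Type u) [AddCommGroup M] [Module R M] [Module.Finite R M],
      IsCohenMacaulayModule R M → (∀ r ∈ rs, r ∈ IsLocalRing.maximalIdeal R) →
      Module.supportDim R (M ⧸ Ideal.ofList rs • (⊤ : Submodule R M)) + rs.length =
        Module.supportDim R M → IsWeaklyRegular M rs := by
  induction rs with
  | nil => intro M _ _ _ _ _ _; exact IsWeaklyRegular.nil R M
  | cons r rs ih =>
    intro M _ _ _ hM hmem hdim
    have hr := hmem r List.mem_cons_self
    have hmem' : ∀ s ∈ rs, s ∈ IsLocalRing.maximalIdeal R :=
      fun s hs => hmem s (List.mem_cons_of_mem _ hs)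
    rw [Module.supportDim_eq_of_equiv
      (Submodule.quotOfListConsSMulTopEquivQuotSMulTopInner M r rs)] at hdim
    have h1 := Module.supportDim_le_supportDim_quotSMulTop_succ (M := M) hr
    have h2 := supportDim_le_supportDim_quot_ofList_add_length rs (QuotSMulTop r M) hmem'
    have h3 : Module.supportDim R (QuotSMulTop r M) + 1 ≤ Module.supportDim R M := by
      calc Module.supportDim R (QuotSMulTop r M) + 1
          ≤ (Module.supportDim R (QuotSMulTop r M ⧸
            Ideal.ofList rs • (⊤ : Submodule R (QuotSMulTop r M))) + rs.length) + 1 := by gcongr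
        _ = Module.supportDim R M := by
          rw [← hdim, List.length_cons, Nat.cast_add, Nat.cast_one, add_assoc]
    have h4 : Module.supportDim R (QuotSMulTop r M) + 1 = Module.supportDim R M :=
      le_antisymm h3 h1
    have hreg := isSMulRegular_of_supportDim_quotSMulTop_add_one_eq M hM h4
    have hQ := isCohenMacaulayModule_quotSMulTop M hM hr hreg
    rw [isWeaklyRegular_cons_iff]
    refine ⟨hreg, ih (QuotSMulTop r M) hQ hmem' ?_⟩
    apply withBot_enat_add_one_cancel
    rw [h4, ← hdim, List.length_cons, Nat.cast_add, Nat.cast_one, add_assoc]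

theorem isWeaklyRegular_iff_supportDim_of_CM (M : Type u) [AddCommGroup M] [Module R M]
    [Module.Finite R M] (hM : IsCohenMacaulayModule R M) (rs : List R)
    (hmem : ∀ r ∈ rs, r ∈ IsLocalRing.maximalIdeal R) :
    IsWeaklyRegular M rs ↔
      Module.supportDim R (M ⧸ Ideal.ofList rs • (⊤ : Submodule R M)) + rs.length =
        Module.supportDim R M := by
  have hnt := nontrivial_of_isCohenMacaulayModule hM
  constructor
  · intro hreg
    exact Module.supportDim_add_length_eq_supportDim_of_isRegular rs
      (isRegular_of_isWeaklyRegular_of_mem _ (maximalIdeal_smul_top_ne_top M) hreg hmem)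
  · exact isWeaklyRegular_of_supportDim_of_CM rs M hM hmem

omit [IsNoetherianRing R] in
theorem ringKrullDim_quotient_maximalIdeal : ringKrullDim (R ⧸ IsLocalRing.maximalIdeal R) = 0 :=
  ringKrullDim_eq_zero_of_isField
    ((Ideal.Quotient.maximal_ideal_iff_isField_quotient _).mp inferInstance)

/-- A criterion for Cohen–Macaulayness: all quotients by parts of systems of parameters are
unmixed. -/
theorem isCohenMacaulayModule_of_forall_associatedPrimes (k : ℕ) :
    ∀ (M : Type u) [AddCommGroup M] [Module R M] [Module.Finite R M] [Nontrivial M],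
      Module.supportDim R M = (k : WithBot ℕ∞) →
      (∀ xs : List R, (∀ x ∈ xs, x ∈ IsLocalRing.maximalIdeal R) →
        Module.supportDim R (M ⧸ (Ideal.ofList xs • (⊤ : Submodule R M))) + xs.length =
          Module.supportDim R M →
        ∀ p ∈ associatedPrimes R (M ⧸ (Ideal.ofList xs • (⊤ : Submodule R M))),
          ringKrullDim (R ⧸ p) =
            Module.supportDim R (M ⧸ (Ideal.ofList xs • (⊤ : Submodule R M)))) →
      IsCohenMacaulayModule R M := by
  induction k with
  | zero =>
    intro M _ _ _ _ hk _
    have h1 := depth_le_supportDim (R := R) M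
    rw [hk] at h1
    have h2 : depth R M ≤ 0 := by exact_mod_cast h1
    have h3 : depth R M = 0 := le_antisymm h2 bot_le
    show Module.supportDim R M = ((depth R M : ℕ∞) : WithBot ℕ∞)
    rw [hk, h3]
    rfl
  | succ k ih =>
    intro M _ _ _ _ hk h
    -- the maximal ideal is not associated
    have e0 : (M ⧸ Ideal.ofList ([] : List R) • (⊤ : Submodule R M)) ≃ₗ[R] M :=
      Submodule.quotEquivOfEqBot _ (by simp)
    have hmax : IsLocalRing.maximalIdeal R ∉ associatedPrimes R M := by
      intro hm
      have := h [] (by simp) (by rw [Module.supportDim_eq_of_equiv e0]; simp)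
        (IsLocalRing.maximalIdeal R) (by rwa [LinearEquiv.AssociatedPrimes.eq e0])
      rw [Module.supportDim_eq_of_equiv e0, hk, ringKrullDim_quotient_maximalIdeal] at this
      have h0 : ((0 : ℕ) : WithBot ℕ∞) = ((k + 1 : ℕ) : WithBot ℕ∞) := by exact_mod_cast this
      have : (0 : ℕ) = k + 1 := by exact_mod_cast h0
      omega
    have hd0 : depth R M ≠ 0 := fun h0 => hmax ((depth_eq_zero_iff M).mp h0)
    have h1 : (1 : ℕ∞) ≤ depth R M := Order.one_le_iff_ne_zero.mpr hd0
    rw [depth, one_le_idealDepth_iff] at h1
    rcases h1 with h1 | ⟨x, hxm, hx⟩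
    · exact absurd h1 (maximalIdeal_smul_top_ne_top M)
    · have hdim := Module.supportDim_quotSMulTop_succ_eq_supportDim hx hxm
      have hdimQ : Module.supportDim R (QuotSMulTop x M) = (k : WithBot ℕ∞) := by
        apply withBot_enat_add_one_cancel
        rw [hdim, hk]
        push_cast
        rfl
      have hntQ : Nontrivial (QuotSMulTop x M) := by
        rw [← Module.supportDim_ne_bot_iff_nontrivial R, hdimQ]
        exact WithBot.coe_ne_bot
      have hQ : IsCohenMacaulayModule R (QuotSMulTop x M) := by
        refine ih (QuotSMulTop x M) hdimQ ?_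
        intro xs hxs hxsdim p hp
        have e := Submodule.quotOfListConsSMulTopEquivQuotSMulTopInner M x xs
        have hmem : ∀ y ∈ x :: xs, y ∈ IsLocalRing.maximalIdeal R := by
          intro y hy
          rcases List.mem_cons.mp hy with rfl | hy
          · exact hxm
          · exact hxs y hy
        have := h (x :: xs) hmem (by
          rw [Module.supportDim_eq_of_equiv e, List.length_cons, Nat.cast_add, Nat.cast_one,
            ← add_assoc, hxsdim, hdim]) p (by rwa [LinearEquiv.AssociatedPrimes.eq e])
        rw [this, Module.supportDim_eq_of_equiv e]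
      have hQ' : Module.supportDim R (QuotSMulTop x M) =
          ((depth R (QuotSMulTop x M) : ℕ∞) : WithBot ℕ∞) := hQ
      show Module.supportDim R M = ((depth R M : ℕ∞) : WithBot ℕ∞)
      rw [← hdim, hQ', ← depth_quotSMulTop_add_one M hxm hx]
      rfl

end CM

section CMLocalization

variable {R : Type u} [CommRing R] [IsLocalRing R] [IsNoetherianRing R]

omit [IsLocalRing R] [IsNoetherianRing R] in
theorem annihilator_le_comap_of_mem_support_localizedModule {M : Type v} [AddCommGroup M]
    [Module R M] (S : Submonoid R) {x : PrimeSpectrum (Localization S)}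
    (hx : x ∈ Module.support (Localization S) (LocalizedModule S M)) :
    Module.annihilator R M ≤ Ideal.comap (algebraMap R (Localization S)) x.asIdeal := by
  intro a ha
  rw [Ideal.mem_comap]
  apply Module.annihilator_le_of_mem_support hx
  rw [Module.mem_annihilator]
  intro z
  induction z using LocalizedModule.induction_on with
  | _ m s =>
    rw [algebraMap_smul, LocalizedModule.smul'_mk, Module.mem_annihilator.mp ha m,
      LocalizedModule.zero_mk]

/-- If `p ∈ Supp M` has `dim R/p = dim M`, then `M_p` has dimension zero. -/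
theorem supportDim_localization_eq_zero (M : Type v) [AddCommGroup M] [Module R M]
    [Module.Finite R M] (p : PrimeSpectrum R) (hp : p ∈ Module.support R M)
    (hdim : ringKrullDim (R ⧸ p.asIdeal) = Module.supportDim R M) :
    Module.supportDim (Localization.AtPrime p.asIdeal)
      (LocalizedModule p.asIdeal.primeCompl M) = 0 := by
  have hntp : Nontrivial (LocalizedModule p.asIdeal.primeCompl M) := Module.mem_support_iff.mp hp
  have hnt : Nontrivial M := by
    by_contra hcon
    rw [not_nontrivial_iff_subsingleton] at hcon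
    rw [Module.support_eq_empty] at hp
    exact hp
  obtain ⟨k, hk⟩ := supportDim_eq_natCast (R := R) M
  apply le_antisymm
  · by_contra hcon
    rw [not_le] at hcon
    unfold Module.supportDim at hcon
    obtain ⟨x, y, hxy⟩ := Order.krullDim_pos_iff.mp hcon
    set f := algebraMap R (Localization.AtPrime p.asIdeal)
    have hinj := PrimeSpectrum.localization_comap_injective (Localization.AtPrime p.asIdeal)
      p.asIdeal.primeCompl
    have hlt : Ideal.comap f x.1.asIdeal < Ideal.comap f y.1.asIdeal := by
      refine lt_of_le_of_ne (Ideal.comap_mono hxy.le) fun heq => ?_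
      have h1 : PrimeSpectrum.comap f x.1 = PrimeSpectrum.comap f y.1 :=
        PrimeSpectrum.ext heq
      have h2 : x.1 = y.1 := hinj h1
      exact absurd (Subtype.ext h2) hxy.ne
    have hyp : Ideal.comap f y.1.asIdeal ≤ p.asIdeal := by
      have h1 : y.1.asIdeal ≤ IsLocalRing.maximalIdeal (Localization.AtPrime p.asIdeal) :=
        IsLocalRing.le_maximalIdeal y.1.2.ne_top
      have h2 := Ideal.comap_mono (f := f) h1
      rwa [show Ideal.comap f (IsLocalRing.maximalIdeal (Localization.AtPrime p.asIdeal)) =
        p.asIdeal from Localization.AtPrime.under_maximalIdeal] at h2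
    have hann := annihilator_le_comap_of_mem_support_localizedModule p.asIdeal.primeCompl x.2
    have hxprime : (Ideal.comap f x.1.asIdeal).IsPrime := Ideal.comap_isPrime f x.1.asIdeal
    have h1 := ringKrullDim_quotient_succ_le_of_lt hlt
    have h2 := ringKrullDim_quotient_le_supportDim (M := M) hann
    have h3 := ringKrullDim_quotient_le_of_le hyp
    rw [hdim] at h3
    have h4 : Module.supportDim R M + 1 ≤ Module.supportDim R M := by
      calc Module.supportDim R M + 1 ≤ ringKrullDim (R ⧸ Ideal.comap f y.1.asIdeal) + 1 := by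
            gcongr
        _ ≤ ringKrullDim (R ⧸ Ideal.comap f x.1.asIdeal) := h1
        _ ≤ Module.supportDim R M := h2
    rw [hk] at h4
    have h5 : ((k + 1 : ℕ) : WithBot ℕ∞) ≤ (k : ℕ) := by push_cast; exact h4
    have h6 : k + 1 ≤ k := by exact_mod_cast h5
    omega
  · have hne := Module.supportDim_ne_bot_of_nontrivial (Localization.AtPrime p.asIdeal)
      (M := LocalizedModule p.asIdeal.primeCompl M)
    rcases h2 : Module.supportDim (Localization.AtPrime p.asIdeal)
      (LocalizedModule p.asIdeal.primeCompl M) with _ | a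
    · exact absurd h2 hne
    · exact WithBot.coe_le_coe.mpr bot_le

omit [IsNoetherianRing R] in
theorem prime_smul_top_ne_top (M : Type v) [AddCommGroup M] [Module R M] [Module.Finite R M]
    [Nontrivial M] {I : Ideal R} (hI : I ≠ ⊤) : I • (⊤ : Submodule R M) ≠ ⊤ := by
  intro h
  apply maximalIdeal_smul_top_ne_top (R := R) M
  have hle : I • (⊤ : Submodule R M) ≤ IsLocalRing.maximalIdeal R • ⊤ :=
    Submodule.smul_mono_left (IsLocalRing.le_maximalIdeal hI)
  rw [h] at hle
  exact top_le_iff.mp hle

/-- For a CM module `M` and `p ∈ Supp M`: `dim M_p = depth M_p = depth_p M`. -/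
theorem supportDim_depth_localization_of_CM (n : ℕ) :
    ∀ (M : Type u) [AddCommGroup M] [Module R M] [Module.Finite R M],
      IsCohenMacaulayModule R M → ∀ p : PrimeSpectrum R, p ∈ Module.support R M →
      idealDepth p.asIdeal M = n →
      Module.supportDim (Localization.AtPrime p.asIdeal)
        (LocalizedModule p.asIdeal.primeCompl M) = (n : WithBot ℕ∞) ∧
      depth (Localization.AtPrime p.asIdeal) (LocalizedModule p.asIdeal.primeCompl M) = n := by
  induction n with
  | zero =>
    intro M _ _ _ hM p hp h0
    have hnt := nontrivial_of_isCohenMacaulayModule hM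
    rw [Nat.cast_zero, idealDepth_eq_zero_iff] at h0
    obtain ⟨_, q, hq, hpq⟩ := h0
    have hqp : q.IsPrime := IsAssociatedPrime.isPrime hq
    have hqdim := ringKrullDim_quotient_eq_supportDim_of_CM M hM hq
    obtain ⟨k, hk⟩ := supportDim_eq_natCast (R := R) M
    have heq : p.asIdeal = q := by
      by_contra hne
      have hlt : p.asIdeal < q := lt_of_le_of_ne hpq hne
      have h1 := ringKrullDim_quotient_succ_le_of_lt hlt
      have h2 := ringKrullDim_quotient_le_supportDim (M := M)
        (Module.annihilator_le_of_mem_support hp)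
      rw [hqdim] at h1
      have h4 : Module.supportDim R M + 1 ≤ Module.supportDim R M := le_trans h1 h2
      rw [hk] at h4
      have h5 : ((k + 1 : ℕ) : WithBot ℕ∞) ≤ (k : ℕ) := by push_cast; exact h4
      have h6 : k + 1 ≤ k := by exact_mod_cast h5
      omega
    refine ⟨?_, ?_⟩
    · rw [Nat.cast_zero]
      exact supportDim_localization_eq_zero M p hp (by rw [heq]; exact hqdim)
    · rw [Nat.cast_zero, depth_eq_zero_iff]
      have : p.asIdeal ∈ associatedPrimes R M := by rw [heq]; exact hq
      exact Module.associatedPrimes.mem_associatedPrimes_atPrime_of_mem_associatedPrimes this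
  | succ n ih =>
    intro M _ _ _ hM p hp hn
    have hnt := nontrivial_of_isCohenMacaulayModule hM
    have hpM : p.asIdeal • (⊤ : Submodule R M) ≠ ⊤ := prime_smul_top_ne_top M p.2.ne_top
    have h1 : (1 : ℕ∞) ≤ idealDepth p.asIdeal M := by
      rw [hn]
      exact_mod_cast Nat.le_add_left 1 n
    rw [one_le_idealDepth_iff] at h1
    rcases h1 with h1 | ⟨x, hxp, hx⟩
    · exact absurd h1 hpM
    · have hxm : x ∈ IsLocalRing.maximalIdeal R := IsLocalRing.le_maximalIdeal p.2.ne_top hxp
      have hQ := isCohenMacaulayModule_quotSMulTop M hM hxm hx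
      have hpQ : p ∈ Module.support R (QuotSMulTop x M) := by
        rw [Module.support_quotSMulTop]
        exact ⟨hp, by simpa using hxp⟩
      have h2 := idealDepth_quotSMulTop_add_one p.asIdeal M hpM x hxp hx
      have h3 : idealDepth p.asIdeal (QuotSMulTop x M) = n := by
        rw [hn] at h2
        have : idealDepth p.asIdeal (QuotSMulTop x M) + 1 = (n : ℕ∞) + 1 := by exact_mod_cast h2
        exact (ENat.add_left_injective_of_ne_top ENat.one_ne_top) this
      obtain ⟨ih1, ih2⟩ := ih (QuotSMulTop x M) hQ p hpQ h3
      set Rp := Localization.AtPrime p.asIdeal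
      set Mp := LocalizedModule p.asIdeal.primeCompl M
      have e := quotSMulTopLocalizedEquiv p.asIdeal.primeCompl x M
      have hntp : Nontrivial Mp := Module.mem_support_iff.mp hp
      have hxm' : algebraMap R Rp x ∈ IsLocalRing.maximalIdeal Rp :=
        (IsLocalization.AtPrime.to_map_mem_maximal_iff _ p.asIdeal x).mpr hxp
      have hx' := isSMulRegular_localizedModule p.asIdeal.primeCompl (M := M) hx
      have h4 := Module.supportDim_quotSMulTop_succ_eq_supportDim hx' hxm'
      have h5 := depth_quotSMulTop_add_one Mp hxm' hx'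
      rw [Module.supportDim_eq_of_equiv e, ih1] at h4
      rw [depth_congr e, ih2] at h5
      refine ⟨?_, ?_⟩
      · rw [← h4]; push_cast; rfl
      · rw [← h5]; push_cast; rfl

theorem idealDepth_ne_top_of_ne_top (M : Type v) [AddCommGroup M] [Module R M]
    [Module.Finite R M] [Nontrivial M] {I : Ideal R} (hI : I ≠ ⊤) : idealDepth I M ≠ ⊤ :=
  idealDepth_ne_top_of_smul_top_ne_top I M (prime_smul_top_ne_top M hI)

/-- Localizations of Cohen–Macaulay modules at primes of the support are Cohen–Macaulay. -/
theorem isCohenMacaulayModule_localization (M : Type u) [AddCommGroup M] [Module R M]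
    [Module.Finite R M] (hM : IsCohenMacaulayModule R M) (p : PrimeSpectrum R)
    (hp : p ∈ Module.support R M) :
    IsCohenMacaulayModule (Localization.AtPrime p.asIdeal)
      (LocalizedModule p.asIdeal.primeCompl M) := by
  have hnt := nontrivial_of_isCohenMacaulayModule hM
  obtain ⟨n, hn⟩ := ENat.ne_top_iff_exists.mp (idealDepth_ne_top_of_ne_top M p.2.ne_top)
  obtain ⟨h1, h2⟩ := supportDim_depth_localization_of_CM n M hM p hp hn.symm
  show Module.supportDim _ _ = _
  rw [h1, h2]
  rfl

theorem supportDim_localization_eq_idealDepth_of_CM (M : Type u) [AddCommGroup M] [Module R M]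
    [Module.Finite R M] (hM : IsCohenMacaulayModule R M) (p : PrimeSpectrum R)
    (hp : p ∈ Module.support R M) :
    Module.supportDim (Localization.AtPrime p.asIdeal)
      (LocalizedModule p.asIdeal.primeCompl M) =
      ((idealDepth p.asIdeal M : ℕ∞) : WithBot ℕ∞) := by
  have hnt := nontrivial_of_isCohenMacaulayModule hM
  obtain ⟨n, hn⟩ := ENat.ne_top_iff_exists.mp (idealDepth_ne_top_of_ne_top M p.2.ne_top)
  obtain ⟨h1, h2⟩ := supportDim_depth_localization_of_CM n M hM p hp hn.symm
  rw [h1, ← hn]
  rfl

/-- `dim M = dim M/IM + depth_I M` for a CM module `M` and a proper ideal `I`. -/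
theorem supportDim_eq_add_idealDepth_of_CM_aux (n : ℕ) :
    ∀ (M : Type u) [AddCommGroup M] [Module R M] [Module.Finite R M],
      IsCohenMacaulayModule R M → ∀ I : Ideal R, I ≠ ⊤ → idealDepth I M = n →
      Module.supportDim R M =
        Module.supportDim R (M ⧸ (I • (⊤ : Submodule R M))) + (n : WithBot ℕ∞) := by
  induction n with
  | zero =>
    intro M _ _ _ hM I hI h0
    rw [Nat.cast_zero, idealDepth_eq_zero_iff] at h0
    obtain ⟨_, q, hq, hIq⟩ := h0
    have hqp : q.IsPrime := IsAssociatedPrime.isPrime hq
    have hqdim := ringKrullDim_quotient_eq_supportDim_of_CM M hM hq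
    rw [Nat.cast_zero, add_zero]
    apply le_antisymm
    · rw [← hqdim]
      apply ringKrullDim_quotient_le_supportDim
      apply Module.annihilator_le_of_mem_support (p := ⟨q, hqp⟩)
      rw [Module.support_quotient]
      exact ⟨mem_support_of_mem_associatedPrimes hq, by simpa using hIq⟩
    · exact Module.supportDim_le_of_surjective (Submodule.mkQ _) (Submodule.mkQ_surjective _)
  | succ n ih =>
    intro M _ _ _ hM I hI hn
    have hnt := nontrivial_of_isCohenMacaulayModule hM
    have hIM : I • (⊤ : Submodule R M) ≠ ⊤ := prime_smul_top_ne_top M hI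
    have h1 : (1 : ℕ∞) ≤ idealDepth I M := by
      rw [hn]
      exact_mod_cast Nat.le_add_left 1 n
    rw [one_le_idealDepth_iff] at h1
    rcases h1 with h1 | ⟨x, hxI, hx⟩
    · exact absurd h1 hIM
    · have hxm : x ∈ IsLocalRing.maximalIdeal R := IsLocalRing.le_maximalIdeal hI hxI
      have hQ := isCohenMacaulayModule_quotSMulTop M hM hxm hx
      have h2 := idealDepth_quotSMulTop_add_one I M hIM x hxI hx
      have h3 : idealDepth I (QuotSMulTop x M) = n := by
        rw [hn] at h2
        have : idealDepth I (QuotSMulTop x M) + 1 = (n : ℕ∞) + 1 := by exact_mod_cast h2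
        exact (ENat.add_left_injective_of_ne_top ENat.one_ne_top) this
      have h4 := ih (QuotSMulTop x M) hQ I hI h3
      have h5 := Module.supportDim_quotSMulTop_succ_eq_supportDim hx hxm
      have hsupp : Module.support R (QuotSMulTop x M ⧸ (I • (⊤ : Submodule R (QuotSMulTop x M))))
          = Module.support R (M ⧸ (I • (⊤ : Submodule R M))) := by
        rw [Module.support_quotient, Module.support_quotient, Module.support_quotSMulTop,
          Set.inter_assoc]
        congr 1
        apply Set.inter_eq_right.mpr
        intro q hq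
        simp only [PrimeSpectrum.mem_zeroLocus, Set.singleton_subset_iff] at hq ⊢
        exact hq hxI
      rw [supportDim_eq_of_support_eq hsupp] at h4
      rw [← h5, h4]
      push_cast
      rw [add_assoc]

theorem supportDim_eq_add_idealDepth_of_CM (M : Type u) [AddCommGroup M] [Module R M]
    [Module.Finite R M] (hM : IsCohenMacaulayModule R M) (I : Ideal R) (hI : I ≠ ⊤) :
    Module.supportDim R M =
      Module.supportDim R (M ⧸ (I • (⊤ : Submodule R M))) +
        ((idealDepth I M : ℕ∞) : WithBot ℕ∞) := by
  have hnt := nontrivial_of_isCohenMacaulayModule hM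
  obtain ⟨n, hn⟩ := ENat.ne_top_iff_exists.mp (idealDepth_ne_top_of_ne_top M hI)
  rw [← hn]
  exact supportDim_eq_add_idealDepth_of_CM_aux n M hM I hI hn.symm

end CMLocalization

end Groth.Agent.Lib.Helper67
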