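import Mathlib.AlgebraicGeometry.Fiber
import Mathlib.AlgebraicGeometry.Stalk
import Mathlib.AlgebraicGeometry.ResidueField
import Mathlib.AlgebraicGeometry.Morphisms.Preimmersion

set_option autoImplicit false
set_option linter.style.haveILetI false
set_option linter.unusedSectionVars false

universe u
open CategoryTheory CategoryTheory.Limits AlgebraicGeometry Opposite TopologicalSpace

namespace Groth.Agent.Lib.Helper67.FiberStalk

variable {X S : Scheme.{u}} (f : X ⟶ S)

/-- The ideal `m_{f x} O_{X,x}`. -/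
noncomputable abbrev fibIdeal (x : X) : Ideal (X.presheaf.stalk x) :=
  Ideal.map (f.stalkMap x).hom (IsLocalRing.maximalIdeal (S.presheaf.stalk (f x)))

theorem fibIdeal_le (x : X) : fibIdeal f x ≤ IsLocalRing.maximalIdeal (X.presheaf.stalk x) :=
  IsLocalRing.map_maximalIdeal_le (f.stalkMap x).hom

/-- The quotient `O_{X,x} / m_{f x} O_{X,x}`. -/
abbrev Q (x : X) : Type u := X.presheaf.stalk x ⧸ fibIdeal f x

instance (x : X) : Nontrivial (Q f x) :=
  Ideal.Quotient.nontrivial_iff.mpr (fun h => by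
    have := fibIdeal_le f x
    rw [h] at this
    exact (IsLocalRing.maximalIdeal.isMaximal _).ne_top (top_le_iff.mp this))

instance (x : X) : IsLocalRing (Q f x) :=
  IsLocalRing.of_surjective' (Ideal.Quotient.mk (fibIdeal f x)) Ideal.Quotient.mk_surjective

/-- quotient map -/
noncomputable def qmap (x : X) : X.presheaf.stalk x ⟶ CommRingCat.of (Q f x) :=
  CommRingCat.ofHom (Ideal.Quotient.mk (fibIdeal f x))

instance (x : X) : IsLocalHom (qmap f x).hom :=
  IsLocalHom.of_surjective _ Ideal.Quotient.mk_surjective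

/-- residue field to quotient -/
noncomputable def ψ (x : X) : S.residueField (f x) ⟶ CommRingCat.of (Q f x) :=
  CommRingCat.ofHom (Ideal.Quotient.lift (IsLocalRing.maximalIdeal (S.presheaf.stalk (f x)))
    ((Ideal.Quotient.mk (fibIdeal f x)).comp (f.stalkMap x).hom)
    (fun a ha => by
      rw [RingHom.comp_apply, Ideal.Quotient.eq_zero_iff_mem]
      exact Ideal.mem_map_of_mem _ ha))

theorem residue_ψ (x : X) : S.residue (f x) ≫ ψ f x = f.stalkMap x ≫ qmap f x := by
  ext a
  rfl

/-- the morphism `Spec Q → X` -/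
noncomputable def aMor (x : X) : Spec (CommRingCat.of (Q f x)) ⟶ X :=
  Spec.map (qmap f x) ≫ X.fromSpecStalk x

theorem aMor_comm (x : X) :
    aMor f x ≫ f = Spec.map (ψ f x) ≫ S.fromSpecResidueField (f x) := by
  rw [aMor, Category.assoc, ← Scheme.SpecMap_stalkMap_fromSpecStalk, Scheme.fromSpecResidueField,
    ← Spec.map_comp_assoc, ← Spec.map_comp_assoc, residue_ψ]

/-- the morphism `Spec Q → X_s` -/
noncomputable def cMor (x : X) : Spec (CommRingCat.of (Q f x)) ⟶ f.fiber (f x) :=
  pullback.lift (aMor f x) (Spec.map (ψ f x)) (aMor_comm f x)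

theorem cMor_fiberι (x : X) : cMor f x ≫ f.fiberι (f x) = aMor f x :=
  pullback.lift_fst _ _ _


theorem aMor_spec (x : X) :
    (SpecToEquivOfLocalRing X (CommRingCat.of (Q f x))) (aMor f x) =
      ⟨x, qmap f x, inferInstance⟩ :=
  (SpecToEquivOfLocalRing X _).right_inv ⟨x, qmap f x, inferInstance⟩

theorem exists_aMor (x : X) :
    ∃ h₁ : (cMor f x ≫ f.fiberι (f x)) (IsLocalRing.closedPoint (Q f x)) = x,
      Scheme.stalkClosedPointTo (cMor f x ≫ f.fiberι (f x)) =
        (X.presheaf.stalkCongr (.of_eq h₁)).hom ≫ qmap f x := by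
  have h := aMor_spec f x
  rw [← cMor_fiberι] at h
  exact SpecToEquivOfLocalRing_eq_iff.mp h

theorem cMor_closedPoint (x : X) (x' : f.fiber (f x)) (hx' : f.fiberι (f x) x' = x) :
    cMor f x (IsLocalRing.closedPoint (Q f x)) = x' := by
  obtain ⟨h₁, -⟩ := exists_aMor f x
  apply (f.fiberι (f x)).isEmbedding.injective
  exact h₁.trans hx'.symm

/-- the surjection `O_{X,x} → O_{X_s,x'}` for x' over x -/
noncomputable def σ (x : X) (x' : f.fiber (f x)) (hx' : f.fiberι (f x) x' = x) :
    X.presheaf.stalk x ⟶ (f.fiber (f x)).presheaf.stalk x' :=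
  (X.presheaf.stalkCongr (.of_eq hx'.symm)).hom ≫ (f.fiberι (f x)).stalkMap x'

theorem σ_surjective (x : X) (x' : f.fiber (f x)) (hx' : f.fiberι (f x) x' = x) :
    Function.Surjective (σ f x x' hx').hom := by
  have h1 : Function.Surjective ((f.fiberι (f x)).stalkMap x').hom :=
    (f.fiberι (f x)).stalkMap_surjective x'
  have h2 : Function.Bijective (X.presheaf.stalkCongr (.of_eq hx'.symm)).hom.hom :=
    ConcreteCategory.bijective_of_isIso (X.presheaf.stalkCongr (.of_eq hx'.symm)).hom
  rw [σ, CommRingCat.hom_comp]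
  exact h1.comp h2.2

set_option backward.isDefEq.respectTransparency false in
theorem ker_σ_le (x : X) (x' : f.fiber (f x)) (hx' : f.fiberι (f x) x' = x) :
    RingHom.ker (σ f x x' hx').hom ≤ fibIdeal f x := by
  have hc := cMor_closedPoint f x x' hx'
  subst hc
  obtain ⟨h₁, h₂⟩ := exists_aMor f x
  rw [Scheme.stalkClosedPointTo_comp] at h₂
  intro y hy
  rw [RingHom.mem_ker] at hy
  have h3 : (qmap f x).hom y = 0 := by
    have h4 : (Scheme.stalkClosedPointTo (cMor f x)).hom
        (((f.fiberι (f x)).stalkMap _).hom ((X.presheaf.stalkCongr (.of_eq hx'.symm)).hom.hom y)) =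
        (qmap f x).hom ((X.presheaf.stalkCongr (.of_eq h₁)).hom.hom
          ((X.presheaf.stalkCongr (.of_eq hx'.symm)).hom.hom y)) :=
      congrArg (fun φ => φ.hom ((X.presheaf.stalkCongr (.of_eq hx'.symm)).hom.hom y)) h₂
    have hy' : ((f.fiberι (f x)).stalkMap _).hom
        ((X.presheaf.stalkCongr (.of_eq hx'.symm)).hom.hom y) = 0 := hy
    have h5 : (X.presheaf.stalkCongr (.of_eq h₁)).hom.hom
        ((X.presheaf.stalkCongr (.of_eq hx'.symm)).hom.hom y) = y := by
      have h6 : (X.presheaf.stalkCongr (.of_eq hx'.symm)).hom ≫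
          (X.presheaf.stalkCongr (.of_eq h₁)).hom = 𝟙 _ := by
        rw [TopCat.Presheaf.stalkCongr_hom, TopCat.Presheaf.stalkCongr_hom,
          TopCat.Presheaf.stalkSpecializes_comp, TopCat.Presheaf.stalkSpecializes_refl]
      exact congrArg (fun φ => φ.hom y) h6
    calc (qmap f x).hom y = (qmap f x).hom ((X.presheaf.stalkCongr (.of_eq h₁)).hom.hom
          ((X.presheaf.stalkCongr (.of_eq hx'.symm)).hom.hom y)) := by rw [h5]
      _ = (Scheme.stalkClosedPointTo (cMor f x)).hom
        (((f.fiberι (f x)).stalkMap _).hom ((X.presheaf.stalkCongr (.of_eq hx'.symm)).hom.hom y)) :=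
          h4.symm
      _ = (Scheme.stalkClosedPointTo (cMor f x)).hom 0 := congrArg _ hy'
      _ = 0 := map_zero _
  exact Ideal.Quotient.eq_zero_iff_mem.mp h3


set_option backward.isDefEq.respectTransparency false in
/-- In the stalk of the spectrum of a field, non-units are zero. -/
theorem eq_zero_of_not_isUnit_stalk_field (K : Type u) [Field K] (p : Spec (CommRingCat.of K))
    (t : (Spec (CommRingCat.of K)).presheaf.stalk p) (ht : ¬ IsUnit t) : t = 0 := by
  obtain rfl : p = IsLocalRing.closedPoint (CommRingCat.of K) := Subsingleton.elim _ _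
  have h1 : ¬ IsUnit ((stalkClosedPointIso (CommRingCat.of K)).hom.hom t) := by
    intro h
    apply ht
    have : IsLocalHom (stalkClosedPointIso (CommRingCat.of K)).hom.hom := isLocalHom_of_isIso _
    exact (isUnit_map_iff (stalkClosedPointIso (CommRingCat.of K)).hom.hom t).mp h
  have h2 : (stalkClosedPointIso (CommRingCat.of K)).hom.hom t = 0 := by
    by_contra h
    exact h1 (Ne.isUnit h)
  have h3 := congrArg (stalkClosedPointIso (CommRingCat.of K)).inv.hom h2
  rw [map_zero] at h3
  rw [← h3]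
  exact (congrArg (fun φ => φ.hom t) (stalkClosedPointIso (CommRingCat.of K)).hom_inv_id).symm


theorem stalkMap_comp_σ (x : X) (x' : f.fiber (f x)) (hx' : f.fiberι (f x) x' = x) :
    ∃ (e : S.presheaf.stalk (f x) ≅ S.presheaf.stalk
        ((S.fromSpecResidueField (f x)) ((f.fiberToSpecResidueField (f x)) x'))),
      f.stalkMap x ≫ σ f x x' hx' =
        e.hom ≫ (S.fromSpecResidueField (f x)).stalkMap _ ≫
          (f.fiberToSpecResidueField (f x)).stalkMap x' := by
  have h1 := Scheme.Hom.stalkMap_congr_hom _ _ (f.fiber_fac (f x)) x'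
  rw [Scheme.Hom.stalkMap_comp, Scheme.Hom.stalkMap_comp] at h1
  have e1 : f x = f (f.fiberι (f x) x') := congrArg f hx'.symm
  have e2 : f (f.fiberι (f x) x') =
      (S.fromSpecResidueField (f x)) ((f.fiberToSpecResidueField (f x)) x') :=
    congrArg (fun φ : f.fiber (f x) ⟶ S => φ x') (f.fiber_fac (f x))
  refine ⟨(S.presheaf.stalkCongr (.of_eq e1)) ≪≫ (S.presheaf.stalkCongr (.of_eq e2)), ?_⟩
  rw [σ, Scheme.Hom.stalkMap_congr_point_assoc _ _ _ hx'.symm, h1]
  rfl


theorem fibIdeal_le_ker_σ (x : X) (x' : f.fiber (f x)) (hx' : f.fiberι (f x) x' = x) :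
    fibIdeal f x ≤ RingHom.ker (σ f x x' hx').hom := by
  obtain ⟨e, he⟩ := stalkMap_comp_σ f x x' hx'
  rw [fibIdeal, Ideal.map_le_iff_le_comap]
  intro m hm
  rw [Ideal.mem_comap, RingHom.mem_ker]
  have h1 : (σ f x x' hx').hom ((f.stalkMap x).hom m) =
      ((f.fiberToSpecResidueField (f x)).stalkMap x').hom
        (((S.fromSpecResidueField (f x)).stalkMap _).hom (e.hom.hom m)) :=
    congrArg (fun φ => φ.hom m) he
  rw [h1]
  have h2 : ¬ IsUnit (e.hom.hom m) := by
    intro h
    have : IsLocalHom e.hom.hom := isLocalHom_of_isIso _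
    exact hm ((isUnit_map_iff e.hom.hom m).mp h)
  have h3 : ¬ IsUnit (((S.fromSpecResidueField (f x)).stalkMap
      ((f.fiberToSpecResidueField (f x)) x')).hom (e.hom.hom m)) := by
    intro h
    exact h2 ((isUnit_map_iff _ _).mp h)
  have h4 := eq_zero_of_not_isUnit_stalk_field (IsLocalRing.ResidueField (S.presheaf.stalk (f x)))
    ((f.fiberToSpecResidueField (f x)) x') _ h3
  erw [h4]
  exact map_zero _

theorem ker_σ (x : X) (x' : f.fiber (f x)) (hx' : f.fiberι (f x) x' = x) :
    RingHom.ker (σ f x x' hx').hom = fibIdeal f x :=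
  le_antisymm (ker_σ_le f x x' hx') (fibIdeal_le_ker_σ f x x' hx')

/-- The local ring of the fibre at a point `x'` over `x` is `O_{X,x} / m_{f x} O_{X,x}`. -/
noncomputable def stalkEquiv (x : X) (x' : f.fiber (f x)) (hx' : f.fiberι (f x) x' = x) :
    (f.fiber (f x)).presheaf.stalk x' ≃+* Q f x :=
  (RingHom.quotientKerEquivOfSurjective (σ_surjective f x x' hx')).symm.trans
    (Ideal.quotEquivOfEq (ker_σ f x x' hx'))

theorem stalkEquiv_σ (x : X) (x' : f.fiber (f x)) (hx' : f.fiberι (f x) x' = x)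
    (b : X.presheaf.stalk x) :
    stalkEquiv f x x' hx' ((σ f x x' hx').hom b) = Ideal.Quotient.mk _ b := by
  rw [stalkEquiv, RingEquiv.trans_apply]
  have : (RingHom.quotientKerEquivOfSurjective (σ_surjective f x x' hx')).symm
      ((σ f x x' hx').hom b) = Ideal.Quotient.mk _ b := by
    rw [RingEquiv.symm_apply_eq]
    rfl
  rw [this]
  rfl

/-- The local ring of the fibre at `x` is `O_{X,x} / m_{f x} O_{X,x}`. -/
noncomputable def fiberStalkEquiv (x : X) :
    (f.fiber (f x)).presheaf.stalk (f.asFiber x) ≃+* Q f x :=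
  stalkEquiv f x (f.asFiber x) (f.fiberι_asFiber x)

end Groth.Agent.Lib.Helper67.FiberStalk
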