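import Groth.Agent.Lib.Helper67.QuotData

set_option autoImplicit false
set_option linter.style.haveILetI false
set_option linter.unusedSectionVars false

universe u v w

namespace Groth.Agent.Lib.Helper67

open RingTheory.Sequence LocCoh TensorProduct IsLocalRing
open scoped Pointwise

attribute [local instance] quotModModule

/-- EGA 0_IV 15.1.21-type criterion (⇐): a sequence in `m_A` regular on `M` with `M/JM` flat over
`A/J` forces `M` flat over `A`; stated with an abstract model `(A0, M0)` of `(A/J, M/JM)`. -/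
theorem flat_of_isWeaklyRegular_of_flat_quot_aux (n : ℕ) :
    ∀ (A B M : Type u) [CommRing A] [CommRing B] [Algebra A B] [IsLocalRing A] [IsLocalRing B]
      [IsNoetherianRing A] [IsNoetherianRing B] [IsLocalHom (algebraMap A B)]
      [AddCommGroup M] [Module B M] [Module A M] [IsScalarTower A B M] [Module.Finite B M]
      (fs : List A), fs.length = n → (∀ f ∈ fs, f ∈ maximalIdeal A) → IsWeaklyRegular M fs →
      ∀ (A0 : Type u) [CommRing A0] [Algebra A A0] (M0 : Type u) [AddCommGroup M0] [Module A M0]
        [Module A0 M0] [IsScalarTower A A0 M0] (π : M →ₗ[A] M0),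
        Function.Surjective (algebraMap A A0) → RingHom.ker (algebraMap A A0) = Ideal.ofList fs →
        Function.Surjective π → LinearMap.ker π = Ideal.ofList fs • (⊤ : Submodule A M) →
        Module.Flat A0 M0 → Module.Flat A M := by
  induction n with
  | zero =>
    intro A B M _ _ _ _ _ _ _ _ _ _ _ _ _ fs hlen _ _ A0 _ _ M0 _ _ _ _ π hsurj hker hπ hkerπ hflat
    have hfs : fs = [] := List.length_eq_zero_iff.mp hlen
    subst hfs
    have hbot : Ideal.ofList ([] : List A) = ⊥ := Ideal.ofList_nil
    rw [hbot] at hker hkerπ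
    have hinj : Function.Injective (algebraMap A A0) :=
      (RingHom.injective_iff_ker_eq_bot _).mpr hker
    have e : A0 ≃ₗ[A] A :=
      (LinearEquiv.ofBijective (Algebra.linearMap A A0) ⟨hinj, hsurj⟩).symm
    haveI : Module.Flat A A0 := Module.Flat.of_linearEquiv e
    haveI : Module.Flat A M0 := Module.Flat.trans A A0 M0
    rw [Submodule.bot_smul] at hkerπ
    exact Module.Flat.of_linearEquiv
      (LinearEquiv.ofBijective π ⟨LinearMap.ker_eq_bot.mp hkerπ, hπ⟩)
  | succ n ih =>
    intro A B M _ _ _ _ _ _ _ _ _ _ _ _ _ fs hlen hmem hreg A0 _ _ M0 _ _ _ _ π hsurj hker hπ hkerπ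
      hflat
    obtain ⟨f, fs', rfl⟩ : ∃ f fs', fs = f :: fs' := by
      cases fs with
      | nil => simp at hlen
      | cons f fs' => exact ⟨f, fs', rfl⟩
    have hf : f ∈ maximalIdeal A := hmem f List.mem_cons_self
    rw [isWeaklyRegular_cons_iff] at hreg
    obtain ⟨hregf, hreg'⟩ := hreg
    have hle : Ideal.span {f} ≤ maximalIdeal A := (Ideal.span_singleton_le_iff_mem _).mpr hf
    have hne : Ideal.span {f} ≠ ⊤ := fun h =>
      (maximalIdeal.isMaximal A).ne_top (top_le_iff.mp (h ▸ hle))
    haveI := isLocalRing_quot (Ideal.span {f}) hne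
    haveI := isLocalRing_quot_map (B := B) (Ideal.span {f}) hne
    haveI := Groth.Agent.Lib.Helper77.MiracleFlat.quot_isLocalHom A B (Ideal.span {f})
    haveI := quotMod_isScalarTower₁ B M (Ideal.span {f})
    haveI := quotMod_isScalarTower₂ B M (Ideal.span {f})
    haveI := quotMod_finite B M (Ideal.span {f})
    apply flat_of_flat_quotMod (B := B) M f hf hregf
    -- data for the induction hypothesis
    have hI0 : ∀ a ∈ Ideal.span {f}, algebraMap A A0 a = 0 := by
      intro a ha
      have : a ∈ RingHom.ker (algebraMap A A0) := by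
        rw [hker]
        exact span_singleton_le_ofList_cons f fs' ha
      exact this
    letI : Algebra (A ⧸ Ideal.span {f}) A0 :=
      (Ideal.Quotient.lift (Ideal.span {f}) (algebraMap A A0) hI0).toAlgebra
    haveI : IsScalarTower A (A ⧸ Ideal.span {f}) A0 :=
      IsScalarTower.of_algebraMap_eq fun x => rfl
    letI : Module (A ⧸ Ideal.span {f}) M0 :=
      Module.compHom M0 (algebraMap (A ⧸ Ideal.span {f}) A0)
    haveI : IsScalarTower (A ⧸ Ideal.span {f}) A0 M0 :=
      IsScalarTower.of_algebraMap_smul fun _ _ => rfl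
    haveI : IsScalarTower A (A ⧸ Ideal.span {f}) M0 := by
      apply IsScalarTower.of_algebraMap_smul
      intro a x
      change (algebraMap (A ⧸ Ideal.span {f}) A0 (Ideal.Quotient.mk _ a)) • x = a • x
      have h1 : algebraMap (A ⧸ Ideal.span {f}) A0 (Ideal.Quotient.mk _ a) = algebraMap A A0 a := rfl
      rw [h1, algebraMap_smul]
    have hle2 : Ideal.span {f} • (⊤ : Submodule A M) ≤ LinearMap.ker π := by
      rw [hkerπ]
      exact Submodule.smul_mono (span_singleton_le_ofList_cons f fs') le_rfl
    set π' : QuotMod B M (Ideal.span {f}) →ₗ[A] M0 :=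
      (Submodule.liftQ (Ideal.span {f} • (⊤ : Submodule A M)) π hle2) ∘ₗ
        (quotModEquiv B M (Ideal.span {f})).toLinearMap with hπ'
    have hπ'mk : ∀ x : M, π' (Submodule.Quotient.mk x) = π x := fun x => rfl
    set π₁ : QuotMod B M (Ideal.span {f}) →ₗ[A ⧸ Ideal.span {f}] M0 :=
      π'.extendScalarsOfSurjective Ideal.Quotient.mk_surjective with hπ₁
    have hπ₁mk : ∀ x : M, π₁ (Submodule.Quotient.mk x) = π x := fun x => rfl
    have hsurj₁ : Function.Surjective (algebraMap (A ⧸ Ideal.span {f}) A0) := by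
      intro y
      obtain ⟨a, rfl⟩ := hsurj y
      exact ⟨Ideal.Quotient.mk _ a, rfl⟩
    have hker₁ : RingHom.ker (algebraMap (A ⧸ Ideal.span {f}) A0) =
        Ideal.ofList (fs'.map (Ideal.Quotient.mk (Ideal.span {f}))) := by
      ext x
      obtain ⟨a, rfl⟩ := Ideal.Quotient.mk_surjective x
      rw [mk_mem_ofList_map_iff, ← hker, RingHom.mem_ker, RingHom.mem_ker]
      rfl
    have hπsurj₁ : Function.Surjective π₁ := by
      intro y
      obtain ⟨x, rfl⟩ := hπ y
      exact ⟨Submodule.Quotient.mk x, rfl⟩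
    have hkerπ₁ : LinearMap.ker π₁ = Ideal.ofList (fs'.map (Ideal.Quotient.mk (Ideal.span {f}))) •
        (⊤ : Submodule (A ⧸ Ideal.span {f}) (QuotMod B M (Ideal.span {f}))) := by
      apply le_antisymm
      · intro y hy
        obtain ⟨x, rfl⟩ := Submodule.Quotient.mk_surjective _ y
        rw [LinearMap.mem_ker, hπ₁mk] at hy
        have hx : x ∈ Ideal.ofList (f :: fs') • (⊤ : Submodule A M) := by
          rw [← hkerπ]
          exact hy
        refine Submodule.smul_induction_on hx ?_ ?_
        · intro r hr m _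
          have h1 : (Submodule.Quotient.mk (r • m) : QuotMod B M (Ideal.span {f})) =
              (Ideal.Quotient.mk (Ideal.span {f}) r) • Submodule.Quotient.mk m := by
            rw [Submodule.Quotient.mk_smul]
            exact (algebraMap_smul (A ⧸ Ideal.span {f}) r _).symm
          rw [h1]
          exact Submodule.smul_mem_smul ((mk_mem_ofList_map_iff f fs' r).mpr hr) Submodule.mem_top
        · intro a b ha hb
          rw [Submodule.Quotient.mk_add]
          exact Submodule.add_mem _ ha hb
      · rw [Submodule.smul_le]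
        intro r hr y _
        rw [LinearMap.mem_ker, map_smul]
        rw [← hker₁, RingHom.mem_ker] at hr
        change (algebraMap (A ⧸ Ideal.span {f}) A0 r) • π₁ y = 0
        rw [hr, zero_smul]
    have hlen₁ : (fs'.map (Ideal.Quotient.mk (Ideal.span {f}))).length = n := by
      rw [List.length_map]
      simpa using hlen
    have hmem₁ : ∀ g ∈ fs'.map (Ideal.Quotient.mk (Ideal.span {f})),
        g ∈ maximalIdeal (A ⧸ Ideal.span {f}) := by
      intro g hg
      obtain ⟨g', hg', rfl⟩ := List.mem_map.mp hg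
      haveI : IsLocalHom (Ideal.Quotient.mk (Ideal.span {f})) :=
        IsLocalHom.of_surjective _ Ideal.Quotient.mk_surjective
      exact (map_mem_nonunits_iff (Ideal.Quotient.mk (Ideal.span {f})) g').mpr
        (hmem g' (List.mem_cons_of_mem f hg'))
    have hreg₁ : IsWeaklyRegular (QuotMod B M (Ideal.span {f}))
        (fs'.map (Ideal.Quotient.mk (Ideal.span {f}))) := by
      have e₁ : QuotMod B M (Ideal.span {f}) ≃ₗ[A] QuotSMulTop f M :=
        quotModEquiv B M (Ideal.span {f}) ≪≫ₗ
          Submodule.quotEquivOfEq _ _ (Submodule.ideal_span_singleton_smul f ⊤)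
      have h1 : IsWeaklyRegular (QuotMod B M (Ideal.span {f})) fs' :=
        (e₁.isWeaklyRegular_congr fs').mpr hreg'
      exact (isWeaklyRegular_map_algebraMap_iff (A ⧸ Ideal.span {f})
        (QuotMod B M (Ideal.span {f})) fs').mpr h1
    exact ih (A ⧸ Ideal.span {f}) (B ⧸ (Ideal.span {f}).map (algebraMap A B))
      (QuotMod B M (Ideal.span {f})) (fs'.map (Ideal.Quotient.mk (Ideal.span {f}))) hlen₁ hmem₁
      hreg₁ A0 M0 π₁ hsurj₁ hker₁ hπsurj₁ hkerπ₁ hflat

/-- a weakly regular sequence on `N` stays weakly regular on `M ⊗ N` for flat `M`. -/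
theorem isWeaklyRegular_lTensor_of_flat {R : Type u} [CommRing R] (M : Type v) [AddCommGroup M]
    [Module R M] [Module.Flat R M] (fs : List R) :
    ∀ (N : Type w) [AddCommGroup N] [Module R N], IsWeaklyRegular N fs →
      IsWeaklyRegular (M ⊗[R] N) fs := by
  induction fs with
  | nil =>
    intro N _ _ _
    exact IsWeaklyRegular.nil R _
  | cons f fs ih =>
    intro N _ _ h
    rw [isWeaklyRegular_cons_iff] at h ⊢
    exact ⟨h.1.lTensor M,
      ((QuotSMulTop.tensorQuotSMulTopEquivQuotSMulTop f M N).isWeaklyRegular_congr fs).mp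
        (ih (QuotSMulTop f N) h.2)⟩

theorem isWeaklyRegular_of_flat {R : Type u} [CommRing R] (M : Type v) [AddCommGroup M]
    [Module R M] [Module.Flat R M] (fs : List R) (h : IsWeaklyRegular R fs) :
    IsWeaklyRegular M fs :=
  ((TensorProduct.rid R M).isWeaklyRegular_congr fs).mp (isWeaklyRegular_lTensor_of_flat M fs R h)

/-- `M/IM` is flat over `A/I` for flat `M`. -/
theorem flat_quot_smul_top_of_flat {R : Type u} [CommRing R] (M : Type v) [AddCommGroup M]
    [Module R M] [Module.Flat R M] (I : Ideal R) :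
    Module.Flat (R ⧸ I) (M ⧸ (I • (⊤ : Submodule R M))) :=
  Module.Flat.of_linearEquiv
    ((TensorProduct.quotTensorEquivQuotSMul M I).symm.extendScalarsOfSurjective
      Ideal.Quotient.mk_surjective)

/-- **EGA 0_IV 15.1.21** (S5777): for an `A`-regular sequence `fs ⊆ m_A`, `M` is `A`-flat iff
`M/JM` is `A/J`-flat and `fs` is `M`-regular. -/
theorem flat_iff_flat_quot_and_isWeaklyRegular {A B : Type u} [CommRing A] [CommRing B]
    [Algebra A B] [IsLocalRing A] [IsLocalRing B] [IsNoetherianRing A] [IsNoetherianRing B]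
    [IsLocalHom (algebraMap A B)] (M : Type u) [AddCommGroup M] [Module B M] [Module A M]
    [IsScalarTower A B M] [Module.Finite B M] (fs : List A)
    (hfs : ∀ f ∈ fs, f ∈ maximalIdeal A) (hA : IsWeaklyRegular A fs) :
    Module.Flat A M ↔
      Module.Flat (A ⧸ Ideal.ofList fs) (M ⧸ (Ideal.ofList fs • (⊤ : Submodule A M))) ∧
        IsWeaklyRegular M fs := by
  constructor
  · intro h
    exact ⟨flat_quot_smul_top_of_flat M _, isWeaklyRegular_of_flat M fs hA⟩
  · rintro ⟨h1, h2⟩
    exact flat_of_isWeaklyRegular_of_flat_quot_aux fs.length A B M fs rfl hfs h2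
      (A ⧸ Ideal.ofList fs) (M ⧸ (Ideal.ofList fs • (⊤ : Submodule A M)))
      (Submodule.mkQ _) Ideal.Quotient.mk_surjective Ideal.mk_ker (Submodule.mkQ_surjective _)
      (Submodule.ker_mkQ _) h1

end Groth.Agent.Lib.Helper67
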