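import Groth.Agent.Lib.Helper67.FlatDepth12
import Groth.Agent.Lib.Helper67.QuotData2
import Groth.Agent.Lib.Helper56.FibreCM

set_option autoImplicit false
set_option linter.style.haveILetI false
set_option linter.unusedSectionVars false

universe u

namespace Groth.Agent.Lib.Helper67.FiberTower

open LocCoh IsLocalRing

section General

/-- the maximal ideal of a quotient of a local ring -/
theorem maximalIdeal_quot_eq_map {S : Type u} [CommRing S] [IsLocalRing S] (I : Ideal S)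
    [IsLocalRing (S ⧸ I)] :
    maximalIdeal (S ⧸ I) = (maximalIdeal S).map (Ideal.Quotient.mk I) := by
  symm
  apply IsLocalRing.eq_maximalIdeal
  have := Ideal.map_eq_top_or_isMaximal_of_surjective (Ideal.Quotient.mk I)
    Ideal.Quotient.mk_surjective (maximalIdeal.isMaximal S)
  rcases this with h | h
  · exfalso
    have h1 : (1 : S ⧸ I) ∈ (maximalIdeal S).map (Ideal.Quotient.mk I) := by
      rw [h]; trivial
    rw [Ideal.mem_map_iff_of_surjective _ Ideal.Quotient.mk_surjective] at h1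
    obtain ⟨a, ha, ha1⟩ := h1
    have h2 : IsUnit (Ideal.Quotient.mk I a) := by rw [ha1]; exact isUnit_one
    haveI : IsLocalHom (Ideal.Quotient.mk I) :=
      IsLocalHom.of_surjective _ Ideal.Quotient.mk_surjective
    exact ha ((isUnit_map_iff (Ideal.Quotient.mk I) a).mp h2)
  · exact h

end General

variable {C A B : Type u} [CommRing C] [CommRing A] [CommRing B] [IsLocalRing C] [IsLocalRing A]
  [IsLocalRing B] (γ : C →+* A) (φ : A →+* B)

/-- `m_C A` -/
abbrev IA : Ideal A := (maximalIdeal C).map γ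
/-- `m_C B` -/
abbrev IB : Ideal B := (maximalIdeal C).map (φ.comp γ)
/-- `m_A B` -/
abbrev JB : Ideal B := (maximalIdeal A).map φ

theorem IA_map : (IA γ).map φ = IB γ φ := Ideal.map_map γ φ

theorem IA_le_comap : IA γ ≤ (IB γ φ).comap φ := by
  rw [← Ideal.map_le_iff_le_comap, IA_map]

theorem IB_le_JB [IsLocalHom γ] : IB γ φ ≤ JB φ := by
  rw [← IA_map]
  exact Ideal.map_mono (IsLocalRing.map_maximalIdeal_le γ)

instance [IsLocalHom γ] : Nontrivial (A ⧸ IA γ) :=
  Ideal.Quotient.nontrivial_iff.mpr (IsLocalRing.map_maximalIdeal_lt_top γ).ne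

instance [IsLocalHom γ] : IsLocalRing (A ⧸ IA γ) :=
  IsLocalRing.of_surjective' (Ideal.Quotient.mk _) Ideal.Quotient.mk_surjective

instance [IsLocalHom γ] [IsLocalHom φ] : Nontrivial (B ⧸ IB γ φ) := by
  haveI : IsLocalHom (φ.comp γ) := RingHom.isLocalHom_comp _ _
  exact Ideal.Quotient.nontrivial_iff.mpr (IsLocalRing.map_maximalIdeal_lt_top (φ.comp γ)).ne

instance [IsLocalHom γ] [IsLocalHom φ] : IsLocalRing (B ⧸ IB γ φ) :=
  IsLocalRing.of_surjective' (Ideal.Quotient.mk _) Ideal.Quotient.mk_surjective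

instance [IsLocalHom φ] : Nontrivial (B ⧸ JB φ) :=
  Ideal.Quotient.nontrivial_iff.mpr (IsLocalRing.map_maximalIdeal_lt_top φ).ne

instance [IsLocalHom φ] : IsLocalRing (B ⧸ JB φ) :=
  IsLocalRing.of_surjective' (Ideal.Quotient.mk _) Ideal.Quotient.mk_surjective

/-- the induced map `A/m_C A → B/m_C B` -/
noncomputable def φ' : A ⧸ IA γ →+* B ⧸ IB γ φ :=
  Ideal.quotientMap (IB γ φ) φ (IA_le_comap γ φ)

theorem φ'_mk (a : A) : φ' γ φ (Ideal.Quotient.mk _ a) = Ideal.Quotient.mk _ (φ a) := rfl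

instance isLocalHom_φ' [IsLocalHom γ] [IsLocalHom φ] : IsLocalHom (φ' γ φ) := by
  refine ⟨fun a ha => ?_⟩
  obtain ⟨a, rfl⟩ := Ideal.Quotient.mk_surjective a
  rw [φ'_mk] at ha
  haveI : IsLocalHom (Ideal.Quotient.mk (IB γ φ)) :=
    IsLocalHom.of_surjective _ Ideal.Quotient.mk_surjective
  have h1 := (isUnit_map_iff (Ideal.Quotient.mk (IB γ φ)) (φ a)).mp ha
  have h2 := (isUnit_map_iff φ a).mp h1
  exact h2.map _

theorem map_maximalIdeal_φ' [IsLocalHom γ] [IsLocalHom φ] :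
    (maximalIdeal (A ⧸ IA γ)).map (φ' γ φ) = (JB φ).map (Ideal.Quotient.mk (IB γ φ)) := by
  rw [maximalIdeal_quot_eq_map, Ideal.map_map, JB, Ideal.map_map]
  congr 1

/-- the closed fibre of `A/m_C A → B/m_C B` is `B/m_A B` -/
noncomputable def fibreEquiv [IsLocalHom γ] [IsLocalHom φ] :
    ((B ⧸ IB γ φ) ⧸ (maximalIdeal (A ⧸ IA γ)).map (φ' γ φ)) ≃+* B ⧸ JB φ :=
  (Ideal.quotEquivOfEq (map_maximalIdeal_φ' γ φ)).trans
    ((DoubleQuot.quotQuotEquivQuotSup (IB γ φ) (JB φ)).trans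
      (Ideal.quotEquivOfEq (sup_eq_right.mpr (IB_le_JB γ φ))))


section Flat

omit [IsLocalRing C] [IsLocalRing A] [IsLocalRing B]

variable (I : Ideal A)

/-- Base change of flatness to quotients, ring hom version. -/
theorem flat_quotientMap (hφ : φ.Flat) (I : Ideal A) :
    (Ideal.quotientMap (I.map φ) φ Ideal.le_comap_map).Flat := by
  letI : Algebra A B := φ.toAlgebra
  haveI : Module.Flat A B := hφ
  letI : Algebra (A ⧸ I) (B ⧸ I.map φ) :=
    (Ideal.quotientMap (I.map φ) φ Ideal.le_comap_map).toAlgebra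
  show Module.Flat (A ⧸ I) (B ⧸ I.map φ)
  have h1 : Module.Flat (A ⧸ I) (B ⧸ (I • (⊤ : Submodule A B))) :=
    flat_quot_smul_top_of_flat B I
  have hst : IsScalarTower A (A ⧸ I) (B ⧸ I.map φ) :=
    IsScalarTower.of_algebraMap_eq (fun a => rfl)
  have heq : (I • (⊤ : Submodule A B)) = (I.map (algebraMap A B)).restrictScalars A :=
    Ideal.smul_top_eq_map I
  let e1 : (B ⧸ (I.map φ)) ≃ₗ[A] (B ⧸ (I • (⊤ : Submodule A B))) :=
    (Submodule.Quotient.restrictScalarsEquiv A (I.map (algebraMap A B))).symm.trans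
      (Submodule.quotEquivOfEq _ _ heq.symm)
  exact Module.Flat.of_linearEquiv (e1.extendScalarsOfSurjective Ideal.Quotient.mk_surjective)

end Flat

theorem flat_φ' (hφ : φ.Flat) : (φ' γ φ).Flat := by
  have h := flat_quotientMap φ hφ (IA γ)
  have key : ∀ (J : Ideal B) (hJ : (IA γ).map φ = J) (hle : IA γ ≤ J.comap φ),
      (Ideal.quotientMap J φ hle).Flat := by
    intro J hJ hle
    subst hJ
    exact h
  exact key _ (IA_map γ φ) _


/-- For local homs `C → A → B` with `A → B` flat and `A/m_C A`, `B/m_C B` noetherian: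
`B/m_C B` is CM iff `A/m_C A` and `B/m_A B` are CM. -/
theorem isCM_tower_iff [IsLocalHom γ] [IsLocalHom φ] (hφ : φ.Flat)
    [IsNoetherianRing (A ⧸ IA γ)] [IsNoetherianRing (B ⧸ IB γ φ)] :
    IsCohenMacaulayLocalRing (B ⧸ IB γ φ) ↔
      IsCohenMacaulayLocalRing (A ⧸ IA γ) ∧ IsCohenMacaulayLocalRing (B ⧸ JB φ) := by
  letI : Algebra (A ⧸ IA γ) (B ⧸ IB γ φ) := (φ' γ φ).toAlgebra
  haveI : IsLocalHom (algebraMap (A ⧸ IA γ) (B ⧸ IB γ φ)) := isLocalHom_φ' γ φ
  haveI : Module.Flat (A ⧸ IA γ) (B ⧸ IB γ φ) := flat_φ' γ φ hφ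
  have h := isCohenMacaulayLocalRing_iff_of_flat (R := A ⧸ IA γ) (S := B ⧸ IB γ φ)
  rw [h]
  refine and_congr Iff.rfl ?_
  exact ⟨Groth.Agent.Lib.Helper56.isCohenMacaulayLocalRing_of_ringEquiv (fibreEquiv γ φ),
    Groth.Agent.Lib.Helper56.isCohenMacaulayLocalRing_of_ringEquiv (fibreEquiv γ φ).symm⟩

end Groth.Agent.Lib.Helper67.FiberTower
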