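import Groth.Agent.Lib.Helper67.FiberStalk2
import Groth.Agent.Lib.Helper67.FiberTower
import Groth.Agent.Lib.Helper19.FlatStalkDescent
import Groth.Prelude.Def_MoreMor

set_option autoImplicit false
set_option linter.style.haveILetI false
set_option linter.unusedSectionVars false

universe u
open CategoryTheory CategoryTheory.Limits AlgebraicGeometry Opposite TopologicalSpace

namespace Groth.Agent.Lib.Helper67.FiberStalk

open LocCoh IsLocalRing FiberTower

variable {X Y Z : Scheme.{u}} (f : X ⟶ Y) (g : Y ⟶ Z)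

theorem isCMAt_iff (x : X) :
    MoreMor.IsCMAt f x ↔ (f.stalkMap x).hom.Flat ∧ IsCohenMacaulayLocalRing (Q f x) :=
  and_congr Iff.rfl (isCM_fiberStalk_iff f x)

theorem isNoetherianRing_Q (x : X) (hN : IsLocallyNoetherian (f.fiber (f x))) :
    IsNoetherianRing (Q f x) :=
  isNoetherianRing_of_ringEquiv _ (fiberStalkEquiv f x)

theorem fibIdeal_comp (x : X) :
    fibIdeal (f ≫ g) x = IB (g.stalkMap (f x)).hom (f.stalkMap x).hom := by
  rw [fibIdeal, Scheme.Hom.stalkMap_comp]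
  rfl

/-- `Q (f ≫ g) x ≃+* B/m_C B` -/
noncomputable def qCompEquiv (x : X) :
    Q (f ≫ g) x ≃+* (X.presheaf.stalk x ⧸ IB (g.stalkMap (f x)).hom (f.stalkMap x).hom) :=
  Ideal.quotEquivOfEq (fibIdeal_comp f g x)

theorem isCMAt_comp (x : X)
    (hN : IsNoetherianRing (Q (f ≫ g) x))
    (hf : MoreMor.IsCMAt f x) (hg : MoreMor.IsCMAt g (f x)) : MoreMor.IsCMAt (f ≫ g) x := by
  rw [isCMAt_iff] at hf hg ⊢
  obtain ⟨hf1, hf2⟩ := hf
  obtain ⟨hg1, hg2⟩ := hg
  constructor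
  · rw [Scheme.Hom.stalkMap_comp]
    exact RingHom.Flat.comp hg1 hf1
  · haveI : IsNoetherianRing (Y.presheaf.stalk (f x) ⧸ IA (g.stalkMap (f x)).hom) :=
      hg2.toIsNoetherian
    haveI : IsNoetherianRing
        (X.presheaf.stalk x ⧸ IB (g.stalkMap (f x)).hom (f.stalkMap x).hom) :=
      isNoetherianRing_of_ringEquiv _ (qCompEquiv f g x)
    have h := (isCM_tower_iff (g.stalkMap (f x)).hom (f.stalkMap x).hom hf1).mpr ⟨hg2, hf2⟩
    exact Groth.Agent.Lib.Helper56.isCohenMacaulayLocalRing_of_ringEquiv (qCompEquiv f g x).symm h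

theorem isCMAt_of_comp (x : X)
    (hNg : IsNoetherianRing (Q g (f x)))
    (h : MoreMor.IsCMAt (f ≫ g) x) (hfl : (f.stalkMap x).hom.Flat) :
    MoreMor.IsCMAt f x ∧ MoreMor.IsCMAt g (f x) := by
  rw [isCMAt_iff] at h
  rw [isCMAt_iff, isCMAt_iff]
  obtain ⟨h1, h2⟩ := h
  have h2' := Groth.Agent.Lib.Helper56.isCohenMacaulayLocalRing_of_ringEquiv (qCompEquiv f g x) h2
  haveI : IsNoetherianRing (Y.presheaf.stalk (f x) ⧸ IA (g.stalkMap (f x)).hom) := hNg
  haveI : IsNoetherianRing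
      (X.presheaf.stalk x ⧸ IB (g.stalkMap (f x)).hom (f.stalkMap x).hom) :=
    h2'.toIsNoetherian
  obtain ⟨h3, h4⟩ := (isCM_tower_iff (g.stalkMap (f x)).hom (f.stalkMap x).hom hfl).mp h2'
  refine ⟨⟨hfl, h4⟩, ⟨?_, h3⟩⟩
  rw [Scheme.Hom.stalkMap_comp] at h1
  have hff : (f.stalkMap x).hom.FaithfullyFlat := by
    letI : Algebra (Y.presheaf.stalk (f x)) (X.presheaf.stalk x) := (f.stalkMap x).hom.toAlgebra
    haveI : IsLocalHom (algebraMap (Y.presheaf.stalk (f x)) (X.presheaf.stalk x)) :=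
      inferInstanceAs (IsLocalHom (f.stalkMap x).hom)
    haveI : Module.Flat (Y.presheaf.stalk (f x)) (X.presheaf.stalk x) := hfl
    exact Module.FaithfullyFlat.of_flat_of_isLocalHom
  exact Groth.Agent.Lib.Helper19.RingHom.Flat.of_comp_of_faithfullyFlat _ _ hff h1

end Groth.Agent.Lib.Helper67.FiberStalk
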