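import Groth.Prelude.Def_CAlg
import Mathlib.RingTheory.Depth.Rees
import Mathlib.RingTheory.KrullDimension.Regular
import Mathlib.RingTheory.Ideal.AssociatedPrime.Finiteness
import Mathlib.RingTheory.Ideal.AssociatedPrime.Localization
import Mathlib.RingTheory.Nakayama
import Mathlib.RingTheory.Regular.LinearMap

set_option autoImplicit false
universe u v

namespace Groth.Agent.Lib.Helper67

open RingTheory.Sequence LocCoh

section Basic

variable {R : Type u} [CommRing R]

theorem isWeaklyRegular_take {M : Type v} [AddCommGroup M] [Module R M] {rs : List R}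
    (h : IsWeaklyRegular M rs) (n : ℕ) : IsWeaklyRegular M (rs.take n) := by
  have := (isWeaklyRegular_append_iff M (rs.take n) (rs.drop n)).mp (by rwa [List.take_append_drop])
  exact this.1

theorem idealDepth_eq_top_of_smul_top_eq_top (I : Ideal R) (M : Type v) [AddCommGroup M]
    [Module R M] (h : I • (⊤ : Submodule R M) = ⊤) : idealDepth I M = ⊤ := by
  classical
  simp [idealDepth, h]

theorem idealDepth_eq_iSup (I : Ideal R) (M : Type v) [AddCommGroup M]
    [Module R M] (h : I • (⊤ : Submodule R M) ≠ ⊤) :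
    idealDepth I M = ⨆ (rs : List R) (_ : IsWeaklyRegular M rs ∧ ∀ r ∈ rs, r ∈ I),
      (rs.length : ℕ∞) := by
  classical
  simp [idealDepth, h]

theorem le_idealDepth_iff (I : Ideal R) (M : Type v) [AddCommGroup M] [Module R M] (n : ℕ) :
    (n : ℕ∞) ≤ idealDepth I M ↔ I • (⊤ : Submodule R M) = ⊤ ∨
      ∃ rs : List R, rs.length = n ∧ IsWeaklyRegular M rs ∧ ∀ r ∈ rs, r ∈ I := by
  by_cases h : I • (⊤ : Submodule R M) = ⊤
  · simp [h, idealDepth_eq_top_of_smul_top_eq_top I M h]
  · simp only [h, false_or]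
    rw [idealDepth_eq_iSup I M h]
    constructor
    · intro hle
      rcases Nat.eq_zero_or_pos n with rfl | hn
      · exact ⟨[], rfl, IsWeaklyRegular.nil R M, by simp⟩
      · have hlt : ((n - 1 : ℕ) : ℕ∞) < ⨆ (rs : List R)
            (_ : IsWeaklyRegular M rs ∧ ∀ r ∈ rs, r ∈ I), (rs.length : ℕ∞) := by
          refine lt_of_lt_of_le ?_ hle
          exact_mod_cast Nat.sub_lt hn Nat.one_pos
        obtain ⟨rs, hrs⟩ := lt_iSup_iff.mp hlt
        obtain ⟨hP, hlen⟩ := lt_iSup_iff.mp hrs
        have hlen' : n ≤ rs.length := by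
          have : n - 1 < rs.length := by exact_mod_cast hlen
          omega
        refine ⟨rs.take n, by simp [hlen'], isWeaklyRegular_take hP.1 n, ?_⟩
        intro r hr
        exact hP.2 r (List.mem_of_mem_take hr)
    · rintro ⟨rs, rfl, hreg, hmem⟩
      exact le_iSup₂_of_le rs ⟨hreg, hmem⟩ le_rfl

theorem length_le_idealDepth (I : Ideal R) (M : Type v) [AddCommGroup M] [Module R M]
    (rs : List R) (hreg : IsWeaklyRegular M rs) (hmem : ∀ r ∈ rs, r ∈ I) :
    (rs.length : ℕ∞) ≤ idealDepth I M :=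
  (le_idealDepth_iff I M rs.length).mpr (Or.inr ⟨rs, rfl, hreg, hmem⟩)

end Basic

section ExtLES

open CategoryTheory CategoryTheory.Abelian

variable {C : Type*} [Category C] [Abelian C] [HasExt C]

theorem ext_X3_subsingleton {S : ShortComplex C} (hS : S.ShortExact) (X : C) (n : ℕ)
    (h2 : Subsingleton (Ext X S.X₂ n)) (h1 : Subsingleton (Ext X S.X₁ (n + 1))) :
    Subsingleton (Ext X S.X₃ n) := by
  refine ⟨fun a b => ?_⟩
  suffices h : ∀ x : Ext X S.X₃ n, x = 0 by rw [h a, h b]
  intro x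
  obtain ⟨x₂, hx₂⟩ := Ext.covariant_sequence_exact₃ X hS x rfl (Subsingleton.elim _ _)
  rw [← hx₂, Subsingleton.elim x₂ 0, Ext.zero_comp]

theorem ext_X2_subsingleton {S : ShortComplex C} (hS : S.ShortExact) (X : C) (n : ℕ)
    (h1 : Subsingleton (Ext X S.X₁ n)) (h3 : Subsingleton (Ext X S.X₃ n)) :
    Subsingleton (Ext X S.X₂ n) := by
  refine ⟨fun a b => ?_⟩
  suffices h : ∀ x : Ext X S.X₂ n, x = 0 by rw [h a, h b]
  intro x
  obtain ⟨x₁, hx₁⟩ := Ext.covariant_sequence_exact₂ X hS x (Subsingleton.elim _ _)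
  rw [← hx₁, Subsingleton.elim x₁ 0, Ext.zero_comp]

theorem ext_X1_subsingleton_succ {S : ShortComplex C} (hS : S.ShortExact) (X : C) (n : ℕ)
    (h3 : Subsingleton (Ext X S.X₃ n)) (h2 : Subsingleton (Ext X S.X₂ (n + 1))) :
    Subsingleton (Ext X S.X₁ (n + 1)) := by
  refine ⟨fun a b => ?_⟩
  suffices h : ∀ x : Ext X S.X₁ (n + 1), x = 0 by rw [h a, h b]
  intro x
  obtain ⟨x₃, hx₃⟩ := Ext.covariant_sequence_exact₁ X hS x (Subsingleton.elim _ _) rfl
  rw [← hx₃, Subsingleton.elim x₃ 0, Ext.zero_comp]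

theorem ext_X1_subsingleton_zero {S : ShortComplex C} (hS : S.ShortExact) (X : C)
    (h2 : Subsingleton (Ext X S.X₂ 0)) :
    Subsingleton (Ext X S.X₁ 0) := by
  have := hS.mono_f
  exact (Ext.postcomp_mk₀_injective_of_mono X S.f).subsingleton

end ExtLES

section Rees

open CategoryTheory CategoryTheory.Abelian

variable {R : Type u} [CommRing R]

theorem ofList_le_of_mem (I : Ideal R) {rs : List R} (hmem : ∀ r ∈ rs, r ∈ I) :
    Ideal.ofList rs ≤ I := by
  rw [Ideal.ofList, Ideal.span_le]
  intro r hr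
  exact hmem r hr

theorem isRegular_of_isWeaklyRegular_of_mem (I : Ideal R) {M : Type v} [AddCommGroup M]
    [Module R M] (hIM : I • (⊤ : Submodule R M) ≠ ⊤) {rs : List R}
    (hreg : IsWeaklyRegular M rs) (hmem : ∀ r ∈ rs, r ∈ I) : IsRegular M rs := by
  refine ⟨hreg, fun h => hIM ?_⟩
  have h1 : Ideal.ofList rs • (⊤ : Submodule R M) ≤ I • (⊤ : Submodule R M) :=
    Submodule.smul_mono_left (ofList_le_of_mem I hmem)
  rw [← h] at h1
  exact top_le_iff.mp h1

variable [IsNoetherianRing R] (I : Ideal R) (M : Type u) [AddCommGroup M] [Module R M]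
  [Module.Finite R M]

theorem exists_regular_iff_ext (hIM : I • (⊤ : Submodule R M) ≠ ⊤) (n : ℕ) :
    (∃ rs : List R, rs.length = n ∧ IsWeaklyRegular M rs ∧ ∀ r ∈ rs, r ∈ I) ↔
      ∀ i < n, Subsingleton (Ext (ModuleCat.of R (R ⧸ I)) (ModuleCat.of R M) i) := by
  have hlt : I • (⊤ : Submodule R (ModuleCat.of R M)) < ⊤ := lt_top_iff_ne_top.mpr hIM
  have hne : I ≠ ⊤ := by
    rintro rfl
    exact hIM (by simp)
  have ntrQ : Nontrivial (R ⧸ I) := Ideal.Quotient.nontrivial_iff.mpr hne
  have suppQ : Module.support R (R ⧸ I) = PrimeSpectrum.zeroLocus I := by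
    rw [Module.support_eq_zeroLocus, Ideal.annihilator_quotient]
  have tfae := ModuleCat.exists_isRegular_tfae I n (ModuleCat.of R M) hlt
  constructor
  · rintro ⟨rs, hlen, hreg, hmem⟩
    have h4 : ∃ rs : List R, rs.length = n ∧ (∀ r ∈ rs, r ∈ I) ∧
        RingTheory.Sequence.IsRegular (ModuleCat.of R M) rs :=
      ⟨rs, hlen, hmem, isRegular_of_isWeaklyRegular_of_mem I hIM hreg hmem⟩
    have h1 := (tfae.out 3 0).mp h4
    exact h1 (ModuleCat.of R (R ⧸ I)) ntrQ inferInstance suppQ.subset
  · intro hext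
    have h3 : ∃ N : ModuleCat R, Nontrivial N ∧ Module.Finite R N ∧
        Module.support R N = PrimeSpectrum.zeroLocus I ∧
          ∀ i < n, Subsingleton (Ext N (ModuleCat.of R M) i) :=
      ⟨ModuleCat.of R (R ⧸ I), ntrQ, inferInstance, suppQ, hext⟩
    obtain ⟨rs, hlen, hmem, hreg⟩ := (tfae.out 2 3).mp h3
    exact ⟨rs, hlen, hreg.toIsWeaklyRegular, hmem⟩

theorem le_idealDepth_iff_ext (hIM : I • (⊤ : Submodule R M) ≠ ⊤) (n : ℕ) :
    (n : ℕ∞) ≤ idealDepth I M ↔
      ∀ i < n, Subsingleton (Ext (ModuleCat.of R (R ⧸ I)) (ModuleCat.of R M) i) := by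
  rw [le_idealDepth_iff, ← exists_regular_iff_ext I M hIM]
  simp [hIM]

end Rees

section Quot

open CategoryTheory CategoryTheory.Abelian

theorem enat_add_one_eq {a b : ℕ∞} (h1 : ∀ n : ℕ, (n : ℕ∞) ≤ a → ((n + 1 : ℕ) : ℕ∞) ≤ b)
    (h2 : ∀ n : ℕ, ((n + 1 : ℕ) : ℕ∞) ≤ b → (n : ℕ∞) ≤ a) : a + 1 = b := by
  induction a using ENat.recTopCoe with
  | top =>
    rw [top_add]
    symm
    rw [ENat.eq_top_iff_forall_ge]
    intro m
    exact le_trans (by exact_mod_cast Nat.le_succ m) (h1 m le_top)
  | coe k =>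
    apply le_antisymm
    · exact_mod_cast h1 k le_rfl
    · by_contra hcon
      rw [not_le] at hcon
      have h3 : ((k + 1 + 1 : ℕ) : ℕ∞) ≤ b := by
        have := (ENat.add_one_le_iff (m := ((k + 1 : ℕ) : ℕ∞)) (ENat.natCast_ne_top _)).mpr
          (by exact_mod_cast hcon)
        exact_mod_cast this
      have h4 := h2 (k + 1) h3
      have : k + 1 ≤ k := by exact_mod_cast h4
      omega

variable {R : Type u} [CommRing R]

theorem smul_top_quotSMulTop_ne_top {M : Type v} [AddCommGroup M]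
    [Module R M] {I : Ideal R} {r : R} (hr : r ∈ I)
    (hI : I • (⊤ : Submodule R M) ≠ ⊤) :
    I • (⊤ : Submodule R (QuotSMulTop r M)) ≠ ⊤ := by
  by_contra eq
  absurd congrArg (Submodule.comap (Submodule.mkQ _)) eq
  simpa [Submodule.comap_smul_top_of_surjective I _ (Submodule.mkQ_surjective _),
    Submodule.smul_mono_left ((Ideal.span_singleton_le_iff_mem I).mpr hr),
    ← Submodule.ideal_span_singleton_smul] using hI

variable [IsNoetherianRing R] (I : Ideal R) (M : Type u) [AddCommGroup M] [Module R M]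
  [Module.Finite R M]

theorem idealDepth_quotSMulTop_add_one (hIM : I • (⊤ : Submodule R M) ≠ ⊤) (x : R) (hx : x ∈ I)
    (hreg : IsSMulRegular M x) :
    idealDepth I (QuotSMulTop x M) + 1 = idealDepth I M := by
  have hIQ : I • (⊤ : Submodule R (QuotSMulTop x M)) ≠ ⊤ := smul_top_quotSMulTop_ne_top hx hIM
  apply enat_add_one_eq
  · intro n hn
    rw [le_idealDepth_iff] at hn ⊢
    rcases hn with h | ⟨rs, hlen, hrs, hmem⟩
    · exact absurd h hIQ
    · refine Or.inr ⟨x :: rs, by simp [hlen], ?_, ?_⟩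
      · rw [isWeaklyRegular_cons_iff]
        exact ⟨hreg, hrs⟩
      · intro r hr
        rcases List.mem_cons.mp hr with rfl | hr
        · exact hx
        · exact hmem r hr
  · intro n hn
    rw [le_idealDepth_iff_ext I M hIM] at hn
    rw [le_idealDepth_iff_ext I (QuotSMulTop x M) hIQ]
    intro i hi
    have hS := IsSMulRegular.smulShortComplex_shortExact (M := ModuleCat.of R M) (r := x) hreg
    exact ext_X3_subsingleton hS (ModuleCat.of R (R ⧸ I)) i (hn i (by omega)) (hn (i + 1) (by omega))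

end Quot

section ExtTop

open CategoryTheory CategoryTheory.Abelian

variable {R : Type u} [CommRing R]

theorem ext_smul_eq_zero_of_mem_annihilator_left {X Y : ModuleCat.{u} R} {n : ℕ} (x : Ext X Y n)
    {r : R} (hr : r ∈ Module.annihilator R X) : r • x = 0 := by
  have h0 : r • 𝟙 X = 0 := by
    simp [← ModuleCat.lsmul_eq_smul_id, Module.mem_annihilator_iff_lsmul_eq_zero.mp hr]
  have smul_eq : r • x = (Ext.mk₀ (r • 𝟙 X)).comp x (zero_add n) := by simp [Ext.mk₀_smul]
  rw [smul_eq, h0]
  simp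

theorem ext_smul_eq_zero_of_mem_annihilator_right {X Y : ModuleCat.{u} R} {n : ℕ} (x : Ext X Y n)
    {r : R} (hr : r ∈ Module.annihilator R Y) : r • x = 0 := by
  have h0 : r • 𝟙 Y = 0 := by
    simp [← ModuleCat.lsmul_eq_smul_id, Module.mem_annihilator_iff_lsmul_eq_zero.mp hr]
  rw [Ext.smul_eq_comp_mk₀, h0]
  simp

theorem ext_subsingleton_of_smul_top_eq_top (I : Ideal R) (M : Type u) [AddCommGroup M]
    [Module R M] [Module.Finite R M] (h : I • (⊤ : Submodule R M) = ⊤) (i : ℕ) :
    Subsingleton (Ext (ModuleCat.of R (R ⧸ I)) (ModuleCat.of R M) i) := by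
  obtain ⟨r, hr1, hr2⟩ := Submodule.exists_sub_one_mem_and_smul_eq_zero_of_fg_of_le_smul I
    (⊤ : Submodule R M) Module.Finite.fg_top h.ge
  have hrM : r ∈ Module.annihilator R (ModuleCat.of R M) := by
    rw [Module.mem_annihilator]
    intro m
    exact hr2 m Submodule.mem_top
  have hrI : r - 1 ∈ Module.annihilator R (ModuleCat.of R (R ⧸ I)) := by
    change r - 1 ∈ Module.annihilator R (R ⧸ I)
    rw [Ideal.annihilator_quotient]
    exact hr1
  refine ⟨fun a b => ?_⟩
  suffices h : ∀ x : Ext (ModuleCat.of R (R ⧸ I)) (ModuleCat.of R M) i, x = 0 by rw [h a, h b]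
  intro x
  have h1 := ext_smul_eq_zero_of_mem_annihilator_right x hrM
  have h2 := ext_smul_eq_zero_of_mem_annihilator_left x hrI
  have : x = r • x - (r - 1) • x := by
    rw [sub_smul, one_smul]; abel
  rw [this, h1, h2, sub_zero]

variable [IsNoetherianRing R]

theorem le_idealDepth_iff_ext' (I : Ideal R) (M : Type u) [AddCommGroup M]
    [Module R M] [Module.Finite R M] (n : ℕ) :
    (n : ℕ∞) ≤ idealDepth I M ↔
      ∀ i < n, Subsingleton (Ext (ModuleCat.of R (R ⧸ I)) (ModuleCat.of R M) i) := by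
  by_cases hIM : I • (⊤ : Submodule R M) = ⊤
  · rw [idealDepth_eq_top_of_smul_top_eq_top I M hIM]
    simp only [le_top, true_iff]
    intro i _
    exact ext_subsingleton_of_smul_top_eq_top I M hIM i
  · exact le_idealDepth_iff_ext I M hIM n

end ExtTop

section SES

open CategoryTheory CategoryTheory.Abelian

variable {R : Type u} [CommRing R] [IsNoetherianRing R] (I : Ideal R)
  (N' : Type u) [AddCommGroup N'] [Module R N'] [Module.Finite R N']
  (N : Type u) [AddCommGroup N] [Module R N] [Module.Finite R N]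
  (N'' : Type u) [AddCommGroup N''] [Module R N''] [Module.Finite R N'']
  (f : N' →ₗ[R] N) (g : N →ₗ[R] N'')

omit [IsNoetherianRing R] [Module.Finite R N'] [Module.Finite R N] [Module.Finite R N''] in
theorem shortExact_of_linearMaps (hf : Function.Injective f) (hg : Function.Surjective g)
    (hfg : Function.Exact f g) :
    (ShortComplex.mk (ModuleCat.ofHom f) (ModuleCat.ofHom g)
      (by ext x; simpa using hfg.apply_apply_eq_zero x)).ShortExact where
  exact := (ShortComplex.ShortExact.moduleCat_exact_iff_function_exact _).mpr hfg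
  mono_f := (ModuleCat.mono_iff_injective _).mpr hf
  epi_g := (ModuleCat.epi_iff_surjective _).mpr hg

theorem idealDepth_mid_ge (hf : Function.Injective f) (hg : Function.Surjective g)
    (hfg : Function.Exact f g) :
    min (idealDepth I N') (idealDepth I N'') ≤ idealDepth I N := by
  have hS := shortExact_of_linearMaps N' N N'' f g hf hg hfg
  rw [← ENat.forall_natCast_le_iff_le]
  intro n hn
  rw [le_min_iff] at hn
  rw [le_idealDepth_iff_ext'] at hn ⊢
  rw [le_idealDepth_iff_ext'] at hn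
  intro i hi
  exact ext_X2_subsingleton hS (ModuleCat.of R (R ⧸ I)) i (hn.1 i hi) (hn.2 i hi)

theorem idealDepth_right_ge (hf : Function.Injective f) (hg : Function.Surjective g)
    (hfg : Function.Exact f g) :
    min (idealDepth I N) (idealDepth I N' - 1) ≤ idealDepth I N'' := by
  have hS := shortExact_of_linearMaps N' N N'' f g hf hg hfg
  rw [← ENat.forall_natCast_le_iff_le]
  intro n hn
  rw [le_min_iff] at hn
  obtain ⟨hn1, hn2⟩ := hn
  rcases Nat.eq_zero_or_pos n with rfl | hpos
  · simp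
  have hn3 : ((n + 1 : ℕ) : ℕ∞) ≤ idealDepth I N' := by
    generalize idealDepth I N' = d at hn2
    induction d using ENat.recTopCoe with
    | top => exact le_top
    | coe k =>
      have h1 : ((k - 1 : ℕ) : ℕ∞) = (k : ℕ∞) - 1 := by simp
      rw [← h1] at hn2
      have : n ≤ k - 1 := by exact_mod_cast hn2
      have : n + 1 ≤ k := by omega
      exact_mod_cast this
  rw [le_idealDepth_iff_ext'] at hn1 hn3 ⊢
  intro i hi
  exact ext_X3_subsingleton hS (ModuleCat.of R (R ⧸ I)) i (hn1 i hi) (hn3 (i + 1) (by omega))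

theorem idealDepth_left_ge (hf : Function.Injective f) (hg : Function.Surjective g)
    (hfg : Function.Exact f g) :
    min (idealDepth I N) (idealDepth I N'' + 1) ≤ idealDepth I N' := by
  have hS := shortExact_of_linearMaps N' N N'' f g hf hg hfg
  rw [← ENat.forall_natCast_le_iff_le]
  intro n hn
  rw [le_min_iff] at hn
  obtain ⟨hn1, hn2⟩ := hn
  rcases Nat.eq_zero_or_pos n with rfl | hpos
  · simp
  have hn3 : ((n - 1 : ℕ) : ℕ∞) ≤ idealDepth I N'' := by
    generalize idealDepth I N'' = d at hn2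
    induction d using ENat.recTopCoe with
    | top => exact le_top
    | coe k =>
      have : n ≤ k + 1 := by exact_mod_cast hn2
      have : n - 1 ≤ k := by omega
      exact_mod_cast this
  rw [le_idealDepth_iff_ext'] at hn1 hn3 ⊢
  intro i hi
  rcases Nat.eq_zero_or_pos i with rfl | hipos
  · exact ext_X1_subsingleton_zero hS (ModuleCat.of R (R ⧸ I)) (hn1 0 hpos)
  · obtain ⟨j, rfl⟩ : ∃ j, i = j + 1 := ⟨i - 1, by omega⟩
    exact ext_X1_subsingleton_succ hS (ModuleCat.of R (R ⧸ I)) j (hn3 j (by omega)) (hn1 (j + 1) hi)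

end SES

section DepthZero

variable {R : Type u} [CommRing R]

theorem one_le_idealDepth_iff (I : Ideal R) (M : Type v) [AddCommGroup M] [Module R M] :
    1 ≤ idealDepth I M ↔ I • (⊤ : Submodule R M) = ⊤ ∨ ∃ r ∈ I, IsSMulRegular M r := by
  have := le_idealDepth_iff I M 1
  rw [Nat.cast_one] at this
  rw [this]
  refine or_congr Iff.rfl ⟨?_, ?_⟩
  · rintro ⟨rs, hlen, hreg, hmem⟩
    obtain ⟨r, rfl⟩ := List.length_eq_one_iff.mp hlen
    exact ⟨r, hmem r (by simp), (isWeaklyRegular_singleton_iff M r).mp hreg⟩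
  · rintro ⟨r, hr, hreg⟩
    exact ⟨[r], rfl, (isWeaklyRegular_singleton_iff M r).mpr hreg, by simpa using hr⟩

theorem idealDepth_eq_zero_iff_forall (I : Ideal R) (M : Type v) [AddCommGroup M] [Module R M] :
    idealDepth I M = 0 ↔ I • (⊤ : Submodule R M) ≠ ⊤ ∧ ∀ r ∈ I, ¬ IsSMulRegular M r := by
  rw [← not_iff_not, ← ne_eq, ← Order.one_le_iff_ne_zero, one_le_idealDepth_iff]
  push Not
  tauto

variable [IsNoetherianRing R]

theorem forall_not_isSMulRegular_iff (I : Ideal R) (M : Type v) [AddCommGroup M] [Module R M]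
    [Module.Finite R M] [Nontrivial M] :
    (∀ r ∈ I, ¬ IsSMulRegular M r) ↔ ∃ p ∈ associatedPrimes R M, I ≤ p := by
  rcases associatedPrimes.nonempty R M with ⟨Ia, hIa⟩
  rw [← Ideal.subset_union_prime_finite (associatedPrimes.finite R M) Ia Ia
    (fun I hin _ _ => IsAssociatedPrime.isPrime hin),
    biUnion_associatedPrimes_eq_compl_regular R M]
  rfl

theorem idealDepth_eq_zero_iff (I : Ideal R) (M : Type v) [AddCommGroup M] [Module R M]
    [Module.Finite R M] :
    idealDepth I M = 0 ↔ I • (⊤ : Submodule R M) ≠ ⊤ ∧ ∃ p ∈ associatedPrimes R M, I ≤ p := by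
  rw [idealDepth_eq_zero_iff_forall]
  refine and_congr_right fun hIM => ?_
  have : Nontrivial M := by
    by_contra hcon
    rw [not_nontrivial_iff_subsingleton] at hcon
    exact hIM (Subsingleton.elim _ _)
  exact forall_not_isSMulRegular_iff I M

theorem depth_eq_zero_iff [IsLocalRing R] (M : Type v) [AddCommGroup M] [Module R M]
    [Module.Finite R M] :
    depth R M = 0 ↔ IsLocalRing.maximalIdeal R ∈ associatedPrimes R M := by
  rw [depth, idealDepth_eq_zero_iff]
  constructor
  · rintro ⟨_, p, hp, hle⟩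
    have hpp : p.IsPrime := IsAssociatedPrime.isPrime hp
    have : p = IsLocalRing.maximalIdeal R :=
      ((IsLocalRing.maximalIdeal.isMaximal R).eq_of_le hpp.ne_top hle).symm
    rwa [this] at hp
  · intro hm
    have hnt : Nontrivial M := by
      by_contra hcon
      rw [not_nontrivial_iff_subsingleton] at hcon
      rw [associatedPrimes.eq_empty_of_subsingleton] at hm
      exact hm
    refine ⟨?_, _, hm, le_rfl⟩
    intro h
    have := Submodule.eq_bot_of_le_smul_of_le_jacobson_bot (IsLocalRing.maximalIdeal R)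
      (⊤ : Submodule R M) Module.Finite.fg_top h.ge
      (by rw [IsLocalRing.jacobson_eq_maximalIdeal ⊥ bot_ne_top])
    exact top_ne_bot this

end DepthZero

section DepthDim

variable {R : Type u} [CommRing R] [IsNoetherianRing R] [IsLocalRing R] (M : Type v)
  [AddCommGroup M] [Module R M] [Module.Finite R M]

omit [IsNoetherianRing R] in
theorem maximalIdeal_smul_top_ne_top [Nontrivial M] :
    IsLocalRing.maximalIdeal R • (⊤ : Submodule R M) ≠ ⊤ := by
  intro h
  have := Submodule.eq_bot_of_le_smul_of_le_jacobson_bot (IsLocalRing.maximalIdeal R)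
    (⊤ : Submodule R M) Module.Finite.fg_top h.ge
    (by rw [IsLocalRing.jacobson_eq_maximalIdeal ⊥ bot_ne_top])
  exact top_ne_bot this

omit [IsNoetherianRing R] in
theorem exists_isRegular_of_le_depth [Nontrivial M] (n : ℕ) (h : (n : ℕ∞) ≤ depth R M) :
    ∃ rs : List R, rs.length = n ∧ IsRegular M rs ∧ ∀ r ∈ rs, r ∈ IsLocalRing.maximalIdeal R := by
  rw [depth, le_idealDepth_iff] at h
  rcases h with h | ⟨rs, hlen, hreg, hmem⟩
  · exact absurd h (maximalIdeal_smul_top_ne_top M)
  · exact ⟨rs, hlen, isRegular_of_isWeaklyRegular_of_mem _ (maximalIdeal_smul_top_ne_top M)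
      hreg hmem, hmem⟩

theorem natCast_le_supportDim_of_le_depth [Nontrivial M] (n : ℕ) (h : (n : ℕ∞) ≤ depth R M) :
    (n : WithBot ℕ∞) ≤ Module.supportDim R M := by
  obtain ⟨rs, hlen, reg, _⟩ := exists_isRegular_of_le_depth M n h
  have h1 := Module.supportDim_add_length_eq_supportDim_of_isRegular rs reg
  have hnt : Nontrivial (M ⧸ Ideal.ofList rs • (⊤ : Submodule R M)) :=
    reg.quot_ofList_smul_nontrivial _
  have h0 : (0 : WithBot ℕ∞) ≤ Module.supportDim R (M ⧸ Ideal.ofList rs • (⊤ : Submodule R M)) := by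
    have hne := Module.supportDim_ne_bot_of_nontrivial R
      (M := M ⧸ Ideal.ofList rs • (⊤ : Submodule R M))
    rcases h2 : Module.supportDim R (M ⧸ Ideal.ofList rs • (⊤ : Submodule R M)) with _ | a
    · exact absurd h2 hne
    · exact WithBot.coe_le_coe.mpr bot_le
  rw [← h1, hlen]
  exact le_add_of_nonneg_left h0

omit [Module.Finite R M] in
theorem supportDim_eq_natCast [Nontrivial M] : ∃ k : ℕ, Module.supportDim R M = (k : WithBot ℕ∞) := by
  have hne := Module.supportDim_ne_bot_of_nontrivial R (M := M)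
  have hle : Module.supportDim R M ≤ ringKrullDim R := Module.supportDim_le_ringKrullDim R M
  have hlt : Module.supportDim R M < ⊤ := lt_of_le_of_lt hle ringKrullDim_lt_top
  rcases h2 : Module.supportDim R M with _ | a
  · exact absurd h2 hne
  · rw [h2] at hlt
    induction a using ENat.recTopCoe with
    | top => exact absurd hlt (lt_irrefl _)
    | coe k => exact ⟨k, rfl⟩

theorem depth_le_supportDim [Nontrivial M] :
    ((depth R M : ℕ∞) : WithBot ℕ∞) ≤ Module.supportDim R M := by
  obtain ⟨k, hk⟩ := supportDim_eq_natCast (R := R) M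
  rw [hk]
  have : depth R M ≤ (k : ℕ∞) := by
    rw [← ENat.forall_natCast_le_iff_le]
    intro n hn
    have := natCast_le_supportDim_of_le_depth M n hn
    rw [hk] at this
    exact_mod_cast this
  exact_mod_cast this

theorem depth_ne_top [Nontrivial M] : depth R M ≠ ⊤ := by
  obtain ⟨k, hk⟩ := supportDim_eq_natCast (R := R) M
  have h := depth_le_supportDim (R := R) M
  rw [hk] at h
  intro htop
  rw [htop] at h
  have : (⊤ : ℕ∞) ≤ (k : ℕ∞) := by exact_mod_cast h
  exact absurd (top_le_iff.mp this) (ENat.natCast_ne_top k)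

end DepthDim

end Groth.Agent.Lib.Helper67
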