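import Groth.Agent.Lib.Helper67.Depth
import Mathlib.RingTheory.Regular.Flat
import Mathlib.RingTheory.KrullDimension.NonZeroDivisors

/-!
# Depth library, part 2 (helper67)

* invariance of `LocCoh.idealDepth` under linear equivalences;
* `idealDepth I (M ⧸ rs M) + rs.length = idealDepth I M` for weakly regular sequences in `I`;
* localization: `idealDepth I M ≤ depth M_p` for `I ≤ p`, and the infimum is attained;
* `depth M ≤ dim R/p` for `p ∈ Ass M`.
-/

universe u v w

namespace Groth.Agent.Lib.Helper67

open RingTheory.Sequence LocCoh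

section Congr

variable {R : Type u} [CommRing R]

theorem smul_top_eq_top_of_equiv (I : Ideal R) {M : Type v} {N : Type w} [AddCommGroup M]
    [Module R M] [AddCommGroup N] [Module R N] (e : M ≃ₗ[R] N)
    (h : I • (⊤ : Submodule R M) = ⊤) : I • (⊤ : Submodule R N) = ⊤ := by
  have := congrArg (Submodule.map e.toLinearMap) h
  rwa [Submodule.map_smul'', Submodule.map_top, LinearEquiv.range] at this

theorem smul_top_eq_top_congr (I : Ideal R) {M : Type v} {N : Type w} [AddCommGroup M]
    [Module R M] [AddCommGroup N] [Module R N] (e : M ≃ₗ[R] N) :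
    I • (⊤ : Submodule R M) = ⊤ ↔ I • (⊤ : Submodule R N) = ⊤ :=
  ⟨smul_top_eq_top_of_equiv I e, smul_top_eq_top_of_equiv I e.symm⟩

theorem idealDepth_le_of_equiv (I : Ideal R) {M : Type v} {N : Type w} [AddCommGroup M]
    [Module R M] [AddCommGroup N] [Module R N] (e : M ≃ₗ[R] N) :
    idealDepth I M ≤ idealDepth I N := by
  rw [← ENat.forall_natCast_le_iff_le]
  intro n hn
  rw [le_idealDepth_iff] at hn ⊢
  rcases hn with h | ⟨rs, hlen, hreg, hmem⟩
  · exact Or.inl (smul_top_eq_top_of_equiv I e h)
  · exact Or.inr ⟨rs, hlen, (e.isWeaklyRegular_congr rs).mp hreg, hmem⟩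

theorem idealDepth_congr (I : Ideal R) {M : Type v} {N : Type w} [AddCommGroup M]
    [Module R M] [AddCommGroup N] [Module R N] (e : M ≃ₗ[R] N) :
    idealDepth I M = idealDepth I N :=
  le_antisymm (idealDepth_le_of_equiv I e) (idealDepth_le_of_equiv I e.symm)

theorem depth_congr [IsLocalRing R] {M : Type v} {N : Type w} [AddCommGroup M]
    [Module R M] [AddCommGroup N] [Module R N] (e : M ≃ₗ[R] N) :
    depth R M = depth R N :=
  idealDepth_congr _ e

theorem idealDepth_mono {I J : Ideal R} (hIJ : I ≤ J) (M : Type v) [AddCommGroup M]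
    [Module R M] (hJ : J • (⊤ : Submodule R M) ≠ ⊤) :
    idealDepth I M ≤ idealDepth J M := by
  rw [← ENat.forall_natCast_le_iff_le]
  intro n hn
  rw [le_idealDepth_iff] at hn ⊢
  rcases hn with h | ⟨rs, hlen, hreg, hmem⟩
  · have hle : I • (⊤ : Submodule R M) ≤ J • ⊤ := Submodule.smul_mono_left hIJ
    rw [h] at hle
    exact absurd (top_le_iff.mp hle) hJ
  · exact Or.inr ⟨rs, hlen, hreg, fun r hr => hIJ (hmem r hr)⟩

end Congr

section QuotList

variable {R : Type u} [CommRing R] [IsNoetherianRing R] (I : Ideal R)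

omit [IsNoetherianRing R] in
theorem smul_top_quot_ofList_ne_top {M : Type v} [AddCommGroup M] [Module R M]
    (hIM : I • (⊤ : Submodule R M) ≠ ⊤) (rs : List R) (hmem : ∀ r ∈ rs, r ∈ I) :
    I • (⊤ : Submodule R (M ⧸ Ideal.ofList rs • (⊤ : Submodule R M))) ≠ ⊤ := by
  by_contra eq
  absurd congrArg (Submodule.comap (Submodule.mkQ _)) eq
  have hle : Ideal.ofList rs • (⊤ : Submodule R M) ≤ I • ⊤ :=
    Submodule.smul_mono_left (ofList_le_of_mem I hmem)
  simpa [Submodule.comap_smul_top_of_surjective I _ (Submodule.mkQ_surjective _), hle] using hIM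

theorem idealDepth_quot_ofList_add_length (rs : List R) :
    ∀ (M : Type u) [AddCommGroup M] [Module R M] [Module.Finite R M],
      I • (⊤ : Submodule R M) ≠ ⊤ → IsWeaklyRegular M rs → (∀ r ∈ rs, r ∈ I) →
      idealDepth I (M ⧸ Ideal.ofList rs • (⊤ : Submodule R M)) + (rs.length : ℕ∞) =
        idealDepth I M := by
  induction rs with
  | nil =>
    intro M _ _ _ _ _ _
    have e : (M ⧸ Ideal.ofList ([] : List R) • (⊤ : Submodule R M)) ≃ₗ[R] M :=
      Submodule.quotEquivOfEqBot _ (by simp)
    rw [idealDepth_congr I e]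
    simp
  | cons r rs ih =>
    intro M _ _ _ hIM hreg hmem
    rw [isWeaklyRegular_cons_iff] at hreg
    have hr : r ∈ I := hmem r (List.mem_cons_self)
    have hIQ := smul_top_quotSMulTop_ne_top hr hIM
    have h1 := ih (QuotSMulTop r M) hIQ hreg.2 (fun s hs => hmem s (List.mem_cons_of_mem _ hs))
    have h2 := idealDepth_quotSMulTop_add_one I M hIM r hr hreg.1
    rw [idealDepth_congr I (Submodule.quotOfListConsSMulTopEquivQuotSMulTopInner M r rs),
      ← h2, ← h1, List.length_cons, Nat.cast_add, Nat.cast_one, add_assoc]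

end QuotList

section Localization

variable {R : Type u} [CommRing R]

/-- `(M/xM)_S ≃ M_S / (x/1) M_S` as modules over the localization. -/
noncomputable def quotSMulTopLocalizedEquiv (S : Submonoid R) (x : R) (M : Type v)
    [AddCommGroup M] [Module R M] :
    QuotSMulTop (algebraMap R (Localization S) x) (LocalizedModule S M) ≃ₗ[Localization S]
      LocalizedModule S (QuotSMulTop x M) :=
  QuotSMulTop.congr _ (IsLocalizedModule.isBaseChange S (Localization S)
      (LocalizedModule.mkLinearMap S M)).equiv.symm ≪≫ₗ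
    QuotSMulTop.algebraMapTensorEquivTensorQuotSMulTop x M (Localization S) ≪≫ₗ
    (IsLocalizedModule.isBaseChange S (Localization S)
      (LocalizedModule.mkLinearMap S (QuotSMulTop x M))).equiv

theorem isSMulRegular_localizedModule (S : Submonoid R) {x : R} {M : Type v}
    [AddCommGroup M] [Module R M] (hx : IsSMulRegular M x) :
    IsSMulRegular (LocalizedModule S M) (algebraMap R (Localization S) x) := by
  have h1 : IsWeaklyRegular M [x] := (isWeaklyRegular_singleton_iff M x).mpr hx
  have h2 := h1.of_isLocalizedModule (Localization S) S (LocalizedModule.mkLinearMap S M)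
  simpa [isWeaklyRegular_singleton_iff] using h2

variable [IsNoetherianRing R]

omit [IsNoetherianRing R] in
theorem idealDepth_le_depth_localization (I : Ideal R) (M : Type v) [AddCommGroup M] [Module R M]
    [Module.Finite R M] (p : Ideal R) [p.IsPrime] (hIp : I ≤ p) :
    idealDepth I M ≤
      depth (Localization.AtPrime p) (LocalizedModule p.primeCompl M) := by
  by_cases hnt : Subsingleton (LocalizedModule p.primeCompl M)
  · have htop : IsLocalRing.maximalIdeal (Localization.AtPrime p) •
        (⊤ : Submodule (Localization.AtPrime p) (LocalizedModule p.primeCompl M)) = ⊤ := by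
      ext z
      simp [Subsingleton.elim z 0]
    rw [depth, idealDepth_eq_top_of_smul_top_eq_top _ _ htop]
    exact le_top
  rw [not_subsingleton_iff_nontrivial] at hnt
  rw [← ENat.forall_natCast_le_iff_le]
  intro n hn
  rw [le_idealDepth_iff] at hn
  rcases hn with h | ⟨rs, hlen, hreg, hmem⟩
  · exfalso
    obtain ⟨r, hr1, hr2⟩ := Submodule.exists_sub_one_mem_and_smul_eq_zero_of_fg_of_le_smul I
      (⊤ : Submodule R M) Module.Finite.fg_top h.ge
    have hsupp : (⟨p, inferInstance⟩ : PrimeSpectrum R) ∈ Module.support R M :=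
      Module.mem_support_iff.mpr hnt
    have hann : Module.annihilator R M ≤ p := Module.annihilator_le_of_mem_support hsupp
    have hrp : r ∈ p := hann (Module.mem_annihilator.mpr fun m => hr2 m trivial)
    have h1 : (1 : R) ∈ p := by
      have := p.sub_mem hrp (hIp hr1)
      simpa using this
    exact (inferInstance : p.IsPrime).ne_top ((Ideal.eq_top_iff_one p).mpr h1)
  · have h2 := hreg.of_isLocalizedModule (Localization.AtPrime p) p.primeCompl
      (LocalizedModule.mkLinearMap p.primeCompl M)
    have h3 := length_le_idealDepth (IsLocalRing.maximalIdeal (Localization.AtPrime p))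
      (LocalizedModule p.primeCompl M) _ h2 (by
        intro r hr
        rcases List.mem_map.mp hr with ⟨a, ha, rfl⟩
        exact (IsLocalization.AtPrime.to_map_mem_maximal_iff _ p a).mpr (hIp (hmem a ha)))
    rw [List.length_map, hlen] at h3
    exact h3

theorem exists_prime_depth_localization_le (I : Ideal R) (n : ℕ) :
    ∀ (M : Type u) [AddCommGroup M] [Module R M] [Module.Finite R M],
      I • (⊤ : Submodule R M) ≠ ⊤ → idealDepth I M ≤ n →
      ∃ p : PrimeSpectrum R, I ≤ p.asIdeal ∧
        depth (Localization.AtPrime p.asIdeal) (LocalizedModule p.asIdeal.primeCompl M) ≤ n := by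
  have base : ∀ (M : Type u) [AddCommGroup M] [Module R M] [Module.Finite R M],
      idealDepth I M = 0 →
      ∃ p : PrimeSpectrum R, I ≤ p.asIdeal ∧
        depth (Localization.AtPrime p.asIdeal) (LocalizedModule p.asIdeal.primeCompl M) = 0 := by
    intro M _ _ _ h0
    rw [idealDepth_eq_zero_iff] at h0
    obtain ⟨_, q, hq, hIq⟩ := h0
    have hqp : q.IsPrime := IsAssociatedPrime.isPrime hq
    refine ⟨⟨q, hqp⟩, hIq, ?_⟩
    rw [depth_eq_zero_iff]
    exact Module.associatedPrimes.mem_associatedPrimes_atPrime_of_mem_associatedPrimes hq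
  induction n with
  | zero =>
    intro M _ _ _ _ h0
    obtain ⟨p, hp, h⟩ := base M (by simpa using h0)
    exact ⟨p, hp, by simp [h]⟩
  | succ n ih =>
    intro M _ _ _ hIM hle
    by_cases h0 : idealDepth I M = 0
    · obtain ⟨p, hp, h⟩ := base M h0
      exact ⟨p, hp, by simp [h]⟩
    · have h1 : 1 ≤ idealDepth I M := Order.one_le_iff_ne_zero.mpr h0
      rw [one_le_idealDepth_iff] at h1
      rcases h1 with h1 | ⟨x, hxI, hx⟩
      · exact absurd h1 hIM
      · have hIQ := smul_top_quotSMulTop_ne_top hxI hIM
        have h2 := idealDepth_quotSMulTop_add_one I M hIM x hxI hx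
        have h3 : idealDepth I (QuotSMulTop x M) ≤ n := by
          rw [← h2] at hle
          have : idealDepth I (QuotSMulTop x M) + 1 ≤ (n : ℕ∞) + 1 := by exact_mod_cast hle
          exact (ENat.add_le_add_iff_right ENat.one_ne_top).mp this
        obtain ⟨p, hIp, hp⟩ := ih (QuotSMulTop x M) hIQ h3
        refine ⟨p, hIp, ?_⟩
        set Rp := Localization.AtPrime p.asIdeal
        set Mp := LocalizedModule p.asIdeal.primeCompl M
        have e := quotSMulTopLocalizedEquiv p.asIdeal.primeCompl x M
        have hd : depth Rp (QuotSMulTop (algebraMap R Rp x) Mp) ≤ n := by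
          rw [depth_congr e]
          exact hp
        have hnt : Nontrivial Mp := by
          by_contra hcon
          rw [not_nontrivial_iff_subsingleton] at hcon
          have : depth Rp (QuotSMulTop (algebraMap R Rp x) Mp) = ⊤ := by
            apply idealDepth_eq_top_of_smul_top_eq_top
            ext z
            simp [Subsingleton.elim z 0]
          rw [this] at hd
          exact absurd (top_le_iff.mp hd) (ENat.natCast_ne_top n)
        have hxm : algebraMap R Rp x ∈ IsLocalRing.maximalIdeal Rp :=
          (IsLocalization.AtPrime.to_map_mem_maximal_iff _ p.asIdeal x).mpr (hIp hxI)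
        have h4 := idealDepth_quotSMulTop_add_one (IsLocalRing.maximalIdeal Rp) Mp
          (maximalIdeal_smul_top_ne_top Mp) _ hxm
          (isSMulRegular_localizedModule p.asIdeal.primeCompl hx)
        rw [depth, ← h4]
        have : idealDepth (IsLocalRing.maximalIdeal Rp) (QuotSMulTop (algebraMap R Rp x) Mp) + 1
            ≤ (n : ℕ∞) + 1 := by gcongr; exact hd
        exact_mod_cast this

theorem idealDepth_ne_top_of_smul_top_ne_top (I : Ideal R) (M : Type v) [AddCommGroup M]
    [Module R M] [Module.Finite R M] (hIM : I • (⊤ : Submodule R M) ≠ ⊤) :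
    idealDepth I M ≠ ⊤ := by
  -- pick a prime `p ⊇ I + ann M`
  have hne : I ⊔ Module.annihilator R M ≠ ⊤ := by
    intro htop
    apply hIM
    rw [eq_top_iff]
    intro m _
    have h1 : (1 : R) ∈ I ⊔ Module.annihilator R M := by rw [htop]; trivial
    obtain ⟨a, ha, b, hb, hab⟩ := Submodule.mem_sup.mp h1
    have : m = a • m := by
      conv_lhs => rw [← one_smul R m, ← hab, add_smul, Module.mem_annihilator.mp hb m, add_zero]
    rw [this]
    exact Submodule.smul_mem_smul ha trivial
  obtain ⟨p, hpmax, hle⟩ := Ideal.exists_le_maximal _ hne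
  have hp : p.IsPrime := hpmax.isPrime
  have hsupp : (⟨p, hp⟩ : PrimeSpectrum R) ∈ Module.support R M := by
    rw [Module.mem_support_iff_of_finite]
    exact le_trans le_sup_right hle
  have hnt : Nontrivial (LocalizedModule p.primeCompl M) := Module.mem_support_iff.mp hsupp
  have h1 := idealDepth_le_depth_localization I M p (le_trans le_sup_left hle)
  intro htop
  rw [htop] at h1
  exact depth_ne_top (LocalizedModule p.primeCompl M) (top_le_iff.mp h1)

theorem idealDepth_eq_iInf_depth_localization (I : Ideal R) (M : Type u) [AddCommGroup M]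
    [Module R M] [Module.Finite R M] :
    idealDepth I M = ⨅ (p : PrimeSpectrum R) (_ : I ≤ p.asIdeal),
      depth (Localization.AtPrime p.asIdeal) (LocalizedModule p.asIdeal.primeCompl M) := by
  apply le_antisymm
  · exact le_iInf₂ fun p hp => idealDepth_le_depth_localization I M p.asIdeal hp
  · by_cases hIM : I • (⊤ : Submodule R M) = ⊤
    · rw [idealDepth_eq_top_of_smul_top_eq_top I M hIM]
      exact le_top
    · have hne := idealDepth_ne_top_of_smul_top_ne_top I M hIM
      obtain ⟨n, hn⟩ := ENat.ne_top_iff_exists.mp hne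
      obtain ⟨p, hIp, hp⟩ := exists_prime_depth_localization_le I n M hIM (by rw [← hn])
      rw [← hn]
      exact le_trans (iInf₂_le p hIp) hp

end Localization

section Maximal

variable {R : Type u} [CommRing R]

theorem isWeaklyRegular_append_singleton_iff (M : Type v) [AddCommGroup M] [Module R M]
    (rs : List R) (r : R) :
    IsWeaklyRegular M (rs ++ [r]) ↔
      IsWeaklyRegular M rs ∧ IsSMulRegular (M ⧸ Ideal.ofList rs • (⊤ : Submodule R M)) r := by
  rw [isWeaklyRegular_append_iff, isWeaklyRegular_singleton_iff]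

variable [IsNoetherianRing R] (I : Ideal R) (M : Type u) [AddCommGroup M] [Module R M]
  [Module.Finite R M]

/-- A maximal weakly regular sequence in `I` has length `idealDepth I M`. -/
theorem length_eq_idealDepth_of_maximal (hIM : I • (⊤ : Submodule R M) ≠ ⊤) (rs : List R)
    (hreg : IsWeaklyRegular M rs) (hmem : ∀ r ∈ rs, r ∈ I)
    (hmax : ∀ r ∈ I, ¬ IsWeaklyRegular M (rs ++ [r])) :
    (rs.length : ℕ∞) = idealDepth I M := by
  have h0 : idealDepth I (M ⧸ Ideal.ofList rs • (⊤ : Submodule R M)) = 0 := by
    rw [idealDepth_eq_zero_iff_forall]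
    refine ⟨smul_top_quot_ofList_ne_top I hIM rs hmem, fun r hr hcon => ?_⟩
    exact hmax r hr ((isWeaklyRegular_append_singleton_iff M rs r).mpr ⟨hreg, hcon⟩)
  have := idealDepth_quot_ofList_add_length I rs M hIM hreg hmem
  rw [h0, zero_add] at this
  exact this

theorem exists_maximal_extension (hIM : I • (⊤ : Submodule R M) ≠ ⊤) (rs : List R)
    (hreg : IsWeaklyRegular M rs) (hmem : ∀ r ∈ rs, r ∈ I) :
    ∃ rs' : List R, rs <+: rs' ∧ IsWeaklyRegular M rs' ∧ (∀ r ∈ rs', r ∈ I) ∧
      ∀ r ∈ I, ¬ IsWeaklyRegular M (rs' ++ [r]) := by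
  obtain ⟨N, hN⟩ := ENat.ne_top_iff_exists.mp (idealDepth_ne_top_of_smul_top_ne_top I M hIM)
  have hbound : ∀ rs : List R, IsWeaklyRegular M rs → (∀ r ∈ rs, r ∈ I) → rs.length ≤ N := by
    intro rs h1 h2
    have := length_le_idealDepth I M rs h1 h2
    rw [← hN] at this
    exact_mod_cast this
  suffices H : ∀ k : ℕ, ∀ rs : List R, IsWeaklyRegular M rs → (∀ r ∈ rs, r ∈ I) →
      N - rs.length = k → ∃ rs' : List R, rs <+: rs' ∧ IsWeaklyRegular M rs' ∧
        (∀ r ∈ rs', r ∈ I) ∧ ∀ r ∈ I, ¬ IsWeaklyRegular M (rs' ++ [r]) from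
    H _ rs hreg hmem rfl
  intro k
  induction k with
  | zero =>
    intro rs h1 h2 hk
    refine ⟨rs, List.prefix_refl _, h1, h2, fun r hr hcon => ?_⟩
    have h3 := hbound (rs ++ [r]) hcon (by
      intro s hs
      rcases List.mem_append.mp hs with hs | hs
      · exact h2 s hs
      · rw [List.mem_singleton.mp hs]; exact hr)
    have h4 := hbound rs h1 h2
    simp at h3
    omega
  | succ k ih =>
    intro rs h1 h2 hk
    by_cases hex : ∃ r ∈ I, IsWeaklyRegular M (rs ++ [r])
    · obtain ⟨r, hr, hcon⟩ := hex
      have hmem' : ∀ s ∈ rs ++ [r], s ∈ I := by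
        intro s hs
        rcases List.mem_append.mp hs with hs | hs
        · exact h2 s hs
        · rw [List.mem_singleton.mp hs]; exact hr
      obtain ⟨rs', hpre, h3, h4, h5⟩ := ih (rs ++ [r]) hcon hmem' (by simp; omega)
      exact ⟨rs', (List.prefix_append rs [r]).trans hpre, h3, h4, h5⟩
    · push Not at hex
      exact ⟨rs, List.prefix_refl _, h1, h2, hex⟩

end Maximal

end Groth.Agent.Lib.Helper67
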