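import Mathlib

/-!
# Formal fibres of quasi-finite extensions, I: the point over the closed point

`R'` an `R`-algebra, `p'` a prime of `R'` over `p`, `Ah` a local `R`-algebra with an `R`-algebra map
`ρ : Ah → κ(p)` whose kernel is the maximal ideal `p Ah`.  We construct the prime `q` of
`Ah ⊗[R] R'` over `p'` and the closed point, and show it is generated by `p'`.
-/

set_option autoImplicit false
set_option linter.unusedSectionVars false
set_option linter.style.haveILetI false
universe u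
open TensorProduct IsLocalRing

namespace Groth.Agent.Lib.Helper67.QFFormal

variable (R R' : Type u) [CommRing R] [CommRing R'] [Algebra R R'] (p' : Ideal R') [p'.IsPrime]
  (Ah : Type u) [CommRing Ah] [IsLocalRing Ah] [Algebra R Ah]
  (ρ : Ah →ₐ[R] (p'.comap (algebraMap R R')).ResidueField)

/-- the point of `Ah ⊗[R] R'` over `p'` and the closed point of `Ah`. -/
noncomputable def ψ : Ah ⊗[R] R' →ₐ[R] p'.ResidueField :=
  Algebra.TensorProduct.lift
    ((Ideal.ResidueField.mapₐ (p'.comap (algebraMap R R')) p' (Algebra.ofId R R') rfl).comp ρ)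
    (IsScalarTower.toAlgHom R R' p'.ResidueField) (fun _ _ => Commute.all _ _)

@[simp]
lemma ψ_tmul (a : Ah) (r' : R') :
    ψ R R' p' Ah ρ (a ⊗ₜ r') =
      Ideal.ResidueField.map (p'.comap (algebraMap R R')) p' (algebraMap R R') rfl (ρ a) *
        algebraMap R' p'.ResidueField r' := by
  rw [ψ, Algebra.TensorProduct.lift_tmul]
  rfl

/-- the prime `q`. -/
noncomputable def q : Ideal (Ah ⊗[R] R') := RingHom.ker (ψ R R' p' Ah ρ).toRingHom

instance : (q R R' p' Ah ρ).IsPrime := RingHom.ker_isPrime _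

lemma mem_q (t : Ah ⊗[R] R') : t ∈ q R R' p' Ah ρ ↔ ψ R R' p' Ah ρ t = 0 := RingHom.mem_ker

lemma comap_includeRight_q :
    p' = (q R R' p' Ah ρ).comap (Algebra.TensorProduct.includeRight : R' →ₐ[R] Ah ⊗[R] R').toRingHom := by
  ext r'
  rw [Ideal.mem_comap]
  show _ ↔ (1 : Ah) ⊗ₜ[R] r' ∈ q R R' p' Ah ρ
  rw [mem_q, ψ_tmul, map_one, map_one, one_mul, Ideal.algebraMap_residueField_eq_zero]


section Props

variable {R R' p' Ah ρ}
variable (hker : RingHom.ker ρ.toRingHom = maximalIdeal Ah)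
  (hm : maximalIdeal Ah = (p'.comap (algebraMap R R')).map (algebraMap R Ah))

include hker in
lemma isUnit_algebraMap_of_notMem {s : R} (hs : s ∉ p'.comap (algebraMap R R')) :
    IsUnit (algebraMap R Ah s) := by
  by_contra hnu
  have h1 : algebraMap R Ah s ∈ maximalIdeal Ah := (mem_maximalIdeal _).mpr hnu
  rw [← hker, RingHom.mem_ker] at h1
  have h2 : ρ (algebraMap R Ah s) = 0 := h1
  rw [AlgHom.commutes, Ideal.algebraMap_residueField_eq_zero] at h2
  exact hs h2

lemma map_tmul_mem {m : Ah} (hmem : m ∈ (p'.comap (algebraMap R R')).map (algebraMap R Ah))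
    (r' : R') :
    m ⊗ₜ[R] r' ∈ p'.map
      (Algebra.TensorProduct.includeRight : R' →ₐ[R] Ah ⊗[R] R').toRingHom := by
  induction hmem using Submodule.span_induction generalizing r' with
  | mem x hx =>
    obtain ⟨π, hπ, rfl⟩ := hx
    have h1 : (algebraMap R Ah π) ⊗ₜ[R] r' =
        (Algebra.TensorProduct.includeRight : R' →ₐ[R] Ah ⊗[R] R').toRingHom
          (algebraMap R R' π * r') := by
      show _ = (1 : Ah) ⊗ₜ[R] (algebraMap R R' π * r')
      rw [Algebra.algebraMap_eq_smul_one, TensorProduct.smul_tmul, Algebra.smul_def]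
    rw [h1]
    exact Ideal.mem_map_of_mem _ (Ideal.mul_mem_right _ _ hπ)
  | zero => rw [TensorProduct.zero_tmul]; exact Ideal.zero_mem _
  | add x y _ _ hx hy => rw [TensorProduct.add_tmul]; exact Ideal.add_mem _ (hx r') (hy r')
  | smul c x _ hx =>
    have h1 : (c • x) ⊗ₜ[R] r' = (c ⊗ₜ[R] (1 : R')) * (x ⊗ₜ[R] r') := by
      rw [Algebra.TensorProduct.tmul_mul_tmul, one_mul, smul_eq_mul]
    rw [h1]
    exact Ideal.mul_mem_left _ _ (hx r')

include hker hm in
lemma exists_smul_sub_mem (t : Ah ⊗[R] R') :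
    ∃ s : R, s ∉ p'.comap (algebraMap R R') ∧ ∃ r'' : R',
      s • t - (1 : Ah) ⊗ₜ[R] r'' ∈ p'.map
        (Algebra.TensorProduct.includeRight : R' →ₐ[R] Ah ⊗[R] R').toRingHom := by
  induction t using TensorProduct.induction_on with
  | zero => exact ⟨1, fun h => (Ideal.ne_top_iff_one _).mp (Ideal.IsPrime.ne_top inferInstance) h,
      0, by simp⟩
  | tmul a r' =>
    obtain ⟨z, hz⟩ := IsLocalRing.residue_surjective (ρ a)
    obtain ⟨x, s, rfl⟩ := IsLocalization.exists_mk'_eq (p'.comap (algebraMap R R')).primeCompl z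
    have h1 : ρ a * algebraMap R (p'.comap (algebraMap R R')).ResidueField s =
        algebraMap R (p'.comap (algebraMap R R')).ResidueField x := by
      rw [← hz, IsScalarTower.algebraMap_apply R
          (Localization.AtPrime (p'.comap (algebraMap R R'))) (p'.comap (algebraMap R R')).ResidueField,
        IsScalarTower.algebraMap_apply R
          (Localization.AtPrime (p'.comap (algebraMap R R'))) (p'.comap (algebraMap R R')).ResidueField,
        IsLocalRing.ResidueField.algebraMap_eq, ← map_mul, IsLocalization.mk'_spec]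
    have h2 : (s : R) • a - algebraMap R Ah x ∈ (p'.comap (algebraMap R R')).map (algebraMap R Ah) := by
      rw [← hm, ← hker, RingHom.mem_ker]
      show ρ ((s : R) • a - algebraMap R Ah x) = 0
      rw [map_sub, map_smul, AlgHom.commutes, Algebra.smul_def, mul_comm, h1, sub_self]
    refine ⟨s, s.2, x • r', ?_⟩
    have h3 : (s : R) • (a ⊗ₜ[R] r') - (1 : Ah) ⊗ₜ[R] (x • r') =
        ((s : R) • a - algebraMap R Ah x) ⊗ₜ[R] r' := by
      rw [TensorProduct.sub_tmul, TensorProduct.smul_tmul', Algebra.algebraMap_eq_smul_one x]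
      congr 1
      rw [TensorProduct.smul_tmul]
    rw [h3]
    exact map_tmul_mem h2 r'
  | add t₁ t₂ h₁ h₂ =>
    obtain ⟨s₁, hs₁, r₁, h₁⟩ := h₁
    obtain ⟨s₂, hs₂, r₂, h₂⟩ := h₂
    refine ⟨s₁ * s₂, fun h => (Ideal.IsPrime.mem_or_mem inferInstance h).elim hs₁ hs₂,
      s₂ • r₁ + s₁ • r₂, ?_⟩
    have h3 : (s₁ * s₂) • (t₁ + t₂) - (1 : Ah) ⊗ₜ[R] (s₂ • r₁ + s₁ • r₂) =
        s₂ • (s₁ • t₁ - (1 : Ah) ⊗ₜ[R] r₁) + s₁ • (s₂ • t₂ - (1 : Ah) ⊗ₜ[R] r₂) := by
      rw [TensorProduct.tmul_add, TensorProduct.tmul_smul, TensorProduct.tmul_smul, smul_sub,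
        smul_sub, smul_add, smul_smul, smul_smul, mul_comm s₂ s₁]
      abel
    rw [h3]
    refine Ideal.add_mem _ ?_ ?_
    · rw [Algebra.smul_def]; exact Ideal.mul_mem_left _ _ h₁
    · rw [Algebra.smul_def]; exact Ideal.mul_mem_left _ _ h₂

include hker hm in
theorem q_eq_map : q R R' p' Ah ρ = p'.map
    (Algebra.TensorProduct.includeRight : R' →ₐ[R] Ah ⊗[R] R').toRingHom := by
  apply le_antisymm
  · intro t ht
    obtain ⟨s, hs, r'', hsr⟩ := exists_smul_sub_mem hker hm t
    have hJq : p'.map (Algebra.TensorProduct.includeRight : R' →ₐ[R] Ah ⊗[R] R').toRingHom ≤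
        q R R' p' Ah ρ := by
      rw [Ideal.map_le_iff_le_comap, ← comap_includeRight_q]
    have h1 : (1 : Ah) ⊗ₜ[R] r'' ∈ q R R' p' Ah ρ := by
      have h2 : s • t ∈ q R R' p' Ah ρ := by
        rw [Algebra.smul_def]; exact Ideal.mul_mem_left _ _ ht
      have h3 := Ideal.sub_mem _ h2 (hJq hsr)
      rwa [sub_sub_cancel] at h3
    have h4 : r'' ∈ p' := by
      rw [comap_includeRight_q R R' p' Ah ρ]
      exact h1
    have h5 : s • t ∈ p'.map
        (Algebra.TensorProduct.includeRight : R' →ₐ[R] Ah ⊗[R] R').toRingHom := by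
      have h6 := Ideal.add_mem _ hsr (Ideal.mem_map_of_mem
        (Algebra.TensorProduct.includeRight : R' →ₐ[R] Ah ⊗[R] R').toRingHom h4)
      have h7 : s • t - (1 : Ah) ⊗ₜ[R] r'' +
          (Algebra.TensorProduct.includeRight : R' →ₐ[R] Ah ⊗[R] R').toRingHom r'' = s • t := by
        show s • t - (1 : Ah) ⊗ₜ[R] r'' + (1 : Ah) ⊗ₜ[R] r'' = s • t
        rw [sub_add_cancel]
      rwa [h7] at h6
    have hu : IsUnit (algebraMap R (Ah ⊗[R] R') s) := by
      rw [IsScalarTower.algebraMap_apply R Ah (Ah ⊗[R] R')]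
      exact (isUnit_algebraMap_of_notMem hker hs).map _
    rw [Algebra.smul_def] at h5
    exact (Ideal.unit_mul_mem_iff_mem _ hu).mp h5
  · rw [Ideal.map_le_iff_le_comap, ← comap_includeRight_q]

include hker in
theorem comap_algebraMap_q :
    (q R R' p' Ah ρ).comap (algebraMap Ah (Ah ⊗[R] R')) = maximalIdeal Ah := by
  ext a
  rw [Ideal.mem_comap, Algebra.TensorProduct.algebraMap_apply, Algebra.algebraMap_self,
    RingHom.id_apply, mem_q, ψ_tmul, map_one, mul_one, map_eq_zero, ← hker, RingHom.mem_ker]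
  rfl

end Props

end Groth.Agent.Lib.Helper67.QFFormal
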