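import Mathlib
import Groth.Agent.Lib.Helper67.QFFormal
import Groth.Agent.Lib.Helper69.HensQFinite
import Groth.Agent.Lib.Helper56.CplLocal
import Groth.Agent.Lib.Helper56.FiniteCpl
import Groth.Agent.Lib.Helper56.SemilocalCpl
import Groth.Agent.Lib.Helper47.AdicFinite
import Groth.Agent.Lib.Helper56.HomBaseChange
import Groth.Agent.Lib.Helper56.CplLocalRegular
import Groth.Agent.Lib.Helper56.HomLoc
import Groth.Agent.Lib.Helper56.HomComp
import Groth.Agent.Lib.Helper56.FibreCM
import Groth.Agent.S7414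

set_option autoImplicit false
set_option linter.unusedSectionVars false
set_option linter.style.haveILetI false
universe u
open TensorProduct IsLocalRing

namespace Groth.Agent.Lib.Helper67.QFFormal

section D

variable (R R' : Type u) [CommRing R] [CommRing R'] [Algebra R R'] (p' : Ideal R') [p'.IsPrime]
  (Ah : Type u) [CommRing Ah] [IsLocalRing Ah] [Algebra R Ah]
  (ρ : Ah →ₐ[R] (p'.comap (algebraMap R R')).ResidueField)

/-- the local ring of `Ah ⊗[R] R'` at the prime `q`. -/
abbrev D : Type u := Localization.AtPrime (q R R' p' Ah ρ)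

variable {R R' p' Ah ρ}
variable (hker : RingHom.ker ρ.toRingHom = maximalIdeal Ah)
  (hm : maximalIdeal Ah = (p'.comap (algebraMap R R')).map (algebraMap R Ah))

include hker in
theorem finite_D [HenselianLocalRing Ah] [Algebra.FiniteType R R'] [Algebra.QuasiFiniteAt R p'] :
    Module.Finite Ah (D R R' p' Ah ρ) := by
  haveI : (q R R' p' Ah ρ).LiesOver (maximalIdeal Ah) := ⟨(comap_algebraMap_q hker).symm⟩
  haveI : Algebra.QuasiFiniteAt Ah (q R R' p' Ah ρ) :=
    Algebra.QuasiFiniteAt.baseChange p' (q R R' p' Ah ρ) (comap_includeRight_q R R' p' Ah ρ)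
  exact Groth.Agent.Lib.Helper69.HensQFinite.finite_atPrime_of_quasiFiniteAt Ah (Ah ⊗[R] R')
    (q R R' p' Ah ρ)

include hker in
theorem isAdicComplete_D [HenselianLocalRing Ah] [IsNoetherianRing Ah]
    [IsAdicComplete (maximalIdeal Ah) Ah] [Algebra.FiniteType R R'] [Algebra.QuasiFiniteAt R p'] :
    IsAdicComplete (maximalIdeal (D R R' p' Ah ρ)) (D R R' p' Ah ρ) := by
  haveI := finite_D (R := R) (R' := R') (p' := p') (Ah := Ah) (ρ := ρ) hker
  haveI h1 : IsAdicComplete ((maximalIdeal Ah).map (algebraMap Ah (D R R' p' Ah ρ)))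
      (D R R' p' Ah ρ) :=
    Groth.Agent.Lib.Helper47.AdicFinite.isAdicComplete_map_of_finite (maximalIdeal Ah) _
  obtain ⟨k, hk0, hk⟩ := Groth.Agent.Lib.Helper56.exists_pow_jacobson_le Ah (D R R' p' Ah ρ)
  have hjac : Ideal.jacobson (⊥ : Ideal (D R R' p' Ah ρ)) = maximalIdeal (D R R' p' Ah ρ) :=
    IsLocalRing.jacobson_eq_maximalIdeal ⊥ bot_ne_top
  rw [hjac] at hk
  have hle : (maximalIdeal Ah).map (algebraMap Ah (D R R' p' Ah ρ)) ≤
      maximalIdeal (D R R' p' Ah ρ) := by
    have := Groth.Agent.Lib.Helper56.map_maximalIdeal_le_jacobson Ah (D R R' p' Ah ρ)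
    rwa [hjac] at this
  exact Groth.Agent.Lib.Helper56.isAdicComplete_of_le_of_pow_le _ _ hle k hk0 hk

end D

section BD

variable (R R' : Type u) [CommRing R] [CommRing R'] [Algebra R R'] (p' : Ideal R') [p'.IsPrime]
  (Ah : Type u) [CommRing Ah] [IsLocalRing Ah] [Algebra R Ah]
  (ρ : Ah →ₐ[R] (p'.comap (algebraMap R R')).ResidueField)

/-- the local homomorphism `R'_{p'} → D`. -/
noncomputable def toD : Localization.AtPrime p' →+* D R R' p' Ah ρ :=
  Localization.localRingHom p' (q R R' p' Ah ρ)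
    (Algebra.TensorProduct.includeRight : R' →ₐ[R] Ah ⊗[R] R').toRingHom
    (comap_includeRight_q R R' p' Ah ρ)

lemma toD_algebraMap (r' : R') :
    toD R R' p' Ah ρ (algebraMap R' (Localization.AtPrime p') r') =
      algebraMap (Ah ⊗[R] R') (D R R' p' Ah ρ) ((1 : Ah) ⊗ₜ[R] r') :=
  Localization.localRingHom_to_map _ _ _ _ _

instance : IsLocalHom (toD R R' p' Ah ρ) :=
  Localization.isLocalHom_localRingHom _ _ _ _

/-- the point `D → κ(p')`. -/
noncomputable def ψD : D R R' p' Ah ρ →+* p'.ResidueField :=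
  IsLocalization.lift (M := (q R R' p' Ah ρ).primeCompl) (g := (ψ R R' p' Ah ρ).toRingHom)
    (fun y => by
      rw [isUnit_iff_ne_zero]
      intro h
      exact y.2 ((mem_q R R' p' Ah ρ y.1).mpr h))

lemma ψD_algebraMap (t : Ah ⊗[R] R') :
    ψD R R' p' Ah ρ (algebraMap (Ah ⊗[R] R') (D R R' p' Ah ρ) t) = ψ R R' p' Ah ρ t :=
  IsLocalization.lift_eq _ _

lemma ψD_eq_zero_iff (d : D R R' p' Ah ρ) :
    ψD R R' p' Ah ρ d = 0 ↔ d ∈ maximalIdeal (D R R' p' Ah ρ) := by
  obtain ⟨t, s, rfl⟩ := IsLocalization.exists_mk'_eq (q R R' p' Ah ρ).primeCompl d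
  rw [IsLocalization.AtPrime.mk'_mem_maximal_iff (D R R' p' Ah ρ) (q R R' p' Ah ρ), mem_q]
  have hs : ψ R R' p' Ah ρ s ≠ 0 := fun h => s.2 ((mem_q R R' p' Ah ρ s.1).mpr h)
  have h1 : ψD R R' p' Ah ρ (IsLocalization.mk' (D R R' p' Ah ρ) t s) * ψ R R' p' Ah ρ s =
      ψ R R' p' Ah ρ t := by
    rw [← ψD_algebraMap R R' p' Ah ρ (s : Ah ⊗[R] R'), ← map_mul, IsLocalization.mk'_spec,
      ψD_algebraMap]
  constructor
  · intro h
    rw [← h1, h, zero_mul]
  · intro h
    rw [h] at h1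
    exact (mul_eq_zero.mp h1).resolve_right hs

lemma ψD_toD (b : Localization.AtPrime p') :
    ψD R R' p' Ah ρ (toD R R' p' Ah ρ b) = algebraMap (Localization.AtPrime p') p'.ResidueField b := by
  have : (ψD R R' p' Ah ρ).comp (toD R R' p' Ah ρ) =
      algebraMap (Localization.AtPrime p') p'.ResidueField := by
    apply IsLocalization.ringHom_ext p'.primeCompl
    ext r'
    simp only [RingHom.coe_comp, Function.comp_apply]
    rw [toD_algebraMap, ψD_algebraMap, ψ_tmul, map_one, map_one, one_mul,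
      ← IsScalarTower.algebraMap_apply]
  exact congr($this b)

lemma exists_sub_toD_mem (d : D R R' p' Ah ρ) :
    ∃ b : Localization.AtPrime p', d - toD R R' p' Ah ρ b ∈ maximalIdeal (D R R' p' Ah ρ) := by
  obtain ⟨b, hb⟩ := IsLocalRing.residue_surjective (ψD R R' p' Ah ρ d)
  refine ⟨b, ?_⟩
  rw [← ψD_eq_zero_iff, map_sub, ψD_toD, sub_eq_zero]
  exact hb.symm

variable {R R' p' Ah ρ}
variable (hker : RingHom.ker ρ.toRingHom = maximalIdeal Ah)
  (hm : maximalIdeal Ah = (p'.comap (algebraMap R R')).map (algebraMap R Ah))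

include hker hm in
lemma map_toD_maximalIdeal :
    (maximalIdeal (Localization.AtPrime p')).map (toD R R' p' Ah ρ) =
      maximalIdeal (D R R' p' Ah ρ) := by
  rw [← Localization.AtPrime.map_eq_maximalIdeal (I := p'),
    ← Localization.AtPrime.map_eq_maximalIdeal (I := q R R' p' Ah ρ), Ideal.map_map,
    congrArg (Ideal.map (algebraMap (Ah ⊗[R] R') (D R R' p' Ah ρ))) (q_eq_map hker hm),
    Ideal.map_map]
  congr 1
  ext r'
  simp only [RingHom.coe_comp, Function.comp_apply]
  rw [toD_algebraMap]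
  rfl

end BD

end Groth.Agent.Lib.Helper67.QFFormal
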