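import Groth.Agent.Lib.Helper67.CMCat
import Groth.Agent.Lib.Helper73.DimFormula.CatenaryLocal
import Groth.Agent.Lib.Helper70.Catenary2
import Groth.Agent.Lib.Helper70.Catenary3
import Groth.Agent.Lib.Helper56.CMRing

/-!
# Cohen–Macaulay rings are universally catenary
-/

set_option autoImplicit false
set_option linter.style.haveILetI false
set_option linter.unusedSectionVars false

universe u

namespace Groth.Agent.Lib.Helper67.CMCat

open IsLocalRing LocCoh Groth.Agent.Lib.Helper67

theorem support_self_eq_univ (A : Type*) [CommRing A] : Module.support A A = Set.univ := by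
  rw [Module.support_of_algebra,
    (RingHom.injective_iff_ker_eq_bot (algebraMap A A)).mp Function.injective_id]
  simp

/-- A CM local ring is catenary. -/
theorem isCatenary_of_isCohenMacaulayLocalRing (A : Type u) [CommRing A]
    [hA : IsCohenMacaulayLocalRing A] : CAlg.IsCatenary A := by
  rw [Groth.Agent.Lib.Helper73.isCatenary_iff_ringKrullDim_quotient_dimFun]
  have hM : IsCohenMacaulayModule A A := hA.supportDim_eq_depth
  have hsupp := support_self_eq_univ A
  have hfinA : ringKrullDim A < ⊤ := ringKrullDim_lt_top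
  intro p q hpq
  haveI := p.2
  haveI := q.2
  have hp := ringKrullDim_quotient_add_height A hM hsupp p.asIdeal
  have hq := ringKrullDim_quotient_add_height A hM hsupp q.asIdeal
  have hfinp : p.asIdeal.height ≠ ⊤ := Ideal.height_ne_top_of_isPrime
  obtain ⟨a, ha⟩ := ENat.ne_top_iff_exists.mp hfinp
  have hfinq : q.asIdeal.height ≠ ⊤ := Ideal.height_ne_top_of_isPrime
  obtain ⟨b, hb⟩ := ENat.ne_top_iff_exists.mp hfinq
  have hlt : p.asIdeal.height < q.asIdeal.height :=
    Ideal.height_strict_mono_of_isPrime_of_isPrime hpq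
  rw [← ha, ← hb] at hlt
  have hab : a < b := by exact_mod_cast hlt
  -- dims of quotients are naturals
  have hnat : ∀ P : PrimeSpectrum A, ∃ n : ℕ, ringKrullDim (A ⧸ P.asIdeal) = n := by
    intro P
    haveI := P.2
    have h1 : ringKrullDim (A ⧸ P.asIdeal) ≤ ringKrullDim A :=
      ringKrullDim_quotient_le P.asIdeal
    have h2 : ringKrullDim (A ⧸ P.asIdeal) ≠ ⊤ := fun e => by
      rw [e] at h1; exact absurd (lt_of_le_of_lt h1 hfinA) (lt_irrefl _)
    have h3 : ringKrullDim (A ⧸ P.asIdeal) ≠ ⊥ := by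
      haveI : Nontrivial (A ⧸ P.asIdeal) := Ideal.Quotient.nontrivial_iff.mpr P.2.ne_top
      intro e
      have := ringKrullDim_nonneg_of_nontrivial (R := A ⧸ P.asIdeal)
      rw [e] at this
      exact absurd this (by simp)
    obtain ⟨m, hm⟩ := WithBot.ne_bot_iff_exists.mp h3
    have hm' : m ≠ ⊤ := by
      intro e; rw [e] at hm; exact h2 hm.symm
    obtain ⟨n, hn⟩ := ENat.ne_top_iff_exists.mp hm'
    exact ⟨n, by rw [← hm, ← hn]; rfl⟩
  obtain ⟨c, hc⟩ := hnat p
  obtain ⟨d, hd⟩ := hnat q
  obtain ⟨e, he⟩ : ∃ e : ℕ, ringKrullDim A = e := by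
    have h3 : ringKrullDim A ≠ ⊥ := by
      intro e
      have := ringKrullDim_nonneg_of_nontrivial (R := A)
      rw [e] at this
      exact absurd this (by simp)
    obtain ⟨m, hm⟩ := WithBot.ne_bot_iff_exists.mp h3
    have hm' : m ≠ ⊤ := by
      intro e; rw [e] at hm; rw [← hm] at hfinA; exact absurd hfinA (lt_irrefl _)
    obtain ⟨n, hn⟩ := ENat.ne_top_iff_exists.mp hm'
    exact ⟨n, by rw [← hm, ← hn]; rfl⟩
  rw [hc, he, ← ha] at hp
  rw [hd, he, ← hb] at hq
  have hp' : c + a = e := by
    have : ((c : ℕ) : WithBot ℕ∞) + ((a : ℕ∞) : WithBot ℕ∞) = ((e : ℕ) : WithBot ℕ∞) := hp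
    exact_mod_cast this
  have hq' : d + b = e := by
    have : ((d : ℕ) : WithBot ℕ∞) + ((b : ℕ∞) : WithBot ℕ∞) = ((e : ℕ) : WithBot ℕ∞) := hq
    exact_mod_cast this
  rw [hc, hd]
  refine ⟨by exact_mod_cast (show d < c by omega), ?_⟩
  intro hcov
  have h1 := height_eq_add_one_of_covBy A hM hsupp p q hcov
  rw [← ha, ← hb] at h1
  have h1' : b = a + 1 := by exact_mod_cast h1
  exact_mod_cast (show c = d + 1 by omega)

/-- A CM ring is catenary. -/
theorem isCatenary_of_isCohenMacaulayRing (S : Type u) [CommRing S]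
    [hS : IsCohenMacaulayRing S] : CAlg.IsCatenary S := by
  apply Groth.Agent.Lib.Helper70.isCatenary_of_forall_localization_maximal
  intro m hm
  haveI := hS.isCohenMacaulayLocalRing_localization m
  exact isCatenary_of_isCohenMacaulayLocalRing _

/-- A CM ring is universally catenary. -/
theorem isUniversallyCatenary_of_isCohenMacaulayRing (R : Type u) [CommRing R]
    [hR : IsCohenMacaulayRing R] : CAlg.IsUniversallyCatenary R := by
  refine ⟨inferInstance, ?_⟩
  intro S _ _ hfin
  obtain ⟨n, f, hf⟩ := Algebra.FiniteType.iff_quotient_mvPolynomial''.mp hfin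
  haveI : IsCohenMacaulayRing (MvPolynomial (Fin n) R) :=
    Groth.Agent.Lib.Helper56.isCohenMacaulayRing_mvPolynomial (Fin n) R hR
  exact Groth.Agent.Lib.Helper70.isCatenary_of_surjective f.toRingHom hf
    (isCatenary_of_isCohenMacaulayRing _)

end Groth.Agent.Lib.Helper67.CMCat
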