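import Groth.Agent.Lib.Helper67.RegLocus9
import Groth.Agent.Lib.Helper67.CMCat2
import Groth.Agent.Lib.Helper56.UnivReg
import Groth.Agent.Lib.Helper56.FibreCM
import Groth.Agent.Lib.Helper77.RegularCompletion
import Mathlib.RingTheory.AdicCompletion.AsTensorProduct

/-!
# Dedekind domains of characteristic zero are G-rings, hence excellent
-/

set_option autoImplicit false
set_option linter.style.haveILetI false
set_option linter.unusedSectionVars false

universe u

namespace Groth.Agent.Lib.Helper67.RegLocus

open IsLocalRing TensorProduct

/-- a module killed by `I` is `I`-adically complete -/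
theorem isAdicComplete_of_smul_top_eq_bot {R : Type*} [CommRing R] (I : Ideal R) (M : Type*)
    [AddCommGroup M] [Module R M] (hM : I • (⊤ : Submodule R M) = ⊥) : IsAdicComplete I M := by
  have h1 : (I ^ 1 • ⊤ : Submodule R M) = ⊥ := by rw [pow_one, hM]
  refine { toIsHausdorff := ⟨fun x hx => ?_⟩, toIsPrecomplete := ⟨fun f hf => ?_⟩ }
  · have := hx 1
    rw [h1, SModEq.sub_mem, sub_zero, Submodule.mem_bot] at this
    exact this
  · refine ⟨f 1, fun n => ?_⟩
    rcases Nat.eq_zero_or_pos n with rfl | hn
    · rw [pow_zero, Ideal.one_eq_top, Submodule.top_smul]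
      exact SModEq.top
    · have h2 := hf (m := 1) (n := n) hn
      rw [h1, SModEq.sub_mem, Submodule.mem_bot, sub_eq_zero] at h2
      rw [h2]

/-- for a finite module killed by `I`, `M → Â ⊗ M` is bijective -/
theorem bijective_one_tmul (R : Type u) [CommRing R] [IsNoetherianRing R] (I : Ideal R)
    (M : Type u) [AddCommGroup M] [Module R M] [Module.Finite R M]
    (hM : I • (⊤ : Submodule R M) = ⊥) :
    Function.Bijective (fun x : M => (1 : AdicCompletion I R) ⊗ₜ[R] x) := by
  haveI : IsAdicComplete I M := isAdicComplete_of_smul_top_eq_bot I M hM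
  have h1 := AdicCompletion.ofTensorProduct_bijective_of_finite_of_isNoetherian I M
  have h2 : Function.Bijective (AdicCompletion.of I M) := AdicCompletion.of_bijective I M
  have h3 : (AdicCompletion.ofTensorProduct I M) ∘
      (fun x : M => (1 : AdicCompletion I R) ⊗ₜ[R] x) = AdicCompletion.of I M := by
    funext x
    simp [AdicCompletion.ofTensorProduct_tmul]
  exact (Function.Bijective.of_comp_iff' h1 _).mp (h3 ▸ h2)

/-- The closed fibre of the completion map of a Noetherian local ring is geometrically regular
(it is the residue field). -/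
theorem isGeometricallyRegular_closedFibre (O : Type u) [CommRing O] [IsLocalRing O]
    [IsNoetherianRing O] :
    CAlg.IsGeometricallyRegular (maximalIdeal O).ResidueField
      ((maximalIdeal O).Fiber (AdicCompletion (maximalIdeal O) O)) := by
  intro k' _ _ hfin
  haveI := hfin
  letI : Algebra O k' :=
    ((algebraMap (maximalIdeal O).ResidueField k').comp
      (algebraMap O (maximalIdeal O).ResidueField)).toAlgebra
  haveI : IsScalarTower O (maximalIdeal O).ResidueField k' :=
    IsScalarTower.of_algebraMap_eq (fun _ => rfl)
  haveI : Module.Finite O k' := Module.Finite.trans (maximalIdeal O).ResidueField k'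
  have hM : (maximalIdeal O) • (⊤ : Submodule O k') = ⊥ := by
    rw [eq_bot_iff]
    refine Submodule.smul_le.mpr (fun r hr x _ => ?_)
    rw [Submodule.mem_bot, Algebra.smul_def, IsScalarTower.algebraMap_apply O
      (maximalIdeal O).ResidueField k', Ideal.algebraMap_residueField_eq_zero.mpr hr, map_zero,
      zero_mul]
  have hbij := bijective_one_tmul O (maximalIdeal O) k' hM
  let f : k' →ₐ[O] AdicCompletion (maximalIdeal O) O ⊗[O] k' := Algebra.TensorProduct.includeRight
  have hf : Function.Bijective f := hbij
  let e : k' ≃+* AdicCompletion (maximalIdeal O) O ⊗[O] k' := RingEquiv.ofBijective f hf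
  have h1 : IsRegularRing (AdicCompletion (maximalIdeal O) O ⊗[O] k') :=
    IsRegularRing.of_ringEquiv (R := k') e
  have h2 : IsRegularRing (k' ⊗[O] AdicCompletion (maximalIdeal O) O) :=
    IsRegularRing.of_ringEquiv (R := AdicCompletion (maximalIdeal O) O ⊗[O] k')
      (Algebra.TensorProduct.comm O _ _).toRingEquiv
  exact IsRegularRing.of_ringEquiv (R := k' ⊗[O] AdicCompletion (maximalIdeal O) O)
    (Algebra.TensorProduct.cancelBaseChange O (maximalIdeal O).ResidueField
      (maximalIdeal O).ResidueField k' (AdicCompletion (maximalIdeal O) O)).symm.toRingEquiv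

/-- In characteristic zero, a regular algebra over a field is geometrically regular. -/
theorem isGeometricallyRegular_of_charZero (k S : Type u) [Field k] [CharZero k] [CommRing S]
    [Algebra k S] (hS : IsRegularRing S) : CAlg.IsGeometricallyRegular k S := by
  intro k' _ _ hfin
  haveI := hfin
  haveI : Algebra.IsSeparable k k' := Algebra.IsAlgebraic.isSeparable_of_perfectField
  exact Groth.Agent.Lib.Helper56.isRegularRing_tensor_of_univRegular k k' S
    (Groth.Agent.Lib.Helper56.univRegular_of_finite_isSeparable k k') hS

attribute [local instance] Algebra.TensorProduct.rightAlgebra in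
/-- The generic fibre of an algebra over a domain is a localization. -/
theorem isLocalization_generic_fiber (B C : Type u) [CommRing B] [IsDomain B] [CommRing C]
    [Algebra B C] :
    IsLocalization (Algebra.algebraMapSubmonoid C (nonZeroDivisors B))
      ((⊥ : Ideal B).ResidueField ⊗[B] C) :=
  (Algebra.isLocalization_iff_isPushout (nonZeroDivisors B) (⊥ : Ideal B).ResidueField).mpr
    inferInstance

/-- A regular Noetherian local domain of characteristic zero with only the two obvious primes
has a regular completion map. -/
theorem isRegularHom_cpl_of_dim_le_one (O : Type u) [CommRing O] [IsDomain O] [IsLocalRing O]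
    [IsNoetherianRing O] [CharZero O] (hreg : IsRegularRing O)
    (hdim : ∀ (P : Ideal O) [P.IsPrime], P = ⊥ ∨ P = maximalIdeal O) :
    CAlg.IsRegularHom O (AdicCompletion (maximalIdeal O) O) := by
  have hN : IsNoetherianRing (AdicCompletion (maximalIdeal O) O) :=
    Groth.Agent.S0543.result O (maximalIdeal O)
  refine ⟨inferInstance, fun P _ => ⟨Groth.Agent.Lib.Helper56.isNoetherianRing_fiber O _ P, ?_⟩⟩
  rcases hdim P with hP | hP
  · subst hP
    haveI : CharZero (⊥ : Ideal O).ResidueField :=
      charZero_of_injective_algebraMap (IsFractionRing.injective O (⊥ : Ideal O).ResidueField)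
    apply isGeometricallyRegular_of_charZero
    letI : Algebra (AdicCompletion (maximalIdeal O) O)
        ((⊥ : Ideal O).ResidueField ⊗[O] AdicCompletion (maximalIdeal O) O) :=
      Algebra.TensorProduct.rightAlgebra
    haveI := isLocalization_generic_fiber O (AdicCompletion (maximalIdeal O) O)
    exact Groth.Agent.Lib.Helper56.isRegularRing_of_isLocalization'
      (Algebra.algebraMapSubmonoid (AdicCompletion (maximalIdeal O) O) (nonZeroDivisors O)) _
      (Groth.Agent.Lib.Helper77.RegularCompletion.isRegularRing_adicCompletion O (maximalIdeal O))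
  · subst hP
    exact isGeometricallyRegular_closedFibre O

/-- A Dedekind domain of characteristic zero is a G-ring. -/
theorem isGRing_of_dedekind_charZero (A : Type u) [CommRing A] [IsDedekindDomain A] [CharZero A] :
    CAlg.IsGRing A := by
  refine ⟨inferInstance, fun p _ => ?_⟩
  haveI : IsDedekindDomain (Localization.AtPrime p) :=
    IsLocalization.isDedekindDomain A p.primeCompl_le_nonZeroDivisors _
  haveI : CharZero (Localization.AtPrime p) :=
    charZero_of_injective_algebraMap
      (IsLocalization.injective (Localization.AtPrime p) p.primeCompl_le_nonZeroDivisors)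
  apply isRegularHom_cpl_of_dim_le_one _ inferInstance
  intro P _
  by_cases hP : P = ⊥
  · exact Or.inl hP
  · exact Or.inr (IsLocalRing.eq_maximalIdeal (Ideal.IsPrime.isMaximal inferInstance hP))

/-- A Dedekind domain of characteristic zero is excellent. -/
theorem isExcellent_of_dedekind_charZero (A : Type u) [CommRing A] [IsDedekindDomain A]
    [CharZero A] : EGA4.IsExcellent A := by
  haveI : LocCoh.IsCohenMacaulayRing A :=
    Groth.Agent.Lib.Helper56.isCohenMacaulayRing_of_isRegularRing A
  exact ⟨inferInstance,
    Groth.Agent.Lib.Helper67.CMCat.isUniversallyCatenary_of_isCohenMacaulayRing A,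
    isGRing_of_dedekind_charZero A, isJ2_of_dedekind_charZero A⟩

end Groth.Agent.Lib.Helper67.RegLocus
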