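import Groth.Agent.Lib.Helper67.Spread2

set_option autoImplicit false
set_option linter.style.haveILetI false
set_option linter.unusedSectionVars false

universe u v w

namespace Groth.Agent.Lib.Helper67

open RingTheory.Sequence LocCoh
open scoped Pointwise

section IterLoc2

variable {A : Type u} [CommRing A]

/-- The composite `M → S⁻¹M → (S⁻¹M)_P` is a localization of `M` at `P ∩ A`. -/
theorem isLocalizedModule_comp_atPrime (S : Submonoid A) (P : Ideal (Localization S)) [P.IsPrime]
    (M : Type v) [AddCommGroup M] [Module A M] :
    IsLocalizedModule (P.comap (algebraMap A (Localization S))).primeCompl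
      (((LocalizedModule.mkLinearMap P.primeCompl (LocalizedModule S M)).restrictScalars A) ∘ₗ
        LocalizedModule.mkLinearMap S M) := by
  have h1 : IsBaseChange (Localization S) (LocalizedModule.mkLinearMap S M) :=
    IsLocalizedModule.isBaseChange S (Localization S) _
  have h2 : IsBaseChange (Localization.AtPrime P)
      (LocalizedModule.mkLinearMap P.primeCompl (LocalizedModule S M)) :=
    IsLocalizedModule.isBaseChange P.primeCompl (Localization.AtPrime P) _
  have h3 := IsBaseChange.comp h1 h2
  exact (isLocalizedModule_iff_isBaseChange
    (P.comap (algebraMap A (Localization S))).primeCompl (Localization.AtPrime P) _).mpr h3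


/-- support dimension is unchanged along a bijective ring map. -/
theorem supportDim_eq_of_bijective {B : Type v} {B' : Type w} [CommRing B] [CommRing B']
    [Algebra B B'] (hb : Function.Bijective (algebraMap B B')) (N' : Type*) [AddCommGroup N']
    [Module B N'] [Module B' N'] [IsScalarTower B B' N'] [Module.Finite B N'] :
    Module.supportDim B N' = Module.supportDim B' N' := by
  haveI : Module.Finite B' N' := Module.Finite.of_restrictScalars_finite B B' N'
  rw [Module.supportDim_eq_ringKrullDim_quotient_annihilator,
    Module.supportDim_eq_ringKrullDim_quotient_annihilator]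
  let σ : B ≃+* B' := RingEquiv.ofBijective (algebraMap B B') hb
  refine ringKrullDim_eq_of_ringEquiv (Ideal.quotientEquiv _ _ σ ?_)
  ext b'
  obtain ⟨b, rfl⟩ := hb.2 b'
  have h1 : algebraMap B B' b ∈ Ideal.map (σ : B →+* B') (Module.annihilator B N') ↔
      b ∈ Module.annihilator B N' := by
    constructor
    · intro h
      have hsurj : Function.Surjective ((σ : B →+* B')) := σ.surjective
      rw [Ideal.mem_map_iff_of_surjective (σ : B →+* B') hsurj] at h
      obtain ⟨c, hc, hcb⟩ := h
      have : c = b := hb.1 hcb
      rwa [this] at hc
    · intro h
      exact Ideal.mem_map_of_mem _ h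
  rw [h1, Module.mem_annihilator, Module.mem_annihilator]
  simp only [algebraMap_smul]


/-- depth and support dimension do not depend on the chosen model of the localization at `p`. -/
theorem depth_supportDim_eq_of_isLocalizedModule (p : Ideal A) [p.IsPrime]
    (B B' : Type u) [CommRing B] [CommRing B'] [Algebra A B] [Algebra A B']
    [IsLocalization.AtPrime B p] [IsLocalization.AtPrime B' p] [IsLocalRing B] [IsLocalRing B']
    [IsNoetherianRing B] [IsNoetherianRing B']
    {M : Type v} [AddCommGroup M] [Module A M]
    {N N' : Type u} [AddCommGroup N] [Module A N] [Module B N] [IsScalarTower A B N]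
    [AddCommGroup N'] [Module A N'] [Module B' N'] [IsScalarTower A B' N']
    (f : M →ₗ[A] N) (f' : M →ₗ[A] N') [IsLocalizedModule p.primeCompl f]
    [IsLocalizedModule p.primeCompl f'] [Module.Finite B N] :
    depth B N = depth B' N' ∧ Module.supportDim B N = Module.supportDim B' N' := by
  let σ : B ≃ₐ[A] B' := IsLocalization.algEquiv p.primeCompl B B'
  letI : Algebra B B' := (σ : B →+* B').toAlgebra
  have halg : ∀ b : B, algebraMap B B' b = σ b := fun _ => rfl
  haveI : IsScalarTower A B B' := IsScalarTower.of_algebraMap_eq (fun a => by
    rw [halg]; exact (σ.commutes a).symm)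
  letI : Module B N' := Module.compHom N' (algebraMap B B')
  haveI : IsScalarTower B B' N' := IsScalarTower.of_algebraMap_smul (fun r x => rfl)
  haveI : IsScalarTower A B N' := IsScalarTower.of_algebraMap_smul (fun a x => by
    show algebraMap B B' (algebraMap A B a) • x = a • x
    rw [← IsScalarTower.algebraMap_apply, algebraMap_smul])
  let τ : N ≃ₗ[A] N' := IsLocalizedModule.linearEquiv p.primeCompl f f'
  let τB : N ≃ₗ[B] N' := LinearEquiv.extendScalarsOfIsLocalization p.primeCompl B τ
  haveI : Module.Finite B N' := Module.Finite.equiv τB
  have hbij : Function.Bijective (algebraMap B B') := σ.bijective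
  haveI : IsLocalHom (algebraMap B B') := by
    constructor
    intro b hb
    have : IsUnit (σ.symm (σ b)) := hb.map σ.symm
    simpa using this
  constructor
  · rw [depth_congr τB]
    exact depth_eq_depth_of_isLocalHom_of_finite (A := B) (B := B') N'
  · rw [Module.supportDim_eq_of_equiv τB]
    exact supportDim_eq_of_bijective hbij N'


/-- Iterated localization: `(S⁻¹M)_P` over `(S⁻¹A)_P` has the same depth and dimension as
`M_p` over `A_p`, `p = P ∩ A`. -/
theorem depth_supportDim_localization_localization [IsNoetherianRing A] (S : Submonoid A)
    (P : Ideal (Localization S)) [P.IsPrime] (M : Type u) [AddCommGroup M] [Module A M]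
    [Module.Finite A M] :
    depth (Localization.AtPrime P) (LocalizedModule P.primeCompl (LocalizedModule S M)) =
        depth (Localization.AtPrime (P.comap (algebraMap A (Localization S))))
          (LocalizedModule (P.comap (algebraMap A (Localization S))).primeCompl M) ∧
      Module.supportDim (Localization.AtPrime P)
          (LocalizedModule P.primeCompl (LocalizedModule S M)) =
        Module.supportDim (Localization.AtPrime (P.comap (algebraMap A (Localization S))))
          (LocalizedModule (P.comap (algebraMap A (Localization S))).primeCompl M) := by
  haveI := isLocalizedModule_comp_atPrime S P M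
  have h := depth_supportDim_eq_of_isLocalizedModule (P.comap (algebraMap A (Localization S)))
    (Localization.AtPrime (P.comap (algebraMap A (Localization S)))) (Localization.AtPrime P)
    (LocalizedModule.mkLinearMap (P.comap (algebraMap A (Localization S))).primeCompl M)
    (((LocalizedModule.mkLinearMap P.primeCompl (LocalizedModule S M)).restrictScalars A) ∘ₗ
        LocalizedModule.mkLinearMap S M)
  exact ⟨h.1.symm, h.2.symm⟩


/-- Serre's condition `(S_k)` localizes. -/
theorem hasSk_localizedModule [IsNoetherianRing A] (k : ℕ) (S : Submonoid A)
    (M : Type u) [AddCommGroup M] [Module A M] [Module.Finite A M] (h : HasSk k A M) :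
    HasSk k (Localization S) (LocalizedModule S M) := by
  intro P _
  obtain ⟨h1, h2⟩ := depth_supportDim_localization_localization S P M
  rw [h1, h2]
  exact h (P.comap (algebraMap A (Localization S)))

end IterLoc2

end Groth.Agent.Lib.Helper67
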