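import Groth.Agent.Lib.Helper67.CM
import Groth.Agent.Lib.Helper67.IterLoc2
import Mathlib.RingTheory.Ideal.Height
import Mathlib.RingTheory.KrullDimension.NonZeroDivisors

/-!
# Cohen–Macaulay ⇒ dimension formula `dim R/p + ht p = dim R` and `ht q = ht p + 1` for `p ⋖ q`

For a noetherian local ring `R` with a finite CM module `M` of full support.
-/

set_option autoImplicit false
set_option linter.style.haveILetI false
set_option linter.unusedSectionVars false

universe u

namespace Groth.Agent.Lib.Helper67.CMCat

open IsLocalRing LocCoh Groth.Agent.Lib.Helper67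

section A

variable {R : Type u} [CommRing R] [IsLocalRing R] [IsNoetherianRing R]
  (M : Type u) [AddCommGroup M] [Module R M] [Module.Finite R M]

theorem supportDim_eq_ringKrullDim_of_support_eq_univ {R : Type*} [CommRing R]
    (M : Type*) [AddCommGroup M] [Module R M] (hsupp : Module.support R M = Set.univ) :
    Module.supportDim R M = ringKrullDim R := by
  rw [← Module.supportDim_self_eq_ringKrullDim]
  apply supportDim_eq_of_support_eq
  rw [hsupp, Module.support_of_algebra,
    (RingHom.injective_iff_ker_eq_bot (algebraMap R R)).mp Function.injective_id]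
  simp

/-- localizations of a module of full support have full support -/
theorem support_localizedModule_eq_univ {R : Type u} [CommRing R] [IsNoetherianRing R]
    (M : Type u) [AddCommGroup M] [Module R M] [Module.Finite R M]
    (hsupp : Module.support R M = Set.univ) (q : Ideal R) [q.IsPrime] :
    Module.support (Localization.AtPrime q) (LocalizedModule q.primeCompl M) = Set.univ := by
  rw [Set.eq_univ_iff_forall]
  intro P
  rw [Module.mem_support_iff]
  obtain ⟨-, h2⟩ := depth_supportDim_localization_localization q.primeCompl P.asIdeal M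
  have hmem : (⟨P.asIdeal.comap (algebraMap R (Localization q.primeCompl)), inferInstance⟩ :
      PrimeSpectrum R) ∈ Module.support R M := by rw [hsupp]; trivial
  rw [Module.mem_support_iff] at hmem
  have h3 : Module.supportDim
      (Localization.AtPrime (P.asIdeal.comap (algebraMap R (Localization q.primeCompl))))
      (LocalizedModule (P.asIdeal.comap (algebraMap R (Localization q.primeCompl))).primeCompl M)
      ≠ ⊥ := (Module.supportDim_ne_bot_iff_nontrivial _ _).mpr hmem
  rw [← h2] at h3
  exact (Module.supportDim_ne_bot_iff_nontrivial _ _).mp h3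

/-- `dim R/p + ht p = dim R` when `R` carries a finite CM module of full support. -/
theorem ringKrullDim_quotient_add_height (hM : IsCohenMacaulayModule R M)
    (hsupp : Module.support R M = Set.univ) (p : Ideal R) [hp : p.IsPrime] :
    ringKrullDim (R ⧸ p) + (p.height : WithBot ℕ∞) = ringKrullDim R := by
  have h1 := supportDim_eq_add_idealDepth_of_CM M hM p hp.ne_top
  have hmem : (⟨p, hp⟩ : PrimeSpectrum R) ∈ Module.support R M := by rw [hsupp]; trivial
  have h2 := supportDim_localization_eq_idealDepth_of_CM M hM ⟨p, hp⟩ hmem
  rw [← h2, supportDim_eq_ringKrullDim_of_support_eq_univ M hsupp] at h1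
  have h3 : Module.supportDim (Localization.AtPrime p) (LocalizedModule p.primeCompl M) =
      (p.height : WithBot ℕ∞) := by
    rw [supportDim_eq_ringKrullDim_of_support_eq_univ _
      (support_localizedModule_eq_univ M hsupp p)]
    exact IsLocalization.AtPrime.ringKrullDim_eq_height p _
  have h4 : Module.supportDim R (M ⧸ p • (⊤ : Submodule R M)) = ringKrullDim (R ⧸ p) := by
    rw [← Module.supportDim_quotient_eq_ringKrullDim]
    apply supportDim_eq_of_support_eq
    rw [Module.support_quotient, hsupp, Set.univ_inter, Module.support_eq_zeroLocus,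
      Ideal.annihilator_quotient]
  rw [h1, h4]
  congr 1
  exact h3.symm

end A

section B

variable {R : Type u} [CommRing R] [IsLocalRing R] [IsNoetherianRing R]
  (M : Type u) [AddCommGroup M] [Module R M] [Module.Finite R M]

theorem krullDim_Icc_le_one_of_covBy {α : Type*} [PartialOrder α] {a b : α} (h : a ⋖ b) :
    Order.krullDim (Set.Icc a b) ≤ 1 := by
  rw [Order.krullDim_le_one_iff]
  intro z
  by_cases hz : z.1 = a
  · left
    intro w _
    change z.1 ≤ w.1
    rw [hz]; exact w.2.1
  · right
    have haz : a < z.1 := lt_of_le_of_ne z.2.1 (Ne.symm hz)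
    have hzb : z.1 = b := by
      by_contra hne
      exact h.2 haz (lt_of_le_of_ne z.2.2 hne)
    intro w _
    change w.1 ≤ z.1
    rw [hzb]; exact w.2.2

/-- In a local ring, if `p ⋖ m` in the spectrum then `dim R/p = 1`. -/
theorem ringKrullDim_quotient_eq_one_of_covBy {A : Type*} [CommRing A] [IsLocalRing A]
    (p : PrimeSpectrum A) (h : p ⋖ IsLocalRing.closedPoint A) :
    ringKrullDim (A ⧸ p.asIdeal) = 1 := by
  have hset : PrimeSpectrum.zeroLocus (p.asIdeal : Set A) =
      Set.Icc p (IsLocalRing.closedPoint A) := by
    ext P
    simp only [PrimeSpectrum.mem_zeroLocus, SetLike.coe_subset_coe, Set.mem_Icc]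
    constructor
    · intro hP
      exact ⟨hP, IsLocalRing.le_maximalIdeal P.2.ne_top⟩
    · intro hP
      exact hP.1
  rw [ringKrullDim_quotient, hset]
  apply le_antisymm (krullDim_Icc_le_one_of_covBy h)
  let s : LTSeries (Set.Icc p (IsLocalRing.closedPoint A)) :=
    (RelSeries.singleton _ (⟨p, le_refl _, h.le⟩ : Set.Icc p (IsLocalRing.closedPoint A))).snoc
      (⟨_, h.le, le_refl _⟩ : Set.Icc p (IsLocalRing.closedPoint A))
      (show (⟨p, le_refl _, h.le⟩ : Set.Icc p (IsLocalRing.closedPoint A)) <
        ⟨_, h.le, le_refl _⟩ from h.lt)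
  have hs : s.length = 1 := rfl
  have := Order.LTSeries.length_le_krullDim s
  rw [hs] at this
  exact_mod_cast this

/-- `ht q = ht p + 1` for `p ⋖ q` when `R` carries a finite CM module of full support. -/
theorem height_eq_add_one_of_covBy (hM : IsCohenMacaulayModule R M)
    (hsupp : Module.support R M = Set.univ) (p q : PrimeSpectrum R) (h : p ⋖ q) :
    q.asIdeal.height = p.asIdeal.height + 1 := by
  haveI := q.2
  haveI := p.2
  set R' := Localization.AtPrime q.asIdeal with hR'
  haveI : IsNoetherianRing R' := IsLocalization.isNoetherianRing q.asIdeal.primeCompl _ inferInstance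
  have hmemq : q ∈ Module.support R M := by rw [hsupp]; trivial
  have hM' := isCohenMacaulayModule_localization M hM q hmemq
  have hsupp' := support_localizedModule_eq_univ M hsupp q.asIdeal
  have hdisj : Disjoint (q.asIdeal.primeCompl : Set R) (p.asIdeal : Set R) := by
    rw [Set.disjoint_left]
    intro x hx hxp
    exact hx (h.le hxp)
  set p' := p.asIdeal.map (algebraMap R R') with hp'
  haveI hp'prime : p'.IsPrime :=
    IsLocalization.isPrime_of_isPrime_disjoint q.asIdeal.primeCompl R' p.asIdeal p.2 hdisj
  have hcomap : p'.comap (algebraMap R R') = p.asIdeal :=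
    IsLocalization.comap_map_of_isPrime_disjoint q.asIdeal.primeCompl R' p.2 hdisj
  have hformula := ringKrullDim_quotient_add_height (R := R')
    (LocalizedModule q.asIdeal.primeCompl M) hM' hsupp' p'
  have hht : p'.height = p.asIdeal.height :=
    IsLocalization.height_map_of_disjoint q.asIdeal.primeCompl p.asIdeal hdisj
  have hdim : ringKrullDim R' = q.asIdeal.height :=
    IsLocalization.AtPrime.ringKrullDim_eq_height q.asIdeal _
  -- `p' ⋖ closedPoint`
  have hcov : (⟨p', hp'prime⟩ : PrimeSpectrum R') ⋖ IsLocalRing.closedPoint R' := by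
    have hmax : (IsLocalRing.closedPoint R').asIdeal.comap (algebraMap R R') = q.asIdeal :=
      IsLocalization.AtPrime.comap_maximalIdeal R' q.asIdeal
    constructor
    · refine lt_of_le_of_ne (IsLocalRing.le_maximalIdeal hp'prime.ne_top) ?_
      intro heq
      have h1 : p'.comap (algebraMap R R') =
          (IsLocalRing.closedPoint R').asIdeal.comap (algebraMap R R') := by
        rw [← heq]
      rw [hcomap, hmax] at h1
      exact h.lt.ne (PrimeSpectrum.ext h1)
    · intro z hpz hzm
      have hz1 : p ≤ (⟨z.asIdeal.comap (algebraMap R R'), inferInstance⟩ : PrimeSpectrum R) := by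
        show p.asIdeal ≤ z.asIdeal.comap (algebraMap R R')
        exact hcomap.ge.trans (Ideal.comap_mono hpz.le)
      have hz2 : (⟨z.asIdeal.comap (algebraMap R R'), inferInstance⟩ : PrimeSpectrum R) ≤ q := by
        show z.asIdeal.comap (algebraMap R R') ≤ q.asIdeal
        exact (Ideal.comap_mono hzm.le).trans hmax.le
      have hzmap : (z.asIdeal.comap (algebraMap R R')).map (algebraMap R R') = z.asIdeal :=
        IsLocalization.map_comap q.asIdeal.primeCompl R' z.asIdeal
      rcases eq_or_lt_of_le hz1 with heq | hlt
      · apply hpz.ne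
        apply PrimeSpectrum.ext
        show p' = z.asIdeal
        have hI : p.asIdeal = z.asIdeal.comap (algebraMap R R') :=
          congrArg PrimeSpectrum.asIdeal heq
        rw [← hzmap, ← hI]
      · rcases eq_or_lt_of_le hz2 with heq | hlt2
        · apply hzm.ne
          apply PrimeSpectrum.ext
          have hmmap : ((IsLocalRing.closedPoint R').asIdeal.comap (algebraMap R R')).map
              (algebraMap R R') = (IsLocalRing.closedPoint R').asIdeal :=
            IsLocalization.map_comap q.asIdeal.primeCompl R' _
          have hI2 : z.asIdeal.comap (algebraMap R R') = q.asIdeal :=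
            congrArg PrimeSpectrum.asIdeal heq
          show z.asIdeal = (IsLocalRing.closedPoint R').asIdeal
          rw [← hzmap, ← hmmap, hmax, hI2]
        · exact h.2 hlt hlt2
  have hone := ringKrullDim_quotient_eq_one_of_covBy (⟨p', hp'prime⟩ : PrimeSpectrum R') hcov
  simp only at hone
  rw [hone, hht, hdim] at hformula
  have hfin : p.asIdeal.height ≠ ⊤ := Ideal.height_ne_top_of_isPrime
  obtain ⟨a, ha⟩ := ENat.ne_top_iff_exists.mp hfin
  have hfinq : q.asIdeal.height ≠ ⊤ := Ideal.height_ne_top_of_isPrime
  obtain ⟨b, hb⟩ := ENat.ne_top_iff_exists.mp hfinq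
  rw [← ha, ← hb] at hformula ⊢
  have : (1 : WithBot ℕ∞) + ((a : ℕ∞) : WithBot ℕ∞) = ((b : ℕ∞) : WithBot ℕ∞) := hformula
  have h2 : 1 + a = b := by exact_mod_cast this
  rw [← h2]
  push_cast
  ring

end B

end Groth.Agent.Lib.Helper67.CMCat
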