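import Groth.Agent.Lib.Helper73.DimFormula.CatenaryLocal
import Groth.Agent.Lib.Helper73.DimFormula.OrderCodim
import Groth.Prelude.Def_EGA4b
import Groth.Agent.Lib.Helper67.CMCat
import Mathlib.RingTheory.Ideal.GoingDown
import Mathlib.RingTheory.Ideal.KrullsHeightTheorem

/-!
# Equidimensional catenary local rings: the dimension formula and descent along flat local maps
-/

set_option autoImplicit false
set_option linter.style.haveILetI false
set_option linter.unusedSectionVars false

universe u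

namespace Groth.Agent.Lib.Helper67.EquiCat

open IsLocalRing Groth.Agent.Lib.Helper73 Groth.Agent.Lib.Helper70

section L1

/-- `ht P + dim R/P ≤ dim R` in any ring. -/
theorem height_add_ringKrullDim_quotient_le {R : Type*} [CommRing R] (P : Ideal R) [hP : P.IsPrime] :
    (P.height : WithBot ℕ∞) + ringKrullDim (R ⧸ P) ≤ ringKrullDim R := by
  have h1 : ringKrullDim (R ⧸ P) = (Order.coheight (⟨P, hP⟩ : PrimeSpectrum R) : WithBot ℕ∞) := by
    rw [ringKrullDim_quotient, Order.coheight_eq_krullDim_Ici]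
    congr 1
  have h2 := PrimeSpectrum.height_eq_orderHeight (⟨P, hP⟩ : PrimeSpectrum R)
  simp only at h2
  rw [h1, h2]
  haveI : Nonempty (PrimeSpectrum R) := ⟨⟨P, hP⟩⟩
  rw [ringKrullDim, Order.krullDim_eq_iSup_height_add_coheight_of_nonempty]
  have := le_iSup (fun a : PrimeSpectrum R => Order.height a + Order.coheight a) ⟨P, hP⟩
  exact_mod_cast this

variable {R : Type u} [CommRing R] [IsLocalRing R] [IsNoetherianRing R]

/-- The dimension formula `ht P + dim R/P = dim R` in an equidimensional catenary local ring. -/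
theorem height_add_ringKrullDim_quotient (heq : EGA4.IsEquidim R) (hcat : CAlg.IsCatenary R)
    (P : Ideal R) [hP : P.IsPrime] :
    (P.height : WithBot ℕ∞) + ringKrullDim (R ⧸ P) = ringKrullDim R := by
  apply le_antisymm (height_add_ringKrullDim_quotient_le P)
  obtain ⟨P0, hP0, hP0P⟩ := Ideal.exists_minimalPrimes_le (I := (⊥ : Ideal R)) (J := P) bot_le
  have hP0' : P0 ∈ minimalPrimes R := hP0
  haveI hP0p : P0.IsPrime := hP0.1.1
  have hdim0 := heq P0 hP0'
  let p0 : PrimeSpectrum R := ⟨P0, hP0p⟩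
  let p : PrimeSpectrum R := ⟨P, hP⟩
  have hle : p0 ≤ p := hP0P
  have hpm : p ≤ closedPoint R := IsLocalRing.le_maximalIdeal hP.ne_top
  have hadd := PosetCat.krullDim_Icc_add ((isCatenary_iff_posetCat R).mp hcat) hle hpm
  rw [← ringKrullDim_quotient_eq_krullDim_Icc R p0, ← ringKrullDim_quotient_eq_krullDim_Icc R p]
    at hadd
  have h3 : Order.krullDim (Set.Icc p0 p) ≤ (P.height : WithBot ℕ∞) := by
    have h4 := PrimeSpectrum.height_eq_orderHeight p
    have h5 : P.height = Order.height p := h4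
    rw [h5, Order.height_eq_krullDim_Iic]
    exact Order.krullDim_le_of_strictMono (fun x : Set.Icc p0 p => (⟨x.1, x.2.2⟩ : Set.Iic p))
      (fun a b hab => hab)
  calc ringKrullDim R = ringKrullDim (R ⧸ P0) := hdim0.symm
    _ = Order.krullDim (Set.Icc p0 p) + ringKrullDim (R ⧸ P) := hadd
    _ ≤ (P.height : WithBot ℕ∞) + ringKrullDim (R ⧸ P) := by gcongr

/-- quotients of a Noetherian local ring by proper ideals have natural number dimension -/
theorem exists_nat_ringKrullDim_quotient (I : Ideal R) (hI : I ≠ ⊤) :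
    ∃ n : ℕ, ringKrullDim (R ⧸ I) = n := by
  have hfinA : ringKrullDim R < ⊤ := ringKrullDim_lt_top
  have h1 : ringKrullDim (R ⧸ I) ≤ ringKrullDim R := ringKrullDim_quotient_le I
  have h2 : ringKrullDim (R ⧸ I) ≠ ⊤ := fun e => by
    rw [e] at h1; exact absurd (lt_of_le_of_lt h1 hfinA) (lt_irrefl _)
  have h3 : ringKrullDim (R ⧸ I) ≠ ⊥ := by
    haveI : Nontrivial (R ⧸ I) := Ideal.Quotient.nontrivial_iff.mpr hI
    intro e
    have := ringKrullDim_nonneg_of_nontrivial (R := R ⧸ I)
    rw [e] at this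
    exact absurd this (by simp)
  obtain ⟨m, hm⟩ := WithBot.ne_bot_iff_exists.mp h3
  have hm' : m ≠ ⊤ := by
    intro e; rw [e] at hm; exact h2 hm.symm
  obtain ⟨n, hn⟩ := ENat.ne_top_iff_exists.mp hm'
  exact ⟨n, by rw [← hm, ← hn]; rfl⟩

theorem exists_nat_ringKrullDim : ∃ n : ℕ, ringKrullDim R = n := by
  obtain ⟨n, hn⟩ := exists_nat_ringKrullDim_quotient (R := R) ⊥ bot_ne_top
  exact ⟨n, by rw [← hn]; exact (ringKrullDim_eq_of_ringEquiv (RingEquiv.quotientBot R)).symm⟩

/-- In an equidimensional catenary local ring, `ht P + ht (Q/P) = ht Q`. -/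
theorem height_add_height_map_quotientMk (heq : EGA4.IsEquidim R) (hcat : CAlg.IsCatenary R)
    (P Q : Ideal R) [hP : P.IsPrime] [hQ : Q.IsPrime] (hPQ : P ≤ Q) :
    P.height + (Q.map (Ideal.Quotient.mk P)).height = Q.height := by
  have h1 := height_add_ringKrullDim_quotient heq hcat P
  have h2 := height_add_ringKrullDim_quotient heq hcat Q
  let p : PrimeSpectrum R := ⟨P, hP⟩
  let q : PrimeSpectrum R := ⟨Q, hQ⟩
  have hle : p ≤ q := hPQ
  have hqm : q ≤ closedPoint R := IsLocalRing.le_maximalIdeal hQ.ne_top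
  have hadd := PosetCat.krullDim_Icc_add ((isCatenary_iff_posetCat R).mp hcat) hle hqm
  rw [← ringKrullDim_quotient_eq_krullDim_Icc R p, ← ringKrullDim_quotient_eq_krullDim_Icc R q,
    krullDim_Icc_primeSpectrum p q hle] at hadd
  obtain ⟨c, hc⟩ := exists_nat_ringKrullDim_quotient Q hQ.ne_top
  change ringKrullDim (R ⧸ P) = _ + ringKrullDim (R ⧸ Q) at hadd
  rw [hadd, hc, ← h2, hc, ← add_assoc] at h1
  have h3 : ((P.height + (Q.map (Ideal.Quotient.mk P)).height : ℕ∞) : WithBot ℕ∞) + ((c : ℕ∞) : WithBot ℕ∞)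
      = ((Q.height : ℕ∞) : WithBot ℕ∞) + ((c : ℕ∞) : WithBot ℕ∞) := by
    push_cast
    exact h1
  have h4 : P.height + (Q.map (Ideal.Quotient.mk P)).height + (c : ℕ∞) = Q.height + (c : ℕ∞) := by
    exact_mod_cast h3
  exact (ENat.add_left_injective_of_ne_top (ENat.coe_ne_top c)) h4

end L1

section L2

variable {A A' : Type*} [CommRing A] [CommRing A'] [Algebra A A'] [Module.Flat A A']

/-- Along a flat map, a minimal prime of `pA'` contracts to `p`. -/
theorem comap_eq_of_mem_minimalPrimes_map (p : Ideal A) [hp : p.IsPrime] (P : Ideal A')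
    (hP : P ∈ (p.map (algebraMap A A')).minimalPrimes) : P.comap (algebraMap A A') = p := by
  haveI hPp : P.IsPrime := hP.1.1
  have hle : p ≤ P.comap (algebraMap A A') := Ideal.map_le_iff_le_comap.mp hP.1.2
  by_contra hne
  have hlt : p < P.comap (algebraMap A A') := lt_of_le_of_ne hle (Ne.symm hne)
  haveI : P.LiesOver (P.comap (algebraMap A A')) := ⟨rfl⟩
  obtain ⟨P', hP'lt, hP'p, hP'over⟩ :=
    Ideal.exists_ideal_lt_liesOver_of_lt (p := p) (q := P.comap (algebraMap A A')) P hlt
  have h1 : p.map (algebraMap A A') ≤ P' := by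
    rw [Ideal.map_le_iff_le_comap]
    exact hP'over.over.le
  exact absurd (hP.2 ⟨hP'p, h1⟩ hP'lt.le) (not_le_of_gt hP'lt)

theorem map_quotientMk_mem_minimalPrimes {B : Type*} [CommRing B] (J P : Ideal B)
    (hP : P ∈ J.minimalPrimes) : P.map (Ideal.Quotient.mk J) ∈ minimalPrimes (B ⧸ J) := by
  have h := Ideal.minimalPrimes_map_of_surjective (f := Ideal.Quotient.mk J)
    Ideal.Quotient.mk_surjective (⊥ : Ideal B)
  rw [Ideal.map_bot, Ideal.mk_ker, bot_sup_eq] at h
  show P.map (Ideal.Quotient.mk J) ∈ (⊥ : Ideal (B ⧸ J)).minimalPrimes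
  rw [h]
  exact ⟨P, hP, rfl⟩

/-- Along a flat map to a Noetherian ring, a minimal prime of `pA'` has the height of `p`. -/
theorem height_eq_of_mem_minimalPrimes_map [IsNoetherianRing A] [IsNoetherianRing A'] (p : Ideal A) [hp : p.IsPrime]
    (P : Ideal A') (hP : P ∈ (p.map (algebraMap A A')).minimalPrimes) : P.height = p.height := by
  haveI hPp : P.IsPrime := hP.1.1
  haveI : P.LiesOver p := ⟨(comap_eq_of_mem_minimalPrimes_map p P hP).symm⟩
  rw [Ideal.height_eq_height_add_of_liesOver_of_hasGoingDown p P]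
  haveI : (P.map (Ideal.Quotient.mk (p.map (algebraMap A A')))).IsPrime :=
    Ideal.isPrime_map_quotientMk_of_isPrime hP.1.2
  rw [Ideal.height_eq_zero_iff.mpr (map_quotientMk_mem_minimalPrimes _ P hP), add_zero]

end L2

section L3a

variable {A A' : Type*} [CommRing A] [CommRing A'] [Algebra A A'] [IsNoetherianRing A]
  [IsNoetherianRing A']

/-- Height inequality in quotient domains: if `P ≤ Q` are primes of `A'` over `p ≤ q` and `Q` is
minimal over `qA'`, then `ht (Q/P) ≤ ht (q/p)`. No flatness needed. -/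
theorem height_map_quotientMk_le (p q : Ideal A) [hp : p.IsPrime] [hq : q.IsPrime] (hpq : p ≤ q)
    (P Q : Ideal A') [hP : P.IsPrime] [hQ : Q.IsPrime] (hPQ : P ≤ Q)
    (hPp : P.comap (algebraMap A A') = p) (hQq : Q.comap (algebraMap A A') = q)
    (hQmin : Q ∈ (q.map (algebraMap A A')).minimalPrimes) :
    (Q.map (Ideal.Quotient.mk P)).height ≤ (q.map (Ideal.Quotient.mk p)).height := by
  haveI : P.LiesOver p := ⟨hPp.symm⟩
  haveI hq' : (q.map (Ideal.Quotient.mk p)).IsPrime := Ideal.isPrime_map_quotientMk_of_isPrime hpq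
  haveI hQ' : (Q.map (Ideal.Quotient.mk P)).IsPrime := Ideal.isPrime_map_quotientMk_of_isPrime hPQ
  haveI hlo : (Q.map (Ideal.Quotient.mk P)).LiesOver (q.map (Ideal.Quotient.mk p)) := by
    constructor
    ext x
    obtain ⟨a, rfl⟩ := Ideal.Quotient.mk_surjective x
    rw [Ideal.under_def, Ideal.mem_comap, Ideal.Quotient.algebraMap_mk_of_liesOver,
      Ideal.mem_quotient_iff_mem hpq, Ideal.mem_quotient_iff_mem hPQ, ← hQq, Ideal.mem_comap]
  have h := Ideal.height_le_height_add_of_liesOver (q.map (Ideal.Quotient.mk p))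
    (Q.map (Ideal.Quotient.mk P))
  set J := (q.map (Ideal.Quotient.mk p)).map (algebraMap (A ⧸ p) (A' ⧸ P)) with hJ
  have hJle : J ≤ Q.map (Ideal.Quotient.mk P) := by
    rw [hJ, Ideal.map_le_iff_le_comap]
    exact hlo.over.le
  have hmin : Q.map (Ideal.Quotient.mk P) ∈ J.minimalPrimes := by
    refine ⟨⟨hQ', hJle⟩, ?_⟩
    rintro K ⟨hKp, hJK⟩ hKQ
    haveI := hKp
    have h1 : q.map (algebraMap A A') ≤ K.comap (Ideal.Quotient.mk P) := by
      rw [Ideal.map_le_iff_le_comap]
      intro x hx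
      rw [Ideal.mem_comap, Ideal.mem_comap]
      apply hJK
      have : Ideal.Quotient.mk P (algebraMap A A' x) =
          algebraMap (A ⧸ p) (A' ⧸ P) (Ideal.Quotient.mk p x) := rfl
      rw [this]
      exact Ideal.mem_map_of_mem _ (Ideal.mem_map_of_mem _ hx)
    have h2 : K.comap (Ideal.Quotient.mk P) ≤ Q := by
      have := Ideal.comap_mono (f := Ideal.Quotient.mk P) hKQ
      rwa [Ideal.comap_map_mk hPQ] at this
    have h3 := hQmin.2 ⟨Ideal.comap_isPrime _ K, h1⟩ h2
    have h4 := Ideal.map_mono (f := Ideal.Quotient.mk P) h3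
    rwa [Ideal.map_comap_of_surjective _ Ideal.Quotient.mk_surjective] at h4
  haveI : ((Q.map (Ideal.Quotient.mk P)).map (Ideal.Quotient.mk J)).IsPrime :=
    Ideal.isPrime_map_quotientMk_of_isPrime hJle
  rw [Ideal.height_eq_zero_iff.mpr (map_quotientMk_mem_minimalPrimes J _ hmin), add_zero] at h
  exact h

end L3a

section L3

variable {A A' : Type u} [CommRing A] [CommRing A'] [IsNoetherianRing A] [IsNoetherianRing A']
  [IsLocalRing A] [IsLocalRing A'] [Algebra A A'] [IsLocalHom (algebraMap A A')] [Module.Flat A A']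

/-- Key inequality: along a flat local homomorphism into an equidimensional catenary local ring,
`ht q ≤ ht p + ht (q/p)`. -/
theorem height_le_height_add_of_flat (heq : EGA4.IsEquidim A') (hcat : CAlg.IsCatenary A')
    (p q : Ideal A) [hp : p.IsPrime] [hq : q.IsPrime] (hpq : p ≤ q) :
    q.height ≤ p.height + (q.map (Ideal.Quotient.mk p)).height := by
  have hm : (maximalIdeal A).map (algebraMap A A') ≤ maximalIdeal A' :=
    ((IsLocalRing.local_hom_TFAE (algebraMap A A')).out 0 2).mp ‹_›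
  have hqm : q.map (algebraMap A A') ≤ maximalIdeal A' :=
    (Ideal.map_mono (IsLocalRing.le_maximalIdeal hq.ne_top)).trans hm
  obtain ⟨Q, hQ, -⟩ := Ideal.exists_minimalPrimes_le hqm
  haveI hQp : Q.IsPrime := hQ.1.1
  have hpQ : p.map (algebraMap A A') ≤ Q := (Ideal.map_mono hpq).trans hQ.1.2
  obtain ⟨P, hP, hPQ⟩ := Ideal.exists_minimalPrimes_le hpQ
  haveI hPp : P.IsPrime := hP.1.1
  have h1 := comap_eq_of_mem_minimalPrimes_map p P hP
  have h2 := comap_eq_of_mem_minimalPrimes_map q Q hQ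
  have h3 := height_eq_of_mem_minimalPrimes_map p P hP
  have h4 := height_eq_of_mem_minimalPrimes_map q Q hQ
  have h5 := height_map_quotientMk_le p q hpq P Q hPQ h1 h2 hQ
  have h6 := height_add_height_map_quotientMk heq hcat P Q hPQ
  rw [← h4, ← h6, h3]
  gcongr

/-- EGA IV 7.1.3: equidimensionality and catenarity descend along flat local homomorphisms. -/
theorem isEquidim_and_isCatenary_of_flat (heq : EGA4.IsEquidim A') (hcat : CAlg.IsCatenary A') :
    EGA4.IsEquidim A ∧ CAlg.IsCatenary A := by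
  obtain ⟨d, hd⟩ := exists_nat_ringKrullDim (R := A)
  -- dimension formula in `A`
  have hform : ∀ (p : Ideal A) [p.IsPrime],
      (p.height : WithBot ℕ∞) + ringKrullDim (A ⧸ p) = ringKrullDim A := by
    intro p hp
    apply le_antisymm (height_add_ringKrullDim_quotient_le p)
    have h1 := height_le_height_add_of_flat heq hcat p (maximalIdeal A)
      (IsLocalRing.le_maximalIdeal hp.ne_top)
    have h2 : ((maximalIdeal A).height : WithBot ℕ∞) = ringKrullDim A :=
      IsLocalRing.maximalIdeal_height_eq_ringKrullDim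
    have h3 : (((maximalIdeal A).map (Ideal.Quotient.mk p)).height : WithBot ℕ∞) =
        ringKrullDim (A ⧸ p) := by
      have := krullDim_Icc_primeSpectrum (⟨p, hp⟩ : PrimeSpectrum A) (closedPoint A)
        (IsLocalRing.le_maximalIdeal hp.ne_top)
      rw [← ringKrullDim_quotient_eq_krullDim_Icc A ⟨p, hp⟩] at this
      exact this.symm
    rw [← h2, ← h3]
    exact_mod_cast h1
  have hnat : ∀ (p : Ideal A) [p.IsPrime], ∃ a c : ℕ, p.height = a ∧
      ringKrullDim (A ⧸ p) = c ∧ a + c = d := by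
    intro p hp
    have hfinp : p.height ≠ ⊤ := Ideal.height_ne_top_of_isPrime
    obtain ⟨a, ha⟩ := ENat.ne_top_iff_exists.mp hfinp
    obtain ⟨c, hc⟩ := exists_nat_ringKrullDim_quotient p hp.ne_top
    refine ⟨a, c, ha.symm, hc, ?_⟩
    have h := hform p
    rw [← ha, hc, hd] at h
    have : ((a : ℕ) : WithBot ℕ∞) + ((c : ℕ) : WithBot ℕ∞) = ((d : ℕ) : WithBot ℕ∞) := h
    exact_mod_cast this
  constructor
  · intro p hp
    haveI : p.IsPrime := hp.1.1
    have h := hform p
    rw [Ideal.height_eq_zero_iff.mpr hp] at h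
    simpa using h
  · rw [isCatenary_iff_ringKrullDim_quotient_dimFun]
    intro p q hpq
    haveI := p.2
    haveI := q.2
    obtain ⟨a, c, ha, hc, hac⟩ := hnat p.asIdeal
    obtain ⟨b, e, hb, he, hbe⟩ := hnat q.asIdeal
    have hlt : p.asIdeal.height < q.asIdeal.height :=
      Ideal.height_strict_mono_of_isPrime_of_isPrime hpq
    rw [ha, hb] at hlt
    have hab : a < b := by exact_mod_cast hlt
    rw [hc, he]
    refine ⟨by exact_mod_cast (show e < c by omega), ?_⟩
    intro hcov
    have h1 := height_le_height_add_of_flat heq hcat p.asIdeal q.asIdeal hpq.le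
    have h2 : ((q.asIdeal.map (Ideal.Quotient.mk p.asIdeal)).height : WithBot ℕ∞) ≤ 1 := by
      rw [← krullDim_Icc_primeSpectrum p q hpq.le]
      exact Groth.Agent.Lib.Helper67.CMCat.krullDim_Icc_le_one_of_covBy hcov
    have h2' : (q.asIdeal.map (Ideal.Quotient.mk p.asIdeal)).height ≤ 1 := by exact_mod_cast h2
    have h3 : q.asIdeal.height ≤ p.asIdeal.height + 1 := h1.trans (by gcongr)
    rw [ha, hb] at h3
    have h3' : b ≤ a + 1 := by exact_mod_cast h3
    exact_mod_cast (show c = e + 1 by omega)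

end L3

end Groth.Agent.Lib.Helper67.EquiCat
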