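import Groth.Agent.S9296
import Groth.Agent.Lib.Helper56.Normal1
import Groth.Agent.Lib.Helper56.FibreRegular
import Groth.Agent.Lib.Helper67.EquiCat

/-!
# Nagata's criterion for the openness of the regular locus (Matsumura 24.2)
-/

set_option autoImplicit false
set_option linter.style.haveILetI false
set_option linter.unusedSectionVars false

universe u

namespace Groth.Agent.Lib.Helper67.RegLocus

open IsLocalRing

/-- If `I` is a prime of a Noetherian local ring `R` generated by at most `r ≤ ht I` elements and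
`R ⧸ I` is regular, then `R` is regular. -/
theorem isRegularLocalRing_of_quotient (R : Type u) [CommRing R] [IsLocalRing R]
    [IsNoetherianRing R] (I : Ideal R) [hI : I.IsPrime] (r : ℕ) (hr : I.spanFinrank ≤ r)
    (hht : (r : ℕ∞) ≤ I.height) (h : IsRegularLocalRing (R ⧸ I)) : IsRegularLocalRing R := by
  apply IsRegularLocalRing.of_spanFinrank_maximalIdeal_le
  have hIle : I ≤ maximalIdeal R := IsLocalRing.le_maximalIdeal hI.ne_top
  have hmap : (maximalIdeal R).map (Ideal.Quotient.mk I) = maximalIdeal (R ⧸ I) :=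
    Groth.Agent.Lib.Helper56.map_quotientMk_maximalIdeal I
  have h1 := Groth.Agent.Lib.Helper56.spanFinrank_le_add_of_le I (maximalIdeal R) hIle
    (IsNoetherian.noetherian _) (IsNoetherian.noetherian _)
  rw [hmap] at h1
  have h4 : ((maximalIdeal (R ⧸ I)).spanFinrank : WithBot ℕ∞) = ringKrullDim (R ⧸ I) :=
    IsRegularLocalRing.spanFinrank_maximalIdeal
  have h5 := Groth.Agent.Lib.Helper67.EquiCat.height_add_ringKrullDim_quotient_le I
  have h6 : ((maximalIdeal R).spanFinrank : WithBot ℕ∞) ≤
      ((r : ℕ∞) : WithBot ℕ∞) + ((maximalIdeal (R ⧸ I)).spanFinrank : WithBot ℕ∞) := by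
    have : (maximalIdeal R).spanFinrank ≤ r + (maximalIdeal (R ⧸ I)).spanFinrank :=
      h1.trans (by omega)
    exact_mod_cast this
  refine h6.trans (le_trans ?_ h5)
  rw [h4]
  gcongr
  exact_mod_cast hht

/-- Near a prime `p` with `A_p` regular, `p` is generated by `ht p` elements. -/
theorem exists_finset_span_near (A : Type u) [CommRing A] [IsNoetherianRing A] (p : Ideal A)
    [hp : p.IsPrime] (hreg : IsRegularLocalRing (Localization.AtPrime p)) :
    ∃ (s : Finset A) (f : A), (s.card : ℕ∞) ≤ p.height ∧ f ∉ p ∧ (∀ x ∈ s, x ∈ p) ∧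
      ∀ y ∈ p, f * y ∈ Ideal.span (s : Set A) := by
  classical
  set L := Localization.AtPrime p with hL
  obtain ⟨t, ht1, ht2⟩ := Submodule.FG.exists_span_finset_card_eq_spanFinrank
    (IsNoetherian.noetherian (maximalIdeal L))
  have hsurj : ∀ z : L, ∃ x : A × p.primeCompl, z * algebraMap A L x.2 = algebraMap A L x.1 :=
    fun z => IsLocalization.surj p.primeCompl z
  choose x hx using hsurj
  let s : Finset A := t.image (fun z => (x z).1)
  have hsp : ∀ a ∈ s, a ∈ p := by
    intro a ha
    obtain ⟨z, hz, rfl⟩ := Finset.mem_image.mp ha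
    have hzm : z ∈ maximalIdeal L := by
      rw [← ht2]
      exact Submodule.subset_span hz
    have : algebraMap A L (x z).1 ∈ maximalIdeal L := by
      rw [← hx z]
      exact Ideal.mul_mem_right _ _ hzm
    exact (IsLocalization.AtPrime.to_map_mem_maximal_iff L p _).mp this
  set J : Ideal A := Ideal.span (s : Set A) with hJ
  have hJp : J ≤ p := Ideal.span_le.mpr (fun a ha => hsp a ha)
  have hJmap : J.map (algebraMap A L) = maximalIdeal L := by
    apply le_antisymm
    · rw [← Localization.AtPrime.map_eq_maximalIdeal]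
      exact Ideal.map_mono hJp
    · rw [← ht2]
      change Ideal.span (t : Set L) ≤ _
      rw [Ideal.span_le]
      intro z hz
      have hu : IsUnit (algebraMap A L (x z).2) := IsLocalization.map_units L (x z).2
      have h1 : algebraMap A L (x z).1 ∈ J.map (algebraMap A L) :=
        Ideal.mem_map_of_mem _ (Ideal.subset_span (Finset.mem_image_of_mem _ hz))
      rw [← hx z] at h1
      exact (Ideal.mul_unit_mem_iff_mem _ hu).mp h1
  have hy : ∀ y ∈ p, ∃ c : A, c ∉ p ∧ c * y ∈ J := by
    intro y hyp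
    have h1 : algebraMap A L y ∈ J.map (algebraMap A L) := by
      rw [hJmap]
      exact (IsLocalization.AtPrime.to_map_mem_maximal_iff L p _).mpr hyp
    rw [IsLocalization.mem_map_algebraMap_iff p.primeCompl] at h1
    obtain ⟨⟨⟨j, hj⟩, m⟩, hjm⟩ := h1
    simp only at hjm
    rw [← map_mul, IsLocalization.eq_iff_exists p.primeCompl] at hjm
    obtain ⟨c, hc⟩ := hjm
    refine ⟨c * m, ?_, ?_⟩
    · exact (c * m).2
    · have : (c : A) * (m : A) * y = c * j := by
        rw [← hc]; ring
      rw [this]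
      exact Ideal.mul_mem_left _ _ hj
  obtain ⟨G, hG⟩ := (isNoetherianRing_iff_ideal_fg A).mp inferInstance p
  choose! c hc1 hc2 using hy
  refine ⟨s, ∏ g ∈ G, c g, ?_, ?_, hsp, ?_⟩
  · have h1 : s.card ≤ t.card := Finset.card_image_le
    have h2 : ((maximalIdeal L).spanFinrank : WithBot ℕ∞) = ringKrullDim L :=
      IsRegularLocalRing.spanFinrank_maximalIdeal
    rw [IsLocalization.AtPrime.ringKrullDim_eq_height p L] at h2
    have h3 : ((maximalIdeal L).spanFinrank : ℕ∞) = p.height := by exact_mod_cast h2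
    rw [← h3, ← ht1]
    exact_mod_cast h1
  · intro hmem
    obtain ⟨g, hg, hgp⟩ := (hp.prod_mem_iff).mp hmem
    exact hc1 g (by rw [← hG]; exact Ideal.subset_span hg) hgp
  · intro y hyp
    rw [← hG] at hyp
    refine Submodule.span_induction (p := fun y _ => (∏ g ∈ G, c g) * y ∈ J) ?_ ?_ ?_ ?_ hyp
    · intro g hg
      have hgp : g ∈ p := by rw [← hG]; exact Ideal.subset_span hg
      rw [← Finset.mul_prod_erase G c hg, mul_comm (c g), mul_assoc]
      exact Ideal.mul_mem_left _ _ (hc2 g hgp)
    · simp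
    · intro a b _ _ ha hb
      rw [mul_add]
      exact Ideal.add_mem _ ha hb
    · intro a b _ hb
      rw [smul_eq_mul, mul_left_comm]
      exact Ideal.mul_mem_left _ _ hb

theorem isRegularLocalRing_localization_of_quotient (A : Type u) [CommRing A] [IsNoetherianRing A]
    (p q : Ideal A) [hp : p.IsPrime] [hq : q.IsPrime] (hpq : p ≤ q) (s : Finset A) (f : A)
    (hs : (s.card : ℕ∞) ≤ p.height) (hf : f ∉ q) (hsp : ∀ x ∈ s, x ∈ p)
    (hfy : ∀ y ∈ p, f * y ∈ Ideal.span (s : Set A))
    [(q.map (Ideal.Quotient.mk p)).IsPrime]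
    (h : IsRegularLocalRing (Localization.AtPrime (q.map (Ideal.Quotient.mk p)))) :
    IsRegularLocalRing (Localization.AtPrime q) := by
  classical
  set R := Localization.AtPrime q with hR
  set I : Ideal R := p.map (algebraMap A R) with hI
  set J : Ideal A := Ideal.span (s : Set A) with hJ
  have hdisj : Disjoint (q.primeCompl : Set A) (p : Set A) := by
    rw [Set.disjoint_left]
    intro x hx hxp
    exact hx (hpq hxp)
  haveI hIprime : I.IsPrime :=
    IsLocalization.isPrime_of_isPrime_disjoint q.primeCompl R p hp hdisj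
  have hJp : J ≤ p := Ideal.span_le.mpr (fun a ha => hsp a ha)
  have hIJ : I = J.map (algebraMap A R) := by
    apply le_antisymm
    · rw [hI, Ideal.map_le_iff_le_comap]
      intro y hy
      rw [Ideal.mem_comap]
      have hu : IsUnit (algebraMap A R f) :=
        IsLocalization.map_units R (⟨f, hf⟩ : q.primeCompl)
      have h1 : algebraMap A R (f * y) ∈ J.map (algebraMap A R) :=
        Ideal.mem_map_of_mem _ (hfy y hy)
      rw [map_mul] at h1
      exact (Ideal.unit_mul_mem_iff_mem _ hu).mp h1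
    · exact Ideal.map_mono hJp
  have hsf : I.spanFinrank ≤ s.card := by
    rw [hIJ]
    refine (Ideal.spanFinrank_map_le_of_fg (algebraMap A R) ⟨s, rfl⟩).trans ?_
    have := Submodule.spanFinrank_span_le_ncard_of_finite (R := A) s.finite_toSet
    rwa [Set.ncard_coe_finset] at this
  have hht : (s.card : ℕ∞) ≤ I.height := by
    rw [hI, IsLocalization.height_map_of_disjoint q.primeCompl p hdisj]
    exact hs
  obtain ⟨e⟩ := Groth.Agent.Lib.Helper56.nonempty_quotLocEquiv p q hpq
  have hquot : IsRegularLocalRing (R ⧸ I) := IsRegularLocalRing.of_ringEquiv e.symm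
  exact isRegularLocalRing_of_quotient R I s.card hsf hht hquot

/-- A nonempty open subset of the spectrum of a domain contains the generic point. -/
theorem bot_mem_of_isOpen_of_nonempty {D : Type u} [CommRing D] [IsDomain D]
    {U : Set (PrimeSpectrum D)} (hU : IsOpen U) (hne : U.Nonempty) :
    (⟨⊥, Ideal.isPrime_bot⟩ : PrimeSpectrum D) ∈ U := by
  obtain ⟨u, hu⟩ := hne
  refine hU.stableUnderGeneralization ?_ hu
  rw [← PrimeSpectrum.le_iff_specializes]
  exact bot_le (a := u.asIdeal)

/-- Nagata's criterion: if for every `p` in the regular locus the regular locus of `A ⧸ p`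
contains a nonempty open set, then the regular locus of `A` is open. -/
theorem nagata_regLocus (A : Type u) [CommRing A] [IsNoetherianRing A]
    (h : ∀ p : PrimeSpectrum A, p ∈ EGA4.regLocus A →
      ∃ U : Set (PrimeSpectrum (A ⧸ p.asIdeal)), IsOpen U ∧ U.Nonempty ∧
        U ⊆ EGA4.regLocus (A ⧸ p.asIdeal)) :
    IsOpen (EGA4.regLocus A) := by
  refine (Groth.Agent.S9296.result A).mpr ?_
  intro p hp
  obtain ⟨U, hU, hne, hsub⟩ := h p hp
  obtain ⟨s, f, hs, hf, hsp, hfy⟩ := exists_finset_span_near A p.asIdeal hp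
  have hemb := PrimeSpectrum.isClosedEmbedding_comap_of_surjective (A ⧸ p.asIdeal)
    (Ideal.Quotient.mk p.asIdeal) Ideal.Quotient.mk_surjective
  obtain ⟨V', hV', hV'U⟩ := hemb.isInducing.isOpen_iff.mp hU
  refine ⟨V' ∩ (PrimeSpectrum.basicOpen f : Set (PrimeSpectrum A)),
    hV'.inter (PrimeSpectrum.basicOpen f).isOpen, ⟨p, ⟨?_, hf⟩, ?_⟩, ?_⟩
  · have hbot := bot_mem_of_isOpen_of_nonempty hU hne
    rw [← hV'U] at hbot
    have e : PrimeSpectrum.comap (Ideal.Quotient.mk p.asIdeal)
        (⟨⊥, Ideal.isPrime_bot⟩ : PrimeSpectrum (A ⧸ p.asIdeal)) = p := by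
      apply PrimeSpectrum.ext
      show Ideal.comap (Ideal.Quotient.mk p.asIdeal) ⊥ = p.asIdeal
      rw [← RingHom.ker_eq_comap_bot, Ideal.mk_ker]
    rw [Set.mem_preimage, e] at hbot
    exact hbot
  · rw [PrimeSpectrum.mem_zeroLocus]
  · rintro q ⟨⟨hqV', hqf⟩, hqp⟩
    rw [PrimeSpectrum.mem_zeroLocus, SetLike.coe_subset_coe] at hqp
    have hker : RingHom.ker (Ideal.Quotient.mk p.asIdeal) ≤ q.asIdeal := by
      rw [Ideal.mk_ker]; exact hqp
    haveI hqbar : (q.asIdeal.map (Ideal.Quotient.mk p.asIdeal)).IsPrime :=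
      Ideal.map_isPrime_of_surjective Ideal.Quotient.mk_surjective hker
    have e : PrimeSpectrum.comap (Ideal.Quotient.mk p.asIdeal)
        (⟨q.asIdeal.map (Ideal.Quotient.mk p.asIdeal), hqbar⟩ : PrimeSpectrum (A ⧸ p.asIdeal)) = q := by
      apply PrimeSpectrum.ext
      show Ideal.comap (Ideal.Quotient.mk p.asIdeal) (q.asIdeal.map (Ideal.Quotient.mk p.asIdeal))
        = q.asIdeal
      rw [Ideal.comap_map_of_surjective _ Ideal.Quotient.mk_surjective, ← RingHom.ker_eq_comap_bot,
        sup_eq_left.mpr hker]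
    have hmem : (⟨q.asIdeal.map (Ideal.Quotient.mk p.asIdeal), hqbar⟩ :
        PrimeSpectrum (A ⧸ p.asIdeal)) ∈ U := by
      rw [← hV'U, Set.mem_preimage, e]
      exact hqV'
    have hreg := hsub hmem
    exact isRegularLocalRing_localization_of_quotient A p.asIdeal q.asIdeal hqp s f hs hqf hsp hfy hreg

end Groth.Agent.Lib.Helper67.RegLocus
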