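import Groth.Agent.Lib.Helper67.FlatDepth11

set_option autoImplicit false
set_option linter.style.haveILetI false
set_option linter.unusedSectionVars false

universe u v w

namespace Groth.Agent.Lib.Helper67

open RingTheory.Sequence LocCoh TensorProduct IsLocalRing
open scoped Pointwise

section CMFlatIff

variable {R : Type u} {S : Type u} [CommRing R] [CommRing S] [Algebra R S] [IsLocalRing R]
  [IsLocalRing S] [IsNoetherianRing R] [IsNoetherianRing S] [IsLocalHom (algebraMap R S)]

/-- the closed fibre ring is local -/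
theorem isLocalRing_fibre : IsLocalRing (S ⧸ (maximalIdeal R).map (algebraMap R S)) := by
  haveI : Nontrivial (S ⧸ (maximalIdeal R).map (algebraMap R S)) :=
    Ideal.Quotient.nontrivial_iff.mpr (IsLocalRing.map_maximalIdeal_lt_top (algebraMap R S)).ne
  exact IsLocalRing.of_surjective' (Ideal.Quotient.mk _) Ideal.Quotient.mk_surjective

/-- `depth S = depth R + depth (S/mS)` (depth of the fibre as a ring). -/
theorem depth_eq_add_depth_fibre [Module.Flat R S] :
    haveI := isLocalRing_fibre (R := R) (S := S)
    depth S S = depth R R + depth (S ⧸ (maximalIdeal R).map (algebraMap R S))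
      (S ⧸ (maximalIdeal R).map (algebraMap R S)) := by
  haveI := isLocalRing_fibre (R := R) (S := S)
  set mS := (maximalIdeal R).map (algebraMap R S) with hmS
  have h1 := depth_tensor_eq_add_quotient (R := R) (S := S) S R
  rw [depth_congr (AlgebraTensorModule.rid R S S)] at h1
  have hmStop : mS • (⊤ : Submodule S S) = mS := by
    rw [smul_eq_mul, Ideal.mul_top]
  rw [depth_congr (Submodule.quotEquivOfEq _ _ hmStop)] at h1
  haveI : IsLocalHom (algebraMap S (S ⧸ mS)) :=
    IsLocalHom.of_surjective _ Ideal.Quotient.mk_surjective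
  rw [depth_eq_depth_of_isLocalHom_of_finite (A := S) (B := S ⧸ mS) (S ⧸ mS)] at h1
  exact h1

/-- `dim S = dim R + dim (S/mS)` for a flat local homomorphism. -/
theorem ringKrullDim_eq_add_fibre_of_flat [Module.Flat R S] :
    ringKrullDim S = ringKrullDim R +
      ringKrullDim (S ⧸ (maximalIdeal R).map (algebraMap R S)) := by
  haveI := isLocalRing_fibre (R := R) (S := S)
  rw [ringKrullDim_eq_add_of_flat (R := R) (S := S),
    ← IsLocalRing.maximalIdeal_height_eq_ringKrullDim
      (R := S ⧸ (maximalIdeal R).map (algebraMap R S)),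
    maximalIdeal_quotient_eq_map _ (IsLocalRing.map_maximalIdeal_lt_top (algebraMap R S)).ne]


/-- a noetherian local ring is CM iff `dim ≤ depth` numerically. -/
theorem isCohenMacaulayLocalRing_iff_natCast (A : Type u) [CommRing A] [IsLocalRing A]
    [IsNoetherianRing A] (k d : ℕ) (hk : ringKrullDim A = (k : WithBot ℕ∞))
    (hd : depth A A = (d : ℕ∞)) : IsCohenMacaulayLocalRing A ↔ k = d := by
  constructor
  · intro h
    have h1 := h.supportDim_eq_depth
    rw [Module.supportDim_self_eq_ringKrullDim, hk, hd] at h1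
    exact_mod_cast h1
  · intro h
    refine ⟨?_⟩
    rw [Module.supportDim_self_eq_ringKrullDim, hk, hd, h]
    rfl

theorem exists_dim_depth_natCast (A : Type u) [CommRing A] [IsLocalRing A]
    [IsNoetherianRing A] : ∃ k d : ℕ, ringKrullDim A = (k : WithBot ℕ∞) ∧
      depth A A = (d : ℕ∞) ∧ d ≤ k := by
  obtain ⟨k, hk⟩ := supportDim_eq_natCast (R := A) A
  obtain ⟨d, hd⟩ := ENat.ne_top_iff_exists.mp (depth_ne_top (R := A) A)
  have hle := depth_le_supportDim (R := A) A
  rw [hk, ← hd] at hle
  rw [Module.supportDim_self_eq_ringKrullDim] at hk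
  refine ⟨k, d, hk, hd.symm, ?_⟩
  exact_mod_cast hle

/-- For a flat local homomorphism of noetherian local rings, `S` is Cohen–Macaulay iff
`R` and the closed fibre `S/mS` are. -/
theorem isCohenMacaulayLocalRing_iff_of_flat [Module.Flat R S] :
    haveI := isLocalRing_fibre (R := R) (S := S)
    IsCohenMacaulayLocalRing S ↔ IsCohenMacaulayLocalRing R ∧
      IsCohenMacaulayLocalRing (S ⧸ (maximalIdeal R).map (algebraMap R S)) := by
  haveI := isLocalRing_fibre (R := R) (S := S)
  obtain ⟨kR, dR, hkR, hdR, hR⟩ := exists_dim_depth_natCast R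
  obtain ⟨kS, dS, hkS, hdS, hS⟩ := exists_dim_depth_natCast S
  obtain ⟨kF, dF, hkF, hdF, hF⟩ := exists_dim_depth_natCast
    (S ⧸ (maximalIdeal R).map (algebraMap R S))
  have h1 := depth_eq_add_depth_fibre (R := R) (S := S)
  have h2 := ringKrullDim_eq_add_fibre_of_flat (R := R) (S := S)
  rw [hdR, hdS, hdF] at h1
  rw [hkR, hkS, hkF] at h2
  have h1' : dS = dR + dF := by exact_mod_cast h1
  have h2' : kS = kR + kF := by exact_mod_cast h2
  rw [isCohenMacaulayLocalRing_iff_natCast S kS dS hkS hdS,
    isCohenMacaulayLocalRing_iff_natCast R kR dR hkR hdR,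
    isCohenMacaulayLocalRing_iff_natCast _ kF dF hkF hdF]
  omega

end CMFlatIff

end Groth.Agent.Lib.Helper67
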