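import Mathlib
import Groth.Agent.S1337
import Groth.Agent.S1324
import Groth.Agent.Lib.Helper22.GenStrComp
import Groth.Agent.Lib.Helper19.GC.SectionComponents
import Groth.Agent.Lib.Helper50.TopConn

/-!
# Section components are open and closed over an open part of the closure of a point

For `f : X ⟶ Y` of finite type with a section `s` and a point `y`, the section components of
`(f, s)` are open and closed in `f ⁻¹ V` for a nonempty relatively open `V ⊆ closure {y}`
(Stacks, More on Morphisms, "Connected components of fibres").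
-/

set_option autoImplicit false
set_option linter.style.haveILetI false
universe u

open AlgebraicGeometry CategoryTheory Limits TopologicalSpace

namespace Groth.Agent.Lib.Helper67.SecComp

/-- If a subspace `F` is covered by two closed sets `A`, `B` which are disjoint on `F`, and
`A ∩ F` is preconnected and contains `p`, then `A ∩ F` is the connected component of `p`
in `F`. -/
theorem connectedComponentIn_eq_of_closed_cover {T : Type*} [TopologicalSpace T] (F A B : Set T)
    (hA : IsClosed A) (hB : IsClosed B) (hcov : F ⊆ A ∪ B)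
    (hdisj : ∀ x ∈ F, x ∈ A → x ∈ B → False)
    (p : T) (hpA : p ∈ A) (hpF : p ∈ F) (hconn : _root_.IsPreconnected (A ∩ F)) :
    connectedComponentIn F p = A ∩ F := by
  apply Set.Subset.antisymm
  · intro x hx
    have hxF : x ∈ F := connectedComponentIn_subset F p hx
    refine ⟨?_, hxF⟩
    rcases hcov hxF with h | h
    · exact h
    · exfalso
      have hpre : _root_.IsPreconnected (connectedComponentIn F p) := isPreconnected_connectedComponentIn
      obtain ⟨z, hz, hzA, hzB⟩ := isPreconnected_closed_iff.1 hpre A B hA hB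
        ((connectedComponentIn_subset F p).trans hcov)
        ⟨p, mem_connectedComponentIn hpF, hpA⟩ ⟨x, hx, h⟩
      exact hdisj z (connectedComponentIn_subset F p hz) hzA hzB
  · exact hconn.subset_connectedComponentIn ⟨hpA, hpF⟩ Set.inter_subset_right

/-- A space with at most one connected component is preconnected. -/
theorem preconnectedSpace_of_subsingleton {T : Type*} [TopologicalSpace T]
    [Subsingleton (ConnectedComponents T)] : PreconnectedSpace T := by
  refine ⟨?_⟩
  rcases isEmpty_or_nonempty T with h | ⟨⟨x⟩⟩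
  · rw [Set.univ_eq_empty_iff.2 h]
    exact isPreconnected_empty
  · have : connectedComponent x = Set.univ := by
      ext y
      simp only [Set.mem_univ, iff_true]
      exact ConnectedComponents.coe_eq_coe'.1 (Subsingleton.elim _ _)
    rw [← this]
    exact isPreconnected_connectedComponent

variable {X Y : Scheme.{u}}

/-- The image in `X` of the fibre of `i ≫ f` over `y`. -/
theorem range_fiber_comp {A' : Scheme.{u}} (i : A' ⟶ X) (f : X ⟶ Y) (y : Y) :
    Set.range (fun w : ↥((i ≫ f).fiber y) => i ((i ≫ f).fiberι y w)) =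
      Set.range i ∩ f ⁻¹' {y} := by
  ext x
  constructor
  · rintro ⟨w, rfl⟩
    refine ⟨⟨_, rfl⟩, ?_⟩
    have h1 : (i ≫ f).fiberι y w ∈ (i ≫ f) ⁻¹' {y} := by
      rw [← (i ≫ f).range_fiberι y]
      exact ⟨w, rfl⟩
    have h2 : (i ≫ f) ((i ≫ f).fiberι y w) = y := h1
    rw [Scheme.Hom.comp_apply] at h2
    exact h2
  · rintro ⟨⟨a, rfl⟩, hfa⟩
    have h1 : a ∈ (i ≫ f) ⁻¹' {y} := by
      change (i ≫ f) a = y
      rw [Scheme.Hom.comp_apply]
      exact hfa
    rw [← (i ≫ f).range_fiberι y] at h1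
    obtain ⟨w, hw⟩ := h1
    exact ⟨w, congrArg i hw⟩

/-- Preconnectedness of `range i ∩ f ⁻¹ {y}` is preconnectedness of the fibre of `i ≫ f`. -/
theorem isPreconnected_range_inter_iff {A' : Scheme.{u}} (i : A' ⟶ X) [IsClosedImmersion i]
    (f : X ⟶ Y) (y : Y) :
    _root_.IsPreconnected (Set.range i ∩ f ⁻¹' {y}) ↔ PreconnectedSpace ↥((i ≫ f).fiber y) := by
  have emb : Topology.IsEmbedding (fun w : ↥((i ≫ f).fiber y) => i ((i ≫ f).fiberι y w)) :=
    i.isEmbedding.comp ((i ≫ f).fiberι y).isEmbedding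
  have h := emb.isInducing.isPreconnected_image (s := Set.univ)
  rw [Set.image_univ, range_fiber_comp] at h
  rw [h]
  exact ⟨fun h => ⟨h⟩, fun h => h.isPreconnected_univ⟩

/-- The projection from the base change to a field extension is surjective. -/
theorem surjective_fst_field {k : Type u} [Field k] {W : Scheme.{u}}
    (q : W ⟶ Spec (CommRingCat.of k)) (K : Type u) [Field K] [Algebra k K] :
    Function.Surjective (pullback.fst q (Spec.map (CommRingCat.ofHom (algebraMap k K)))) := by
  have hs : Surjective (Spec.map (CommRingCat.ofHom (algebraMap k K))) := by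
    refine ⟨fun a => ?_⟩
    obtain ⟨b⟩ : Nonempty (Spec (CommRingCat.of K)) := inferInstanceAs (Nonempty (PrimeSpectrum K))
    haveI : Subsingleton (Spec (CommRingCat.of k)) :=
      inferInstanceAs (Subsingleton (PrimeSpectrum k))
    exact ⟨b, Subsingleton.elim _ _⟩
  have : Surjective (pullback.fst q (Spec.map (CommRingCat.ofHom (algebraMap k K)))) :=
    MorphismProperty.of_isPullback (IsPullback.of_hasPullback q _).flip hs
  exact this.surj

/-- If the geometric fibre has exactly one connected component, the fibre is preconnected. -/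
theorem preconnectedSpace_fiber_of_nGeomConnComp (g : X ⟶ Y) (y : Y)
    (h : MoreMor.nGeomConnComp g y = 1) : PreconnectedSpace ↥(g.fiber y) := by
  unfold MoreMor.nGeomConnComp at h
  haveI : Subsingleton (_root_.ConnectedComponents ↥(MoreMor.geomFiber g y)) :=
    (ENat.card_le_one_iff_subsingleton _).1 (le_of_eq h)
  haveI : PreconnectedSpace ↥(MoreMor.geomFiber g y) := preconnectedSpace_of_subsingleton
  have hsurj := surjective_fst_field (k := Y.residueField y) (g.fiberToSpecResidueField y)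
    (SeparableClosure (Y.residueField y))
  refine ⟨?_⟩
  have h1 : _root_.IsPreconnected (Set.range (pullback.fst (g.fiberToSpecResidueField y)
      (Spec.map (CommRingCat.ofHom
        (algebraMap (Y.residueField y) (SeparableClosure (Y.residueField y))))))) :=
    isPreconnected_range (α := ↥(MoreMor.geomFiber g y)) (Scheme.Hom.continuous _)
  convert h1 using 1
  exact hsurj.range_eq.symm

/-- A connected fibre with a rational point has exactly one geometric connected component. -/
theorem nGeomConnComp_eq_one_of_section (g : X ⟶ Y) (y : Y) [ConnectedSpace ↥(g.fiber y)]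
    (e : Spec (Y.residueField y) ⟶ g.fiber y) (he : e ≫ g.fiberToSpecResidueField y = 𝟙 _) :
    MoreMor.nGeomConnComp g y = 1 := by
  unfold MoreMor.nGeomConnComp
  haveI : ConnectedSpace ↥(MoreMor.geomFiber g y) :=
    Groth.Agent.Lib.Helper19.connectedSpace_pullback_of_section (k := Y.residueField y)
      (g.fiberToSpecResidueField y) e he (SeparableClosure (Y.residueField y))
  rw [ENat.card_eq_one_iff_unique]
  haveI : Nonempty (_root_.ConnectedComponents ↥(MoreMor.geomFiber g y)) := inferInstance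
  exact ⟨{ default := Classical.arbitrary _, uniq := fun a => Subsingleton.elim _ _ }⟩

/-- Fibres of a morphism of finite type are Noetherian spaces. -/
theorem noetherianSpace_fiber (f : X ⟶ Y) [LocallyOfFiniteType f] [QuasiCompact f] (y : Y) :
    NoetherianSpace ↥(f.fiber y) := by
  haveI : CompactSpace ↥(f.fiber y) :=
    QuasiCompact.compactSpace_of_compactSpace (f.fiberToSpecResidueField y)
  haveI : IsLocallyNoetherian (f.fiber y) :=
    LocallyOfFiniteType.isLocallyNoetherian (f.fiberToSpecResidueField y)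
  haveI : IsNoetherian (f.fiber y) := {}
  infer_instance

open Groth.Agent.Lib.Helper22.GenStr in
/-- **Core**: over an irreducible base, near the generic point, the section components are cut
out by a closed set `A` whose complement (over `V`) is cut out by another closed set `B`. -/
theorem core (f : X ⟶ Y) (s : Y ⟶ X) (hs : s ≫ f = 𝟙 Y)
    [LocallyOfFiniteType f] [QuasiCompact f] [IrreducibleSpace Y] :
    ∃ (V : Y.Opens) (A B : Set X), genericPoint Y ∈ V ∧ IsClosed A ∧ IsClosed B ∧
      (∀ x, f x ∈ V → x ∈ A ∨ x ∈ B) ∧ (∀ x, f x ∈ V → x ∈ A → x ∈ B → False) ∧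
      ∀ x, f x ∈ V → (x ∈ MoreMor.sectionComponents f s ↔ x ∈ A) := by
  classical
  obtain ⟨η, hη⟩ : ∃ η, η = genericPoint Y := ⟨_, rfl⟩
  have hfs : ∀ y, f (s y) = y := fun y => by
    rw [← Scheme.Hom.comp_apply, hs]; rfl
  haveI : NoetherianSpace ↥(f.fiber η) := noetherianSpace_fiber f η
  obtain ⟨w₀, hw₀⟩ : s η ∈ Set.range (f.fiberι η) := by
    rw [f.range_fiberι]; exact hfs η
  obtain ⟨C, hC⟩ : ∃ C : Set ↥(f.fiber η), C = connectedComponent w₀ := ⟨_, rfl⟩
  have hCcl : IsClosed C := hC ▸ isClosed_connectedComponent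
  have hCop : IsOpen C :=
    hC ▸ Groth.Agent.Lib.Helper50.isOpen_connectedComponent_of_noetherianSpace w₀
  have hw₀C : w₀ ∈ C := hC ▸ mem_connectedComponent
  have hCpre : _root_.IsPreconnected C := hC ▸ isPreconnected_connectedComponent
  have hDcl : IsClosed Cᶜ := hCop.isClosed_compl
  obtain ⟨A, hA⟩ : ∃ A : Set X, A = closure (f.fiberι η '' C) := ⟨_, rfl⟩
  obtain ⟨B, hB⟩ : ∃ B : Set X, B = closure (f.fiberι η '' Cᶜ) := ⟨_, rfl⟩
  have hAcl : IsClosed A := hA ▸ isClosed_closure
  have hBcl : IsClosed B := hB ▸ isClosed_closure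
  have hCA : f.fiberι η '' C ⊆ A := hA ▸ subset_closure
  have hDB : f.fiberι η '' Cᶜ ⊆ B := hB ▸ subset_closure
  have hsηA : s η ∈ A := hCA ⟨w₀, hw₀C, hw₀⟩
  have hsA : ∀ y, s y ∈ A := fun y =>
    (((hη ▸ genericPoint_specializes y : η ⤳ y)).map s.continuous).mem_closed hAcl hsηA
  have hAη : A ∩ f ⁻¹' {η} = f.fiberι η '' C := by
    ext x
    constructor
    · rintro ⟨hxA, hfx⟩
      rw [hA] at hxA
      obtain ⟨z, hz, rfl⟩ := exists_mem_of_mem_closure_image_fiberι f η C hCcl x hxA hfx
      exact ⟨z, hz, rfl⟩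
    · rintro ⟨z, hz, rfl⟩
      exact ⟨hCA ⟨z, hz, rfl⟩, map_fiberι f η z⟩
  -- `V₁`: every point over `V₁` has a generization in the generic fibre
  obtain ⟨V₁, hη₁, hV₁, -⟩ := exists_open_generic f
  rw [← hη] at hη₁ hV₁
  have hcovV : ∀ x, f x ∈ V₁ → x ∈ A ∨ x ∈ B := by
    intro x hx1
    obtain ⟨x', hx'x, hfx'⟩ := hV₁ x hx1
    obtain ⟨w, rfl⟩ : x' ∈ Set.range (f.fiberι η) := by
      rw [f.range_fiberι]; exact hfx'
    by_cases hw : w ∈ C
    · exact Or.inl (hx'x.mem_closed hAcl (hCA ⟨w, hw, rfl⟩))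
    · exact Or.inr (hx'x.mem_closed hBcl (hDB ⟨w, hw, rfl⟩))
  -- `V₂`: disjointness
  obtain ⟨V₂, hη₂, hV₂⟩ := exists_open_disjoint_of_isClosed f (A ∩ B) (hAcl.inter hBcl) (by
    rintro z ⟨hzA, hzB⟩ hfz
    rw [← hη] at hfz
    rw [hA] at hzA
    rw [hB] at hzB
    obtain ⟨w, hw, hwz⟩ := exists_mem_of_mem_closure_image_fiberι f η C hCcl z hzA hfz
    obtain ⟨w', hw', hwz'⟩ := exists_mem_of_mem_closure_image_fiberι f η Cᶜ hDcl z hzB hfz
    have : w = w' := (f.fiberι η).isEmbedding.injective (hwz.trans hwz'.symm)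
    subst this
    exact hw' hw)
  rw [← hη] at hη₂
  have hdisjV : ∀ x, f x ∈ V₂ → x ∈ A → x ∈ B → False :=
    fun x hx2 hxA hxB => hV₂ x ⟨hxA, hxB⟩ hx2
  -- the reduced closed subscheme on `A`
  obtain ⟨A', i, hi, hA'red, hir, hlift⟩ :=
    Groth.Agent.Lib.Helper72.GrpComp.exists_reduced_closedSubscheme A hAcl
  have hpre : _root_.IsPreconnected (Set.range i ∩ f ⁻¹' {η}) := by
    rw [hir, hAη]
    exact hCpre.image _ (f.fiberι η).continuous.continuousOn
  haveI hpc : PreconnectedSpace ↥((i ≫ f).fiber η) :=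
    (isPreconnected_range_inter_iff i f η).1 hpre
  -- the rational point of the generic fibre of `A' ⟶ Y`
  obtain ⟨t', ht'⟩ := hlift (Y.fromSpecResidueField η ≫ s) (by
    rintro _ ⟨p, rfl⟩
    rw [Scheme.Hom.comp_apply, Scheme.fromSpecResidueField_apply]
    exact hsA η)
  let e : Spec (Y.residueField η) ⟶ (i ≫ f).fiber η :=
    pullback.lift t' (𝟙 _) (by
      rw [← Category.assoc, ht', Category.assoc, hs, Category.comp_id, Category.id_comp])
  have he : e ≫ (i ≫ f).fiberToSpecResidueField η = 𝟙 _ := pullback.lift_snd _ _ _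
  haveI : ConnectedSpace ↥((i ≫ f).fiber η) :=
    { toPreconnectedSpace := hpc
      toNonempty := ⟨e (IsLocalRing.closedPoint (Y.residueField η))⟩ }
  have hgeom1 := nGeomConnComp_eq_one_of_section (i ≫ f) η e he
  -- `V₃`: constancy of the number of geometric connected components
  obtain ⟨V₃, -, hηV₃, hV₃o, hV₃⟩ := Groth.Agent.S1337.result (i ≫ f) η
  have hV₃open : IsOpen V₃ := by
    obtain ⟨U, hU, hUV⟩ := isOpen_induced_iff.1 hV₃o
    have hcl : closure ({η} : Set Y) = Set.univ := by
      rw [hη]; exact (genericPoint_spec Y).def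
    have : V₃ = U := by
      ext y
      have hy : y ∈ closure ({η} : Set Y) := by rw [hcl]; trivial
      have := Set.ext_iff.1 hUV ⟨y, hy⟩
      exact this.symm
    rw [this]; exact hU
  refine ⟨V₁ ⊓ V₂ ⊓ ⟨V₃, hV₃open⟩, A, B, hη ▸ ⟨⟨hη₁, hη₂⟩, hηV₃⟩, hAcl, hBcl,
    fun x hx => hcovV x hx.1.1, fun x hx => hdisjV x hx.1.2, ?_⟩
  intro x hxV
  obtain ⟨y', hy'⟩ : ∃ y', y' = f x := ⟨_, rfl⟩
  rw [← hy'] at hxV
  have hpre' : _root_.IsPreconnected (A ∩ f ⁻¹' {y'}) := by
    have h1 : MoreMor.nGeomConnComp (i ≫ f) y' = 1 := (hV₃ y' hxV.2).trans hgeom1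
    have h2 := (isPreconnected_range_inter_iff i f y').2
      (preconnectedSpace_fiber_of_nGeomConnComp (i ≫ f) y' h1)
    rwa [hir] at h2
  have hcc := connectedComponentIn_eq_of_closed_cover (f ⁻¹' {y'}) A B hAcl hBcl
    (fun z hz => hcovV z (by rw [show f z = y' from hz]; exact hxV.1.1))
    (fun z hz => hdisjV z (by rw [show f z = y' from hz]; exact hxV.1.2))
    (s y') (hsA y') (hfs y') hpre'
  show x ∈ connectedComponentIn (f ⁻¹' {f x}) (s (f x)) ↔ x ∈ A
  rw [← hy', hcc]
  exact ⟨fun h => h.1, fun h => ⟨h, hy'.symm⟩⟩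

/-- **Section components near a point of the base** (closed-set form). -/
theorem main' (f : X ⟶ Y) (s : Y ⟶ X) (hs : s ≫ f = 𝟙 Y)
    [LocallyOfFiniteType f] [QuasiCompact f] (y : Y) :
    ∃ (V : Set Y) (A B : Set X), V ⊆ closure {y} ∧ y ∈ V ∧
      IsOpen (Subtype.val ⁻¹' V : Set ↑(closure ({y} : Set Y))) ∧ IsClosed A ∧ IsClosed B ∧
      (∀ x, f x ∈ V → x ∈ A ∨ x ∈ B) ∧ (∀ x, f x ∈ V → x ∈ A → x ∈ B → False) ∧
      ∀ x, f x ∈ V → (x ∈ MoreMor.sectionComponents f s ↔ x ∈ A) := by
  obtain ⟨Z, ι, hι, hirr, hr, hgen⟩ :=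
    Groth.Agent.Lib.Helper72.FibDimIrr.exists_closedSubscheme_closure y
  let fZ : pullback f ι ⟶ Z := pullback.snd f ι
  let g' : pullback f ι ⟶ X := pullback.fst f ι
  let sZ : Z ⟶ pullback f ι := pullback.lift (ι ≫ s) (𝟙 Z)
    (by rw [Category.assoc, hs, Category.comp_id, Category.id_comp])
  have hs' : sZ ≫ fZ = 𝟙 Z := pullback.lift_snd _ _ _
  have hs'g : sZ ≫ g' = ι ≫ s := pullback.lift_fst _ _ _
  have hS := Groth.Agent.S1324.result f s hs fZ g' ι (IsPullback.of_hasPullback f ι) sZ hs' hs'g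
  haveI : LocallyOfFiniteType fZ := inferInstanceAs (LocallyOfFiniteType (pullback.snd f ι))
  haveI : QuasiCompact fZ := inferInstanceAs (QuasiCompact (pullback.snd f ι))
  haveI : IsClosedImmersion g' := inferInstanceAs (IsClosedImmersion (pullback.fst f ι))
  obtain ⟨V', A', B', hηV', hA', hB', hcov, hdisj, hiff⟩ := core fZ sZ hs'
  have hιinj : Function.Injective ι := ι.isClosedEmbedding.injective
  have hg'inj : Function.Injective g' := g'.isClosedEmbedding.injective
  have hcomm : ∀ x', f (g' x') = ι (fZ x') := fun x' => by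
    rw [← Scheme.Hom.comp_apply, ← Scheme.Hom.comp_apply, pullback.condition]
  -- points over `ι '' V'` come from the base change
  have hkey : ∀ x, f x ∈ ι '' (V' : Set Z) → ∃ x', g' x' = x ∧ fZ x' ∈ V' := by
    rintro x ⟨v, hv, hvx⟩
    have hx : x ∈ Set.range g' := by
      rw [Scheme.Pullback.range_fst]
      exact ⟨v, hvx⟩
    obtain ⟨x', rfl⟩ := hx
    refine ⟨x', rfl, ?_⟩
    rw [hcomm] at hvx
    rw [← hιinj hvx]
    exact hv
  refine ⟨ι '' (V' : Set Z), g' '' A', g' '' B', ?_, ⟨genericPoint Z, hηV', hgen⟩, ?_,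
    g'.isClosedEmbedding.isClosedMap _ hA', g'.isClosedEmbedding.isClosedMap _ hB', ?_, ?_, ?_⟩
  · rintro _ ⟨v, -, rfl⟩
    rw [← hr]
    exact ⟨v, rfl⟩
  · have hcl : IsClosed (ι '' (V' : Set Z)ᶜ) :=
      ι.isClosedEmbedding.isClosedMap _ V'.isOpen.isClosed_compl
    have : (Subtype.val ⁻¹' (ι '' (V' : Set Z)) : Set ↑(closure ({y} : Set Y))) =
        Subtype.val ⁻¹' (ι '' (V' : Set Z)ᶜ)ᶜ := by
      ext ⟨p, hp⟩
      rw [← hr] at hp
      obtain ⟨z, rfl⟩ := hp
      simp only [Set.mem_preimage, Set.mem_compl_iff, hιinj.mem_set_image]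
      exact not_not.symm
    rw [this]
    exact hcl.isOpen_compl.preimage continuous_subtype_val
  · intro x hx
    obtain ⟨x', rfl, hx'⟩ := hkey x hx
    rcases hcov x' hx' with h | h
    · exact Or.inl ⟨x', h, rfl⟩
    · exact Or.inr ⟨x', h, rfl⟩
  · intro x hx hxA hxB
    obtain ⟨x', rfl, hx'⟩ := hkey x hx
    rw [hg'inj.mem_set_image] at hxA hxB
    exact hdisj x' hx' hxA hxB
  · intro x hx
    obtain ⟨x', rfl, hx'⟩ := hkey x hx
    rw [hg'inj.mem_set_image, ← hiff x' hx', hS]
    rfl

/-- **Section components near a point of the base**: statement S1325. -/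
theorem main (f : X ⟶ Y) (s : Y ⟶ X) (hs : s ≫ f = 𝟙 Y)
    [LocallyOfFiniteType f] [QuasiCompact f] (y : Y) :
    ∃ V : Set ↑Y, V ⊆ closure {y} ∧ y ∈ V ∧
      IsOpen (Subtype.val ⁻¹' V : Set ↑(closure ({y} : Set ↑Y))) ∧
      IsClopen (Subtype.val ⁻¹' MoreMor.sectionComponents f s : Set ↑(f ⁻¹' V)) := by
  obtain ⟨V, A, B, hV, hyV, hVo, hA, hB, hcov, hdisj, hiff⟩ := main' f s hs y
  refine ⟨V, hV, hyV, hVo, ?_, ?_⟩
  · have : (Subtype.val ⁻¹' MoreMor.sectionComponents f s : Set ↑(f ⁻¹' V)) =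
        Subtype.val ⁻¹' A := by
      ext ⟨x, hx⟩
      exact hiff x hx
    rw [this]
    exact hA.preimage continuous_subtype_val
  · have : (Subtype.val ⁻¹' MoreMor.sectionComponents f s : Set ↑(f ⁻¹' V)) =
        (Subtype.val ⁻¹' B)ᶜ := by
      ext ⟨x, hx⟩
      simp only [Set.mem_preimage, Set.mem_compl_iff]
      rw [hiff x hx]
      constructor
      · exact fun hxA hxB => hdisj x hx hxA hxB
      · intro hxB
        rcases hcov x hx with h | h
        · exact h
        · exact absurd h hxB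
    rw [this]
    exact (hB.preimage continuous_subtype_val).isOpen_compl

end Groth.Agent.Lib.Helper67.SecComp
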