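import Groth.Agent.Lib.Helper67.IterLoc2

set_option autoImplicit false
set_option linter.style.haveILetI false
set_option linter.unusedSectionVars false

universe u v w

namespace Groth.Agent.Lib.Helper67

open RingTheory.Sequence LocCoh
open scoped Pointwise

section FinDepth

variable {A B : Type u} [CommRing A] [CommRing B] [IsNoetherianRing A] [IsNoetherianRing B]
  [Algebra A B]

/-- Depth along a ring map, for a module finite over the source:
`depth_A(a, M) = depth_B(aB, M)`. -/
theorem idealDepth_eq_idealDepth_map_of_finite_module (a : Ideal A) (M : Type u) [AddCommGroup M]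
    [Module B M] [Module A M] [IsScalarTower A B M] [Module.Finite A M] :
    idealDepth a M = idealDepth (a.map (algebraMap A B)) M := by
  haveI hMB : Module.Finite B M := Module.Finite.of_restrictScalars_finite A B M
  refine idealDepth_eq_of_algebra a (a.map (algebraMap A B)) le_rfl ?_ ?_ M
  · intro M _ _ _ _ _ _ hIM h
    exact hIM ((smul_top_eq_top_iff_map (B := B) M a).mpr h)
  · intro M _ _ _ _ _ _ hIM h0
    have hJM : (a.map (algebraMap A B)) • (⊤ : Submodule B M) ≠ ⊤ :=
      fun h => hIM ((smul_top_eq_top_iff_map (B := B) M a).mpr h)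
    rw [idealDepth_eq_zero_iff] at h0 ⊢
    obtain ⟨_, q, hq, haq⟩ := h0
    obtain ⟨hqp, z, hz⟩ := (isAssociatedPrime_iff).mp hq
    have hz0 : z ≠ 0 := by
      rintro rfl
      apply hqp.ne_top
      rw [hz, Ideal.eq_top_iff_one, Submodule.mem_colon_singleton]
      simp
    obtain ⟨Q, hQ, hle⟩ := exists_le_isAssociatedPrime_of_isNoetherianRing B z hz0
    refine ⟨hJM, Q, hQ, le_trans ?_ hle⟩
    rw [Ideal.map_le_iff_le_comap]
    intro x hx
    rw [Ideal.mem_comap, Submodule.mem_colon_singleton, algebraMap_smul]
    have : x ∈ (⊥ : Submodule A M).colon {z} := by rw [← hz]; exact haq hx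
    exact Submodule.mem_colon_singleton.mp this

/-- Local version: `depth_A M = inf_Q depth M_Q` over primes `Q ⊇ m_A B`. -/
theorem depth_eq_iInf_depth_localization_of_finite_module [IsLocalRing A] (M : Type u)
    [AddCommGroup M] [Module B M] [Module A M] [IsScalarTower A B M] [Module.Finite A M] :
    depth A M = ⨅ (Q : PrimeSpectrum B)
      (_ : (IsLocalRing.maximalIdeal A).map (algebraMap A B) ≤ Q.asIdeal),
      depth (Localization.AtPrime Q.asIdeal) (LocalizedModule Q.asIdeal.primeCompl M) := by
  haveI hMB : Module.Finite B M := Module.Finite.of_restrictScalars_finite A B M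
  rw [depth, idealDepth_eq_idealDepth_map_of_finite_module (B := B),
    idealDepth_eq_iInf_depth_localization]


omit [IsNoetherianRing A] [IsNoetherianRing B] in
theorem depth_supportDim_congr_prime (M : Type u) [AddCommGroup M] [Module B M]
    (q1 q2 : Ideal B) [q1.IsPrime] [q2.IsPrime] (h : q1 = q2) :
    depth (Localization.AtPrime q1) (LocalizedModule q1.primeCompl M) =
        depth (Localization.AtPrime q2) (LocalizedModule q2.primeCompl M) ∧
      Module.supportDim (Localization.AtPrime q1) (LocalizedModule q1.primeCompl M) =
        Module.supportDim (Localization.AtPrime q2) (LocalizedModule q2.primeCompl M) := by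
  subst h
  exact ⟨rfl, rfl⟩

/-- **EGA IV 5.7.? (depth part)**: for a `B`-module `M` finite over `A`, the depth of `M_p` is the
infimum of the depths of the `M_q`, `q` over `p`. -/
theorem depth_localizedModule_eq_iInf_of_finite_module (p : Ideal A) [p.IsPrime] (M : Type u)
    [AddCommGroup M] [Module B M] [Module A M] [IsScalarTower A B M] [Module.Finite A M] :
    depth (Localization.AtPrime p) (LocalizedModule p.primeCompl M) =
      ⨅ (q : PrimeSpectrum B) (_ : q.asIdeal.comap (algebraMap A B) = p),
        depth (Localization.AtPrime q.asIdeal) (LocalizedModule q.asIdeal.primeCompl M) := by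
  haveI hMB : Module.Finite B M := Module.Finite.of_restrictScalars_finite A B M
  set S' := Algebra.algebraMapSubmonoid B p.primeCompl with hS'
  set Ap := Localization.AtPrime p with hAp
  set Bp := Localization S' with hBp
  set Mp := LocalizedModule S' M with hMp
  letI : Module Ap Mp := Module.compHom Mp (algebraMap Ap Bp)
  haveI : IsScalarTower Ap Bp Mp := IsScalarTower.of_algebraMap_smul (fun r x => rfl)
  haveI : IsScalarTower A Ap Mp := IsScalarTower.of_algebraMap_smul (fun a x => by
    show algebraMap Ap Bp (algebraMap A Ap a) • x = a • x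
    rw [← IsScalarTower.algebraMap_apply A Ap Bp, IsScalarTower.algebraMap_apply A B Bp,
      algebraMap_smul, algebraMap_smul])
  haveI := IsLocalizedModule.restrictScalars p.primeCompl (LocalizedModule.mkLinearMap S' M)
  let τ : LocalizedModule p.primeCompl M ≃ₗ[A] Mp :=
    IsLocalizedModule.linearEquiv p.primeCompl (LocalizedModule.mkLinearMap p.primeCompl M)
      ((LocalizedModule.mkLinearMap S' M).restrictScalars A)
  let τp : LocalizedModule p.primeCompl M ≃ₗ[Ap] Mp :=
    LinearEquiv.extendScalarsOfIsLocalization p.primeCompl Ap τ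
  haveI : Module.Finite Ap Mp := Module.Finite.equiv τp
  rw [depth_congr τp, depth_eq_iInf_depth_localization_of_finite_module (A := Ap) (B := Bp) Mp]
  have hmax : (IsLocalRing.maximalIdeal Ap).map (algebraMap Ap Bp) =
      (p.map (algebraMap A B)).map (algebraMap B Bp) := by
    rw [← Localization.AtPrime.map_eq_maximalIdeal, Ideal.map_map, Ideal.map_map,
      ← IsScalarTower.algebraMap_eq, ← IsScalarTower.algebraMap_eq]
  apply le_antisymm
  · refine le_iInf₂ fun q hq => ?_
    have hdisj : Disjoint (S' : Set B) (q.asIdeal : Set B) := by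
      rw [Set.disjoint_left]
      rintro b ⟨a, ha, rfl⟩ hb
      apply ha
      rw [← hq]
      exact hb
    haveI hQprime : (q.asIdeal.map (algebraMap B Bp)).IsPrime :=
      IsLocalization.isPrime_of_isPrime_disjoint S' Bp q.asIdeal q.2 hdisj
    have hcomap : (q.asIdeal.map (algebraMap B Bp)).comap (algebraMap B Bp) = q.asIdeal :=
      IsLocalization.under_map_of_isPrime_disjoint S' Bp q.2 hdisj
    have hle : (IsLocalRing.maximalIdeal Ap).map (algebraMap Ap Bp) ≤
        q.asIdeal.map (algebraMap B Bp) := by
      rw [hmax]
      apply Ideal.map_mono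
      rw [Ideal.map_le_iff_le_comap, hq]
    refine le_trans (iInf₂_le ⟨q.asIdeal.map (algebraMap B Bp), hQprime⟩ hle) ?_
    have h1 := (depth_supportDim_localization_localization S'
      (q.asIdeal.map (algebraMap B Bp)) M).1
    rw [h1, (depth_supportDim_congr_prime M _ q.asIdeal hcomap).1]
  · refine le_iInf₂ fun Q hQ => ?_
    have hq : (Q.asIdeal.comap (algebraMap B Bp)).comap (algebraMap A B) = p := by
      apply le_antisymm
      · intro a ha
        by_contra hap
        have hmem : algebraMap A B a ∈ S' := ⟨a, hap, rfl⟩
        have hunit : IsUnit (algebraMap B Bp (algebraMap A B a)) :=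
          IsLocalization.map_units Bp ⟨_, hmem⟩
        exact Q.2.ne_top (Ideal.eq_top_of_isUnit_mem _ ha hunit)
      · intro a ha
        rw [Ideal.mem_comap, Ideal.mem_comap]
        apply hQ
        rw [hmax]
        exact Ideal.mem_map_of_mem _ (Ideal.mem_map_of_mem _ ha)
    refine le_trans (iInf₂_le ⟨Q.asIdeal.comap (algebraMap B Bp), inferInstance⟩ hq) ?_
    have h1 := (depth_supportDim_localization_localization S' Q.asIdeal M).1
    rw [h1]

end FinDepth

end Groth.Agent.Lib.Helper67
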