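import Groth.Agent.Lib.Helper67.FlatDepth4
import Mathlib.LinearAlgebra.TensorProduct.Quotient

set_option autoImplicit false
set_option linter.style.haveILetI false
set_option linter.unusedSectionVars false

universe u v w

namespace Groth.Agent.Lib.Helper67

open RingTheory.Sequence LocCoh TensorProduct IsLocalRing
open scoped Pointwise

section Fibre

variable {R : Type u} {S : Type v} [CommRing R] [CommRing S] [Algebra R S]
  (N : Type w) [AddCommGroup N] [Module S N] [Module R N] [IsScalarTower R S N] (I : Ideal R)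

/-- `n ↦ n ⊗ 1 : N → N ⊗ R/I`, `S`-linear. -/
noncomputable def tmulOne : N →ₗ[S] N ⊗[R] (R ⧸ I) where
  toFun n := n ⊗ₜ[R] (1 : R ⧸ I)
  map_add' a b := TensorProduct.add_tmul a b 1
  map_smul' s n := (TensorProduct.smul_tmul' s n (1 : R ⧸ I)).symm

theorem tmulOne_apply (n : N) : tmulOne (S := S) N I n = n ⊗ₜ[R] (1 : R ⧸ I) := rfl

theorem tmulOne_surjective : Function.Surjective (tmulOne (S := S) N I) := by
  intro t
  induction t using TensorProduct.induction_on with
  | zero => exact ⟨0, map_zero _⟩
  | add a b ha hb =>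
    obtain ⟨a', rfl⟩ := ha
    obtain ⟨b', rfl⟩ := hb
    exact ⟨a' + b', map_add _ _ _⟩
  | tmul n x =>
    obtain ⟨r, rfl⟩ := Ideal.Quotient.mk_surjective x
    refine ⟨r • n, ?_⟩
    rw [tmulOne_apply, TensorProduct.smul_tmul]
    congr 1
    rw [← Ideal.Quotient.algebraMap_eq, Algebra.smul_def, mul_one]

theorem ker_tmulOne : LinearMap.ker (tmulOne (S := S) N I) =
    (I.map (algebraMap R S)) • (⊤ : Submodule S N) := by
  apply le_antisymm
  · intro n hn
    rw [LinearMap.mem_ker, tmulOne_apply] at hn
    have h1 : (TensorProduct.tensorQuotEquivQuotSMul N I) (n ⊗ₜ[R] (1 : R ⧸ I)) = 0 := by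
      rw [hn, map_zero]
    rw [← map_one (Ideal.Quotient.mk I), TensorProduct.tensorQuotEquivQuotSMul_tmul_mk, one_smul,
      Submodule.Quotient.mk_eq_zero] at h1
    exact mem_map_smul_top_of_mem_smul_top N I h1
  · rw [Submodule.smul_le]
    intro a ha n _
    rw [LinearMap.mem_ker, map_smul]
    have hann : I.map (algebraMap R S) ≤ Module.annihilator S (N ⊗[R] (R ⧸ I)) := by
      rw [Ideal.map_le_iff_le_comap]
      intro r hr
      rw [Ideal.mem_comap, Module.mem_annihilator]
      intro t
      rw [algebraMap_smul]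
      induction t using TensorProduct.induction_on with
      | zero => simp
      | add a b ha hb => rw [smul_add, ha, hb, add_zero]
      | tmul n x =>
        obtain ⟨r', rfl⟩ := Ideal.Quotient.mk_surjective x
        rw [← TensorProduct.tmul_smul, ← Ideal.Quotient.algebraMap_eq, Algebra.smul_def,
          Ideal.Quotient.algebraMap_eq, ← map_mul,
          Ideal.Quotient.eq_zero_iff_mem.mpr (I.mul_mem_right r' hr), TensorProduct.tmul_zero]
    exact Module.mem_annihilator.mp (hann ha) _

/-- The closed fibre `N ⊗ R/I` is `N/(IS)N`, `S`-linearly. -/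
noncomputable def fibreEquiv :
    (N ⧸ (I.map (algebraMap R S)) • (⊤ : Submodule S N)) ≃ₗ[S] N ⊗[R] (R ⧸ I) :=
  (Submodule.quotEquivOfEq _ _ (ker_tmulOne N I).symm) ≪≫ₗ
    (tmulOne N I).quotKerEquivOfSurjective (tmulOne_surjective N I)

end Fibre

section Final

variable {R : Type u} {S : Type u} [CommRing R] [CommRing S] [Algebra R S] [IsLocalRing R]
  [IsLocalRing S] [IsNoetherianRing R] [IsNoetherianRing S] [IsLocalHom (algebraMap R S)]

theorem depth_eq_top_of_subsingleton {A : Type u} [CommRing A] [IsLocalRing A] (T : Type v)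
    [AddCommGroup T] [Module A T] [Subsingleton T] : depth A T = ⊤ := by
  have htop : maximalIdeal A • (⊤ : Submodule A T) = ⊤ := by
    ext z
    simp [Subsingleton.elim z 0]
  rw [depth, idealDepth_eq_top_of_smul_top_eq_top _ _ htop]

/-- **Depth formula** for flat local homomorphisms, fibre written as `N ⊗ R/m`. -/
theorem depth_tensor_eq_add (N : Type u) [AddCommGroup N] [Module S N] [Module R N]
    [IsScalarTower R S N] [Module.Flat R N] [Module.Finite S N] [Nontrivial N]
    (M : Type u) [AddCommGroup M] [Module R M] [Module.Finite R M] [Nontrivial M] :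
    depth S (N ⊗[R] M) = depth R M + depth S (N ⊗[R] (R ⧸ maximalIdeal R)) := by
  haveI : Module.FaithfullyFlat R N := faithfullyFlat_of_flat_of_finite (S := S) N
  haveI : Module.Finite S (N ⊗[R] (R ⧸ maximalIdeal R)) :=
    finite_tensor N (R ⧸ maximalIdeal R)
  haveI : Nontrivial (N ⊗[R] (R ⧸ maximalIdeal R)) :=
    Module.FaithfullyFlat.lTensor_nontrivial R N _
  obtain ⟨r, hr⟩ := ENat.ne_top_iff_exists.mp (depth_ne_top (R := R) M)
  obtain ⟨s, hs⟩ := ENat.ne_top_iff_exists.mp
    (depth_ne_top (R := S) (N ⊗[R] (R ⧸ maximalIdeal R)))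
  rw [depth_tensor_eq_add_aux N s hs.symm r M hr.symm, ← hr, ← hs]

/-- **Depth formula** for flat local homomorphisms:
`depth_S (N ⊗_R M) = depth_R M + depth_S (N / m_R N)`. -/
theorem depth_tensor_eq_add_quotient (N : Type u) [AddCommGroup N] [Module S N] [Module R N]
    [IsScalarTower R S N] [Module.Flat R N] [Module.Finite S N]
    (M : Type u) [AddCommGroup M] [Module R M] [Module.Finite R M] :
    depth S (N ⊗[R] M) = depth R M +
      depth S (N ⧸ (maximalIdeal R).map (algebraMap R S) • (⊤ : Submodule S N)) := by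
  rcases subsingleton_or_nontrivial N with hN | hN
  · haveI : Subsingleton (N ⊗[R] M) := inferInstance
    haveI : Subsingleton (N ⧸ (maximalIdeal R).map (algebraMap R S) • (⊤ : Submodule S N)) :=
      inferInstance
    rw [depth_eq_top_of_subsingleton (N ⊗[R] M), depth_eq_top_of_subsingleton
      (N ⧸ (maximalIdeal R).map (algebraMap R S) • (⊤ : Submodule S N)), add_top]
  rcases subsingleton_or_nontrivial M with hM | hM
  · haveI : Subsingleton (N ⊗[R] M) := inferInstance
    rw [depth_eq_top_of_subsingleton (N ⊗[R] M), depth_eq_top_of_subsingleton M, top_add]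
  rw [depth_tensor_eq_add N M, depth_congr (fibreEquiv N (maximalIdeal R))]

end Final

end Groth.Agent.Lib.Helper67
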