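import Groth.Agent.Lib.Helper67.SuppLoc
import Mathlib.RingTheory.Ideal.GoingUp

/-!
# Depth under change of rings (helper67)

`idealDepth_A(I, M) = idealDepth_B(J, M)` for a `B`-module `M`, in two situations:
finite ring maps (`J = IB`) and local homomorphisms with `M` finite over `A`.
-/

universe u v w

namespace Groth.Agent.Lib.Helper67

open RingTheory.Sequence LocCoh
open scoped Pointwise

section SMulTop

variable {A : Type u} {B : Type v} [CommRing A] [CommRing B] [Algebra A B]
  (M : Type w) [AddCommGroup M] [Module B M] [Module A M] [IsScalarTower A B M]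

theorem mem_map_smul_top_of_mem_smul_top (I : Ideal A) {y : M}
    (hy : y ∈ I • (⊤ : Submodule A M)) :
    y ∈ (I.map (algebraMap A B)) • (⊤ : Submodule B M) := by
  refine Submodule.smul_induction_on hy (fun x hx n _ => ?_) (fun y z hy hz => add_mem hy hz)
  rw [← algebraMap_smul B x n]
  exact Submodule.smul_mem_smul (Ideal.mem_map_of_mem _ hx) trivial

theorem mem_smul_top_of_mem_map_smul_top (I : Ideal A) {y : M}
    (hy : y ∈ (I.map (algebraMap A B)) • (⊤ : Submodule B M)) :
    y ∈ I • (⊤ : Submodule A M) := by
  let N : Submodule B M :=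
    { carrier := {y | y ∈ I • (⊤ : Submodule A M)}
      add_mem' := fun {a b} ha hb => (I • (⊤ : Submodule A M)).add_mem ha hb
      zero_mem' := (I • (⊤ : Submodule A M)).zero_mem
      smul_mem' := by
        intro b y hy
        have hy' : y ∈ I • (⊤ : Submodule A M) := hy
        show b • y ∈ I • (⊤ : Submodule A M)
        refine Submodule.smul_induction_on hy' (fun x hx n _ => ?_) (fun y z hy hz => ?_)
        · rw [smul_comm]
          exact Submodule.smul_mem_smul hx trivial
        · rw [smul_add]
          exact add_mem hy hz }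
  have hle : (I.map (algebraMap A B)) • (⊤ : Submodule B M) ≤ N := by
    rw [Submodule.smul_le]
    intro r hr n _
    have : I.map (algebraMap A B) ≤ N.colon (⊤ : Set M) := by
      rw [Ideal.map_le_iff_le_comap]
      intro x hx
      rw [Ideal.mem_comap, Submodule.mem_colon]
      intro n _
      show algebraMap A B x • n ∈ I • (⊤ : Submodule A M)
      rw [algebraMap_smul]
      exact Submodule.smul_mem_smul hx trivial
    exact (Submodule.mem_colon.mp (this hr)) n trivial
  exact hle hy

theorem smul_top_eq_top_iff_map (I : Ideal A) :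
    I • (⊤ : Submodule A M) = ⊤ ↔ (I.map (algebraMap A B)) • (⊤ : Submodule B M) = ⊤ := by
  constructor
  · intro h
    rw [eq_top_iff]
    intro y _
    have : y ∈ I • (⊤ : Submodule A M) := by rw [h]; trivial
    exact mem_map_smul_top_of_mem_smul_top M I this
  · intro h
    rw [eq_top_iff]
    intro y _
    have : y ∈ (I.map (algebraMap A B)) • (⊤ : Submodule B M) := by rw [h]; trivial
    exact mem_smul_top_of_mem_map_smul_top M I this

/-- `M/(f x)M` (quotient over `B`) is `A`-linearly `M/xM`. -/
noncomputable def quotSMulTopAlgEquiv (x : A) :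
    QuotSMulTop (algebraMap A B x) M ≃ₗ[A] QuotSMulTop x M :=
  (Submodule.Quotient.restrictScalarsEquiv A
    ((algebraMap A B x) • (⊤ : Submodule B M))).symm ≪≫ₗ
  Submodule.quotEquivOfEq _ _ (by
    ext y
    simp only [Submodule.restrictScalars_mem]
    rw [Submodule.mem_smul_pointwise_iff_exists, Submodule.mem_smul_pointwise_iff_exists]
    simp only [Submodule.mem_top, true_and, algebraMap_smul])

theorem isSMulRegular_algebraMap_iff (x : A) :
    IsSMulRegular M (algebraMap A B x) ↔ IsSMulRegular M x := by
  unfold IsSMulRegular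
  have : (fun m : M => algebraMap A B x • m) = fun m : M => x • m := by
    funext m
    exact algebraMap_smul B x m
  rw [this]

end SMulTop

section Skeleton

variable {A B : Type u} [CommRing A] [CommRing B] [IsNoetherianRing A] [IsNoetherianRing B]
  [Algebra A B] (I : Ideal A) (J : Ideal B) (hIJ : I.map (algebraMap A B) ≤ J)

omit [IsNoetherianRing A] [IsNoetherianRing B] in
include hIJ in
theorem idealDepth_le_of_algebra (M : Type u) [AddCommGroup M] [Module B M] [Module A M]
    [IsScalarTower A B M] (hJM : J • (⊤ : Submodule B M) ≠ ⊤) :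
    idealDepth I M ≤ idealDepth J M := by
  rw [← ENat.forall_natCast_le_iff_le]
  intro n hn
  rw [le_idealDepth_iff] at hn ⊢
  rcases hn with h | ⟨rs, hlen, hreg, hmem⟩
  · exfalso
    apply hJM
    have h1 := (smul_top_eq_top_iff_map (B := B) M I).mp h
    have hle : (I.map (algebraMap A B)) • (⊤ : Submodule B M) ≤ J • ⊤ :=
      Submodule.smul_mono_left hIJ
    rw [h1] at hle
    exact top_le_iff.mp hle
  · refine Or.inr ⟨rs.map (algebraMap A B), by simp [hlen], ?_, ?_⟩
    · exact (isWeaklyRegular_map_algebraMap_iff B M rs).mpr hreg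
    · intro r hr
      rcases List.mem_map.mp hr with ⟨a, ha, rfl⟩
      exact hIJ (Ideal.mem_map_of_mem _ (hmem a ha))

include hIJ in
theorem idealDepth_eq_of_algebra_aux
    (h1 : ∀ (M : Type u) [AddCommGroup M] [Module B M] [Module A M] [IsScalarTower A B M]
      [Module.Finite A M] [Module.Finite B M],
      I • (⊤ : Submodule A M) ≠ ⊤ → J • (⊤ : Submodule B M) ≠ ⊤)
    (h0 : ∀ (M : Type u) [AddCommGroup M] [Module B M] [Module A M] [IsScalarTower A B M]
      [Module.Finite A M] [Module.Finite B M],
      I • (⊤ : Submodule A M) ≠ ⊤ → idealDepth I M = 0 → idealDepth J M = 0) (n : ℕ) :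
    ∀ (M : Type u) [AddCommGroup M] [Module B M] [Module A M] [IsScalarTower A B M]
      [Module.Finite A M] [Module.Finite B M],
      I • (⊤ : Submodule A M) ≠ ⊤ → idealDepth I M ≤ n → idealDepth J M ≤ n := by
  induction n with
  | zero =>
    intro M _ _ _ _ _ _ hIM hle
    rw [h0 M hIM (by simpa using hle)]
    exact bot_le
  | succ n ih =>
    intro M _ _ _ _ _ _ hIM hle
    by_cases hz : idealDepth I M = 0
    · rw [h0 M hIM hz]
      exact bot_le
    · have hone : (1 : ℕ∞) ≤ idealDepth I M := Order.one_le_iff_ne_zero.mpr hz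
      rw [one_le_idealDepth_iff] at hone
      rcases hone with hone | ⟨x, hxI, hx⟩
      · exact absurd hone hIM
      · have hJM := h1 M hIM
        have hIQ := smul_top_quotSMulTop_ne_top hxI hIM
        have h2 := idealDepth_quotSMulTop_add_one I M hIM x hxI hx
        have h3 : idealDepth I (QuotSMulTop x M) ≤ n := by
          rw [← h2] at hle
          have : idealDepth I (QuotSMulTop x M) + 1 ≤ (n : ℕ∞) + 1 := by exact_mod_cast hle
          exact (ENat.add_le_add_iff_right ENat.one_ne_top).mp this
        have e := quotSMulTopAlgEquiv (B := B) M x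
        have h4 : idealDepth I (QuotSMulTop (algebraMap A B x) M) ≤ n := by
          rw [idealDepth_congr I e]
          exact h3
        have hIQ' : I • (⊤ : Submodule A (QuotSMulTop (algebraMap A B x) M)) ≠ ⊤ := by
          intro h
          exact hIQ (smul_top_eq_top_of_equiv I e h)
        have hfinA : Module.Finite A (QuotSMulTop (algebraMap A B x) M) :=
          Module.Finite.equiv e.symm
        have h5 := ih (QuotSMulTop (algebraMap A B x) M) hIQ' h4
        have hxJ : algebraMap A B x ∈ J := hIJ (Ideal.mem_map_of_mem _ hxI)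
        have h6 := idealDepth_quotSMulTop_add_one J M hJM (algebraMap A B x) hxJ
          ((isSMulRegular_algebraMap_iff M x).mpr hx)
        rw [← h6]
        have : idealDepth J (QuotSMulTop (algebraMap A B x) M) + 1 ≤ (n : ℕ∞) + 1 := by
          gcongr
        exact_mod_cast this

include hIJ in
theorem idealDepth_eq_of_algebra
    (h1 : ∀ (M : Type u) [AddCommGroup M] [Module B M] [Module A M] [IsScalarTower A B M]
      [Module.Finite A M] [Module.Finite B M],
      I • (⊤ : Submodule A M) ≠ ⊤ → J • (⊤ : Submodule B M) ≠ ⊤)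
    (h0 : ∀ (M : Type u) [AddCommGroup M] [Module B M] [Module A M] [IsScalarTower A B M]
      [Module.Finite A M] [Module.Finite B M],
      I • (⊤ : Submodule A M) ≠ ⊤ → idealDepth I M = 0 → idealDepth J M = 0)
    (M : Type u) [AddCommGroup M] [Module B M] [Module A M] [IsScalarTower A B M]
    [Module.Finite A M] [Module.Finite B M] :
    idealDepth I M = idealDepth J M := by
  by_cases hIM : I • (⊤ : Submodule A M) = ⊤
  · have hJM : J • (⊤ : Submodule B M) = ⊤ := by
      have h2 := (smul_top_eq_top_iff_map (B := B) M I).mp hIM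
      have hle : (I.map (algebraMap A B)) • (⊤ : Submodule B M) ≤ J • ⊤ :=
        Submodule.smul_mono_left hIJ
      rw [h2] at hle
      exact top_le_iff.mp hle
    rw [idealDepth_eq_top_of_smul_top_eq_top I M hIM,
      idealDepth_eq_top_of_smul_top_eq_top J M hJM]
  · have hJM := h1 M hIM
    apply le_antisymm (idealDepth_le_of_algebra I J hIJ M hJM)
    obtain ⟨n, hn⟩ := ENat.ne_top_iff_exists.mp (idealDepth_ne_top_of_smul_top_ne_top I M hIM)
    rw [← hn]
    exact idealDepth_eq_of_algebra_aux I J hIJ h1 h0 n M hIM (by rw [← hn])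

end Skeleton

section FiniteMap

variable {A B : Type u} [CommRing A] [CommRing B] [IsNoetherianRing A] [Algebra A B]
  [Module.Finite A B]

/-- Depth along a finite ring map: `depth_A(a, M) = depth_B(aB, M)`. -/
theorem idealDepth_eq_idealDepth_map_of_finite (a : Ideal A) (M : Type u) [AddCommGroup M]
    [Module B M] [Module A M] [IsScalarTower A B M] [Module.Finite B M] :
    idealDepth a M = idealDepth (a.map (algebraMap A B)) M := by
  have hBn : IsNoetherianRing B :=
    isNoetherian_of_tower A (isNoetherian_of_isNoetherianRing_of_finite A B)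
  have hMA : Module.Finite A M := Module.Finite.trans B M
  refine idealDepth_eq_of_algebra a (a.map (algebraMap A B)) le_rfl ?_ ?_ M
  · intro M _ _ _ _ _ _ hIM h
    exact hIM ((smul_top_eq_top_iff_map (B := B) M a).mpr h)
  · intro M _ _ _ _ _ _ hIM h0
    have hJM : (a.map (algebraMap A B)) • (⊤ : Submodule B M) ≠ ⊤ :=
      fun h => hIM ((smul_top_eq_top_iff_map (B := B) M a).mpr h)
    rw [idealDepth_eq_zero_iff] at h0 ⊢
    obtain ⟨_, q, hq, haq⟩ := h0
    obtain ⟨hqp, z, hz⟩ := (isAssociatedPrime_iff).mp hq
    have hz0 : z ≠ 0 := by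
      rintro rfl
      apply hqp.ne_top
      rw [hz, Ideal.eq_top_iff_one, Submodule.mem_colon_singleton]
      simp
    obtain ⟨Q, hQ, hle⟩ := exists_le_isAssociatedPrime_of_isNoetherianRing B z hz0
    refine ⟨hJM, Q, hQ, le_trans ?_ hle⟩
    rw [Ideal.map_le_iff_le_comap]
    intro x hx
    rw [Ideal.mem_comap, Submodule.mem_colon_singleton, algebraMap_smul]
    have : x ∈ (⊥ : Submodule A M).colon {z} := by rw [← hz]; exact haq hx
    exact Submodule.mem_colon_singleton.mp this

end FiniteMap

section LocalHom

variable {A B : Type u} [CommRing A] [CommRing B] [IsLocalRing A] [IsLocalRing B]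
  [IsNoetherianRing A] [IsNoetherianRing B] [Algebra A B] [IsLocalHom (algebraMap A B)]

omit [IsLocalHom (algebraMap A B)] in
theorem maximalIdeal_mem_associatedPrimes_of_isLocalHom (M : Type u) [AddCommGroup M]
    [Module B M] [Module A M] [IsScalarTower A B M] [Module.Finite A M]
    (h : IsLocalRing.maximalIdeal A ∈ associatedPrimes A M) :
    IsLocalRing.maximalIdeal B ∈ associatedPrimes B M := by
  obtain ⟨_, z, hz⟩ := (isAssociatedPrime_iff).mp h
  have hz0 : z ≠ 0 := by
    rintro rfl
    apply (IsLocalRing.maximalIdeal.isMaximal A).ne_top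
    rw [hz, Ideal.eq_top_iff_one, Submodule.mem_colon_singleton]
    simp
  obtain ⟨Q, hQ, hle⟩ := exists_le_isAssociatedPrime_of_isNoetherianRing B z hz0
  obtain ⟨hQp, w, hw⟩ := (isAssociatedPrime_iff).mp hQ
  -- `B ⧸ Q` is a finite `A`-module
  let ψ : B →ₗ[A] M := (LinearMap.toSpanSingleton B M w).restrictScalars A
  have hker : LinearMap.ker ψ = Q.restrictScalars A := by
    ext b
    rw [LinearMap.mem_ker, Submodule.restrictScalars_mem, hw, Submodule.mem_colon_singleton]
    simp [ψ]
  have hnoeth : IsNoetherian A M := isNoetherian_of_isNoetherianRing_of_finite A M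
  have hfin1 : Module.Finite A (LinearMap.range ψ) :=
    Module.Finite.iff_fg.mpr (IsNoetherian.noetherian _)
  have e : (LinearMap.range ψ) ≃ₗ[A] (B ⧸ Q) :=
    ψ.quotKerEquivRange.symm ≪≫ₗ Submodule.quotEquivOfEq _ _ hker ≪≫ₗ
      Submodule.Quotient.restrictScalarsEquiv A Q
  have hfin : Module.Finite A (B ⧸ Q) := Module.Finite.equiv e
  have hint : Algebra.IsIntegral A (B ⧸ Q) := Algebra.IsIntegral.of_finite A (B ⧸ Q)
  have hcomap : Ideal.comap (algebraMap A (B ⧸ Q)) ⊥ = IsLocalRing.maximalIdeal A := by
    symm
    apply (IsLocalRing.maximalIdeal.isMaximal A).eq_of_le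
    · intro htop
      have h1 : (1 : A) ∈ Ideal.comap (algebraMap A (B ⧸ Q)) ⊥ := by rw [htop]; trivial
      rw [Ideal.mem_comap, map_one, Ideal.mem_bot] at h1
      exact one_ne_zero h1
    · intro x hx
      rw [Ideal.mem_comap, Ideal.mem_bot, IsScalarTower.algebraMap_apply A B (B ⧸ Q),
        Ideal.Quotient.algebraMap_eq, Ideal.Quotient.eq_zero_iff_mem]
      apply hle
      rw [Submodule.mem_colon_singleton, algebraMap_smul]
      have : x ∈ (⊥ : Submodule A M).colon {z} := by rw [← hz]; exact hx
      exact Submodule.mem_colon_singleton.mp this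
  have hbot : (⊥ : Ideal (B ⧸ Q)).IsMaximal := by
    apply Ideal.isMaximal_of_isIntegral_of_isMaximal_comap (R := A) (⊥ : Ideal (B ⧸ Q))
    rw [hcomap]
    exact IsLocalRing.maximalIdeal.isMaximal A
  have hQmax : Q.IsMaximal := (Ideal.bot_quotient_isMaximal_iff Q).mp hbot
  rw [← IsLocalRing.eq_maximalIdeal hQmax]
  exact hQ

/-- Depth along a local homomorphism, for a module finite over the source. -/
theorem depth_eq_depth_of_isLocalHom_of_finite (M : Type u) [AddCommGroup M]
    [Module B M] [Module A M] [IsScalarTower A B M] [Module.Finite A M] :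
    depth A M = depth B M := by
  have hMB : Module.Finite B M := Module.Finite.of_restrictScalars_finite A B M
  have hIJ : (IsLocalRing.maximalIdeal A).map (algebraMap A B) ≤ IsLocalRing.maximalIdeal B := by
    rw [Ideal.map_le_iff_le_comap]
    intro x hx
    exact map_nonunit (algebraMap A B) x hx
  refine idealDepth_eq_of_algebra _ _ hIJ ?_ ?_ M
  · intro M _ _ _ _ _ _ hIM
    have hnt : Nontrivial M := by
      by_contra hcon
      rw [not_nontrivial_iff_subsingleton] at hcon
      exact hIM (Subsingleton.elim _ _)
    exact maximalIdeal_smul_top_ne_top M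
  · intro M _ _ _ _ _ _ hIM h0
    have hnt : Nontrivial M := by
      by_contra hcon
      rw [not_nontrivial_iff_subsingleton] at hcon
      exact hIM (Subsingleton.elim _ _)
    have h0' : depth A M = 0 := h0
    rw [depth_eq_zero_iff] at h0'
    show depth B M = 0
    rw [depth_eq_zero_iff]
    exact maximalIdeal_mem_associatedPrimes_of_isLocalHom M h0'

end LocalHom

end Groth.Agent.Lib.Helper67
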