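import Groth.Agent.Lib.Helper67.FlatDepth5
import Groth.Agent.Lib.Helper67.CM
import Mathlib.RingTheory.KrullDimension.Regular
import Mathlib.RingTheory.Ideal.AssociatedPrime.Finiteness
import Mathlib.RingTheory.Ideal.KrullsHeightTheorem

/-!
# Dimension formula for flat local homomorphisms (module version, EGA IV 6.1.2 / Matsumura 15.1)

For a local homomorphism `R → S` of noetherian local rings, `N` a finite `S`-module flat over `R`,
`M` a finite `R`-module:
`dim_S (N ⊗_R M) = dim_R M + dim_S (N / m_R N)`.

Also: `supportDim` of the middle term of a short exact sequence is the max of the outer terms.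
-/

set_option autoImplicit false
set_option linter.style.haveILetI false
set_option linter.unusedSectionVars false

universe u v w

namespace Groth.Agent.Lib.Helper67.FlatDim

open TensorProduct IsLocalRing Groth.Agent.Lib.Helper67 LocCoh
open scoped Pointwise

section Order

theorem coheight_subtype_of_isUpperSet {α : Type*} [Preorder α] {s : Set α} (hs : IsUpperSet s)
    (a : s) : Order.coheight a = Order.coheight (a : α) :=
  Order.coheight_eq_of_strictMono Subtype.val (Subtype.strictMono_coe _)
    (fun a b hab => ⟨⟨b, hs hab.le a.2⟩, hab, rfl⟩) a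

theorem krullDim_union_of_isUpperSet {α : Type*} [Preorder α] (s t : Set α) (hs : IsUpperSet s)
    (ht : IsUpperSet t) :
    Order.krullDim ↥(s ∪ t) = max (Order.krullDim s) (Order.krullDim t) := by
  apply le_antisymm
  · rw [Order.krullDim_eq_iSup_coheight]
    apply iSup_le
    rintro ⟨a, ha⟩
    rw [coheight_subtype_of_isUpperSet (hs.union ht)]
    rcases ha with ha | ha
    · refine le_trans ?_ (le_max_left _ _)
      have := Order.coheight_le_krullDim (⟨a, ha⟩ : s)
      rwa [coheight_subtype_of_isUpperSet hs] at this
    · refine le_trans ?_ (le_max_right _ _)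
      have := Order.coheight_le_krullDim (⟨a, ha⟩ : t)
      rwa [coheight_subtype_of_isUpperSet ht] at this
  · apply max_le
    · exact Order.krullDim_le_of_strictMono (fun a => ⟨a.1, Or.inl a.2⟩) (fun _ _ h => h)
    · exact Order.krullDim_le_of_strictMono (fun a => ⟨a.1, Or.inr a.2⟩) (fun _ _ h => h)

/-- The dimension of the middle term of a short exact sequence is the max of the dimensions of
the outer terms. -/
theorem supportDim_of_exact {R : Type*} [CommRing R] {M N P : Type*} [AddCommGroup M] [Module R M]
    [AddCommGroup N] [Module R N] [AddCommGroup P] [Module R P]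
    (f : M →ₗ[R] N) (g : N →ₗ[R] P) (h : Function.Exact f g)
    (hf : Function.Injective f) (hg : Function.Surjective g) :
    Module.supportDim R N = max (Module.supportDim R M) (Module.supportDim R P) := by
  unfold Module.supportDim
  rw [Module.support_of_exact h hf hg]
  exact krullDim_union_of_isUpperSet _ _ (fun p q hpq hp => Module.mem_support_mono hpq hp)
    (fun p q hpq hp => Module.mem_support_mono hpq hp)

end Order

section Main

variable {R : Type u} {S : Type u} [CommRing R] [CommRing S] [Algebra R S] [IsLocalRing R]
  [IsLocalRing S] [IsNoetherianRing R] [IsNoetherianRing S] [IsLocalHom (algebraMap R S)]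
  (N : Type u) [AddCommGroup N] [Module S N] [Module R N]
  [IsScalarTower R S N] [Module.Flat R N] [Module.Finite S N]

/-- Regular element step. -/
theorem supportDim_tensor_step (M : Type u) [AddCommGroup M] [Module R M] [Module.Finite R M]
    (x : R) (hx : x ∈ maximalIdeal R) (hreg : IsSMulRegular M x) (c : WithBot ℕ∞)
    (h : Module.supportDim S (N ⊗[R] QuotSMulTop x M) =
      Module.supportDim R (QuotSMulTop x M) + c) :
    Module.supportDim S (N ⊗[R] M) = Module.supportDim R M + c := by
  haveI : Module.Finite S (N ⊗[R] M) := finite_tensor N M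
  have hregT : IsSMulRegular (N ⊗[R] M) (algebraMap R S x) :=
    (isSMulRegular_algebraMap_iff (N ⊗[R] M) x).mpr (hreg.lTensor N)
  have hxS : algebraMap R S x ∈ maximalIdeal S :=
    map_maximalIdeal_le (algebraMap R S) (Ideal.mem_map_of_mem _ hx)
  have hsurj : Function.Surjective (AlgebraTensorModule.lTensor S N
      (Submodule.mkQ (x • (⊤ : Submodule R M)))) := by
    rw [AlgebraTensorModule.coe_lTensor]
    exact LinearMap.lTensor_surjective N (Submodule.mkQ_surjective _)
  have h1 := Module.supportDim_quotSMulTop_succ_eq_supportDim hregT hxS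
  have h2 := Module.supportDim_quotSMulTop_succ_eq_supportDim hreg hx
  have h3 : Module.supportDim S (QuotSMulTop (algebraMap R S x) (N ⊗[R] M)) =
      Module.supportDim S (N ⊗[R] QuotSMulTop x M) :=
    Module.supportDim_eq_of_equiv
      (quotSMulTopEquivOfSurjective _ hsurj (algebraMap R S x) (ker_lTensor_mkQ N M x))
  rw [← h1, h3, h, ← h2, add_right_comm]

theorem isSMulRegular_quotient_prime (p : Ideal R) [p.IsPrime] (x : R) (hx : x ∉ p) :
    IsSMulRegular (R ⧸ p) x := by
  intro a b hab
  simp only [Algebra.smul_def, Ideal.Quotient.algebraMap_eq] at hab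
  have hne : (Ideal.Quotient.mk p x) ≠ 0 := by
    rwa [Ne, Ideal.Quotient.eq_zero_iff_mem]
  exact mul_left_cancel₀ hne hab

theorem supportDim_tensor_aux (d : ℕ) :
    ∀ (M : Type u) [AddCommGroup M] [Module R M] [Module.Finite R M],
      Module.supportDim R M + 1 ≤ (d : WithBot ℕ∞) →
      Module.supportDim S (N ⊗[R] M) =
        Module.supportDim R M + Module.supportDim S (N ⊗[R] (R ⧸ maximalIdeal R)) := by
  induction d with
  | zero =>
    intro M _ _ _ h
    have hbot : Module.supportDim R M = ⊥ := by
      by_contra hne
      haveI : Nontrivial M := (Module.supportDim_ne_bot_iff_nontrivial R M).mp hne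
      haveI : Nonempty (Module.support R M) := Module.nonempty_support_of_nontrivial.to_subtype
      have h0 : (0 : WithBot ℕ∞) ≤ Module.supportDim R M := Order.krullDim_nonneg
      have h1 : (0 : WithBot ℕ∞) + 1 ≤ Module.supportDim R M + 1 := by gcongr
      have h2 := h1.trans h
      rw [zero_add, Nat.cast_zero] at h2
      exact absurd h2 (by decide)
    haveI : Subsingleton M := (Module.supportDim_eq_bot_iff_subsingleton R M).mp hbot
    rw [hbot, WithBot.bot_add]
    exact Module.supportDim_eq_bot_of_subsingleton S _
  | succ d ih =>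
    intro M _ _ hfin
    refine IsNoetherianRing.induction_on_isQuotientEquivQuotientPrime R hfin
      (motive := fun M _ _ _ => Module.supportDim R M + 1 ≤ ((d + 1 : ℕ) : WithBot ℕ∞) →
        Module.supportDim S (N ⊗[R] M) =
          Module.supportDim R M + Module.supportDim S (N ⊗[R] (R ⧸ maximalIdeal R))) ?_ ?_ ?_
    · intro M _ _ _ _ _
      rw [Module.supportDim_eq_bot_of_subsingleton R M, WithBot.bot_add]
      exact Module.supportDim_eq_bot_of_subsingleton S _
    · intro M _ _ _ p e hd
      rw [Module.supportDim_eq_of_equiv e] at hd ⊢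
      rw [Module.supportDim_eq_of_equiv
        (AlgebraTensorModule.congr (LinearEquiv.refl S N) e)]
      by_cases hp : p.asIdeal = maximalIdeal R
      · obtain ⟨I, hI⟩ := p
        simp only at hp
        subst hp
        rw [Module.supportDim_quotient_eq_ringKrullDim, ringKrullDim_quotient_maximalIdeal,
          zero_add]
      · obtain ⟨x, hxm, hxp⟩ : ∃ x ∈ maximalIdeal R, x ∉ p.asIdeal := by
          by_contra hcon
          push Not at hcon
          exact hp (le_antisymm (le_maximalIdeal p.2.ne_top) hcon)
        have hreg := isSMulRegular_quotient_prime p.asIdeal x hxp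
        apply supportDim_tensor_step N (R ⧸ p.asIdeal) x hxm hreg
        apply ih
        have h2 := Module.supportDim_quotSMulTop_succ_eq_supportDim hreg hxm
        rw [← h2, Nat.cast_succ] at hd
        exact withBot_enat_le_of_add_one_le hd
    · intro M₁ _ _ _ M₂ _ _ _ M₃ _ _ _ f g hf hg hex h1 h3 hd
      have hd1 : Module.supportDim R M₁ + 1 ≤ ((d + 1 : ℕ) : WithBot ℕ∞) :=
        le_trans (by gcongr; exact Module.supportDim_le_of_injective f hf) hd
      have hd3 : Module.supportDim R M₃ + 1 ≤ ((d + 1 : ℕ) : WithBot ℕ∞) :=
        le_trans (by gcongr; exact Module.supportDim_le_of_surjective g hg) hd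
      have hex' : Function.Exact (AlgebraTensorModule.lTensor S N f)
          (AlgebraTensorModule.lTensor S N g) := by
        rw [AlgebraTensorModule.coe_lTensor, AlgebraTensorModule.coe_lTensor]
        exact lTensor_exact N hex hg
      have hf' : Function.Injective (AlgebraTensorModule.lTensor S N f) := by
        rw [AlgebraTensorModule.coe_lTensor]
        exact Module.Flat.lTensor_preserves_injective_linearMap f hf
      have hg' : Function.Surjective (AlgebraTensorModule.lTensor S N g) := by
        rw [AlgebraTensorModule.coe_lTensor]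
        exact LinearMap.lTensor_surjective N hg
      rw [supportDim_of_exact _ _ hex' hf' hg', supportDim_of_exact f g hex hf hg, h1 hd1, h3 hd3,
        max_add_add_right]

/-- **Dimension formula** for flat local homomorphisms, fibre written as `N ⊗ R/m`. -/
theorem supportDim_tensor_eq_add (M : Type u) [AddCommGroup M] [Module R M] [Module.Finite R M] :
    Module.supportDim S (N ⊗[R] M) =
      Module.supportDim R M + Module.supportDim S (N ⊗[R] (R ⧸ maximalIdeal R)) := by
  have hlt : Module.supportDim R M < ⊤ :=
    lt_of_le_of_lt (Module.supportDim_le_ringKrullDim R M) ringKrullDim_lt_top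
  obtain ⟨d, hd⟩ : ∃ d : ℕ, Module.supportDim R M + 1 ≤ (d : WithBot ℕ∞) := by
    generalize Module.supportDim R M = a at hlt
    induction a using WithBot.recBotCoe with
    | bot => exact ⟨0, by simp⟩
    | coe a =>
      have hne : a ≠ ⊤ := by
        rintro rfl
        exact lt_irrefl _ hlt
      obtain ⟨k, rfl⟩ := ENat.ne_top_iff_exists.mp hne
      exact ⟨k + 1, by push_cast; exact le_rfl⟩
  exact supportDim_tensor_aux N d M hd

/-- **Dimension formula** for flat local homomorphisms:
`dim_S (N ⊗_R M) = dim_R M + dim_S (N / m_R N)`. -/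
theorem supportDim_tensor_eq_add_quotient (M : Type u) [AddCommGroup M] [Module R M]
    [Module.Finite R M] :
    Module.supportDim S (N ⊗[R] M) = Module.supportDim R M +
      Module.supportDim S (N ⧸ (maximalIdeal R).map (algebraMap R S) • (⊤ : Submodule S N)) := by
  rw [supportDim_tensor_eq_add N M,
    Module.supportDim_eq_of_equiv (fibreEquiv (S := S) N (maximalIdeal R))]

end Main


section CMIff

theorem exists_dim_depth_natCast_module {A : Type u} [CommRing A] [IsLocalRing A]
    [IsNoetherianRing A] (M : Type v) [AddCommGroup M] [Module A M] [Module.Finite A M]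
    [Nontrivial M] : ∃ k d : ℕ, Module.supportDim A M = (k : WithBot ℕ∞) ∧
      depth A M = (d : ℕ∞) ∧ d ≤ k := by
  obtain ⟨k, hk⟩ := supportDim_eq_natCast (R := A) M
  obtain ⟨d, hd⟩ := ENat.ne_top_iff_exists.mp (depth_ne_top (R := A) M)
  have hle := depth_le_supportDim (R := A) M
  rw [hk, ← hd] at hle
  refine ⟨k, d, hk, hd.symm, ?_⟩
  exact_mod_cast hle

theorem isCohenMacaulayModule_iff_natCast {A : Type u} [CommRing A] [IsLocalRing A]
    (M : Type v) [AddCommGroup M] [Module A M] (k d : ℕ)
    (hk : Module.supportDim A M = (k : WithBot ℕ∞)) (hd : depth A M = (d : ℕ∞)) :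
    IsCohenMacaulayModule A M ↔ k = d := by
  unfold IsCohenMacaulayModule
  rw [hk, hd]
  constructor
  · intro h
    exact_mod_cast h
  · intro h
    rw [h]
    rfl

variable {R : Type u} {S : Type u} [CommRing R] [CommRing S] [Algebra R S] [IsLocalRing R]
  [IsLocalRing S] [IsNoetherianRing R] [IsNoetherianRing S] [IsLocalHom (algebraMap R S)]
  (N : Type u) [AddCommGroup N] [Module S N] [Module R N]
  [IsScalarTower R S N] [Module.Flat R N] [Module.Finite S N] [Nontrivial N]

theorem nontrivial_fibre :
    Nontrivial (N ⧸ (maximalIdeal R).map (algebraMap R S) • (⊤ : Submodule S N)) := by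
  rw [Submodule.Quotient.nontrivial_iff]
  intro h
  have hle : (maximalIdeal R).map (algebraMap R S) • (⊤ : Submodule S N) ≤
      maximalIdeal S • (⊤ : Submodule S N) :=
    Submodule.smul_mono_left (map_maximalIdeal_le (algebraMap R S))
  rw [h] at hle
  exact maximalIdeal_smul_top_ne_top (R := S) N (top_le_iff.mp hle)

/-- CM criterion along a flat local homomorphism (EGA IV 6.3.3), fibre as an `S`-module. -/
theorem isCohenMacaulayModule_tensor_iff (M : Type u) [AddCommGroup M] [Module R M]
    [Module.Finite R M] [Nontrivial M] :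
    IsCohenMacaulayModule S (N ⊗[R] M) ↔ IsCohenMacaulayModule R M ∧
      IsCohenMacaulayModule S
        (N ⧸ (maximalIdeal R).map (algebraMap R S) • (⊤ : Submodule S N)) := by
  haveI := nontrivial_fibre (R := R) (S := S) N
  haveI : Module.FaithfullyFlat R N := faithfullyFlat_of_flat_of_finite (S := S) N
  haveI : Module.Finite S (N ⊗[R] M) := finite_tensor N M
  haveI : Nontrivial (N ⊗[R] M) := Module.FaithfullyFlat.lTensor_nontrivial R N M
  obtain ⟨kM, dM, hkM, hdM, hM⟩ := exists_dim_depth_natCast_module (A := R) M
  obtain ⟨kT, dT, hkT, hdT, hT⟩ := exists_dim_depth_natCast_module (A := S) (N ⊗[R] M)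
  obtain ⟨kF, dF, hkF, hdF, hF⟩ := exists_dim_depth_natCast_module (A := S)
    (N ⧸ (maximalIdeal R).map (algebraMap R S) • (⊤ : Submodule S N))
  have h1 := depth_tensor_eq_add_quotient (R := R) (S := S) N M
  have h2 := supportDim_tensor_eq_add_quotient (R := R) (S := S) N M
  rw [hdM, hdT, hdF] at h1
  rw [hkM, hkT, hkF] at h2
  have h1' : dT = dM + dF := by exact_mod_cast h1
  have h2' : kT = kM + kF := by exact_mod_cast h2
  rw [isCohenMacaulayModule_iff_natCast _ kT dT hkT hdT,
    isCohenMacaulayModule_iff_natCast _ kM dM hkM hdM,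
    isCohenMacaulayModule_iff_natCast _ kF dF hkF hdF]
  omega

end CMIff

end Groth.Agent.Lib.Helper67.FlatDim
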