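import Groth.Agent.Lib.Helper67.CM2

/-!
# Supports and dimensions of localized modules (helper67)
-/

universe u v w

namespace Groth.Agent.Lib.Helper67

open RingTheory.Sequence LocCoh
open scoped Pointwise

section SuppLoc

variable {R : Type u} [CommRing R]

theorem comap_mem_support_of_mem_support_localizedModule (S : Submonoid R) (M : Type v)
    [AddCommGroup M] [Module R M] [Module.Finite R M] {x : PrimeSpectrum (Localization S)}
    (hx : x ∈ Module.support (Localization S) (LocalizedModule S M)) :
    PrimeSpectrum.comap (algebraMap R (Localization S)) x ∈ Module.support R M := by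
  rw [Module.mem_support_iff_of_finite]
  exact annihilator_le_comap_of_mem_support_localizedModule S hx

theorem comap_le_of_atPrime (p : Ideal R) [p.IsPrime]
    (x : PrimeSpectrum (Localization.AtPrime p)) :
    Ideal.comap (algebraMap R (Localization.AtPrime p)) x.asIdeal ≤ p := by
  have h1 : x.asIdeal ≤ IsLocalRing.maximalIdeal (Localization.AtPrime p) :=
    IsLocalRing.le_maximalIdeal x.2.ne_top
  have h2 := Ideal.comap_mono (f := algebraMap R (Localization.AtPrime p)) h1
  rwa [show Ideal.comap (algebraMap R (Localization.AtPrime p))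
    (IsLocalRing.maximalIdeal (Localization.AtPrime p)) = p from
    Localization.AtPrime.under_maximalIdeal] at h2

theorem comap_strictMono_atPrime (p : Ideal R) [p.IsPrime]
    {x y : PrimeSpectrum (Localization.AtPrime p)} (hxy : x < y) :
    PrimeSpectrum.comap (algebraMap R (Localization.AtPrime p)) x <
      PrimeSpectrum.comap (algebraMap R (Localization.AtPrime p)) y := by
  have hinj := PrimeSpectrum.localization_comap_injective (Localization.AtPrime p) p.primeCompl
  refine lt_of_le_of_ne ?_ fun heq => absurd (hinj heq) hxy.ne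
  exact Ideal.comap_mono hxy.le

/-- `dim M_p + dim R/p ≤ dim M` for `p ∈ Supp M`. -/
theorem supportDim_localization_add_ringKrullDim_quotient_le (M : Type v) [AddCommGroup M]
    [Module R M] [Module.Finite R M] (p : PrimeSpectrum R) (hp : p ∈ Module.support R M) :
    Module.supportDim (Localization.AtPrime p.asIdeal) (LocalizedModule p.asIdeal.primeCompl M) +
      ringKrullDim (R ⧸ p.asIdeal) ≤ Module.supportDim R M := by
  set U := Module.support R M with hU
  let P : U := ⟨p, hp⟩
  have : Nonempty U := ⟨P⟩
  have h1 : Module.supportDim (Localization.AtPrime p.asIdeal)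
      (LocalizedModule p.asIdeal.primeCompl M) ≤ Order.krullDim (Set.Iic P) := by
    unfold Module.supportDim
    refine Order.krullDim_le_of_strictMono (fun x => ⟨⟨PrimeSpectrum.comap _ x.1,
      comap_mem_support_of_mem_support_localizedModule _ M x.2⟩, ?_⟩) ?_
    · exact comap_le_of_atPrime p.asIdeal x.1
    · intro x y hxy
      exact comap_strictMono_atPrime p.asIdeal hxy
  have h2 : ringKrullDim (R ⧸ p.asIdeal) ≤ Order.krullDim (Set.Ici P) := by
    rw [ringKrullDim_quotient]
    have hle : ∀ x : PrimeSpectrum.zeroLocus (p.asIdeal : Set R), p ≤ x.1 := fun x =>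
      (PrimeSpectrum.mem_zeroLocus _ _).mp x.2
    refine Order.krullDim_le_of_strictMono (fun x => ⟨⟨x.1,
      Module.mem_support_mono (hle x) hp⟩, ?_⟩) ?_
    · exact hle x
    · intro x y hxy
      exact hxy
  rw [← Order.height_eq_krullDim_Iic] at h1
  rw [← Order.coheight_eq_krullDim_Ici] at h2
  calc _ ≤ ((Order.height P : ℕ∞) : WithBot ℕ∞) + ((Order.coheight P : ℕ∞) : WithBot ℕ∞) :=
        add_le_add h1 h2
    _ = ((Order.height P + Order.coheight P : ℕ∞) : WithBot ℕ∞) := rfl
    _ ≤ _ := by
      unfold Module.supportDim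
      rw [Order.krullDim_eq_iSup_height_add_coheight_of_nonempty, WithBot.coe_le_coe]
      exact le_iSup (fun a : U => Order.height a + Order.coheight a) P

/-- `dim M_p = 0` iff `p` is minimal over `ann M` (for `p ∈ Supp M`). -/
theorem supportDim_localization_eq_zero_of_mem_minimalPrimes (M : Type v) [AddCommGroup M]
    [Module R M] [Module.Finite R M] (p : Ideal R) [hpp : p.IsPrime]
    (hp : p ∈ (Module.annihilator R M).minimalPrimes) :
    Module.supportDim (Localization.AtPrime p) (LocalizedModule p.primeCompl M) = 0 := by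
  have hsupp : (⟨p, hpp⟩ : PrimeSpectrum R) ∈ Module.support R M := by
    rw [Module.mem_support_iff_of_finite]
    exact hp.1.2
  have hntp : Nontrivial (LocalizedModule p.primeCompl M) := Module.mem_support_iff.mp hsupp
  apply le_antisymm
  · by_contra hcon
    rw [not_le] at hcon
    unfold Module.supportDim at hcon
    obtain ⟨x, y, hxy⟩ := Order.krullDim_pos_iff.mp hcon
    have hlt := comap_strictMono_atPrime p (x := x.1) (y := y.1) hxy
    have hyp := comap_le_of_atPrime p y.1
    have hann := annihilator_le_comap_of_mem_support_localizedModule p.primeCompl x.2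
    have hxprime : (Ideal.comap (algebraMap R (Localization.AtPrime p)) x.1.asIdeal).IsPrime :=
      Ideal.comap_isPrime _ _
    have h1 : Ideal.comap (algebraMap R (Localization.AtPrime p)) x.1.asIdeal < p :=
      lt_of_lt_of_le hlt hyp
    exact absurd (hp.2 ⟨hxprime, hann⟩ h1.le) (not_le_of_gt h1)
  · have hne := Module.supportDim_ne_bot_of_nontrivial (Localization.AtPrime p)
      (M := LocalizedModule p.primeCompl M)
    rcases h2 : Module.supportDim (Localization.AtPrime p)
      (LocalizedModule p.primeCompl M) with _ | a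
    · exact absurd h2 hne
    · exact WithBot.coe_le_coe.mpr bot_le

theorem mem_minimalPrimes_of_supportDim_localization_le_zero [IsNoetherianRing R] (M : Type v)
    [AddCommGroup M] [Module R M] [Module.Finite R M] (p : Ideal R) [hpp : p.IsPrime]
    (hsupp : Module.annihilator R M ≤ p)
    (hdim : Module.supportDim (Localization.AtPrime p) (LocalizedModule p.primeCompl M) ≤ 0) :
    p ∈ (Module.annihilator R M).minimalPrimes := by
  obtain ⟨q, hq, hqp⟩ := Ideal.exists_minimalPrimes_le hsupp
  have hqprime : q.IsPrime := hq.1.1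
  by_cases heq : q = p
  · rwa [← heq]
  exfalso
  have hlt : q < p := lt_of_le_of_ne hqp heq
  have hqass := Module.associatedPrimes.minimalPrimes_annihilator_subset_associatedPrimes R M hq
  set Rp := Localization.AtPrime p
  have hdisj : Disjoint (p.primeCompl : Set R) (q : Set R) := by
    rw [Set.disjoint_left]
    intro a ha haq
    exact ha (hqp haq)
  have hmapprime : (Ideal.map (algebraMap R Rp) q).IsPrime :=
    IsLocalization.isPrime_of_isPrime_disjoint p.primeCompl Rp q hqprime hdisj
  have hcomap : Ideal.comap (algebraMap R Rp) (Ideal.map (algebraMap R Rp) q) = q :=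
    IsLocalization.under_map_of_isPrime_disjoint p.primeCompl Rp hqprime hdisj
  have hass : Ideal.map (algebraMap R Rp) q ∈
      associatedPrimes Rp (LocalizedModule p.primeCompl M) := by
    apply Module.associatedPrimes.mem_associatedPrimes_of_comap_mem_associatedPrimes_of_isLocalizedModule
      p.primeCompl (LocalizedModule.mkLinearMap p.primeCompl M)
    rw [hcomap]
    exact hqass
  have hmem1 := mem_support_of_mem_associatedPrimes hass
  have hntp : Nontrivial (LocalizedModule p.primeCompl M) := by
    by_contra hcon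
    rw [not_nontrivial_iff_subsingleton] at hcon
    rw [associatedPrimes.eq_empty_of_subsingleton] at hass
    exact hass
  have hmem2 : IsLocalRing.closedPoint Rp ∈ Module.support Rp (LocalizedModule p.primeCompl M) :=
    IsLocalRing.closedPoint_mem_support Rp _
  have hlt' : (⟨Ideal.map (algebraMap R Rp) q, hmapprime⟩ : PrimeSpectrum Rp) <
      IsLocalRing.closedPoint Rp := by
    refine lt_of_le_of_ne (IsLocalRing.le_maximalIdeal hmapprime.ne_top) fun h => ?_
    have h1 : Ideal.map (algebraMap R Rp) q = IsLocalRing.maximalIdeal Rp :=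
      congrArg PrimeSpectrum.asIdeal h
    have h2 := congrArg (Ideal.comap (algebraMap R Rp)) h1
    rw [hcomap, show Ideal.comap (algebraMap R Rp) (IsLocalRing.maximalIdeal Rp) = p from
      Localization.AtPrime.under_maximalIdeal] at h2
    exact heq h2
  have hpos : 0 < Module.supportDim Rp (LocalizedModule p.primeCompl M) := by
    unfold Module.supportDim
    rw [Order.krullDim_pos_iff]
    exact ⟨⟨_, hmem1⟩, ⟨_, hmem2⟩, hlt'⟩
  exact absurd hdim (not_le_of_gt hpos)

end SuppLoc

section Codepth

variable {R : Type u} [CommRing R] [IsNoetherianRing R] [IsLocalRing R]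

/-- `depth M ≤ dim R/p + depth_p M`. -/
theorem depth_le_ringKrullDim_quotient_add_idealDepth (M : Type u) [AddCommGroup M] [Module R M]
    [Module.Finite R M] [Nontrivial M] (p : Ideal R) [hpp : p.IsPrime] :
    ((depth R M : ℕ∞) : WithBot ℕ∞) ≤
      ringKrullDim (R ⧸ p) + ((idealDepth p M : ℕ∞) : WithBot ℕ∞) := by
  have hpM : p • (⊤ : Submodule R M) ≠ ⊤ := prime_smul_top_ne_top M hpp.ne_top
  obtain ⟨xs, -, hreg, hmem, hmax⟩ := exists_maximal_extension p M hpM [] (IsWeaklyRegular.nil R M)
    (by simp)
  have hlen := length_eq_idealDepth_of_maximal p M hpM xs hreg hmem hmax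
  have hmemm : ∀ x ∈ xs, x ∈ IsLocalRing.maximalIdeal R :=
    fun x hx => IsLocalRing.le_maximalIdeal hpp.ne_top (hmem x hx)
  have h0 : idealDepth p (M ⧸ Ideal.ofList xs • (⊤ : Submodule R M)) = 0 := by
    rw [idealDepth_eq_zero_iff_forall]
    refine ⟨smul_top_quot_ofList_ne_top p hpM xs hmem, fun r hr hcon => ?_⟩
    exact hmax r hr ((isWeaklyRegular_append_singleton_iff M xs r).mpr ⟨hreg, hcon⟩)
  rw [idealDepth_eq_zero_iff] at h0
  obtain ⟨_, q, hq, hpq⟩ := h0
  have h1 := depth_le_ringKrullDim_quotient_of_mem_associatedPrimes _ hq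
  have h2 := ringKrullDim_quotient_le_of_le hpq
  have h3 := idealDepth_quot_ofList_add_length (IsLocalRing.maximalIdeal R) xs M
    (maximalIdeal_smul_top_ne_top M) hreg hmemm
  rw [← hlen]
  show ((depth R M : ℕ∞) : WithBot ℕ∞) ≤ _
  rw [depth, ← h3]
  calc ((idealDepth (IsLocalRing.maximalIdeal R) (M ⧸ Ideal.ofList xs • (⊤ : Submodule R M)) +
        (xs.length : ℕ∞) : ℕ∞) : WithBot ℕ∞)
      = ((depth R (M ⧸ Ideal.ofList xs • (⊤ : Submodule R M)) : ℕ∞) : WithBot ℕ∞) +
        ((xs.length : ℕ∞) : WithBot ℕ∞) := rfl
    _ ≤ ringKrullDim (R ⧸ p) + ((xs.length : ℕ∞) : WithBot ℕ∞) := by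
      gcongr
      exact le_trans h1 h2

/-- codepth does not increase under localization. -/
theorem codepth_localization_le (M : Type u) [AddCommGroup M] [Module R M]
    [Module.Finite R M] (p : Ideal R) [hpp : p.IsPrime]
    [hntp : Nontrivial (LocalizedModule p.primeCompl M)] :
    Module.supportDim (Localization.AtPrime p) (LocalizedModule p.primeCompl M) +
        ((depth R M : ℕ∞) : WithBot ℕ∞) ≤
      Module.supportDim R M +
        ((depth (Localization.AtPrime p) (LocalizedModule p.primeCompl M) : ℕ∞) :
          WithBot ℕ∞) := by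
  have hsupp : (⟨p, hpp⟩ : PrimeSpectrum R) ∈ Module.support R M := Module.mem_support_iff.mpr hntp
  have hnt : Nontrivial M := by
    by_contra hcon
    rw [not_nontrivial_iff_subsingleton] at hcon
    rw [Module.support_eq_empty] at hsupp
    exact hsupp
  have h1 := depth_le_ringKrullDim_quotient_add_idealDepth M p
  have h2 := idealDepth_le_depth_localization p M p le_rfl
  have h3 := supportDim_localization_add_ringKrullDim_quotient_le M ⟨p, hpp⟩ hsupp
  have h2' : ((idealDepth p M : ℕ∞) : WithBot ℕ∞) ≤
      ((depth (Localization.AtPrime p) (LocalizedModule p.primeCompl M) : ℕ∞) : WithBot ℕ∞) := by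
    exact_mod_cast h2
  calc Module.supportDim (Localization.AtPrime p) (LocalizedModule p.primeCompl M) +
        ((depth R M : ℕ∞) : WithBot ℕ∞)
      ≤ Module.supportDim (Localization.AtPrime p) (LocalizedModule p.primeCompl M) +
        (ringKrullDim (R ⧸ p) + ((idealDepth p M : ℕ∞) : WithBot ℕ∞)) := by gcongr
    _ = (Module.supportDim (Localization.AtPrime p) (LocalizedModule p.primeCompl M) +
        ringKrullDim (R ⧸ p)) + ((idealDepth p M : ℕ∞) : WithBot ℕ∞) := by rw [add_assoc]
    _ ≤ Module.supportDim R M + ((depth (Localization.AtPrime p)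
        (LocalizedModule p.primeCompl M) : ℕ∞) : WithBot ℕ∞) := add_le_add h3 h2'

end Codepth

end Groth.Agent.Lib.Helper67
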