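import Mathlib
import Groth.Agent.Lib.Helper56.HomLoc
import Groth.Agent.Lib.Helper56.HomComp
import Groth.Agent.Lib.Helper56.CplLocalRegular
import Groth.Agent.Lib.Helper56.FibreCM

/-!
# Regularity of a ring map is local on source and target
-/

set_option autoImplicit false
set_option linter.unusedSectionVars false
set_option linter.style.haveILetI false
universe u
open TensorProduct

namespace Groth.Agent.Lib.Helper67.RegHomLocal

open Groth.Agent.Lib.Helper56

variable (R Λ : Type u) [CommRing R] [CommRing Λ] [Algebra R Λ]

section
variable (q : Ideal Λ) [q.IsPrime]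

/-- the tower `R → R_p → Λ_q`. -/
theorem isScalarTower_localRingHom :
    letI := (Localization.localRingHom (Ideal.comap (algebraMap R Λ) q) q
      (algebraMap R Λ) rfl).toAlgebra
    IsScalarTower R (Localization.AtPrime (Ideal.comap (algebraMap R Λ) q))
      (Localization.AtPrime q) := by
  letI := (Localization.localRingHom (Ideal.comap (algebraMap R Λ) q) q
    (algebraMap R Λ) rfl).toAlgebra
  refine IsScalarTower.of_algebraMap_eq (fun r => ?_)
  show _ = Localization.localRingHom (Ideal.comap (algebraMap R Λ) q) q (algebraMap R Λ) rfl
    (algebraMap R (Localization.AtPrime (Ideal.comap (algebraMap R Λ) q)) r)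
  rw [Localization.localRingHom_to_map, ← IsScalarTower.algebraMap_apply]

theorem isLocalization_target :
    letI := (Localization.localRingHom (Ideal.comap (algebraMap R Λ) q) q
      (algebraMap R Λ) rfl).toAlgebra
    IsLocalization (Algebra.algebraMapSubmonoid (Localization.AtPrime q)
      (Ideal.comap (algebraMap R Λ) q).primeCompl) (Localization.AtPrime q) := by
  letI := (Localization.localRingHom (Ideal.comap (algebraMap R Λ) q) q
    (algebraMap R Λ) rfl).toAlgebra
  haveI := isScalarTower_localRingHom R Λ q
  apply IsLocalization.of_le_isUnit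
  rintro _ ⟨s, hs, rfl⟩
  show IsUnit (algebraMap R (Localization.AtPrime q) s)
  rw [IsScalarTower.algebraMap_apply R (Localization.AtPrime (Ideal.comap (algebraMap R Λ) q))
    (Localization.AtPrime q)]
  exact (IsLocalization.map_units (Localization.AtPrime (Ideal.comap (algebraMap R Λ) q))
    ⟨s, hs⟩).map _

theorem isRegularHom_localRingHom [IsNoetherianRing Λ] (h : CAlg.IsRegularHom R Λ) :
    letI := (Localization.localRingHom (Ideal.comap (algebraMap R Λ) q) q
      (algebraMap R Λ) rfl).toAlgebra
    CAlg.IsRegularHom (Localization.AtPrime (Ideal.comap (algebraMap R Λ) q))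
      (Localization.AtPrime q) := by
  letI := (Localization.localRingHom (Ideal.comap (algebraMap R Λ) q) q
    (algebraMap R Λ) rfl).toAlgebra
  haveI := isScalarTower_localRingHom R Λ q
  haveI := isLocalization_target R Λ q
  haveI : IsNoetherianRing (Localization.AtPrime q) :=
    IsLocalization.isNoetherianRing q.primeCompl _ inferInstance
  have g1 : CAlg.IsRegularHom Λ (Localization.AtPrime q) :=
    isRegularHom_localization Λ q.primeCompl (Localization.AtPrime q)
  have g2 : CAlg.IsRegularHom R (Localization.AtPrime q) :=
    isRegularHom_comp R Λ (Localization.AtPrime q) h g1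
      (fun P _ => isNoetherianRing_fiber R (Localization.AtPrime q) P)
  exact isRegularHom_of_isLocalization R (Localization.AtPrime q)
    (Ideal.comap (algebraMap R Λ) q).primeCompl
    (Localization.AtPrime (Ideal.comap (algebraMap R Λ) q)) (Localization.AtPrime q) g2

/-- `R → Λ_q` is regular if `R_p → Λ_q` is. -/
theorem isRegularHom_of_localRingHom [IsNoetherianRing Λ]
    (h : letI := (Localization.localRingHom (Ideal.comap (algebraMap R Λ) q) q
        (algebraMap R Λ) rfl).toAlgebra
      CAlg.IsRegularHom (Localization.AtPrime (Ideal.comap (algebraMap R Λ) q))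
        (Localization.AtPrime q)) :
    CAlg.IsRegularHom R (Localization.AtPrime q) := by
  letI := (Localization.localRingHom (Ideal.comap (algebraMap R Λ) q) q
    (algebraMap R Λ) rfl).toAlgebra
  haveI := isScalarTower_localRingHom R Λ q
  haveI : IsNoetherianRing (Localization.AtPrime q) :=
    IsLocalization.isNoetherianRing q.primeCompl _ inferInstance
  have g1 : CAlg.IsRegularHom R (Localization.AtPrime (Ideal.comap (algebraMap R Λ) q)) :=
    isRegularHom_localization R (Ideal.comap (algebraMap R Λ) q).primeCompl _
  exact isRegularHom_comp R (Localization.AtPrime (Ideal.comap (algebraMap R Λ) q))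
    (Localization.AtPrime q) g1 h
    (fun P _ => isNoetherianRing_fiber R (Localization.AtPrime q) P)

end

theorem isRegularHom_of_forall_maximal [IsNoetherianRing Λ]
    (h : ∀ (n : Ideal Λ) [n.IsMaximal],
      letI := (Localization.localRingHom (Ideal.comap (algebraMap R Λ) n) n
        (algebraMap R Λ) rfl).toAlgebra
      CAlg.IsRegularHom (Localization.AtPrime (Ideal.comap (algebraMap R Λ) n))
        (Localization.AtPrime n)) :
    CAlg.IsRegularHom R Λ := by
  have h1 : ∀ (n : Ideal Λ) [n.IsMaximal], CAlg.IsRegularHom R (Localization.AtPrime n) :=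
    fun n _ => isRegularHom_of_localRingHom R Λ n (h n)
  haveI : Module.Flat R Λ :=
    Module.flat_of_isLocalized_maximal Λ Λ (fun P _ => Localization.AtPrime P)
      (fun P _ => Algebra.linearMap Λ (Localization.AtPrime P)) (fun P _ => (h1 P).1)
  exact isRegularHom_of_forall_atMaximal R Λ h1

end Groth.Agent.Lib.Helper67.RegHomLocal
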