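import Mathlib
import Groth.Agent.Lib.Helper56.HomLoc
import Groth.Agent.Lib.Helper56.HomBaseChange
import Groth.Agent.Lib.Helper56.CplLocalRegular
import Groth.Agent.Lib.Helper56.FibreCM

/-!
# Fibrewise geometric regularity: permanence lemmas for a single fibre

`GR(A → B, p)` := the fibre `κ(p) ⊗_A B` is geometrically regular over `κ(p)`.  We prove, one prime at
a time: invariance under localization of source and target simultaneously (`iff`), passage to a
localization of the target, essentially-finite-type base change, and transport along an algebra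
isomorphism of the target.
-/

set_option autoImplicit false
set_option linter.unusedSectionVars false
set_option linter.style.haveILetI false
universe u
open TensorProduct

namespace Groth.Agent.Lib.Helper67.FibreGR

open Groth.Agent.Lib.Helper56

section Loc

variable (A B : Type u) [CommRing A] [CommRing B] [Algebra A B] (S : Submonoid A)
  (A' B' : Type u) [CommRing A'] [CommRing B'] [Algebra A A'] [Algebra B B'] [Algebra A' B']
  [Algebra A B'] [IsScalarTower A A' B'] [IsScalarTower A B B'] [IsLocalization S A']
  [IsLocalization (Algebra.algebraMapSubmonoid B S) B']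

include S in
theorem nonempty_fibre_equiv (p' : Ideal A') [p'.IsPrime] (p : Ideal A) [p.IsPrime]
    (hp : p = p'.comap (algebraMap A A'))
    (k : Type u) [Field k] [Algebra p'.ResidueField k] [Algebra p.ResidueField k]
    (hcompat : ∀ x, algebraMap p'.ResidueField k
      (Ideal.ResidueField.map p p' (algebraMap A A') hp x) = algebraMap p.ResidueField k x) :
    Nonempty ((k ⊗[p'.ResidueField] p'.Fiber B') ≃+* (k ⊗[p.ResidueField] p.Fiber B)) := by
  have hpo : Algebra.IsPushout A B A' B' := Algebra.isPushout_of_isLocalization S A' B B'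
  let _ : Algebra A' k :=
    ((algebraMap p'.ResidueField k).comp (algebraMap A' p'.ResidueField)).toAlgebra
  have : IsScalarTower A' p'.ResidueField k := IsScalarTower.of_algebraMap_eq (fun _ => rfl)
  let _ : Algebra A k :=
    ((algebraMap p.ResidueField k).comp (algebraMap A p.ResidueField)).toAlgebra
  have : IsScalarTower A p.ResidueField k := IsScalarTower.of_algebraMap_eq (fun _ => rfl)
  have : IsScalarTower A A' k := by
    refine IsScalarTower.of_algebraMap_eq (fun a => ?_)
    show algebraMap p.ResidueField k (algebraMap A p.ResidueField a) =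
      algebraMap p'.ResidueField k (algebraMap A' p'.ResidueField (algebraMap A A' a))
    rw [← hcompat, Ideal.ResidueField.map_algebraMap]
  have e1 : B' ⊗[A'] k ≃ₐ[B] B ⊗[A] k := Algebra.IsPushout.cancelBaseChangeAlg A B A' B' k
  exact ⟨(fibreTensorEquiv A' B' p' k).symm.trans
    (e1.toRingEquiv.trans (fibreTensorEquiv A B p k))⟩

include S in
theorem geomReg_fibre_iff_of_isLocalization (p' : Ideal A') [p'.IsPrime] (p : Ideal A) [p.IsPrime]
    (hp : p = p'.comap (algebraMap A A')) :
    CAlg.IsGeometricallyRegular p'.ResidueField (p'.Fiber B') ↔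
      CAlg.IsGeometricallyRegular p.ResidueField (p.Fiber B) := by
  let φ : p.ResidueField →+* p'.ResidueField :=
    Ideal.ResidueField.map p p' (algebraMap A A') hp
  have hφ : Function.Bijective φ :=
    (RingHom.surjectiveOnStalks_of_isLocalization (M := S) A').residueFieldMap_bijective p p' hp
  let φe : p.ResidueField ≃+* p'.ResidueField := RingEquiv.ofBijective φ hφ
  let _ : Algebra p.ResidueField p'.ResidueField := φ.toAlgebra
  have hf1 : Module.Finite p.ResidueField p'.ResidueField :=
    Module.Finite.of_surjective (Algebra.linearMap p.ResidueField p'.ResidueField) hφ.surjective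
  constructor
  · intro h k _ _ hfin
    let _ : Algebra p'.ResidueField k :=
      ((algebraMap p.ResidueField k).comp φe.symm.toRingHom).toAlgebra
    have hc : ∀ x, algebraMap p'.ResidueField k (φ x) = algebraMap p.ResidueField k x := by
      intro x
      show algebraMap p.ResidueField k (φe.symm (φe x)) = _
      rw [φe.symm_apply_apply]
    have : IsScalarTower p.ResidueField p'.ResidueField k :=
      IsScalarTower.of_algebraMap_eq (fun x => (hc x).symm)
    have hfin' : Module.Finite p'.ResidueField k :=
      Module.Finite.of_restrictScalars_finite p.ResidueField p'.ResidueField k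
    obtain ⟨e⟩ := nonempty_fibre_equiv A B S A' B' p' p hp k hc
    have := h k hfin'
    exact IsRegularRing.of_ringEquiv (R := k ⊗[p'.ResidueField] p'.Fiber B') e
  · intro h k _ _ hfin
    let _ : Algebra p.ResidueField k := ((algebraMap p'.ResidueField k).comp φ).toAlgebra
    have : IsScalarTower p.ResidueField p'.ResidueField k :=
      IsScalarTower.of_algebraMap_eq (fun _ => rfl)
    have hfin' : Module.Finite p.ResidueField k := Module.Finite.trans p'.ResidueField k
    obtain ⟨e⟩ := nonempty_fibre_equiv A B S A' B' p' p hp k (fun _ => rfl)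
    have := h k hfin'
    exact IsRegularRing.of_ringEquiv (R := k ⊗[p.ResidueField] p.Fiber B) e.symm

end Loc

section TargetLoc

variable (A T D : Type u) [CommRing A] [CommRing T] [CommRing D] [Algebra A T] [Algebra T D]
  [Algebra A D] [IsScalarTower A T D] (M : Submonoid T) [IsLocalization M D]

include M in
theorem geomReg_fibre_of_isLocalization_target (P : Ideal A) [P.IsPrime]
    (h : CAlg.IsGeometricallyRegular P.ResidueField (P.Fiber T)) :
    CAlg.IsGeometricallyRegular P.ResidueField (P.Fiber D) := by
  intro k' _ _ hfin
  let _ : Algebra A k' :=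
    ((algebraMap P.ResidueField k').comp (algebraMap A P.ResidueField)).toAlgebra
  have : IsScalarTower A P.ResidueField k' := IsScalarTower.of_algebraMap_eq (fun _ => rfl)
  have h0 : IsRegularRing (k' ⊗[P.ResidueField] P.Fiber T) := h k' hfin
  have h1 : IsRegularRing (k' ⊗[A] T) :=
    IsRegularRing.of_ringEquiv (R := k' ⊗[P.ResidueField] P.Fiber T)
      (Algebra.TensorProduct.cancelBaseChange A P.ResidueField P.ResidueField k' T).toRingEquiv
  let φ : k' ⊗[A] T →ₐ[k'] k' ⊗[A] D :=
    Algebra.TensorProduct.map (AlgHom.id k' k') (IsScalarTower.toAlgHom A T D)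
  let alg : Algebra (k' ⊗[A] T) (k' ⊗[A] D) := φ.toRingHom.toAlgebra
  have hst : IsScalarTower k' (k' ⊗[A] T) (k' ⊗[A] D) :=
    IsScalarTower.of_algebraMap_eq (fun t => (φ.commutes t).symm)
  have hloc : IsLocalization
      (M.map (Algebra.TensorProduct.includeRight (R := A) (A := k'))) (k' ⊗[A] D) := by
    refine IsLocalization.tensorProduct_tensorProduct_right A k' M D ?_
    ext s
    change φ (1 ⊗ₜ s) = 1 ⊗ₜ (algebraMap T D s)
    simp [φ]
  have h2 : IsRegularRing (k' ⊗[A] D) :=
    isRegularRing_of_isLocalization'
      (M.map (Algebra.TensorProduct.includeRight (R := A) (A := k'))) _ h1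
  exact IsRegularRing.of_ringEquiv (R := k' ⊗[A] D)
    (Algebra.TensorProduct.cancelBaseChange A P.ResidueField P.ResidueField k' D).symm.toRingEquiv

end TargetLoc

section BC

variable (R Λ R' : Type u) [CommRing R] [CommRing Λ] [CommRing R'] [Algebra R Λ] [Algebra R R']

theorem geomReg_fibre_baseChange [Algebra.EssFiniteType R R'] (p' : Ideal R') [p'.IsPrime]
    (p : Ideal R) [p.IsPrime] [p'.LiesOver p]
    (hG : CAlg.IsGeometricallyRegular p.ResidueField (p.Fiber Λ)) :
    CAlg.IsGeometricallyRegular p'.ResidueField (p'.Fiber (R' ⊗[R] Λ)) := by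
  let _ := Localization.AtPrime.algebraOfLiesOver p p'
  have hess : Algebra.EssFiniteType p.ResidueField p'.ResidueField := inferInstance
  let e := fibreBaseChangeEquiv R Λ R' p' p
  exact isGeometricallyRegular_of_algEquiv e.symm (isGeometricallyRegular_baseChange _ _ _ hG)

end BC

section Equiv

variable (A B B' : Type u) [CommRing A] [CommRing B] [CommRing B'] [Algebra A B] [Algebra A B']

theorem geomReg_fibre_of_algEquiv (e : B ≃ₐ[A] B') (p : Ideal A) [p.IsPrime]
    (h : CAlg.IsGeometricallyRegular p.ResidueField (p.Fiber B)) :
    CAlg.IsGeometricallyRegular p.ResidueField (p.Fiber B') :=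
  isGeometricallyRegular_of_algEquiv (S := p.Fiber B) (S' := p.Fiber B')
    (Algebra.TensorProduct.congr AlgEquiv.refl e) h

end Equiv

end Groth.Agent.Lib.Helper67.FibreGR
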