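import Groth.Agent.Lib.Helper67.SuppLoc

/-!
# Depth and iterated localization

`idealDepth I N ≤ depth B N'` when `N'` is a localization of `N` (over a local ring `B`,
localization of `A`) and `I` maps into the maximal ideal of `B`.  As a consequence, for primes
`p ≤ s` of `R`, `depth M_s ≤ depth M_p + ht (s/p)`.
-/

set_option autoImplicit false
set_option linter.style.haveILetI false

open LocCoh RingTheory.Sequence

namespace Groth.Agent.Lib.Helper67

universe u v

section General

theorem idealDepth_le_depth_of_isLocalizedModule {A : Type*} [CommRing A] (S : Submonoid A)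
    (B : Type*) [CommRing B] [Algebra A B] [IsLocalization S B] [IsLocalRing B]
    {N : Type*} [AddCommGroup N] [Module A N] [Module.Finite A N]
    {N' : Type*} [AddCommGroup N'] [Module A N'] [Module B N'] [IsScalarTower A B N']
    (f : N →ₗ[A] N') [IsLocalizedModule S f]
    (I : Ideal A) (hI : ∀ x ∈ I, algebraMap A B x ∈ IsLocalRing.maximalIdeal B) :
    idealDepth I N ≤ depth B N' := by
  by_cases hnt : Subsingleton N'
  · have htop : IsLocalRing.maximalIdeal B • (⊤ : Submodule B N') = ⊤ := by
      ext z
      simp [Subsingleton.elim z 0]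
    rw [depth, idealDepth_eq_top_of_smul_top_eq_top _ _ htop]
    exact le_top
  rw [not_subsingleton_iff_nontrivial] at hnt
  rw [← ENat.forall_natCast_le_iff_le]
  intro n hn
  rw [le_idealDepth_iff] at hn
  rcases hn with h | ⟨rs, hlen, hreg, hmem⟩
  · exfalso
    obtain ⟨r, hr1, hr2⟩ := Submodule.exists_sub_one_mem_and_smul_eq_zero_of_fg_of_le_smul I
      (⊤ : Submodule A N) Module.Finite.fg_top h.ge
    have hunit : IsUnit (algebraMap A B r) := by
      by_contra hcon
      have h1 : algebraMap A B r ∈ IsLocalRing.maximalIdeal B :=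
        (IsLocalRing.mem_maximalIdeal _).mpr hcon
      have h2 := hI _ hr1
      rw [map_sub, map_one] at h2
      have h3 := (IsLocalRing.maximalIdeal B).sub_mem h1 h2
      rw [sub_sub_cancel] at h3
      exact (IsLocalRing.maximalIdeal.isMaximal B).ne_top
        ((Ideal.eq_top_iff_one _).mpr h3)
    obtain ⟨y, hy⟩ := exists_ne (0 : N')
    apply hy
    obtain ⟨⟨m, t⟩, hmt⟩ := IsLocalizedModule.surj S f y
    have h3 : r • (t • y) = 0 := by
      rw [hmt, ← map_smul, hr2 m trivial, map_zero]
    have h4 : t • (r • y) = 0 := by rw [smul_comm]; exact h3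
    have h5 : r • y = 0 := by
      have := (IsLocalizedModule.smul_inj f t (r • y) 0).mp (by rw [h4, smul_zero])
      exact this
    have h6 : algebraMap A B r • y = 0 := by rw [algebraMap_smul]; exact h5
    exact (hunit.smul_eq_zero).mp h6
  · have h2 := hreg.of_isLocalizedModule B S f
    have h3 := length_le_idealDepth (IsLocalRing.maximalIdeal B) N' _ h2 (by
        intro r hr
        rcases List.mem_map.mp hr with ⟨a, ha, rfl⟩
        exact hI a (hmem a ha))
    rw [List.length_map, hlen] at h3
    exact h3

end General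

section Dim

variable {R : Type u} [CommRing R]

/-- `dim (R_s / p R_s) ≤ ht (s/p)`. -/
theorem ringKrullDim_quotient_map_atPrime_le (p s : Ideal R) [p.IsPrime] [s.IsPrime] (hps : p ≤ s) :
    ringKrullDim (Localization.AtPrime s ⧸ p.map (algebraMap R (Localization.AtPrime s))) ≤
      ((s.map (Ideal.Quotient.mk p)).height : WithBot ℕ∞) := by
  set A := Localization.AtPrime s
  set P := p.map (algebraMap R A)
  have hsp : (s.map (Ideal.Quotient.mk p)).IsPrime :=
    Ideal.map_isPrime_of_surjective Ideal.Quotient.mk_surjective (by rwa [Ideal.mk_ker])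
  let ψ : R ⧸ p →+* A ⧸ P := Ideal.quotientMap P (algebraMap R A) Ideal.le_comap_map
  have hψ : ∀ r : R, ψ (Ideal.Quotient.mk p r) = Ideal.Quotient.mk P (algebraMap R A r) := fun r => rfl
  have hψ' : ψ.comp (Ideal.Quotient.mk p) = (Ideal.Quotient.mk P).comp (algebraMap R A) := rfl
  have hh := PrimeSpectrum.height_eq_orderHeight (⟨s.map (Ideal.Quotient.mk p), hsp⟩ : PrimeSpectrum (R ⧸ p))
  change (s.map (Ideal.Quotient.mk p)).height = _ at hh
  rw [hh, Order.height_eq_krullDim_Iic]
  let F : PrimeSpectrum (A ⧸ P) → Set.Iic (⟨s.map (Ideal.Quotient.mk p), hsp⟩ : PrimeSpectrum (R ⧸ p)) :=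
    fun Q => ⟨PrimeSpectrum.comap ψ Q, by
      rw [Set.mem_Iic, ← PrimeSpectrum.asIdeal_le_asIdeal]
      intro x hx
      obtain ⟨r, rfl⟩ := Ideal.Quotient.mk_surjective x
      change ψ (Ideal.Quotient.mk p r) ∈ Q.asIdeal at hx
      rw [hψ] at hx
      by_contra hcon
      have hrs : r ∉ s := fun h => hcon (Ideal.mem_map_of_mem _ h)
      have hu : IsUnit (algebraMap R A r) := IsLocalization.map_units A (⟨r, hrs⟩ : s.primeCompl)
      exact Q.isPrime.ne_top (Ideal.eq_top_of_isUnit_mem _ hx (hu.map _))⟩
  have hF : StrictMono F := by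
    have hmono : Monotone F := fun Q₁ Q₂ h => by
      show PrimeSpectrum.comap ψ Q₁ ≤ PrimeSpectrum.comap ψ Q₂
      rw [← PrimeSpectrum.asIdeal_le_asIdeal]
      exact Ideal.comap_mono ((PrimeSpectrum.asIdeal_le_asIdeal _ _).mpr h)
    have hinj : Function.Injective F := by
      intro Q₁ Q₂ h
      have h1 : PrimeSpectrum.comap ψ Q₁ = PrimeSpectrum.comap ψ Q₂ := congrArg Subtype.val h
      have h2 : (Q₁.asIdeal.comap (Ideal.Quotient.mk P)).comap (algebraMap R A) =
          (Q₂.asIdeal.comap (Ideal.Quotient.mk P)).comap (algebraMap R A) := by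
        have := congrArg (fun q : PrimeSpectrum (R ⧸ p) => q.asIdeal.comap (Ideal.Quotient.mk p)) h1
        simp only [PrimeSpectrum.comap_asIdeal, Ideal.comap_comap, hψ'] at this
        rw [Ideal.comap_comap, Ideal.comap_comap]
        exact this
      have h3 : Q₁.asIdeal.comap (Ideal.Quotient.mk P) = Q₂.asIdeal.comap (Ideal.Quotient.mk P) := by
        rw [← IsLocalization.map_comap s.primeCompl A (Q₁.asIdeal.comap (Ideal.Quotient.mk P)),
          ← IsLocalization.map_comap s.primeCompl A (Q₂.asIdeal.comap (Ideal.Quotient.mk P))]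
        exact congrArg (Ideal.map (algebraMap R A)) h2
      have h4 := Ideal.comap_injective_of_surjective _ Ideal.Quotient.mk_surjective h3
      exact PrimeSpectrum.ext h4
    exact hmono.strictMono_of_injective hinj
  exact Order.krullDim_le_of_strictMono F hF

end Dim

section Main

variable {R : Type u} [CommRing R] [IsNoetherianRing R]

theorem depth_localization_le_depth_add_height (M : Type u) [AddCommGroup M] [Module R M]
    [Module.Finite R M] (p s : Ideal R) [hp : p.IsPrime] [hs : s.IsPrime] (hps : p ≤ s) :
    depth (Localization.AtPrime s) (LocalizedModule s.primeCompl M) ≤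
      depth (Localization.AtPrime p) (LocalizedModule p.primeCompl M) +
        (s.map (Ideal.Quotient.mk p)).height := by
  by_cases hnt : Subsingleton (LocalizedModule p.primeCompl M)
  · have htop : IsLocalRing.maximalIdeal (Localization.AtPrime p) •
        (⊤ : Submodule (Localization.AtPrime p) (LocalizedModule p.primeCompl M)) = ⊤ := by
      ext z
      simp [Subsingleton.elim z 0]
    rw [depth, depth, idealDepth_eq_top_of_smul_top_eq_top _ _ htop, top_add]
    exact le_top
  rw [not_subsingleton_iff_nontrivial] at hnt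
  have hle : s.primeCompl ≤ p.primeCompl := fun x hx hxp => hx (hps hxp)
  let g : LocalizedModule s.primeCompl M →ₗ[R] LocalizedModule p.primeCompl M :=
    LocalizedModule.liftOfLE _ _ hle
  haveI hg : IsLocalizedModule p.primeCompl g := inferInstance
  haveI hntN : Nontrivial (LocalizedModule s.primeCompl M) := by
    by_contra hcon
    rw [not_nontrivial_iff_subsingleton] at hcon
    obtain ⟨y, hy⟩ := exists_ne (0 : LocalizedModule p.primeCompl M)
    apply hy
    obtain ⟨⟨m, t⟩, hmt⟩ := IsLocalizedModule.surj p.primeCompl g y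
    have h0 : t • y = 0 := by
      rw [hmt, Subsingleton.elim m 0, map_zero]
    exact (IsLocalizedModule.smul_inj g t y 0).mp (by rw [h0, smul_zero])
  let A := Localization.AtPrime s
  let B := Localization.AtPrime p
  let φ : A →+* B := IsLocalization.lift (M := s.primeCompl) (g := algebraMap R B)
    (fun y => IsLocalization.map_units B (⟨y.1, hle y.2⟩ : p.primeCompl))
  letI algAB : Algebra A B := φ.toAlgebra
  haveI : IsScalarTower R A B :=
    IsScalarTower.of_algebraMap_eq (fun x => (IsLocalization.lift_eq _ x).symm)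
  haveI : IsLocalization (Algebra.algebraMapSubmonoid A p.primeCompl) B :=
    IsLocalization.isLocalization_of_submonoid_le A B s.primeCompl p.primeCompl hle
  letI modAN' : Module A (LocalizedModule p.primeCompl M) :=
    Module.compHom (LocalizedModule p.primeCompl M) φ
  have hsmul : ∀ (a : A) (m : LocalizedModule p.primeCompl M), a • m = φ a • m := fun _ _ => rfl
  haveI : IsScalarTower A B (LocalizedModule p.primeCompl M) := ⟨fun a b m => by
    rw [hsmul, Algebra.smul_def, mul_smul]; rfl⟩
  haveI : IsScalarTower R A (LocalizedModule p.primeCompl M) := ⟨fun r a m => by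
    rw [hsmul, hsmul, Algebra.smul_def, map_mul, mul_smul]
    have : φ (algebraMap R A r) = algebraMap R B r := IsLocalization.lift_eq _ r
    rw [this, algebraMap_smul]⟩
  let f : LocalizedModule s.primeCompl M →ₗ[A] LocalizedModule p.primeCompl M :=
    g.extendScalarsOfIsLocalization s.primeCompl A
  haveI : IsLocalizedModule p.primeCompl (f.restrictScalars R) := hg
  haveI : IsLocalizedModule (Algebra.algebraMapSubmonoid A p.primeCompl) f :=
    IsLocalizedModule.of_restrictScalars p.primeCompl f
  let P : Ideal A := p.map (algebraMap R A)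
  have hdisj : Disjoint (s.primeCompl : Set R) (p : Set R) := by
    rw [Set.disjoint_left]
    intro x hx hxp
    exact hx (hps hxp)
  haveI hP : P.IsPrime := IsLocalization.isPrime_of_isPrime_disjoint s.primeCompl A p hp hdisj
  have hI : ∀ x ∈ P, algebraMap A B x ∈ IsLocalRing.maximalIdeal B := by
    intro x hx
    have hPle : P ≤ (IsLocalRing.maximalIdeal B).comap (algebraMap A B) := by
      rw [Ideal.map_le_iff_le_comap]
      intro r hr
      rw [Ideal.mem_comap, Ideal.mem_comap]
      have : algebraMap A B (algebraMap R A r) = algebraMap R B r := IsLocalization.lift_eq _ r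
      rw [this]
      exact (IsLocalization.AtPrime.to_map_mem_maximal_iff B p r).mpr hr
    exact hPle hx
  have h1 := depth_le_ringKrullDim_quotient_add_idealDepth (LocalizedModule s.primeCompl M) P
  have h2 := idealDepth_le_depth_of_isLocalizedModule (Algebra.algebraMapSubmonoid A p.primeCompl)
    B f P hI
  have h3 := ringKrullDim_quotient_map_atPrime_le p s hps
  have h2' : ((idealDepth P (LocalizedModule s.primeCompl M) : ℕ∞) : WithBot ℕ∞) ≤
      ((depth B (LocalizedModule p.primeCompl M) : ℕ∞) : WithBot ℕ∞) := by
    exact_mod_cast h2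
  have h4 : ((depth A (LocalizedModule s.primeCompl M) : ℕ∞) : WithBot ℕ∞) ≤
      (((s.map (Ideal.Quotient.mk p)).height : ℕ∞) : WithBot ℕ∞) +
        ((depth B (LocalizedModule p.primeCompl M) : ℕ∞) : WithBot ℕ∞) :=
    le_trans h1 (add_le_add h3 h2')
  rw [add_comm]
  exact_mod_cast h4

end Main

end Groth.Agent.Lib.Helper67
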