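import Groth.Agent.Lib.Helper67.FlatDepth6
import Mathlib.RingTheory.Ideal.GoingDown
import Mathlib.RingTheory.Ideal.GoingUp
import Mathlib.RingTheory.Ideal.KrullsHeightTheorem

set_option autoImplicit false
set_option linter.style.haveILetI false
set_option linter.unusedSectionVars false

universe u v w

namespace Groth.Agent.Lib.Helper67

open RingTheory.Sequence LocCoh TensorProduct IsLocalRing
open scoped Pointwise

section IntegralDim

theorem ringKrullDim_le_of_isIntegral (R : Type u) (S : Type v) [CommRing R] [CommRing S]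
    [Algebra R S] [Algebra.IsIntegral R S] : ringKrullDim S ≤ ringKrullDim R := by
  refine Order.krullDim_le_of_strictMono (PrimeSpectrum.comap (algebraMap R S)) ?_
  intro p q hpq
  rw [← PrimeSpectrum.asIdeal_lt_asIdeal] at hpq ⊢
  exact Ideal.IsIntegral.comap_lt_comap hpq

end IntegralDim

section FlatLocalDim

variable {R : Type u} {S : Type u} [CommRing R] [CommRing S] [Algebra R S] [IsLocalRing R]
  [IsLocalRing S] [IsNoetherianRing R] [IsNoetherianRing S] [IsLocalHom (algebraMap R S)]

/-- the maximal ideal of a quotient of a local ring -/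
theorem maximalIdeal_quotient_eq_map (I : Ideal S) (hI : I ≠ ⊤) :
    haveI : Nontrivial (S ⧸ I) := Ideal.Quotient.nontrivial_iff.mpr hI
    haveI : IsLocalRing (S ⧸ I) :=
      IsLocalRing.of_surjective' (Ideal.Quotient.mk I) Ideal.Quotient.mk_surjective
    maximalIdeal (S ⧸ I) = (maximalIdeal S).map (Ideal.Quotient.mk I) := by
  haveI : Nontrivial (S ⧸ I) := Ideal.Quotient.nontrivial_iff.mpr hI
  haveI : IsLocalRing (S ⧸ I) :=
    IsLocalRing.of_surjective' (Ideal.Quotient.mk I) Ideal.Quotient.mk_surjective
  symm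
  apply IsLocalRing.eq_maximalIdeal
  have := Ideal.map_eq_top_or_isMaximal_of_surjective (Ideal.Quotient.mk I)
    Ideal.Quotient.mk_surjective (maximalIdeal.isMaximal S)
  rcases this with h | h
  · exfalso
    have h1 : (1 : S ⧸ I) ∈ (maximalIdeal S).map (Ideal.Quotient.mk I) := by rw [h]; trivial
    rw [← map_one (Ideal.Quotient.mk I),
      Ideal.mem_map_iff_of_surjective _ Ideal.Quotient.mk_surjective] at h1
    obtain ⟨x, hx, hx1⟩ := h1
    rw [Ideal.Quotient.eq] at hx1
    have h2 : x - 1 ∈ maximalIdeal S := IsLocalRing.le_maximalIdeal hI hx1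
    have h3 := (maximalIdeal S).sub_mem hx h2
    rw [sub_sub_cancel] at h3
    exact (maximalIdeal.isMaximal S).ne_top ((Ideal.eq_top_iff_one _).mpr h3)
  · exact h

/-- `dim S = dim R + ht (n/mS)` for a flat local homomorphism. -/
theorem ringKrullDim_eq_add_of_flat [Module.Flat R S] :
    ringKrullDim S = ringKrullDim R +
      ((((maximalIdeal S).map (Ideal.Quotient.mk ((maximalIdeal R).map (algebraMap R S)))).height :
        ℕ∞) : WithBot ℕ∞) := by
  haveI : (maximalIdeal S).LiesOver (maximalIdeal R) :=
    ⟨(IsLocalRing.maximalIdeal_comap (algebraMap R S)).symm⟩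
  have h := Ideal.height_eq_height_add_of_liesOver_of_hasGoingDown (maximalIdeal R)
    (maximalIdeal S)
  rw [← IsLocalRing.maximalIdeal_height_eq_ringKrullDim,
    ← IsLocalRing.maximalIdeal_height_eq_ringKrullDim, h]
  rfl

end FlatLocalDim

end Groth.Agent.Lib.Helper67

namespace Groth.Agent.Lib.Helper67

open RingTheory.Sequence LocCoh TensorProduct IsLocalRing
open scoped Pointwise

section CMFlat

variable {R : Type u} {S : Type u} [CommRing R] [CommRing S] [Algebra R S] [IsLocalRing R]
  [IsLocalRing S] [IsNoetherianRing R] [IsNoetherianRing S] [IsLocalHom (algebraMap R S)]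

/-- depth of the fibre `S/mS` (as quotient module) is zero when `ht(n/mS) = 0`. -/
theorem depth_fibre_eq_zero_of_height_eq_zero
    (h0 : ((maximalIdeal S).map
      (Ideal.Quotient.mk ((maximalIdeal R).map (algebraMap R S)))).height = 0) :
    depth S (S ⧸ (maximalIdeal R).map (algebraMap R S) • (⊤ : Submodule S S)) = 0 := by
  set I := (maximalIdeal R).map (algebraMap R S) with hIdef
  have hI : I ≠ ⊤ := (IsLocalRing.map_maximalIdeal_lt_top (algebraMap R S)).ne
  have heq : I • (⊤ : Submodule S S) = I := by
    rw [smul_eq_mul, Ideal.mul_top]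
  rw [depth_congr (Submodule.quotEquivOfEq _ _ heq)]
  haveI : Nontrivial (S ⧸ I) := Ideal.Quotient.nontrivial_iff.mpr hI
  haveI : IsLocalRing (S ⧸ I) :=
    IsLocalRing.of_surjective' (Ideal.Quotient.mk I) Ideal.Quotient.mk_surjective
  have h1 := depth_le_supportDim (R := S) (S ⧸ I)
  rw [Module.supportDim_quotient_eq_ringKrullDim,
    ← IsLocalRing.maximalIdeal_height_eq_ringKrullDim, maximalIdeal_quotient_eq_map I hI, h0] at h1
  have h2 : depth S (S ⧸ I) ≤ 0 := by exact_mod_cast h1
  exact le_antisymm h2 bot_le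

omit [IsLocalRing R] [IsLocalRing S] [IsNoetherianRing R] [IsNoetherianRing S]
  [IsLocalHom (algebraMap R S)] [Algebra R S] [CommRing R] [CommRing S] in
theorem enat_eq_zero_of_add_le (d : ℕ) (x : ℕ∞) (h : (d : ℕ∞) + x ≤ d) : x = 0 := by
  induction x using ENat.recTopCoe with
  | top => simp at h
  | coe k =>
    have h2 : d + k ≤ d := by exact_mod_cast h
    have : k = 0 := by omega
    rw [this]; rfl

/-- depth along a flat local hom with zero-dimensional closed fibre. -/
theorem depth_eq_of_flat_of_height_eq_zero [Module.Flat R S]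
    (h0 : ((maximalIdeal S).map
      (Ideal.Quotient.mk ((maximalIdeal R).map (algebraMap R S)))).height = 0) :
    depth S S = depth R R := by
  have h1 := depth_tensor_eq_add_quotient (R := R) (S := S) S R
  rw [depth_fibre_eq_zero_of_height_eq_zero h0, add_zero,
    depth_congr (AlgebraTensorModule.rid R S S)] at h1
  exact h1

theorem isCohenMacaulayLocalRing_of_flat_of_dim_le [Module.Flat R S]
    (hR : IsCohenMacaulayLocalRing R) (h : ringKrullDim S ≤ ringKrullDim R) :
    IsCohenMacaulayLocalRing S ∧ ringKrullDim R = ringKrullDim S := by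
  have hdim := ringKrullDim_eq_add_of_flat (R := R) (S := S)
  have hRd : ringKrullDim R = ((depth R R : ℕ∞) : WithBot ℕ∞) := by
    rw [← Module.supportDim_self_eq_ringKrullDim]
    exact hR.supportDim_eq_depth
  obtain ⟨d, hd⟩ := ENat.ne_top_iff_exists.mp (depth_ne_top (R := R) R)
  set ht := ((maximalIdeal S).map
      (Ideal.Quotient.mk ((maximalIdeal R).map (algebraMap R S)))).height with hht
  have h0 : ht = 0 := by
    rw [hdim, hRd, ← hd] at h
    have h' : ((d : ℕ∞) + ht) ≤ (d : ℕ∞) := by exact_mod_cast h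
    exact enat_eq_zero_of_add_le d ht h'
  have hdepth := depth_eq_of_flat_of_height_eq_zero (R := R) (S := S) h0
  have hdimeq : ringKrullDim R = ringKrullDim S := by
    rw [hdim, h0]
    simp
  refine ⟨⟨?_⟩, hdimeq⟩
  rw [Module.supportDim_self_eq_ringKrullDim, ← hdimeq, hRd, hdepth]

end CMFlat

end Groth.Agent.Lib.Helper67
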