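import Groth.Agent.Lib.Helper67.CMCat2
import Groth.Agent.Lib.Helper38.CohenStructure
import Groth.Agent.Lib.Helper77.RegularPowerSeries

/-!
# Complete Noetherian local rings are (universally) catenary

via Cohen's structure theorem: quotient of a regular (hence CM) power series ring.
-/

set_option autoImplicit false
set_option linter.style.haveILetI false
set_option linter.unusedSectionVars false

universe u

namespace Groth.Agent.Lib.Helper67.CplCat

open IsLocalRing LocCoh

/-- A complete Noetherian local ring is a quotient of a Cohen–Macaulay (indeed regular) ring. -/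
theorem exists_surjective_of_complete (R : Type u) [CommRing R] [IsLocalRing R]
    [IsNoetherianRing R] [IsAdicComplete (maximalIdeal R) R] :
    ∃ (P : Type u) (_ : CommRing P) (_ : IsRegularRing P) (f : P →+* R),
      Function.Surjective f := by
  obtain ⟨Λ, _, g, hΛ, hg⟩ := Groth.Agent.Lib.Helper38.CohenStructure.exists_coeffRing R
  have hfg : (maximalIdeal R).FG := IsNoetherian.noetherian _
  obtain ⟨n, f, hf, -, -⟩ :=
    Groth.Agent.Lib.Helper38.CohenStructure.exists_surjective_of_coeff hfg g hg
  have hreg : IsRegularRing Λ := by
    rcases hΛ with hF | hC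
    · letI := hF.toField
      infer_instance
    · obtain ⟨hD, hDVR, -⟩ := hC
      infer_instance
  exact ⟨MvPowerSeries (Fin n) Λ, inferInstance,
    Groth.Agent.Lib.Helper77.RegularPowerSeries.isRegularRing_mvPowerSeries Λ n, f, hf⟩

theorem isUniversallyCatenary_of_surjective {P R : Type u} [CommRing P] [CommRing R]
    (f : P →+* R) (hf : Function.Surjective f) (hP : CAlg.IsUniversallyCatenary P) :
    CAlg.IsUniversallyCatenary R := by
  have : IsNoetherianRing P := hP.1
  refine ⟨isNoetherianRing_of_surjective P R f hf, fun S _ _ hS => ?_⟩
  letI : Algebra P R := f.toAlgebra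
  letI : Algebra P S := ((algebraMap R S).comp f).toAlgebra
  haveI : IsScalarTower P R S := IsScalarTower.of_algebraMap_eq (fun _ => rfl)
  have h1 : Algebra.FiniteType P R :=
    Algebra.FiniteType.of_surjective (Algebra.ofId P R) hf
  have : Algebra.FiniteType P S := Algebra.FiniteType.trans h1 hS
  exact hP.2 S this

/-- A complete Noetherian local ring is universally catenary. -/
theorem isUniversallyCatenary_of_complete (R : Type u) [CommRing R] [IsLocalRing R]
    [IsNoetherianRing R] [IsAdicComplete (maximalIdeal R) R] :
    CAlg.IsUniversallyCatenary R := by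
  obtain ⟨P, _, hP, f, hf⟩ := exists_surjective_of_complete R
  haveI : IsCohenMacaulayRing P := Groth.Agent.Lib.Helper56.isCohenMacaulayRing_of_isRegularRing P
  exact isUniversallyCatenary_of_surjective f hf
    (CMCat.isUniversallyCatenary_of_isCohenMacaulayRing P)

/-- A complete Noetherian local ring is catenary. -/
theorem isCatenary_of_complete (R : Type u) [CommRing R] [IsLocalRing R]
    [IsNoetherianRing R] [IsAdicComplete (maximalIdeal R) R] : CAlg.IsCatenary R := by
  obtain ⟨P, _, hP, f, hf⟩ := exists_surjective_of_complete R
  haveI : IsCohenMacaulayRing P := Groth.Agent.Lib.Helper56.isCohenMacaulayRing_of_isRegularRing P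
  exact Groth.Agent.Lib.Helper70.isCatenary_of_surjective f hf
    (CMCat.isCatenary_of_isCohenMacaulayRing P)

end Groth.Agent.Lib.Helper67.CplCat
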