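import Groth.Agent.Lib.Helper67.FlatDepth7
import Mathlib.RingTheory.Unramified.LocalRing
import Mathlib.RingTheory.Etale.Basic
import Mathlib.RingTheory.Smooth.Flat

set_option autoImplicit false
set_option linter.style.haveILetI false
set_option linter.unusedSectionVars false

universe u v w

namespace Groth.Agent.Lib.Helper67

open RingTheory.Sequence LocCoh TensorProduct IsLocalRing
open scoped Pointwise

section CMIff

variable {R : Type u} {S : Type u} [CommRing R] [CommRing S] [Algebra R S] [IsLocalRing R]
  [IsLocalRing S] [IsNoetherianRing R] [IsNoetherianRing S] [IsLocalHom (algebraMap R S)]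

theorem isCohenMacaulayLocalRing_iff_of_flat_of_height_eq_zero [Module.Flat R S]
    (h0 : ((maximalIdeal S).map
      (Ideal.Quotient.mk ((maximalIdeal R).map (algebraMap R S)))).height = 0) :
    IsCohenMacaulayLocalRing R ↔ IsCohenMacaulayLocalRing S := by
  have hdim := ringKrullDim_eq_add_of_flat (R := R) (S := S)
  rw [h0] at hdim
  have hdim' : ringKrullDim S = ringKrullDim R := by rw [hdim]; simp
  have hdepth := depth_eq_of_flat_of_height_eq_zero (R := R) (S := S) h0
  constructor
  · intro hR
    refine ⟨?_⟩
    rw [Module.supportDim_self_eq_ringKrullDim, hdim', hdepth,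
      ← Module.supportDim_self_eq_ringKrullDim]
    exact hR.supportDim_eq_depth
  · intro hS
    refine ⟨?_⟩
    rw [Module.supportDim_self_eq_ringKrullDim, ← hdim', ← hdepth,
      ← Module.supportDim_self_eq_ringKrullDim]
    exact hS.supportDim_eq_depth

/-- closed fibre is a field when `m S = n` -/
theorem height_eq_zero_of_map_maximalIdeal_eq
    (h : (maximalIdeal R).map (algebraMap R S) = maximalIdeal S) :
    ((maximalIdeal S).map
      (Ideal.Quotient.mk ((maximalIdeal R).map (algebraMap R S)))).height = 0 := by
  rw [h, Ideal.map_quotient_self]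
  haveI : Nontrivial (S ⧸ maximalIdeal S) := Ideal.Quotient.nontrivial_iff.mpr
    (maximalIdeal.isMaximal S).ne_top
  exact Ideal.height_bot

end CMIff

end Groth.Agent.Lib.Helper67
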