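import Groth.Agent.Lib.Helper67.RegLocus

/-!
# Generic regularity: transport lemmas, and Nagata's criterion for all quotients
-/

set_option autoImplicit false
set_option linter.style.haveILetI false
set_option linter.unusedSectionVars false

universe u

namespace Groth.Agent.Lib.Helper67.RegLocus

open IsLocalRing

/-- The regular locus contains a nonempty open subset. -/
def HasGenReg (R : Type u) [CommRing R] : Prop :=
  ∃ U : Set (PrimeSpectrum R), IsOpen U ∧ U.Nonempty ∧ U ⊆ EGA4.regLocus R

theorem isRegularLocalRing_comap_iff {R S : Type u} [CommRing R] [CommRing S] (e : R ≃+* S)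
    (P : Ideal S) [P.IsPrime] :
    IsRegularLocalRing (Localization.AtPrime (P.comap e)) ↔
      IsRegularLocalRing (Localization.AtPrime P) := by
  let e' : Localization.AtPrime (P.comap e) ≃+* Localization.AtPrime P :=
    IsLocalization.ringEquivOfRingEquiv
      (Localization.AtPrime (P.comap e)) (Localization.AtPrime P) e
      (e.map_primeCompl_comap_eq P)
  constructor
  · intro h
    exact IsRegularLocalRing.of_ringEquiv e'
  · intro h
    exact IsRegularLocalRing.of_ringEquiv (R := Localization.AtPrime P) e'.symm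

theorem mem_regLocus_comap_iff {R S : Type u} [CommRing R] [CommRing S] (e : R ≃+* S)
    (P : PrimeSpectrum S) :
    PrimeSpectrum.comap (e : R →+* S) P ∈ EGA4.regLocus R ↔ P ∈ EGA4.regLocus S := by
  haveI := P.2
  exact isRegularLocalRing_comap_iff e P.asIdeal

theorem hasGenReg_of_ringEquiv {R S : Type u} [CommRing R] [CommRing S] (e : R ≃+* S)
    (h : HasGenReg R) : HasGenReg S := by
  obtain ⟨U, hU, hne, hsub⟩ := h
  refine ⟨PrimeSpectrum.comap (e : R →+* S) ⁻¹' U, hU.preimage (PrimeSpectrum.continuous_comap _), ?_, ?_⟩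
  · obtain ⟨u, hu⟩ := hne
    refine ⟨PrimeSpectrum.comap (e.symm : S →+* R) u, ?_⟩
    rw [Set.mem_preimage]
    have : PrimeSpectrum.comap (e : R →+* S) (PrimeSpectrum.comap (e.symm : S →+* R) u) = u := by
      apply PrimeSpectrum.ext
      show Ideal.comap (e : R →+* S) (Ideal.comap (e.symm : S →+* R) u.asIdeal) = u.asIdeal
      rw [Ideal.comap_comap]
      have : (e.symm : S →+* R).comp (e : R →+* S) = RingHom.id R := by
        ext x; simp
      rw [this, Ideal.comap_id]
    rw [this]
    exact hu
  · intro P hP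
    exact (mem_regLocus_comap_iff e P).mp (hsub hP)

theorem isOpen_regLocus_of_ringEquiv {R S : Type u} [CommRing R] [CommRing S] (e : R ≃+* S)
    (h : IsOpen (EGA4.regLocus R)) : IsOpen (EGA4.regLocus S) := by
  have : EGA4.regLocus S = PrimeSpectrum.comap (e : R →+* S) ⁻¹' EGA4.regLocus R := by
    ext P
    exact (mem_regLocus_comap_iff e P).symm
  rw [this]
  exact h.preimage (PrimeSpectrum.continuous_comap _)

/-- The generic point of a domain is in the regular locus. -/
theorem bot_mem_regLocus (D : Type u) [CommRing D] [IsDomain D] :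
    (⟨⊥, Ideal.isPrime_bot⟩ : PrimeSpectrum D) ∈ EGA4.regLocus D := by
  show IsRegularLocalRing (Localization.AtPrime (⊥ : Ideal D))
  have hf : IsField (Localization.AtPrime (⊥ : Ideal D)) := by
    rw [IsLocalRing.isField_iff_maximalIdeal_eq, ← Localization.AtPrime.map_eq_maximalIdeal,
      Ideal.map_bot]
  letI := hf.toField
  infer_instance

theorem hasGenReg_of_isOpen_regLocus (D : Type u) [CommRing D] [IsDomain D]
    (h : IsOpen (EGA4.regLocus D)) : HasGenReg D :=
  ⟨EGA4.regLocus D, h, ⟨_, bot_mem_regLocus D⟩, subset_rfl⟩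

/-- the quotient `(A ⧸ I) ⧸ P` is `A ⧸ p` for `p` the preimage of `P`. -/
noncomputable def quotQuotEquivComap {A : Type u} [CommRing A] (I : Ideal A) (P : Ideal (A ⧸ I)) :
    A ⧸ P.comap (Ideal.Quotient.mk I) ≃+* (A ⧸ I) ⧸ P :=
  (Ideal.quotEquivOfEq (by
      rw [RingHom.ker_eq_comap_bot, ← Ideal.comap_comap, ← RingHom.ker_eq_comap_bot, Ideal.mk_ker])).trans
    (RingHom.quotientKerEquivOfSurjective
      (f := (Ideal.Quotient.mk P).comp (Ideal.Quotient.mk I))
      (Ideal.Quotient.mk_surjective.comp Ideal.Quotient.mk_surjective))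

/-- Nagata's criterion for all quotients. -/
theorem isOpen_regLocus_quotient_iff (A : Type u) [CommRing A] [IsNoetherianRing A] :
    (∀ I : Ideal A, IsOpen (EGA4.regLocus (A ⧸ I))) ↔
      ∀ (p : Ideal A) [p.IsPrime], HasGenReg (A ⧸ p) := by
  constructor
  · intro h p _
    exact hasGenReg_of_isOpen_regLocus _ (h p)
  · intro h I
    apply nagata_regLocus
    intro P _
    haveI := P.2
    haveI : (P.asIdeal.comap (Ideal.Quotient.mk I)).IsPrime := Ideal.comap_isPrime _ _
    exact hasGenReg_of_ringEquiv (quotQuotEquivComap I P.asIdeal)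
      (h (P.asIdeal.comap (Ideal.Quotient.mk I)))

end Groth.Agent.Lib.Helper67.RegLocus
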