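import Groth.Agent.Lib.Helper67.RegLocus2
import Groth.Agent.Lib.Helper18.GenericFreeness
import Groth.Agent.S0565

/-!
# Descent of generic regularity along injective finite type maps of domains
-/

set_option autoImplicit false
set_option linter.style.haveILetI false
set_option linter.unusedSectionVars false

universe u

namespace Groth.Agent.Lib.Helper67.RegLocus

open IsLocalRing

theorem exists_basicOpen_subset_regLocus {D : Type u} [CommRing D] [IsDomain D]
    (h : HasGenReg D) :
    ∃ g : D, g ≠ 0 ∧ ∀ q : PrimeSpectrum D, g ∉ q.asIdeal → q ∈ EGA4.regLocus D := by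
  obtain ⟨U, hU, hne, hsub⟩ := h
  have hbot := bot_mem_of_isOpen_of_nonempty hU hne
  obtain ⟨v, ⟨g, rfl⟩, hgv, hvU⟩ :=
    PrimeSpectrum.isTopologicalBasis_basic_opens.exists_subset_of_mem_open hbot hU
  refine ⟨g, ?_, fun q hq => hsub (hvU hq)⟩
  rintro rfl
  exact hgv (Ideal.zero_mem _)

theorem hasGenReg_of_basicOpen {D : Type u} [CommRing D] [IsDomain D] (g : D) (hg : g ≠ 0)
    (h : ∀ q : PrimeSpectrum D, g ∉ q.asIdeal → q ∈ EGA4.regLocus D) : HasGenReg D := by
  refine ⟨PrimeSpectrum.basicOpen g, (PrimeSpectrum.basicOpen g).isOpen,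
    ⟨⟨⊥, Ideal.isPrime_bot⟩, ?_⟩, fun q hq => h q hq⟩
  show g ∉ (⊥ : Ideal D)
  rwa [Ideal.mem_bot]

/-- Descent of regularity along a flat ring map, at a point. -/
theorem isRegularLocalRing_of_flat_of_comap {R T : Type u} [CommRing R] [IsNoetherianRing R]
    [CommRing T] (φ : R →+* T) (hφ : φ.Flat) (Q : Ideal T) [Q.IsPrime] (P : Ideal R) [P.IsPrime]
    (hPQ : P = Q.comap φ) (h : IsRegularLocalRing (Localization.AtPrime Q)) :
    IsRegularLocalRing (Localization.AtPrime P) := by
  let ψ := Localization.localRingHom P Q φ hPQ
  letI : Algebra (Localization.AtPrime P) (Localization.AtPrime Q) := ψ.toAlgebra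
  haveI : IsLocalHom (algebraMap (Localization.AtPrime P) (Localization.AtPrime Q)) :=
    Localization.isLocalHom_localRingHom P Q φ hPQ
  haveI : Module.Flat (Localization.AtPrime P) (Localization.AtPrime Q) :=
    RingHom.Flat.localRingHom hφ Q P hPQ
  exact Groth.Agent.S0565.result (Localization.AtPrime P) (Localization.AtPrime Q)

/-- Regularity at a prime of a localization. -/
theorem isRegularLocalRing_atPrime_of_isLocalization {S T : Type u} [CommRing S] [CommRing T]
    [Algebra S T] (M : Submonoid S) [IsLocalization M T] (Q : Ideal T) [Q.IsPrime]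
    (h : IsRegularLocalRing (Localization.AtPrime (Q.comap (algebraMap S T)))) :
    IsRegularLocalRing (Localization.AtPrime Q) := by
  have h2 : IsLocalization.AtPrime (Localization.AtPrime Q) (Q.comap (algebraMap S T)) :=
    IsLocalization.isLocalization_isLocalization_atPrime_isLocalization M _ Q
  exact IsRegularLocalRing.of_ringEquiv (R := Localization.AtPrime (Q.comap (algebraMap S T)))
    (IsLocalization.algEquiv (Q.comap (algebraMap S T)).primeCompl
      (Localization.AtPrime (Q.comap (algebraMap S T))) (Localization.AtPrime Q)).toRingEquiv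

theorem isRegularLocalRing_comap_of_isLocalization {S T : Type u} [CommRing S] [CommRing T]
    [Algebra S T] (M : Submonoid S) [IsLocalization M T] (Q : Ideal T) [Q.IsPrime]
    (h : IsRegularLocalRing (Localization.AtPrime Q)) :
    IsRegularLocalRing (Localization.AtPrime (Q.comap (algebraMap S T))) := by
  have h2 : IsLocalization.AtPrime (Localization.AtPrime Q) (Q.comap (algebraMap S T)) :=
    IsLocalization.isLocalization_isLocalization_atPrime_isLocalization M _ Q
  exact IsRegularLocalRing.of_ringEquiv (R := Localization.AtPrime Q)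
    (IsLocalization.algEquiv (Q.comap (algebraMap S T)).primeCompl
      (Localization.AtPrime (Q.comap (algebraMap S T))) (Localization.AtPrime Q)).symm.toRingEquiv

/-- Descent of generic regularity along an injective finite type map of domains. -/
theorem hasGenReg_descent (R S : Type u) [CommRing R] [IsDomain R] [IsNoetherianRing R]
    [CommRing S] [IsDomain S] [Algebra R S] [Algebra.FiniteType R S]
    (hinj : Function.Injective (algebraMap R S)) (hS : HasGenReg S) : HasGenReg R := by
  classical
  obtain ⟨g, hg, hgreg⟩ := exists_basicOpen_subset_regLocus hS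
  -- S' = S_g
  let S' := Localization.Away g
  have hgM : Submonoid.powers g ≤ nonZeroDivisors S :=
    powers_le_nonZeroDivisors_of_noZeroDivisors hg
  haveI : IsDomain S' := IsLocalization.isDomain_localization hgM
  have hinjS' : Function.Injective (algebraMap S S') := IsLocalization.injective S' hgM
  haveI : Algebra.FiniteType S S' := IsLocalization.finiteType_of_monoid_fg (Submonoid.powers g) S'
  haveI : Algebra.FiniteType R S' := Algebra.FiniteType.trans (inferInstance : Algebra.FiniteType R S)
    inferInstance
  have hinjRS' : Function.Injective (algebraMap R S') := by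
    rw [IsScalarTower.algebraMap_eq R S S']
    exact hinjS'.comp hinj
  obtain ⟨f, hf, ι, m, hm⟩ := Groth.Agent.Lib.Helper18.genFree_finiteType (R := R) S' S'
  -- T = S'_f
  let Rf := Localization (Submonoid.powers f)
  let T := Localization (Algebra.algebraMapSubmonoid S' (Submonoid.powers f))
  haveI : IsScalarTower R Rf T := isScalarTower_localizationAlgebra (Submonoid.powers f) S'
  haveI hfree : Module.Free Rf T :=
    hm.free_localized Rf (IsScalarTower.toAlgHom R S' T).toLinearMap
  have hNle : Algebra.algebraMapSubmonoid S' (Submonoid.powers f) ≤ nonZeroDivisors S' := by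
    rintro _ ⟨x, ⟨n, rfl⟩, rfl⟩
    rw [map_pow]
    refine pow_mem (mem_nonZeroDivisors_of_ne_zero ?_) n
    rw [Ne, map_eq_zero_iff _ hinjRS']
    exact hf
  have hinjT : Function.Injective (algebraMap S' T) := IsLocalization.injective T hNle
  haveI : Nontrivial T := hinjT.nontrivial
  haveI : Module.FaithfullyFlat Rf T := inferInstance
  haveI : Module.Flat R Rf := IsLocalization.flat Rf (Submonoid.powers f)
  haveI : Module.Flat R T := Module.Flat.trans R Rf T
  -- T as a localization of S
  haveI hloc : IsLocalization (IsLocalization.localizationLocalizationSubmodule (Submonoid.powers g)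
      (Algebra.algebraMapSubmonoid S' (Submonoid.powers f))) T :=
    IsLocalization.localization_localization_isLocalization (Submonoid.powers g)
      (Algebra.algebraMapSubmonoid S' (Submonoid.powers f)) T
  refine hasGenReg_of_basicOpen f hf (fun P hP => ?_)
  haveI := P.2
  have hdisj : Disjoint (Submonoid.powers f : Set R) (P.asIdeal : Set R) := by
    rw [Set.disjoint_left]
    rintro _ ⟨n, rfl⟩ hmem
    exact hP (P.2.mem_of_pow_mem n hmem)
  have hP'prime : (P.asIdeal.map (algebraMap R Rf)).IsPrime :=
    IsLocalization.isPrime_of_isPrime_disjoint (Submonoid.powers f) Rf P.asIdeal P.2 hdisj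
  have hP'comap : (P.asIdeal.map (algebraMap R Rf)).comap (algebraMap R Rf) = P.asIdeal :=
    IsLocalization.under_map_of_isPrime_disjoint (Submonoid.powers f) Rf P.2 hdisj
  obtain ⟨Q, hQ⟩ := PrimeSpectrum.comap_surjective_of_faithfullyFlat (A := Rf) (B := T)
    ⟨P.asIdeal.map (algebraMap R Rf), hP'prime⟩
  haveI := Q.2
  have hQ' : Q.asIdeal.comap (algebraMap Rf T) = P.asIdeal.map (algebraMap R Rf) :=
    congrArg PrimeSpectrum.asIdeal hQ
  have hPQ : P.asIdeal = Q.asIdeal.comap (algebraMap R T) := by
    rw [IsScalarTower.algebraMap_eq R Rf T, ← Ideal.comap_comap, hQ', hP'comap]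
  -- regularity of T at Q
  have hgQ : g ∉ Q.asIdeal.comap (algebraMap S T) := by
    intro hmem
    rw [Ideal.mem_comap] at hmem
    have hu : IsUnit (algebraMap S T g) := by
      rw [IsScalarTower.algebraMap_apply S S' T]
      exact (IsLocalization.map_units S' (⟨g, Submonoid.mem_powers g⟩ : Submonoid.powers g)).map _
    exact Q.2.ne_top (Ideal.eq_top_of_isUnit_mem _ hmem hu)
  have h1 : IsRegularLocalRing (Localization.AtPrime (Q.asIdeal.comap (algebraMap S T))) :=
    hgreg ⟨Q.asIdeal.comap (algebraMap S T), inferInstance⟩ hgQ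
  have h2 : IsRegularLocalRing (Localization.AtPrime Q.asIdeal) :=
    isRegularLocalRing_atPrime_of_isLocalization
      (IsLocalization.localizationLocalizationSubmodule (Submonoid.powers g)
        (Algebra.algebraMapSubmonoid S' (Submonoid.powers f))) Q.asIdeal h1
  exact isRegularLocalRing_of_flat_of_comap (algebraMap R T)
    (RingHom.flat_algebraMap_iff.mpr inferInstance) Q.asIdeal P.asIdeal hPQ h2

end Groth.Agent.Lib.Helper67.RegLocus
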