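import Groth.Agent.Lib.Helper67.RegLocus7
import Mathlib.RingTheory.Unramified.Field
import Mathlib.FieldTheory.Perfect

/-!
# Dedekind domains of characteristic zero are J-2
-/

set_option autoImplicit false
set_option linter.style.haveILetI false
set_option linter.unusedSectionVars false

universe u

namespace Groth.Agent.Lib.Helper67.RegLocus

open IsLocalRing TensorProduct

/-- A nontrivial regular ring has generically regular spectrum. -/
theorem hasGenReg_of_isRegularRing (A : Type u) [CommRing A] [Nontrivial A] [IsRegularRing A] :
    HasGenReg A := by
  refine ⟨Set.univ, isOpen_univ, Set.univ_nonempty, fun q _ => ?_⟩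
  haveI := q.2
  exact (isRegularRing_iff.mp inferInstance) q.asIdeal

/-- An essentially finite type algebraic field extension in characteristic zero is geometrically
reduced. -/
theorem isGeometricallyReduced_of_isAlgebraic_charZero (K L : Type u) [Field K] [Field L]
    [Algebra K L] [CharZero K] [Algebra.IsAlgebraic K L] [Algebra.EssFiniteType K L] :
    Algebra.IsGeometricallyReduced K L := by
  rw [Algebra.isGeometricallyReduced_field_iff]
  haveI : Algebra.IsSeparable K L := Algebra.IsAlgebraic.isSeparable_of_perfectField
  haveI : Algebra.FormallyUnramified K L := Algebra.FormallyUnramified.of_isSeparable K L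
  exact Algebra.FormallyUnramified.isReduced_of_field (AlgebraicClosure K) _

/-- a domain integral over a ring with maximal kernel has a one-point spectrum -/
theorem hasGenReg_of_isIntegral_of_ker_isMaximal (A A' : Type u) [CommRing A] [CommRing A']
    [IsDomain A'] [Algebra A A'] [Algebra.IsIntegral A A']
    (h : (RingHom.ker (algebraMap A A')).IsMaximal) : HasGenReg A' := by
  have hmax : (⊥ : Ideal A').IsMaximal := by
    haveI : (⊥ : Ideal A').IsPrime := Ideal.isPrime_bot
    apply Ideal.isMaximal_of_isIntegral_of_isMaximal_comap (R := A) (⊥ : Ideal A')
    rwa [← RingHom.ker_eq_comap_bot]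
  haveI : Subsingleton (PrimeSpectrum A') := by
    refine ⟨fun p q => ?_⟩
    have hp : p.asIdeal = ⊥ := (hmax.eq_of_le p.2.ne_top bot_le).symm
    have hq : q.asIdeal = ⊥ := (hmax.eq_of_le q.2.ne_top bot_le).symm
    exact PrimeSpectrum.ext (hp.trans hq.symm)
  exact hasGenReg_of_finite_primeSpectrum A'

/-- Finite injective extensions of a generically regular domain of characteristic zero are
generically regular. -/
theorem hasGenReg_of_finite_charZero (A A' : Type u) [CommRing A] [CommRing A'] [IsDomain A]
    [IsDomain A'] [IsNoetherianRing A] [CharZero A] [Algebra A A'] [Module.Finite A A']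
    (hinj : Function.Injective (algebraMap A A')) (h : HasGenReg A) : HasGenReg A' := by
  haveI : FaithfulSMul A A' := (faithfulSMul_iff_algebraMap_injective A A').mpr hinj
  haveI : FaithfulSMul A (FractionRing A') := by
    rw [faithfulSMul_iff_algebraMap_injective, IsScalarTower.algebraMap_eq A A' (FractionRing A')]
    exact (IsFractionRing.injective A' (FractionRing A')).comp hinj
  letI := FractionRing.liftAlgebra A (FractionRing A')
  haveI := FractionRing.isScalarTower_liftAlgebra A (FractionRing A')
  haveI : Algebra.IsIntegral A A' := inferInstance
  haveI : Algebra.IsAlgebraic A A' := inferInstance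
  haveI : Algebra.IsAlgebraic A (FractionRing A') :=
    (IsFractionRing.isAlgebraic_iff' A A' (FractionRing A')).mp inferInstance
  haveI : Algebra.IsAlgebraic (FractionRing A) (FractionRing A') :=
    (IsFractionRing.comap_isAlgebraic_iff (A := A) (K := FractionRing A)
      (C := FractionRing A')).mp inferInstance
  haveI : Algebra.EssFiniteType A' (FractionRing A') :=
    Algebra.EssFiniteType.of_isLocalization (FractionRing A') (nonZeroDivisors A')
  haveI : Algebra.EssFiniteType A (FractionRing A') :=
    Algebra.EssFiniteType.comp A A' (FractionRing A')
  haveI : Algebra.EssFiniteType (FractionRing A) (FractionRing A') :=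
    Algebra.EssFiniteType.of_comp A (FractionRing A) (FractionRing A')
  haveI : Algebra.IsGeometricallyReduced (FractionRing A) (FractionRing A') :=
    isGeometricallyReduced_of_isAlgebraic_charZero _ _
  exact hasGenReg_of_separable' A A' (FractionRing A) (FractionRing A') h

/-- A Dedekind domain of characteristic zero is J-2. -/
theorem isJ2_of_dedekind_charZero (A : Type u) [CommRing A] [IsDedekindDomain A] [CharZero A] :
    EGA4.IsJ2 A := by
  rw [isJ2_iff]
  intro A' _ _ _ hfin
  haveI : Algebra.IsIntegral A A' := inferInstance
  by_cases hinj : Function.Injective (algebraMap A A')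
  · exact hasGenReg_of_finite_charZero A A' hinj (hasGenReg_of_isRegularRing A)
  · apply hasGenReg_of_isIntegral_of_ker_isMaximal A A'
    haveI : (RingHom.ker (algebraMap A A')).IsPrime := RingHom.ker_isPrime _
    apply Ideal.IsPrime.isMaximal inferInstance
    intro h0
    exact hinj ((RingHom.injective_iff_ker_eq_bot _).mpr h0)

end Groth.Agent.Lib.Helper67.RegLocus
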