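import Groth.Agent.Lib.Helper56.CplQuot

/-!
# Completion of a quotient: `cplMap A C` for a surjection `A → C` of Noetherian local rings

Generalizes `Helper56.cplMap_quot_surjective` / `ker_cplMap_quot` from `A ⧸ I` to an arbitrary
surjective `algebraMap A C`.
-/

set_option autoImplicit false
set_option linter.style.haveILetI false
set_option linter.unusedSectionVars false

universe u

namespace Groth.Agent.Lib.Helper67.CplSurj

open IsLocalRing EGA4 TensorProduct Groth.Agent.Lib.Helper56.ComplFlatOld Groth.Agent.Lib.Helper56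

variable (A C : Type u) [CommRing A] [CommRing C] [IsNoetherianRing A] [IsLocalRing A]
  [IsNoetherianRing C] [IsLocalRing C] [Algebra A C] [IsLocalHom (algebraMap A C)]
  (hs : Function.Surjective (algebraMap A C))

include hs

theorem map_maximalIdeal_eq :
    (maximalIdeal A).map (algebraMap A C) = maximalIdeal C := by
  rcases Ideal.map_eq_top_or_isMaximal_of_surjective (algebraMap A C)
    hs (maximalIdeal.isMaximal A) with h | h
  · exfalso
    have := map_maximalIdeal_le_of_isLocalHom A C
    rw [h] at this
    exact (maximalIdeal.isMaximal C).ne_top (top_le_iff.mp this)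
  · exact IsLocalRing.eq_maximalIdeal h

theorem map_cplMap_maximalIdeal :
    (maximalIdeal (Cpl A)).map (cplMap A C) =
      (maximalIdeal C).map (algebraMap C (Cpl C)) := by
  have e : (cplMap A C).comp (algebraMap A (Cpl A)) =
      (algebraMap C (Cpl C)).comp (algebraMap A C) :=
    RingHom.ext (fun a => cplMap_algebraMap A C a)
  rw [AdicCompletion.maximalIdeal_eq_map, Ideal.map_map, e, ← Ideal.map_map,
    map_maximalIdeal_eq A C hs]

theorem cplMap_surjective : Function.Surjective (cplMap A C) := by
  have : IsNoetherianRing (Cpl C) := Groth.Agent.S0543.result _ _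
  have hH : IsHausdorff ((maximalIdeal (Cpl A)).map (cplMap A C)) (Cpl C) := by
    apply IsHausdorff.of_le_jacobson
    rw [map_cplMap_maximalIdeal A C hs, ← AdicCompletion.maximalIdeal_eq_map]
    exact maximalIdeal_le_jacobson _
  apply surjective_of_mk_map_comp_surjective (I := maximalIdeal (Cpl A)) (cplMap A C)
  intro y
  have key : ∀ y' : Cpl C ⧸ (maximalIdeal C).map (algebraMap C (Cpl C)),
      ∃ b : C, Ideal.Quotient.mk _ (algebraMap C (Cpl C) b) = y' := by
    intro y'
    have h1 := surjective_mk_algebraMap (maximalIdeal C)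
      (IsNoetherian.noetherian _) 1
    rw [pow_one] at h1
    exact h1 y'
  have key' : ∀ y' : Cpl C ⧸ (maximalIdeal (Cpl A)).map (cplMap A C),
      ∃ b : C, Ideal.Quotient.mk _ (algebraMap C (Cpl C) b) = y' := by
    rw [map_cplMap_maximalIdeal A C hs]
    exact key
  obtain ⟨b, hb⟩ := key' y
  obtain ⟨a, rfl⟩ := hs b
  refine ⟨algebraMap A (Cpl A) a, ?_⟩
  rw [RingHom.comp_apply, cplMap_algebraMap]
  exact hb

theorem ker_cplMap :
    RingHom.ker (cplMap A C) = (RingHom.ker (algebraMap A C)).map (algebraMap A (Cpl A)) := by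
  have hN : IsNoetherianRing (Cpl A) := Groth.Agent.S0543.result _ _
  set I := RingHom.ker (algebraMap A C) with hI
  apply le_antisymm
  · intro x hx
    rw [RingHom.mem_ker] at hx
    have hH : IsHausdorff (maximalIdeal (Cpl A)) (Cpl A ⧸ I.map (algebraMap A (Cpl A))) :=
      inferInstance
    rw [← Ideal.Quotient.eq_zero_iff_mem]
    apply hH.haus
    intro n
    rw [SModEq.zero]
    have hfg : (maximalIdeal A).FG := IsNoetherian.noetherian _
    obtain ⟨a, ha⟩ := Ideal.Quotient.mk_surjective (AdicCompletion.evalₐ (maximalIdeal A) n x)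
    have h1 : x - algebraMap A (Cpl A) a ∈
        ((maximalIdeal A) ^ n).map (algebraMap A (Cpl A)) := by
      apply mem_map_pow_of_evalₐ_eq_zero _ hfg
      rw [map_sub, AdicCompletion.algebraMap_apply, AdicCompletion.evalₐ_of,
        Algebra.algebraMap_self, RingHom.id_apply, ha, sub_self]
    have h2 : algebraMap A C a ∈ (maximalIdeal C) ^ n := by
      have h3 := Groth.Agent.S3869.evalₐ_complMap (maximalIdeal A) (maximalIdeal C)
        (algebraMap A C) (map_maximalIdeal_le_of_isLocalHom A C) n x
      change AdicCompletion.evalₐ _ n (cplMap A C x) = _ at h3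
      rw [hx, map_zero, ← ha, Ideal.quotientMap_mk] at h3
      exact Ideal.Quotient.eq_zero_iff_mem.mp h3.symm
    rw [← map_maximalIdeal_eq A C hs, ← Ideal.map_pow] at h2
    obtain ⟨b, hb, hab⟩ := (Ideal.mem_map_iff_of_surjective (algebraMap A C) hs).mp h2
    have hab' : a - b ∈ I := by
      rw [hI, RingHom.mem_ker, map_sub, hab, sub_self]
    have hx' : x = (x - algebraMap A (Cpl A) a) + algebraMap A (Cpl A) (a - b) +
        algebraMap A (Cpl A) b := by
      rw [map_sub]; ring
    have hmap : ((maximalIdeal A) ^ n).map (algebraMap A (Cpl A)) = (maximalIdeal (Cpl A)) ^ n := by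
      rw [Ideal.map_pow, ← AdicCompletion.maximalIdeal_eq_map]
    have hmem : ∀ z ∈ (maximalIdeal (Cpl A)) ^ n,
        Ideal.Quotient.mk (I.map (algebraMap A (Cpl A))) z ∈
          ((maximalIdeal (Cpl A)) ^ n • ⊤ :
            Submodule (Cpl A) (Cpl A ⧸ I.map (algebraMap A (Cpl A)))) := by
      intro z hz
      have : Ideal.Quotient.mk (I.map (algebraMap A (Cpl A))) z =
          z • (1 : Cpl A ⧸ I.map (algebraMap A (Cpl A))) := by
        rw [Algebra.smul_def, mul_one]; rfl
      rw [this]
      exact Submodule.smul_mem_smul hz trivial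
    rw [hx', map_add, map_add]
    refine add_mem (add_mem (hmem _ (hmap ▸ h1)) ?_) (hmem _ (hmap ▸ Ideal.mem_map_of_mem _ hb))
    rw [Ideal.Quotient.eq_zero_iff_mem.mpr (Ideal.mem_map_of_mem _ hab')]
    exact zero_mem _
  · rw [Ideal.map_le_iff_le_comap]
    intro a ha
    rw [Ideal.mem_comap, RingHom.mem_ker, cplMap_algebraMap]
    have : algebraMap A C a = 0 := ha
    rw [this, map_zero]

end Groth.Agent.Lib.Helper67.CplSurj
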