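import Groth.Agent.Lib.Helper67.CplCM
import Groth.Agent.Lib.Helper67.CplSurj
import Groth.Agent.Lib.Helper77.FlatDepth2
import Groth.Agent.Lib.Helper67.CMCat2

/-!
# Strict formal equidimensionality of quotient domains of a local ring with a CM module of full
support (EGA IV 7.1.x / 7.2.x)
-/

set_option autoImplicit false
set_option linter.style.haveILetI false
set_option linter.unusedSectionVars false

universe u

namespace Groth.Agent.Lib.Helper67.CplCM

open IsLocalRing LocCoh TensorProduct EGA4 Groth.Agent.Lib.Helper67 Groth.Agent.Lib.Helper56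

/-- Completion preserves Krull dimension. -/
theorem ringKrullDim_cpl (C : Type u) [CommRing C] [IsLocalRing C] [IsNoetherianRing C] :
    ringKrullDim (Cpl C) = ringKrullDim C := by
  have h := Groth.Agent.Lib.Helper77.FlatDepth.dim_eq_add C (Cpl C)
  rw [← AdicCompletion.maximalIdeal_eq_map, ringKrullDim_quotient_maximalIdeal, add_zero] at h
  exact h

section Core

variable (A : Type u) [CommRing A] [IsLocalRing A] [IsNoetherianRing A]
  (M : Type u) [AddCommGroup M] [Module A M] [Module.Finite A M]
  (C : Type u) [CommRing C] [IsLocalRing C] [IsNoetherianRing C] [Algebra A C]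
  [IsLocalHom (algebraMap A C)]

/-- associated primes of `Ĉ` pull back to associated primes of the `Â`-module `Â/ker`. -/
theorem comap_mem_associatedPrimes {R S : Type*} [CommRing R] [CommRing S] [IsNoetherianRing R]
    [IsNoetherianRing S] (f : R →+* S) (hf : Function.Surjective f) (Q : Ideal S)
    (hQ : Q ∈ associatedPrimes S S) :
    Q.comap f ∈ associatedPrimes R (R ⧸ RingHom.ker f) := by
  rw [AssociatedPrimes.mem_iff, isAssociatedPrime_iff] at hQ ⊢
  obtain ⟨hQp, c, hc⟩ := hQ
  obtain ⟨x, rfl⟩ := hf c
  refine ⟨Ideal.comap_isPrime f Q, Ideal.Quotient.mk _ x, ?_⟩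
  ext y
  rw [Ideal.mem_comap, hc, Submodule.mem_colon_singleton, Submodule.mem_colon_singleton,
    Submodule.mem_bot, Submodule.mem_bot]
  have : y • (Ideal.Quotient.mk (RingHom.ker f) x) = Ideal.Quotient.mk (RingHom.ker f) (y * x) :=
    rfl
  rw [this, Ideal.Quotient.eq_zero_iff_mem, RingHom.mem_ker, map_mul, smul_eq_mul]

theorem isStrictlyEquidim_cpl_of_CM (hM : IsCohenMacaulayModule A M)
    (hsupp : Module.support A M = Set.univ) (hs : Function.Surjective (algebraMap A C))
    (hP : (RingHom.ker (algebraMap A C)).IsPrime) :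
    EGA4.IsStrictlyEquidim (Cpl C) := by
  set P := RingHom.ker (algebraMap A C) with hPdef
  have hmem : (⟨P, hP⟩ : PrimeSpectrum A) ∈ Module.support A M := by rw [hsupp]; trivial
  obtain ⟨N, _, _, _, hN, hPN⟩ := exists_CM_module_mem_associatedPrimes M hM ⟨P, hP⟩ hmem
  simp only at hPN
  -- dimension of `N`
  have hdimN : ringKrullDim (A ⧸ P) = Module.supportDim A N :=
    ringKrullDim_quotient_eq_supportDim_of_CM N hN hPN
  obtain ⟨-, g, hg⟩ := (isAssociatedPrime_iff_exists_injective_linearMap P N).mp hPN
  -- base change to the completion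
  set B := Cpl A with hB
  have hgB : Function.Injective (g.baseChange B) := by
    rw [LinearMap.baseChange_eq_ltensor]
    exact Module.Flat.lTensor_preserves_injective_linearMap g hg
  obtain ⟨hNB, hdimNB⟩ := isCohenMacaulayModule_cpl_tensor A N hN
  let e : (B ⧸ P.map (algebraMap A B)) ≃ₗ[B] B ⊗[A] (A ⧸ P) :=
    (Algebra.TensorProduct.quotIdealMapEquivTensorQuot B P).toLinearEquiv
  have hsub : associatedPrimes B (B ⧸ P.map (algebraMap A B)) ⊆ associatedPrimes B (B ⊗[A] N) :=
    fun I hI => associatedPrimes.subset_of_injective hgB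
      (associatedPrimes.subset_of_injective e.injective hI)
  -- the comparison map
  have hf := CplSurj.cplMap_surjective A C hs
  have hker := CplSurj.ker_cplMap A C hs
  intro Q hQ
  haveI : Q.IsPrime := IsAssociatedPrime.isPrime hQ
  have hQ' : Q.comap (cplMap A C) ∈ associatedPrimes B (B ⊗[A] N) := by
    apply hsub
    have := comap_mem_associatedPrimes (cplMap A C) hf Q hQ
    rwa [hker] at this
  have h1 : ringKrullDim (B ⧸ Q.comap (cplMap A C)) = Module.supportDim B (B ⊗[A] N) :=
    ringKrullDim_quotient_eq_supportDim_of_CM (B ⊗[A] N) hNB hQ'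
  -- `Ĉ/Q ≅ Â/f⁻¹Q`
  have h2 : ringKrullDim (Cpl C ⧸ Q) = ringKrullDim (B ⧸ Q.comap (cplMap A C)) := by
    have hsurj : Function.Surjective ((Ideal.Quotient.mk Q).comp (cplMap A C)) :=
      Ideal.Quotient.mk_surjective.comp hf
    have hk : RingHom.ker ((Ideal.Quotient.mk Q).comp (cplMap A C)) = Q.comap (cplMap A C) := by
      rw [← RingHom.comap_ker, Ideal.mk_ker]
    have e2 := RingHom.quotientKerEquivOfSurjective hsurj
    rw [← ringKrullDim_eq_of_ringEquiv e2, hk]
  -- `dim Ĉ = dim C = dim A/P`
  have h3 : ringKrullDim (Cpl C) = ringKrullDim (A ⧸ P) := by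
    rw [ringKrullDim_cpl C]
    exact (ringKrullDim_eq_of_ringEquiv (RingHom.quotientKerEquivOfSurjective hs)).symm
  rw [h2, h1, hdimNB, ← hdimN, h3]

end Core

end Groth.Agent.Lib.Helper67.CplCM

namespace Groth.Agent.Lib.Helper67.CplCM

/-- For Noetherian rings, strictly equidimensional implies equidimensional. -/
theorem isEquidim_of_isStrictlyEquidim (R : Type u) [CommRing R] [IsNoetherianRing R]
    (h : EGA4.IsStrictlyEquidim R) : EGA4.IsEquidim R := by
  intro p hp
  apply h
  apply Module.associatedPrimes.minimalPrimes_annihilator_subset_associatedPrimes R R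
  rw [Module.annihilator_eq_bot.mpr inferInstance]
  exact hp

end Groth.Agent.Lib.Helper67.CplCM

namespace Groth.Agent.Lib.Helper67.CplCM

open IsLocalRing LocCoh

/-- A Noetherian local domain of dimension at most one is Cohen–Macaulay. -/
theorem isCohenMacaulayModule_self_of_isDomain_of_dim_le_one (C : Type u) [CommRing C]
    [IsDomain C] [IsLocalRing C] [IsNoetherianRing C] (h : ringKrullDim C ≤ 1) :
    IsCohenMacaulayModule C C := by
  obtain ⟨k, d, hk, hd, hle⟩ := FlatDim.exists_dim_depth_natCast_module (A := C) C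
  rw [FlatDim.isCohenMacaulayModule_iff_natCast C k d hk hd]
  rw [Module.supportDim_self_eq_ringKrullDim] at hk
  rw [hk] at h
  have hk1 : k ≤ 1 := by exact_mod_cast h
  rcases Nat.eq_zero_or_pos k with h0 | hpos
  · omega
  · have hk' : k = 1 := by omega
    subst hk'
    have hnf : ¬ IsField C := by
      intro hf
      have := ringKrullDim_eq_zero_of_isField hf
      rw [hk] at this
      have : (1 : ℕ) = 0 := by exact_mod_cast this
      omega
    have hm : maximalIdeal C ≠ ⊥ := fun e => hnf (IsLocalRing.isField_iff_maximalIdeal_eq.mpr e)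
    obtain ⟨r, hr, hr0⟩ := Submodule.exists_mem_ne_zero_of_ne_bot hm
    have h1 : (1 : ℕ∞) ≤ depth C C := by
      rw [depth, one_le_idealDepth_iff]
      right
      exact ⟨r, hr, (isRegular_of_ne_zero hr0).left.isSMulRegular⟩
    rw [hd] at h1
    have : 1 ≤ d := by exact_mod_cast h1
    omega

/-- A Noetherian local ring of dimension at most one is formally strictly catenary. -/
theorem isFormallyStrictlyCatenary_of_dim_le_one (A : Type u) [CommRing A] [IsNoetherianRing A]
    [IsLocalRing A] (h : ringKrullDim A ≤ 1) : EGA4.IsFormallyStrictlyCatenary A := by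
  intro p hp
  have hdim : ringKrullDim (A ⧸ p) ≤ 1 := (ringKrullDim_quotient_le p).trans h
  have hM := isCohenMacaulayModule_self_of_isDomain_of_dim_le_one (A ⧸ p) hdim
  have hsupp := CMCat.support_self_eq_univ (A ⧸ p)
  haveI : IsLocalHom (algebraMap (A ⧸ p) (A ⧸ p)) := ⟨fun a ha => ha⟩
  exact isStrictlyEquidim_cpl_of_CM (A ⧸ p) (A ⧸ p) (A ⧸ p) hM hsupp Function.surjective_id
    (by
      have : RingHom.ker (algebraMap (A ⧸ p) (A ⧸ p)) = ⊥ :=
        (RingHom.injective_iff_ker_eq_bot _).mp Function.injective_id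
      rw [this]
      exact Ideal.isPrime_bot)

end Groth.Agent.Lib.Helper67.CplCM
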