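import Groth.Agent.Lib.Helper67.Spread
import Groth.Agent.Lib.Helper67.FlatDepth5

set_option autoImplicit false
set_option linter.style.haveILetI false
set_option linter.unusedSectionVars false

universe u v w

namespace Groth.Agent.Lib.Helper67

open RingTheory.Sequence LocCoh
open scoped Pointwise

section Spread2

variable {A : Type u} [CommRing A] [IsNoetherianRing A]

/-- `depth (M/aM)_q + 1 = depth M_q` when `a ∈ q` is regular on `M_q`. -/
theorem depth_localizedModule_quotSMulTop_add_one (M : Type u) [AddCommGroup M] [Module A M]
    [Module.Finite A M] (q : Ideal A) [q.IsPrime] (a : A) (ha : a ∈ q)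
    (hreg : IsSMulRegular (LocalizedModule q.primeCompl M)
      (algebraMap A (Localization.AtPrime q) a)) :
    depth (Localization.AtPrime q) (LocalizedModule q.primeCompl (QuotSMulTop a M)) + 1 =
      depth (Localization.AtPrime q) (LocalizedModule q.primeCompl M) := by
  have e := quotSMulTopLocalizedEquiv q.primeCompl a M
  rw [← depth_congr e]
  by_cases hnt : Subsingleton (LocalizedModule q.primeCompl M)
  · haveI : Subsingleton (QuotSMulTop (algebraMap A (Localization q.primeCompl) a)
        (LocalizedModule q.primeCompl M)) :=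
      (Submodule.mkQ_surjective _).subsingleton
    rw [depth_eq_top_of_subsingleton, depth_eq_top_of_subsingleton]
    rfl
  · rw [not_subsingleton_iff_nontrivial] at hnt
    have hIM := maximalIdeal_smul_top_ne_top (R := Localization.AtPrime q)
      (LocalizedModule q.primeCompl M)
    exact idealDepth_quotSMulTop_add_one (IsLocalRing.maximalIdeal (Localization.AtPrime q))
      (LocalizedModule q.primeCompl M) hIM _
      ((IsLocalization.AtPrime.to_map_mem_maximal_iff _ q a).mpr ha) hreg

/-- `depth M_q = 0` implies `q ∈ Ass M`. -/
theorem mem_associatedPrimes_of_depth_localizedModule_eq_zero (M : Type v) [AddCommGroup M]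
    [Module A M] [Module.Finite A M] (q : Ideal A) [q.IsPrime]
    (h : depth (Localization.AtPrime q) (LocalizedModule q.primeCompl M) = 0) :
    q ∈ associatedPrimes A M := by
  have h1 := (depth_eq_zero_iff (R := Localization.AtPrime q)
    (LocalizedModule q.primeCompl M)).mp h
  have h2 := Module.associatedPrimes.comap_mem_associatedPrimes_of_mem_associatedPrimes_of_isLocalizedModule_of_fg
    q.primeCompl (LocalizedModule.mkLinearMap q.primeCompl M) _ h1
    ((isNoetherianRing_iff_ideal_fg A).mp inferInstance _)
  have h3 : Ideal.comap (algebraMap A (Localization.AtPrime q))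
      (IsLocalRing.maximalIdeal (Localization.AtPrime q)) = q :=
    IsLocalization.AtPrime.under_maximalIdeal (Localization.AtPrime q) q
  rwa [h3] at h2


/-- one regular element of `p A_p` on `M_p` with numerator in `p`. -/
theorem exists_mem_isSMulRegular_of_one_le_depth (M : Type v) [AddCommGroup M] [Module A M]
    [Module.Finite A M] (p : Ideal A) [p.IsPrime]
    (h1 : 1 ≤ depth (Localization.AtPrime p) (LocalizedModule p.primeCompl M))
    (hne : depth (Localization.AtPrime p) (LocalizedModule p.primeCompl M) ≠ ⊤) :
    ∃ a ∈ p, IsSMulRegular (LocalizedModule p.primeCompl M)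
      (algebraMap A (Localization.AtPrime p) a) := by
  rw [depth, one_le_idealDepth_iff] at h1
  rcases h1 with htop | ⟨r, hr, hreg⟩
  · exact absurd (idealDepth_eq_top_of_smul_top_eq_top _ _ htop) hne
  · have hreg' : IsWeaklyRegular (LocalizedModule p.primeCompl M) [r] :=
      (isWeaklyRegular_singleton_iff _ r).mpr hreg
    obtain ⟨as, hlen, hasI, hasreg⟩ := exists_numerators_isWeaklyRegular p.primeCompl p [r]
      (LocalizedModule p.primeCompl M) hreg' (by
        intro r' hr'
        rw [List.mem_singleton] at hr'
        rw [hr', Localization.AtPrime.map_eq_maximalIdeal]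
        exact hr)
    obtain ⟨a, rfl⟩ := List.length_eq_one_iff.mp hlen
    refine ⟨a, hasI a (by simp), ?_⟩
    simpa [isWeaklyRegular_singleton_iff] using hasreg

/-- Stacks-style: depth is at least `e` near `p` in `V(p)`, and equals `e` only finitely often. -/
theorem exists_depth_ge_and_finite (p : Ideal A) [p.IsPrime] (e : ℕ) :
    ∀ (M : Type u) [AddCommGroup M] [Module A M] [Module.Finite A M],
      depth (Localization.AtPrime p) (LocalizedModule p.primeCompl M) = e →
      ∃ f : A, f ∉ p ∧
        (∀ (q : Ideal A) [q.IsPrime], p ≤ q → f ∉ q →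
          (e : ℕ∞) ≤ depth (Localization.AtPrime q) (LocalizedModule q.primeCompl M)) ∧
        {q : PrimeSpectrum A | p ≤ q.asIdeal ∧ f ∉ q.asIdeal ∧
          depth (Localization.AtPrime q.asIdeal)
            (LocalizedModule q.asIdeal.primeCompl M) = e}.Finite := by
  induction e with
  | zero =>
    intro M _ _ _ _
    refine ⟨1, fun h => (inferInstance : p.IsPrime).ne_top ((Ideal.eq_top_iff_one p).mpr h),
      fun q _ _ _ => by simp, ?_⟩
    have hfin : {q : PrimeSpectrum A | q.asIdeal ∈ associatedPrimes A M}.Finite :=
      Set.Finite.preimage (fun a _ b _ hab => PrimeSpectrum.ext hab) (associatedPrimes.finite A M)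
    refine hfin.subset ?_
    rintro q ⟨-, -, hq⟩
    exact mem_associatedPrimes_of_depth_localizedModule_eq_zero M q.asIdeal
      (by simpa using hq)
  | succ e ih =>
    intro M _ _ _ he
    have h1 : 1 ≤ depth (Localization.AtPrime p) (LocalizedModule p.primeCompl M) := by
      rw [he]
      exact_mod_cast Nat.succ_le_succ (Nat.zero_le e)
    have hne : depth (Localization.AtPrime p) (LocalizedModule p.primeCompl M) ≠ ⊤ := by
      rw [he]
      exact ENat.natCast_ne_top _
    obtain ⟨a, hap, hreg⟩ := exists_mem_isSMulRegular_of_one_le_depth M p h1 hne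
    have h2 := depth_localizedModule_quotSMulTop_add_one M p a hap hreg
    have h3 : depth (Localization.AtPrime p) (LocalizedModule p.primeCompl (QuotSMulTop a M)) =
        e := by
      rw [he, Nat.cast_succ] at h2
      exact enat_add_one_cancel h2
    obtain ⟨f1, hf1, H1, H1fin⟩ := ih (QuotSMulTop a M) h3
    obtain ⟨g2, hg2, H2⟩ := exists_forall_smul_eq_zero_of_isSMulRegular_atPrime M p a hreg
    have key : ∀ (q : Ideal A) [q.IsPrime], p ≤ q → f1 * g2 ∉ q →
        depth (Localization.AtPrime q) (LocalizedModule q.primeCompl (QuotSMulTop a M)) + 1 =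
          depth (Localization.AtPrime q) (LocalizedModule q.primeCompl M) := by
      intro q _ hpq hfq
      have hg2q : g2 ∈ q.primeCompl := fun h => hfq (Ideal.mul_mem_left _ _ h)
      exact depth_localizedModule_quotSMulTop_add_one M q a (hpq hap)
        (isSMulRegular_localizedModule_of_forall q.primeCompl M a g2 H2 hg2q)
    refine ⟨f1 * g2, fun h => ?_, fun q _ hpq hfq => ?_, ?_⟩
    · rcases (inferInstance : p.IsPrime).mem_or_mem h with h | h
      · exact hf1 h
      · exact hg2 h
    · have hf1q : f1 ∉ q := fun h => hfq (Ideal.mul_mem_right _ _ h)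
      rw [← key q hpq hfq, Nat.cast_succ]
      gcongr
      exact H1 q hpq hf1q
    · refine H1fin.subset ?_
      rintro q ⟨hpq, hfq, hq⟩
      have hf1q : f1 ∉ q.asIdeal := fun h => hfq (Ideal.mul_mem_right _ _ h)
      refine ⟨hpq, hf1q, ?_⟩
      have h4 := key q.asIdeal hpq hfq
      rw [hq, Nat.cast_succ] at h4
      exact enat_add_one_cancel h4

end Spread2

end Groth.Agent.Lib.Helper67
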