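import Groth.Agent.Lib.Helper67.FiberStalk
import Groth.Agent.Lib.Helper67.FlatDepth12
import Groth.Agent.Lib.Helper56.FibreCM
import Groth.Agent.Lib.Helper56.Serre1
import Groth.Prelude.Def_CInt
import Mathlib.AlgebraicGeometry.Noetherian
import Mathlib.AlgebraicGeometry.Morphisms.Flat

set_option autoImplicit false
set_option linter.style.haveILetI false
set_option linter.unusedSectionVars false

universe u
open CategoryTheory CategoryTheory.Limits AlgebraicGeometry Opposite TopologicalSpace

namespace Groth.Agent.Lib.Helper67.FiberStalk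

open LocCoh IsLocalRing

variable {X S : Scheme.{u}} (f : X ⟶ S)

/-- `fiberStalk f x ≃+* O_{X,x}/m_{f x}O_{X,x}` in the notation of `Def_CInt`. -/
noncomputable def cintFiberStalkEquiv (x : X) : CInt.fiberStalk f x ≃+* Q f x :=
  fiberStalkEquiv f x

theorem ringKrullDim_fiberStalk (x : X) :
    ringKrullDim (CInt.fiberStalk f x) = ringKrullDim (Q f x) :=
  ringKrullDim_eq_of_ringEquiv (cintFiberStalkEquiv f x)

theorem depth_fiberStalk (x : X) :
    depth (CInt.fiberStalk f x) (CInt.fiberStalk f x) = depth (Q f x) (Q f x) :=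
  Groth.Agent.Lib.Helper56.depth_self_of_ringEquiv (cintFiberStalkEquiv f x)

theorem isCM_fiberStalk_iff (x : X) :
    IsCohenMacaulayLocalRing (CInt.fiberStalk f x) ↔ IsCohenMacaulayLocalRing (Q f x) :=
  ⟨Groth.Agent.Lib.Helper56.isCohenMacaulayLocalRing_of_ringEquiv (cintFiberStalkEquiv f x),
    Groth.Agent.Lib.Helper56.isCohenMacaulayLocalRing_of_ringEquiv (cintFiberStalkEquiv f x).symm⟩

section Noeth

variable [IsLocallyNoetherian X] [IsLocallyNoetherian S]

theorem depth_stalk_eq_add (x : X) (hfl : (f.stalkMap x).hom.Flat) :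
    depth (X.presheaf.stalk x) (X.presheaf.stalk x) =
      depth (S.presheaf.stalk (f x)) (S.presheaf.stalk (f x)) +
        depth (CInt.fiberStalk f x) (CInt.fiberStalk f x) := by
  rw [depth_fiberStalk]
  letI : Algebra (S.presheaf.stalk (f x)) (X.presheaf.stalk x) := (f.stalkMap x).hom.toAlgebra
  haveI : IsLocalHom (algebraMap (S.presheaf.stalk (f x)) (X.presheaf.stalk x)) :=
    inferInstanceAs (IsLocalHom (f.stalkMap x).hom)
  haveI : Module.Flat (S.presheaf.stalk (f x)) (X.presheaf.stalk x) := hfl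
  exact depth_eq_add_depth_fibre (R := S.presheaf.stalk (f x)) (S := X.presheaf.stalk x)

theorem ringKrullDim_stalk_eq_add (x : X) (hfl : (f.stalkMap x).hom.Flat) :
    ringKrullDim (X.presheaf.stalk x) =
      ringKrullDim (S.presheaf.stalk (f x)) + ringKrullDim (CInt.fiberStalk f x) := by
  rw [ringKrullDim_fiberStalk]
  letI : Algebra (S.presheaf.stalk (f x)) (X.presheaf.stalk x) := (f.stalkMap x).hom.toAlgebra
  haveI : IsLocalHom (algebraMap (S.presheaf.stalk (f x)) (X.presheaf.stalk x)) :=
    inferInstanceAs (IsLocalHom (f.stalkMap x).hom)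
  haveI : Module.Flat (S.presheaf.stalk (f x)) (X.presheaf.stalk x) := hfl
  exact ringKrullDim_eq_add_fibre_of_flat (R := S.presheaf.stalk (f x)) (S := X.presheaf.stalk x)

theorem isCM_stalk_iff (x : X) (hfl : (f.stalkMap x).hom.Flat) :
    IsCohenMacaulayLocalRing (X.presheaf.stalk x) ↔
      IsCohenMacaulayLocalRing (S.presheaf.stalk (f x)) ∧
        IsCohenMacaulayLocalRing (CInt.fiberStalk f x) := by
  rw [isCM_fiberStalk_iff]
  letI : Algebra (S.presheaf.stalk (f x)) (X.presheaf.stalk x) := (f.stalkMap x).hom.toAlgebra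
  haveI : IsLocalHom (algebraMap (S.presheaf.stalk (f x)) (X.presheaf.stalk x)) :=
    inferInstanceAs (IsLocalHom (f.stalkMap x).hom)
  haveI : Module.Flat (S.presheaf.stalk (f x)) (X.presheaf.stalk x) := hfl
  exact isCohenMacaulayLocalRing_iff_of_flat (R := S.presheaf.stalk (f x))
    (S := X.presheaf.stalk x)

end Noeth

end Groth.Agent.Lib.Helper67.FiberStalk
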