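import Groth.Agent.Lib.Helper67.FlatDepth9

set_option autoImplicit false
set_option linter.style.haveILetI false
set_option linter.unusedSectionVars false

universe u v w

namespace Groth.Agent.Lib.Helper67

open RingTheory.Sequence LocCoh TensorProduct IsLocalRing
open scoped Pointwise

section RegSeqFlat

variable {R : Type u} {S : Type u} [CommRing R] [CommRing S] [Algebra R S] [IsLocalRing R]
  [IsLocalRing S] [IsNoetherianRing R] [IsNoetherianRing S] [IsLocalHom (algebraMap R S)]

/-- `(N/yN)/m(N/yN) ≃ (N/mN)/y(N/mN)` -/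
noncomputable def quotSMulTopFibreEquiv (N : Type u) [AddCommGroup N] [Module S N] [Module R N]
    [IsScalarTower R S N] (y : S) :
    QuotSMulTop y (N ⧸ (maximalIdeal R).map (algebraMap R S) • (⊤ : Submodule S N)) ≃ₗ[S]
      (QuotSMulTop y N ⧸ (maximalIdeal R).map (algebraMap R S) •
        (⊤ : Submodule S (QuotSMulTop y N))) :=
  QuotSMulTop.congr y (fibreEquiv N (maximalIdeal R)) ≪≫ₗ
    quotSMulTopEquivOfSurjective (quotTensorMap (R := R) N y (R ⧸ maximalIdeal R))
      (quotTensorMap_surjective N y _) y (ker_quotTensorMap N y _) ≪≫ₗ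
    (fibreEquiv (QuotSMulTop y N) (maximalIdeal R)).symm

theorem isSMulRegular_of_fibre (N : Type u) [AddCommGroup N] [Module S N] [Module R N]
    [IsScalarTower R S N] [Module.Flat R N] [Module.Finite S N] (y : S)
    (hy : IsSMulRegular (N ⧸ (maximalIdeal R).map (algebraMap R S) • (⊤ : Submodule S N)) y) :
    IsSMulRegular N y ∧ Module.Flat R (QuotSMulTop y N) := by
  have hy' : IsSMulRegular (N ⊗[R] (R ⧸ maximalIdeal R)) y :=
    ((fibreEquiv N (maximalIdeal R)).isSMulRegular_congr y).mp hy
  refine ⟨?_, flat_quotSMulTop N y hy'⟩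
  have h1 := isSMulRegular_tensor_of_finite N y hy' R
  exact ((AlgebraTensorModule.rid R S N).isSMulRegular_congr y).mp h1

/-- EGA 0_IV 15.1.16 / Stacks 00ME-type: a sequence regular on the closed fibre of a flat finite
module is regular on the module and all successive quotients are flat. -/
theorem isWeaklyRegular_and_flat_of_fibre (fs : List S) :
    ∀ (N : Type u) [AddCommGroup N] [Module S N] [Module R N] [IsScalarTower R S N]
      [Module.Flat R N] [Module.Finite S N],
      IsWeaklyRegular (N ⧸ (maximalIdeal R).map (algebraMap R S) • (⊤ : Submodule S N)) fs →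
      IsWeaklyRegular N fs ∧
        ∀ i ≤ fs.length, Module.Flat R (N ⧸ (Ideal.ofList (fs.take i) • (⊤ : Submodule S N))) := by
  induction fs with
  | nil =>
    intro N _ _ _ _ _ _ _
    refine ⟨IsWeaklyRegular.nil S N, fun i hi => ?_⟩
    have hi0 : i = 0 := by simpa using hi
    subst hi0
    have hbot : Ideal.ofList (List.take 0 ([] : List S)) • (⊤ : Submodule S N) = ⊥ := by
      simp
    exact Module.Flat.of_linearEquiv
      ((Submodule.quotEquivOfEqBot _ hbot).restrictScalars R)
  | cons f fs ih =>
    intro N _ _ _ _ _ _ h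
    rw [isWeaklyRegular_cons_iff] at h ⊢
    obtain ⟨hf, hfs⟩ := h
    obtain ⟨hfN, hflat⟩ := isSMulRegular_of_fibre N f hf
    haveI := hflat
    have hfs' := ((quotSMulTopFibreEquiv (R := R) N f).isWeaklyRegular_congr fs).mp hfs
    obtain ⟨h1, h2⟩ := ih (QuotSMulTop f N) hfs'
    refine ⟨⟨hfN, h1⟩, fun i hi => ?_⟩
    rcases i with _ | j
    · have hbot : Ideal.ofList (List.take 0 (f :: fs)) • (⊤ : Submodule S N) = ⊥ := by
        simp
      exact Module.Flat.of_linearEquiv
        ((Submodule.quotEquivOfEqBot _ hbot).restrictScalars R)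
    · have hj : j ≤ fs.length := by simpa using hi
      have h3 := h2 j hj
      rw [List.take_succ_cons]
      exact Module.Flat.of_linearEquiv
        ((Submodule.quotOfListConsSMulTopEquivQuotSMulTopInner N f (fs.take j)).restrictScalars R)

end RegSeqFlat

end Groth.Agent.Lib.Helper67
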