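import Groth.Agent.Lib.Helper67.QFinPoly
import Groth.Agent.Lib.Helper56.FibreCM
import Groth.Agent.S0387
import Groth.Agent.Lib.Helper84.TopDim
import Mathlib.RingTheory.Localization.LocalizationLocalization
import Mathlib.RingTheory.NoetherNormalization

/-!
# The Cohen–Macaulay locus of a finite type algebra over a field is open

Proof: near a CM point `q0`, pass to a basic open `D(f)` of dimension `localDim q0`, choose a Noether
normalization `k[y_1..y_s] → S_f`; by `QFinPoly.flat_atPrime_iff` the flat locus of `S_f` over the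
polynomial ring is contained in the CM locus and contains `q0`; the flat locus is open (S0387).
-/

set_option autoImplicit false
set_option linter.style.haveILetI false
set_option linter.unusedSectionVars false

universe u

namespace Groth.Agent.Lib.Helper67.CMOpen

open IsLocalRing LocCoh TopologicalSpace Topology Groth.Agent.Lib.Helper73

theorem topologicalKrullDim_image_eq {X Y : Type*} [TopologicalSpace X] [TopologicalSpace Y]
    {j : Y → X} (hj : IsEmbedding j) (V : Set Y) :
    topologicalKrullDim (j '' V : Set X) = topologicalKrullDim V := by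
  have h1 : IsEmbedding (fun v : V => j v.1) := hj.comp IsEmbedding.subtypeVal
  have hr : Set.range (fun v : V => j v.1) = j '' V := by
    ext x; simp
  have e1 : V ≃ₜ Set.range (fun v : V => j v.1) := h1.toHomeomorph
  have e2 : Set.range (fun v : V => j v.1) ≃ₜ (j '' V : Set X) := Homeomorph.setCongr hr
  exact (IsHomeomorph.topologicalKrullDim_eq _ (e1.trans e2).isHomeomorph).symm

theorem localDim_le_of_isOpenEmbedding {X Y : Type*} [TopologicalSpace X] [TopologicalSpace Y]
    {j : Y → X} (hj : IsOpenEmbedding j) (y : Y) :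
    FlatMor.localDim X (j y) ≤ FlatMor.localDim Y y := by
  unfold FlatMor.localDim
  refine le_iInf fun V => ?_
  refine iInf_le_of_le ⟨⟨j '' V.1.1, hj.isOpenMap _ V.1.2⟩, Set.mem_image_of_mem j V.2⟩ ?_
  exact (topologicalKrullDim_image_eq hj.isEmbedding _).le

theorem topologicalKrullDim_mono {X : Type*} [TopologicalSpace X] {A B : Set X} (h : A ⊆ B) :
    topologicalKrullDim A ≤ topologicalKrullDim B :=
  IsInducing.topologicalKrullDim_le (f := Set.inclusion h)
    (IsInducing.of_comp (continuous_inclusion h) continuous_subtype_val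
      (by
        have : (Subtype.val : B → X) ∘ Set.inclusion h = (Subtype.val : A → X) := rfl
        rw [this]
        exact IsInducing.subtypeVal))

/-- There is a basic open neighbourhood of `x` whose dimension is the local dimension at `x`. -/
theorem exists_basicOpen_dim_eq_localDim {S : Type*} [CommRing S] (x : PrimeSpectrum S) :
    ∃ f : S, x ∈ PrimeSpectrum.basicOpen f ∧
      topologicalKrullDim (PrimeSpectrum.basicOpen f : Set (PrimeSpectrum S)) =
        FlatMor.localDim (PrimeSpectrum S) x := by
  haveI : Nonempty {U : Opens (PrimeSpectrum S) // x ∈ U} := ⟨⟨⊤, trivial⟩⟩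
  have hmem : FlatMor.localDim (PrimeSpectrum S) x ∈ Set.range
      (fun U : {U : Opens (PrimeSpectrum S) // x ∈ U} =>
        topologicalKrullDim ((U.1 : Opens (PrimeSpectrum S)) : Set (PrimeSpectrum S))) :=
    ciInf_mem _
  obtain ⟨U, hU⟩ := hmem
  simp only at hU
  obtain ⟨_, ⟨f, rfl⟩, hxf, hfU⟩ :=
    PrimeSpectrum.isTopologicalBasis_basic_opens.exists_subset_of_mem_open U.2 U.1.2
  refine ⟨f, hxf, le_antisymm ?_ ?_⟩
  · calc topologicalKrullDim (PrimeSpectrum.basicOpen f : Set (PrimeSpectrum S))
        ≤ topologicalKrullDim (U.1 : Set (PrimeSpectrum S)) := topologicalKrullDim_mono hfU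
      _ = FlatMor.localDim (PrimeSpectrum S) x := hU
  · exact iInf_le (fun U : {U : Opens (PrimeSpectrum S) // x ∈ U} =>
      topologicalKrullDim ((U.1 : Opens (PrimeSpectrum S)) : Set (PrimeSpectrum S)))
      ⟨PrimeSpectrum.basicOpen f, hxf⟩

section Main

variable (k S : Type u) [Field k] [CommRing S] [Algebra k S] [Algebra.FiniteType k S]

include k in
/-- **The CM locus of a finite type algebra over a field is open.** -/
theorem isOpen_cm_locus :
    IsOpen {q : PrimeSpectrum S | IsCohenMacaulayLocalRing (Localization.AtPrime q.asIdeal)} := by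
  rw [isOpen_iff_forall_mem_open]
  intro q0 hq0
  obtain ⟨f, hfq0, hfdim⟩ := exists_basicOpen_dim_eq_localDim q0
  set T := Localization.Away f with hT
  have hj : IsOpenEmbedding (PrimeSpectrum.comap (algebraMap S T)) :=
    PrimeSpectrum.localization_away_isOpenEmbedding T f
  have hrange : Set.range (PrimeSpectrum.comap (algebraMap S T)) = PrimeSpectrum.basicOpen f :=
    PrimeSpectrum.localization_away_comap_range T f
  obtain ⟨q0', hq0'⟩ : q0 ∈ Set.range (PrimeSpectrum.comap (algebraMap S T)) := by
    rw [hrange]; exact hfq0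
  haveI : Nontrivial T := ⟨⟨0, 1, fun h => q0'.2.ne_top ((Ideal.eq_top_iff_one _).mpr
    (h ▸ q0'.asIdeal.zero_mem))⟩⟩
  -- dimension of `T`
  have hdimT : ringKrullDim T = FlatMor.localDim (PrimeSpectrum S) q0 := by
    rw [← hfdim, ← PrimeSpectrum.topologicalKrullDim_eq_ringKrullDim, ← hrange,
      ← Set.image_univ, topologicalKrullDim_image_eq hj.isEmbedding]
    exact (IsHomeomorph.topologicalKrullDim_eq _
      (Homeomorph.Set.univ (PrimeSpectrum T)).symm.isHomeomorph)
  haveI : Algebra.FiniteType k T := Algebra.FiniteType.trans (S := S) inferInstance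
    (IsLocalization.finiteType_of_monoid_fg (Submonoid.powers f) T)
  -- Noether normalization
  obtain ⟨s, g, hinj, hfin⟩ := exists_finite_inj_algHom_of_fg k T
  letI : Algebra (MvPolynomial (Fin s) k) T := g.toRingHom.toAlgebra
  haveI : IsScalarTower k (MvPolynomial (Fin s) k) T :=
    IsScalarTower.of_algebraMap_eq fun x => (g.commutes x).symm
  haveI : Module.Finite (MvPolynomial (Fin s) k) T := hfin
  have hs : ringKrullDim T = s := ringKrullDim_eq_of_finite_injective g hinj hfin
  haveI : Algebra.FinitePresentation (MvPolynomial (Fin s) k) T :=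
    Algebra.FinitePresentation.of_finiteType.mp inferInstance
  -- the flat locus
  have hW := Groth.Agent.S0387.result (R := MvPolynomial (Fin s) k) (S := T) (M := T)
  have hflatiff : ∀ q : PrimeSpectrum T,
      Module.Flat (MvPolynomial (Fin s) k) (LocalizedModule q.asIdeal.primeCompl T) ↔
      Module.Flat (MvPolynomial (Fin s) k) (Localization.AtPrime q.asIdeal) := by
    intro q
    have e : LocalizedModule q.asIdeal.primeCompl T ≃ₗ[MvPolynomial (Fin s) k]
        Localization.AtPrime q.asIdeal :=
      (IsLocalizedModule.iso q.asIdeal.primeCompl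
        (Algebra.linearMap T (Localization.AtPrime q.asIdeal))).restrictScalars _
    exact ⟨fun h => Module.Flat.of_linearEquiv e.symm, fun h => Module.Flat.of_linearEquiv e⟩
  have hCMtransfer : ∀ q : PrimeSpectrum T,
      IsCohenMacaulayLocalRing (Localization.AtPrime q.asIdeal) ↔
      IsCohenMacaulayLocalRing (Localization.AtPrime
        (PrimeSpectrum.comap (algebraMap S T) q).asIdeal) := by
    intro q
    have e : Localization.AtPrime (q.asIdeal.comap (algebraMap S T)) ≃+*
        Localization.AtPrime q.asIdeal :=
      (IsLocalization.localizationLocalizationAtPrimeIsoLocalization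
        (Submonoid.powers f) q.asIdeal).toRingEquiv
    exact ⟨Groth.Agent.Lib.Helper56.isCohenMacaulayLocalRing_of_ringEquiv e.symm,
      Groth.Agent.Lib.Helper56.isCohenMacaulayLocalRing_of_ringEquiv e⟩
  refine ⟨PrimeSpectrum.comap (algebraMap S T) ''
    {q : PrimeSpectrum T | Module.Flat (MvPolynomial (Fin s) k)
      (LocalizedModule q.asIdeal.primeCompl T)}, ?_, hj.isOpenMap _ hW, ⟨q0', ?_, hq0'⟩⟩
  · rintro _ ⟨q, hq, rfl⟩
    rw [Set.mem_setOf_eq, hflatiff, QFinPoly.flat_atPrime_iff k T s q.asIdeal] at hq
    exact (hCMtransfer q).mp hq.1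
  · rw [Set.mem_setOf_eq, hflatiff, QFinPoly.flat_atPrime_iff k T s q0'.asIdeal]
    refine ⟨(hCMtransfer q0').mpr (by rw [hq0']; exact hq0), ?_⟩
    apply le_antisymm
    · rw [← hs]
      have := Groth.Agent.Lib.Helper84.localDim_le_dim (X := PrimeSpectrum T) q0'
      rwa [PrimeSpectrum.topologicalKrullDim_eq_ringKrullDim] at this
    · rw [← hs, hdimT, ← hq0']
      exact localDim_le_of_isOpenEmbedding hj q0'

end Main

end Groth.Agent.Lib.Helper67.CMOpen
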