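import Groth.Agent.Lib.Helper19.An.FiniteEtale
import Groth.Agent.Lib.Helper19.An.Separated
import Groth.Agent.Lib.Helper19.An.Surj
import Groth.Agent.Lib.Helper50.UnivOC
import Mathlib.AlgebraicGeometry.ZariskisMainTheorem
import Mathlib.Topology.Maps.Proper.Basic
import Mathlib.Topology.LocalAtTarget

/-!
# Topological properness on complex points versus algebraic properness / finiteness

* `isProper_of_isProperMap`: a quasi-compact morphism of schemes locally of finite type over `ℂ`
  whose map on complex points is (topologically) proper and separated is proper.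
* `isFinite_of_isProperMap`: if moreover the fibres on complex points are finite, it is finite.
* `isProperMap_of_isFinite`: the converse for finite morphisms.
-/

set_option autoImplicit false
set_option linter.style.haveILetI false
open CategoryTheory AlgebraicGeometry Topology TopologicalSpace Limits
open An
open Groth.Agent.Lib.Helper19.AnB

namespace Groth.Agent.Lib.Helper67.AnProper

section topology

variable {A B C : Type*} [TopologicalSpace A] [TopologicalSpace B] [TopologicalSpace C]

/-- Base change of a proper map: the projection from the fibre product is a closed map. -/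
lemma isClosedMap_snd_of_isProperMap {f : A → B} (hf : IsProperMap f) {g : C → B}
    (hg : Continuous g) :
    IsClosedMap (fun q : {q : A × C // f q.1 = g q.2} => q.1.2) := by
  intro K hK
  obtain ⟨K', hK', rfl⟩ := isClosed_induced_iff.mp hK
  have h1 : IsClosed (Prod.map f id '' K') := hf.universally_closed C K' hK'
  have h2 : (fun q : {q : A × C // f q.1 = g q.2} => q.1.2) '' (Subtype.val ⁻¹' K') =
      (fun c => (g c, c)) ⁻¹' (Prod.map f id '' K') := by
    ext c
    constructor
    · rintro ⟨⟨⟨a, c'⟩, h⟩, hq, rfl⟩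
      exact ⟨(a, c'), hq, Prod.ext h rfl⟩
    · rintro ⟨⟨a, c'⟩, hq, h⟩
      obtain ⟨h1, h2⟩ := Prod.mk.inj h
      have h2' : c' = c := h2
      subst h2'
      exact ⟨⟨(a, c'), h1⟩, hq, rfl⟩
  rw [h2]
  exact h1.preimage (hg.prodMk continuous_id)

end topology

variable {X Y : Scheme.{0}} [X.Over SC] [Y.Over SC]

/-- A complex point of `Y` whose underlying point lies in the image of a closed set `Z` lifts
to a complex point of `X` lying in `Z`. -/
lemma exists_map_eq_of_mem_image [LocallyOfFiniteType (X ↘ SC)] (f : X ⟶ Y) [f.IsOver SC]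
    {Z : Set X} (hZ : IsClosed Z) (y : Pts Y) (hy : y.pt ∈ f '' Z) :
    ∃ x : Pts X, x.pt ∈ Z ∧ Pts.map f x = y := by
  haveI := locallyOfFiniteType_of_isOver f
  obtain ⟨p, hpZ, hp⟩ := hy
  obtain ⟨z, hz1, -⟩ := Scheme.Pullback.exists_preimage_pullback (f := f) (g := y.1) p cpt hp
  letI : (Limits.pullback f y.1).Over SC := ⟨Limits.pullback.snd f y.1⟩
  haveI : LocallyOfFiniteType ((Limits.pullback f y.1) ↘ SC) := by
    change LocallyOfFiniteType (Limits.pullback.snd f y.1)
    infer_instance
  have hne : (Set.univ ∩ (Limits.pullback.fst f y.1) ⁻¹' Z).Nonempty :=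
    ⟨z, trivial, by rw [Set.mem_preimage, hz1]; exact hpZ⟩
  obtain ⟨w, -, hwZ⟩ := exists_pt_mem_of_nonempty (X := Limits.pullback f y.1)
    IsLocallyConstructible.univ (hZ.preimage (Limits.pullback.fst f y.1).continuous) hne
  have hw : w.1 ≫ Limits.pullback.snd f y.1 = 𝟙 SC := w.2
  have hxy : (w.1 ≫ Limits.pullback.fst f y.1) ≫ f = y.1 := by
    rw [Category.assoc, Limits.pullback.condition, ← Category.assoc, hw, Category.id_comp]
  refine ⟨⟨w.1 ≫ Limits.pullback.fst f y.1, ?_⟩, ?_, Subtype.ext hxy⟩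
  · rw [← comp_over f, ← Category.assoc, hxy, y.2]
  · change (w.1 ≫ Limits.pullback.fst f y.1) cpt ∈ Z
    rw [Scheme.Hom.comp_apply]
    exact hwZ

/-- If the map on complex points is closed then the (quasi-compact) morphism is closed. -/
lemma isClosedMap_of_isClosedMap_pts [LocallyOfFiniteType (X ↘ SC)]
    [LocallyOfFiniteType (Y ↘ SC)] (f : X ⟶ Y) [f.IsOver SC] [QuasiCompact f]
    (h : IsClosedMap (Pts.map f)) : IsClosedMap f := by
  haveI := locallyOfFiniteType_of_isOver f
  haveI := isLocallyNoetherian (X := Y)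
  haveI := isLocallyNoetherian (X := X)
  intro Z hZ
  have hC : IsLocallyConstructible (f '' Z) :=
    f.isLocallyConstructible_image (isLocallyConstructible_of_isClosed hZ)
  have hCc := isLocallyConstructible_compl hC
  rw [← isOpen_compl_iff, isOpen_iff_isOpen_preimage_pt _ hCc, Set.preimage_compl,
    isOpen_compl_iff]
  have : Pts.pt ⁻¹' (f '' Z) = Pts.map f '' (Pts.pt ⁻¹' Z) := by
    ext y
    constructor
    · intro hy
      obtain ⟨x, hxZ, rfl⟩ := exists_map_eq_of_mem_image f hZ y hy
      exact ⟨x, hxZ, rfl⟩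
    · rintro ⟨x, hxZ, rfl⟩
      rw [Set.mem_preimage, Pts.pt_map]
      exact ⟨_, hxZ, rfl⟩
  rw [this]
  exact h _ (hZ.preimage Pts.continuous_pt)

/-- A quasi-compact morphism of schemes locally of finite type over `ℂ` whose map on complex
points is topologically proper and separated is proper. -/
theorem isProper_of_isProperMap [LocallyOfFiniteType (X ↘ SC)] [LocallyOfFiniteType (Y ↘ SC)]
    (f : X ⟶ Y) [f.IsOver SC] [QuasiCompact f] (hP : IsProperMap (Pts.map f))
    (hS : IsSeparatedMap (Pts.map f)) : IsProper f := by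
  haveI := locallyOfFiniteType_of_isOver f
  haveI : IsSeparated f := (Groth.Agent.Lib.Helper19.AnB.isSeparated_iff f).mpr hS
  haveI : UniversallyClosed f := by
    apply Groth.Agent.Lib.Helper50.universallyClosed_of_affineSpace
    intro n hn
    let W : Scheme.{0} := 𝔸(ULift.{0} (Fin n); Y)
    let g : W ⟶ Y := W ↘ Y
    letI : W.Over SC := ⟨g ≫ Y ↘ SC⟩
    haveI : g.IsOver SC := ⟨rfl⟩
    haveI : LocallyOfFiniteType (W ↘ SC) := by
      change LocallyOfFiniteType (g ≫ Y ↘ SC)
      infer_instance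
    haveI : LocallyOfFiniteType ((pullback f g) ↘ SC) := by
      change LocallyOfFiniteType (pullback.fst f g ≫ X ↘ SC)
      infer_instance
    apply isClosedMap_of_isClosedMap_pts (pullback.snd f g)
    have hτ := isHomeomorph_pullbackComparison f g
    have hcl := isClosedMap_snd_of_isProperMap hP (Pts.continuous_map g)
    have : Pts.map (pullback.snd f g) =
        (fun q : {q : Pts X × Pts W // Pts.map f q.1 = Pts.map g q.2} => q.1.2) ∘
          pullbackComparison f g := rfl
    rw [this]
    exact hcl.comp hτ.isClosedMap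
  exact {}

/-- Finiteness of the fibre of complex points over a complex point gives finiteness of the
scheme-theoretic fibre (as a set). -/
lemma finite_preimage_singleton_of_finite_pts [LocallyOfFiniteType (X ↘ SC)]
    [LocallyOfFiniteType (Y ↘ SC)] (f : X ⟶ Y) [f.IsOver SC] (y : Pts Y) (h : (Pts.map f ⁻¹' {y}).Finite) :
    (f ⁻¹' {y.pt}).Finite := by
  haveI := jacobsonSpace (X := X)
  have hcl : IsClosed (f ⁻¹' {y.pt}) := (isClosed_singleton_pt y).preimage f.continuous
  have h1 : f ⁻¹' {y.pt} ∩ closedPoints X ⊆ Pts.pt '' (Pts.map f ⁻¹' {y}) := by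
    rintro p ⟨hp, hpc⟩
    obtain ⟨x, rfl⟩ := exists_pt_eq p hpc
    refine ⟨x, ?_, rfl⟩
    apply pt_injective
    rw [Pts.pt_map]
    exact hp
  have h2 : (f ⁻¹' {y.pt} ∩ closedPoints X).Finite := (h.image _).subset h1
  have h3 : IsClosed (f ⁻¹' {y.pt} ∩ closedPoints X) := by
    rw [← Set.biUnion_of_singleton (f ⁻¹' {y.pt} ∩ closedPoints X)]
    exact h2.isClosed_biUnion fun p hp => hp.2
  have h4 := closure_inter_closedPoints hcl
  rw [h3.closure_eq] at h4
  rw [← h4]
  exact h2

/-- If the map on complex points is topologically proper, separated and has finite fibres, the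
morphism is finite. -/
theorem isFinite_of_isProperMap [LocallyOfFiniteType (X ↘ SC)] [LocallyOfFiniteType (Y ↘ SC)]
    (f : X ⟶ Y) [f.IsOver SC] [QuasiCompact f] (hP : IsProperMap (Pts.map f))
    (hS : IsSeparatedMap (Pts.map f)) (hF : ∀ y : Pts Y, (Pts.map f ⁻¹' {y}).Finite) :
    IsFinite f := by
  haveI := isProper_of_isProperMap f hP hS
  haveI := jacobsonSpace (X := Y)
  have key : ∀ y : Pts Y, ∃ V : Y.Opens, y.pt ∈ V ∧ IsFinite (f ∣_ V) := fun y =>
    exists_isFinite_morphismRestrict_of_finite_preimage_singleton f y.pt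
      (finite_preimage_singleton_of_finite_pts f y (hF y))
  choose V hyV hV using key
  have hsup : iSup V = ⊤ := by
    by_contra hne
    have hne' : ((↑(iSup V) : Set Y)ᶜ).Nonempty := by
      rw [Set.nonempty_compl]
      intro h
      apply hne
      ext1
      simpa using h
    obtain ⟨c, hcV, hc⟩ := nonempty_inter_closedPoints hne'
      (iSup V).isOpen.isClosed_compl.isLocallyClosed
    obtain ⟨y, rfl⟩ := exists_pt_eq c hc
    exact hcV (Opens.mem_iSup.mpr ⟨y, hyV y⟩)
  exact IsZariskiLocalAtTarget.of_iSup_eq_top V hsup hV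

/-- A set of complex points is closed if its restriction to each affine open is closed. -/
lemma isClosed_of_forall_affine (S : Set (Pts Y))
    (h : ∀ V : Y.Opens, IsAffineOpen V →
      letI : (V : Scheme.{0}).Over SC := ⟨V.ι ≫ Y ↘ SC⟩
      haveI : V.ι.IsOver SC := ⟨rfl⟩
      IsClosed (Pts.map V.ι ⁻¹' S)) : IsClosed S := by
  rw [← isOpen_compl_iff, isOpen_iff_forall_mem_open]
  intro y hy
  obtain ⟨_, ⟨(V : Y.Opens), hV : IsAffineOpen V, rfl⟩, hyV, -⟩ :=
    Y.isBasis_affineOpens.exists_subset_of_mem_open (Set.mem_univ y.pt) isOpen_univ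
  letI : (V : Scheme.{0}).Over SC := ⟨V.ι ≫ Y ↘ SC⟩
  haveI : V.ι.IsOver SC := ⟨rfl⟩
  have hopenV := isOpenEmbedding_map V.ι
  have hcl := h V hV
  refine ⟨Pts.map V.ι '' (Pts.map V.ι ⁻¹' Sᶜ), ?_, ?_, ?_⟩
  · rintro _ ⟨y', hy', rfl⟩
    exact hy'
  · apply hopenV.isOpenMap
    rw [Set.preimage_compl]
    exact hcl.isOpen_compl
  · have hyr : y ∈ Set.range (Pts.map V.ι) := by
      rw [range_map_of_isOpenImmersion]
      change y.pt ∈ Set.range V.ι
      rw [Scheme.Opens.range_ι]
      exact hyV
    obtain ⟨y', rfl⟩ := hyr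
    exact ⟨y', hy, rfl⟩

/-- A finite morphism induces a topologically proper map with finite fibres on complex
points. -/
theorem isProperMap_of_isFinite [LocallyOfFiniteType (X ↘ SC)] [LocallyOfFiniteType (Y ↘ SC)]
    (f : X ⟶ Y) [f.IsOver SC] [IsFinite f] :
    IsProperMap (Pts.map f) ∧ ∀ y : Pts Y, (Pts.map f ⁻¹' {y}).Finite := by
  have hfin : ∀ y : Pts Y, (Pts.map f ⁻¹' {y}).Finite := by
    intro y
    have := f.finite_preimage_singleton y.pt
    refine Set.Finite.of_injOn (f := Pts.pt) ?_ pt_injective.injOn this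
    intro x hx
    change f x.pt = y.pt
    rw [← Pts.pt_map, (hx : Pts.map f x = y)]
  refine ⟨?_, hfin⟩
  rw [isProperMap_iff_isClosedMap_and_compact_fibers]
  refine ⟨Pts.continuous_map f, ?_, fun y => (hfin y).isCompact⟩
  intro K hK
  apply isClosed_of_forall_affine
  intro V hV
  let U : X.Opens := f ⁻¹ᵁ V
  letI : (U : Scheme.{0}).Over SC := ⟨U.ι ≫ X ↘ SC⟩
  haveI : U.ι.IsOver SC := ⟨rfl⟩
  haveI : LocallyOfFiniteType ((U : Scheme.{0}) ↘ SC) := by
    change LocallyOfFiniteType (U.ι ≫ X ↘ SC)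
    infer_instance
  letI : (V : Scheme.{0}).Over SC := ⟨V.ι ≫ Y ↘ SC⟩
  haveI : V.ι.IsOver SC := ⟨rfl⟩
  haveI : IsAffine (V : Scheme.{0}) := hV
  haveI : LocallyOfFiniteType ((V : Scheme.{0}) ↘ SC) := by
    change LocallyOfFiniteType (V.ι ≫ Y ↘ SC)
    infer_instance
  let f' : (U : Scheme.{0}) ⟶ (V : Scheme.{0}) := f ∣_ V
  have hf' : f' ≫ V.ι = U.ι ≫ f := morphismRestrict_ι f V
  haveI : f'.IsOver SC := ⟨by
    change f' ≫ V.ι ≫ Y ↘ SC = U.ι ≫ X ↘ SC
    rw [← Category.assoc, hf', Category.assoc, comp_over]⟩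
  haveI : IsFinite f' := IsZariskiLocalAtTarget.restrict ‹IsFinite f› V
  have hcl' := (isClosedMap_and_finite_of_isAffine f').1
  have hopenV := isOpenEmbedding_map V.ι
  have hsq : ∀ z : Pts (U : Scheme.{0}),
      Pts.map f (Pts.map U.ι z) = Pts.map V.ι (Pts.map f' z) := by
    intro z
    apply Subtype.ext
    change (z.1 ≫ U.ι) ≫ f = (z.1 ≫ f') ≫ V.ι
    rw [Category.assoc, Category.assoc, hf']
  have hrange : Set.range (Pts.map U.ι) = Pts.map f ⁻¹' Set.range (Pts.map V.ι) := by
    rw [range_map_of_isOpenImmersion, range_map_of_isOpenImmersion, Scheme.Opens.range_ι,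
      Scheme.Opens.range_ι]
    ext x
    simp only [Set.mem_preimage, Pts.pt_map]
    rfl
  have heq : Pts.map V.ι ⁻¹' (Pts.map f '' K) = Pts.map f' '' (Pts.map U.ι ⁻¹' K) := by
    ext y'
    constructor
    · rintro ⟨x, hxK, hx⟩
      have hx' : x ∈ Set.range (Pts.map U.ι) := by
        rw [hrange]
        exact ⟨y', hx.symm⟩
      obtain ⟨x', rfl⟩ := hx'
      refine ⟨x', hxK, ?_⟩
      apply hopenV.injective
      rw [← hsq, hx]
    · rintro ⟨x', hx'K, rfl⟩
      exact ⟨Pts.map U.ι x', hx'K, hsq x'⟩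
  change IsClosed (Pts.map V.ι ⁻¹' (Pts.map f '' K))
  rw [heq]
  exact hcl' _ (hK.preimage (Pts.continuous_map U.ι))

end Groth.Agent.Lib.Helper67.AnProper
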