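import Mathlib
import Groth.Agent.Lib.Helper67.QFFormal2

set_option autoImplicit false
set_option linter.unusedSectionVars false
set_option linter.style.haveILetI false
universe u
open TensorProduct IsLocalRing

namespace Groth.Agent.Lib.Helper67.QFFormal

section Main

variable {R R' : Type u} [CommRing R] [CommRing R'] [Algebra R R'] {p' : Ideal R'} [p'.IsPrime]
  {Ah : Type u} [CommRing Ah] [IsLocalRing Ah] [Algebra R Ah]
  {ρ : Ah →ₐ[R] (p'.comap (algebraMap R R')).ResidueField}
  [IsNoetherianRing R] [IsNoetherianRing R'] [Algebra.FiniteType R R'] [Algebra.QuasiFiniteAt R p']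
  [HenselianLocalRing Ah] [IsNoetherianRing Ah] [IsAdicComplete (maximalIdeal Ah) Ah]
  (hker : RingHom.ker ρ.toRingHom = maximalIdeal Ah)
  (hm : maximalIdeal Ah = (p'.comap (algebraMap R R')).map (algebraMap R Ah))

include hker hm in
theorem isRegularHom_toD (hreg : CAlg.IsRegularHom R Ah) :
    letI := (toD R R' p' Ah ρ).toAlgebra
    CAlg.IsRegularHom (Localization.AtPrime p') (D R R' p' Ah ρ) := by
  letI algBD : Algebra (Localization.AtPrime p') (D R R' p' Ah ρ) := (toD R R' p' Ah ρ).toAlgebra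
  letI : Algebra R' (Ah ⊗[R] R') := Algebra.TensorProduct.rightAlgebra
  haveI : IsScalarTower R R' (Ah ⊗[R] R') := Algebra.TensorProduct.right_isScalarTower
  haveI hTN : IsNoetherianRing (Ah ⊗[R] R') := Algebra.FiniteType.isNoetherianRing Ah _
  haveI hDN : IsNoetherianRing (D R R' p' Ah ρ) :=
    IsLocalization.isNoetherianRing (q R R' p' Ah ρ).primeCompl _ hTN
  have g1 : CAlg.IsRegularHom R' (R' ⊗[R] Ah) :=
    Groth.Agent.Lib.Helper56.isRegularHom_baseChange_of_essFiniteType R Ah R' hreg
  let e : (R' ⊗[R] Ah) ≃ₐ[R'] (Ah ⊗[R] R') :=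
    { Algebra.TensorProduct.comm R R' Ah with
      commutes' := fun r' => by
        show Algebra.TensorProduct.comm R R' Ah (r' ⊗ₜ 1) = 1 ⊗ₜ r'
        simp }
  have g2 : CAlg.IsRegularHom R' (Ah ⊗[R] R') := Groth.Agent.S7414.isRegularHom_of_algEquiv e g1
  have g3 : CAlg.IsRegularHom (Ah ⊗[R] R') (D R R' p' Ah ρ) :=
    Groth.Agent.Lib.Helper56.isRegularHom_localization (Ah ⊗[R] R')
      (q R R' p' Ah ρ).primeCompl (D R R' p' Ah ρ)
  have g4 : CAlg.IsRegularHom R' (D R R' p' Ah ρ) :=
    Groth.Agent.Lib.Helper56.isRegularHom_comp R' (Ah ⊗[R] R') (D R R' p' Ah ρ) g2 g3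
      (fun P _ => Groth.Agent.Lib.Helper56.isNoetherianRing_fiber R' (D R R' p' Ah ρ) P)
  haveI : IsScalarTower R' (Localization.AtPrime p') (D R R' p' Ah ρ) :=
    IsScalarTower.of_algebraMap_eq (fun r' => by
      show _ = toD R R' p' Ah ρ (algebraMap R' (Localization.AtPrime p') r')
      rw [toD_algebraMap]
      rfl)
  haveI : IsLocalization (Algebra.algebraMapSubmonoid (D R R' p' Ah ρ) p'.primeCompl)
      (D R R' p' Ah ρ) := by
    apply IsLocalization.of_le_isUnit
    rintro _ ⟨s, hs, rfl⟩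
    show IsUnit (algebraMap R' (D R R' p' Ah ρ) s)
    rw [IsScalarTower.algebraMap_apply R' (Localization.AtPrime p') (D R R' p' Ah ρ)]
    exact (IsLocalization.map_units (Localization.AtPrime p') ⟨s, hs⟩).map _
  exact Groth.Agent.Lib.Helper56.isRegularHom_of_isLocalization R' (D R R' p' Ah ρ) p'.primeCompl
    (Localization.AtPrime p') (D R R' p' Ah ρ) g4

include hker hm in
/-- the completion map of `R'_{p'}` is regular as soon as `R → Ah` is regular, where `Ah` is a
complete local Noetherian `R`-algebra with residue field `κ(p)` and maximal ideal `p Ah`. -/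
theorem isRegularHom_cpl_atPrime (hreg : CAlg.IsRegularHom R Ah) :
    CAlg.IsRegularHom (Localization.AtPrime p') (EGA4.Cpl (Localization.AtPrime p')) := by
  letI algBD : Algebra (Localization.AtPrime p') (D R R' p' Ah ρ) := (toD R R' p' Ah ρ).toAlgebra
  haveI : IsLocalHom (algebraMap (Localization.AtPrime p') (D R R' p' Ah ρ)) :=
    inferInstanceAs (IsLocalHom (toD R R' p' Ah ρ))
  have hBD : CAlg.IsRegularHom (Localization.AtPrime p') (D R R' p' Ah ρ) :=
    isRegularHom_toD hker hm hreg
  haveI : Module.Flat (Localization.AtPrime p') (D R R' p' Ah ρ) := hBD.1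
  haveI hTN : IsNoetherianRing (Ah ⊗[R] R') := Algebra.FiniteType.isNoetherianRing Ah _
  haveI hDN : IsNoetherianRing (D R R' p' Ah ρ) :=
    IsLocalization.isNoetherianRing (q R R' p' Ah ρ).primeCompl _ hTN
  haveI hBN : IsNoetherianRing (Localization.AtPrime p') :=
    IsLocalization.isNoetherianRing p'.primeCompl _ inferInstance
  have hbij : Function.Bijective
      (Groth.Agent.Lib.Helper56.cplMap (Localization.AtPrime p') (D R R' p' Ah ρ)) :=
    Groth.Agent.Lib.Helper56.cplMap_bijective_of (Localization.AtPrime p') (D R R' p' Ah ρ)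
      (map_toD_maximalIdeal hker hm) (fun d => exists_sub_toD_mem R R' p' Ah ρ d)
  haveI := isAdicComplete_D (R := R) (R' := R') (p' := p') (Ah := Ah) (ρ := ρ) hker
  let e1 : EGA4.Cpl (Localization.AtPrime p') ≃+* EGA4.Cpl (D R R' p' Ah ρ) :=
    RingEquiv.ofBijective _ hbij
  let e2 : D R R' p' Ah ρ ≃ₐ[D R R' p' Ah ρ] EGA4.Cpl (D R R' p' Ah ρ) :=
    AdicCompletion.ofAlgEquiv (maximalIdeal (D R R' p' Ah ρ))
  let e : D R R' p' Ah ρ ≃ₐ[Localization.AtPrime p'] EGA4.Cpl (Localization.AtPrime p') :=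
    { e2.toRingEquiv.trans e1.symm with
      commutes' := fun b => by
        show e1.symm (e2 (algebraMap (Localization.AtPrime p') (D R R' p' Ah ρ) b)) = _
        rw [RingEquiv.symm_apply_eq]
        show _ = Groth.Agent.Lib.Helper56.cplMap (Localization.AtPrime p') (D R R' p' Ah ρ)
          (algebraMap (Localization.AtPrime p') (EGA4.Cpl (Localization.AtPrime p')) b)
        rw [Groth.Agent.Lib.Helper56.cplMap_algebraMap]
        rfl }
  exact Groth.Agent.S7414.isRegularHom_of_algEquiv e hBD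

end Main

end Groth.Agent.Lib.Helper67.QFFormal
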