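import Mathlib
import Groth.Agent.Lib.Helper67.QFFormal3
import Groth.Agent.Lib.Helper67.FibreGR

/-!
# Formal fibres of quasi-finite extensions, fibrewise version
-/

set_option autoImplicit false
set_option linter.unusedSectionVars false
set_option linter.style.haveILetI false
set_option linter.overlappingInstances false
universe u
open TensorProduct IsLocalRing

namespace Groth.Agent.Lib.Helper67.QFFormal

section Fibrewise

variable {R R' : Type u} [CommRing R] [CommRing R'] [Algebra R R'] {p' : Ideal R'} [p'.IsPrime]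
  {Ah : Type u} [CommRing Ah] [IsLocalRing Ah] [Algebra R Ah]
  {ρ : Ah →ₐ[R] (p'.comap (algebraMap R R')).ResidueField}
  [IsNoetherianRing R] [IsNoetherianRing R'] [Algebra.FiniteType R R'] [Algebra.QuasiFiniteAt R p']
  [HenselianLocalRing Ah] [IsNoetherianRing Ah] [IsAdicComplete (maximalIdeal Ah) Ah]
  (hker : RingHom.ker ρ.toRingHom = maximalIdeal Ah)
  (hm : maximalIdeal Ah = (p'.comap (algebraMap R R')).map (algebraMap R Ah))

omit [IsNoetherianRing R] [IsNoetherianRing R'] [Algebra.FiniteType R R']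
  [Algebra.QuasiFiniteAt R p'] [HenselianLocalRing Ah] [IsNoetherianRing Ah]
  [IsAdicComplete (maximalIdeal Ah) Ah] in
theorem isScalarTower_toD :
    letI := (toD R R' p' Ah ρ).toAlgebra
    letI : Algebra R' (Ah ⊗[R] R') := Algebra.TensorProduct.rightAlgebra
    IsScalarTower R' (Localization.AtPrime p') (D R R' p' Ah ρ) := by
  letI := (toD R R' p' Ah ρ).toAlgebra
  letI : Algebra R' (Ah ⊗[R] R') := Algebra.TensorProduct.rightAlgebra
  exact IsScalarTower.of_algebraMap_eq (fun r' => by
      show _ = toD R R' p' Ah ρ (algebraMap R' (Localization.AtPrime p') r')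
      rw [toD_algebraMap]
      rfl)

omit [IsNoetherianRing R] [IsNoetherianRing R'] [Algebra.FiniteType R R']
  [Algebra.QuasiFiniteAt R p'] [HenselianLocalRing Ah] [IsNoetherianRing Ah]
  [IsAdicComplete (maximalIdeal Ah) Ah] in
theorem isLocalization_toD :
    letI := (toD R R' p' Ah ρ).toAlgebra
    letI : Algebra R' (Ah ⊗[R] R') := Algebra.TensorProduct.rightAlgebra
    IsLocalization (Algebra.algebraMapSubmonoid (D R R' p' Ah ρ) p'.primeCompl)
      (D R R' p' Ah ρ) := by
  letI := (toD R R' p' Ah ρ).toAlgebra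
  letI : Algebra R' (Ah ⊗[R] R') := Algebra.TensorProduct.rightAlgebra
  haveI := isScalarTower_toD (R := R) (R' := R') (p' := p') (Ah := Ah) (ρ := ρ)
  apply IsLocalization.of_le_isUnit
  rintro _ ⟨s, hs, rfl⟩
  show IsUnit (algebraMap R' (D R R' p' Ah ρ) s)
  rw [IsScalarTower.algebraMap_apply R' (Localization.AtPrime p') (D R R' p' Ah ρ)]
  exact (IsLocalization.map_units (Localization.AtPrime p') ⟨s, hs⟩).map _

omit [IsNoetherianRing R] [IsNoetherianRing R'] [Algebra.FiniteType R R']
  [Algebra.QuasiFiniteAt R p'] [HenselianLocalRing Ah] [IsNoetherianRing Ah]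
  [IsAdicComplete (maximalIdeal Ah) Ah] in
theorem flat_toD (hflat : Module.Flat R Ah) :
    letI := (toD R R' p' Ah ρ).toAlgebra
    Module.Flat (Localization.AtPrime p') (D R R' p' Ah ρ) := by
  letI := (toD R R' p' Ah ρ).toAlgebra
  letI : Algebra R' (Ah ⊗[R] R') := Algebra.TensorProduct.rightAlgebra
  haveI : IsScalarTower R R' (Ah ⊗[R] R') := Algebra.TensorProduct.right_isScalarTower
  haveI := isScalarTower_toD (R := R) (R' := R') (p' := p') (Ah := Ah) (ρ := ρ)
  haveI := isLocalization_toD (R := R) (R' := R') (p' := p') (Ah := Ah) (ρ := ρ)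
  haveI h1 : Module.Flat R' (R' ⊗[R] Ah) := inferInstance
  haveI h2 : Module.Flat R' (Ah ⊗[R] R') := by
    let e : (R' ⊗[R] Ah) ≃ₐ[R'] (Ah ⊗[R] R') :=
      { Algebra.TensorProduct.comm R R' Ah with
        commutes' := fun r' => by
          show Algebra.TensorProduct.comm R R' Ah (r' ⊗ₜ 1) = 1 ⊗ₜ r'
          simp }
    exact Module.Flat.of_linearEquiv e.toLinearEquiv.symm
  haveI h3 : Module.Flat (Ah ⊗[R] R') (D R R' p' Ah ρ) :=
    IsLocalization.flat _ (q R R' p' Ah ρ).primeCompl
  haveI h4 : Module.Flat R' (D R R' p' Ah ρ) := Module.Flat.trans R' (Ah ⊗[R] R') _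
  exact Groth.Agent.Lib.Helper56.flat_of_isLocalization R' (D R R' p' Ah ρ) p'.primeCompl
    (Localization.AtPrime p') (D R R' p' Ah ρ)

include hker hm in
theorem nonempty_cplEquiv (hflat : Module.Flat R Ah) :
    letI := (toD R R' p' Ah ρ).toAlgebra
    Nonempty (D R R' p' Ah ρ ≃ₐ[Localization.AtPrime p'] EGA4.Cpl (Localization.AtPrime p')) := by
  letI algBD : Algebra (Localization.AtPrime p') (D R R' p' Ah ρ) := (toD R R' p' Ah ρ).toAlgebra
  haveI : IsLocalHom (algebraMap (Localization.AtPrime p') (D R R' p' Ah ρ)) :=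
    inferInstanceAs (IsLocalHom (toD R R' p' Ah ρ))
  haveI : Module.Flat (Localization.AtPrime p') (D R R' p' Ah ρ) := flat_toD hflat
  haveI hTN : IsNoetherianRing (Ah ⊗[R] R') := Algebra.FiniteType.isNoetherianRing Ah _
  haveI hDN : IsNoetherianRing (D R R' p' Ah ρ) :=
    IsLocalization.isNoetherianRing (q R R' p' Ah ρ).primeCompl _ hTN
  haveI hBN : IsNoetherianRing (Localization.AtPrime p') :=
    IsLocalization.isNoetherianRing p'.primeCompl _ inferInstance
  have hbij : Function.Bijective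
      (Groth.Agent.Lib.Helper56.cplMap (Localization.AtPrime p') (D R R' p' Ah ρ)) :=
    Groth.Agent.Lib.Helper56.cplMap_bijective_of (Localization.AtPrime p') (D R R' p' Ah ρ)
      (map_toD_maximalIdeal hker hm) (fun d => exists_sub_toD_mem R R' p' Ah ρ d)
  haveI := isAdicComplete_D (R := R) (R' := R') (p' := p') (Ah := Ah) (ρ := ρ) hker
  let e1 : EGA4.Cpl (Localization.AtPrime p') ≃+* EGA4.Cpl (D R R' p' Ah ρ) :=
    RingEquiv.ofBijective _ hbij
  let e2 : D R R' p' Ah ρ ≃ₐ[D R R' p' Ah ρ] EGA4.Cpl (D R R' p' Ah ρ) :=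
    AdicCompletion.ofAlgEquiv (maximalIdeal (D R R' p' Ah ρ))
  exact ⟨{ e2.toRingEquiv.trans e1.symm with
      commutes' := fun b => by
        show e1.symm (e2 (algebraMap (Localization.AtPrime p') (D R R' p' Ah ρ) b)) = _
        rw [RingEquiv.symm_apply_eq]
        show _ = Groth.Agent.Lib.Helper56.cplMap (Localization.AtPrime p') (D R R' p' Ah ρ)
          (algebraMap (Localization.AtPrime p') (EGA4.Cpl (Localization.AtPrime p')) b)
        rw [Groth.Agent.Lib.Helper56.cplMap_algebraMap]
        rfl }⟩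

include hker hm in
/-- fibrewise: if the fibre of `R → Ah` at `q0` is geometrically regular, so is the formal fibre of
`R'_{p'}` at any prime `Q'` lying over `q0`. -/
theorem isGeometricallyRegular_formalFibre (hflat : Module.Flat R Ah)
    (Q' : Ideal (Localization.AtPrime p')) [Q'.IsPrime] (q0 : Ideal R) [q0.IsPrime]
    (hq0 : q0 = (Q'.comap (algebraMap R' (Localization.AtPrime p'))).comap (algebraMap R R'))
    (hG : CAlg.IsGeometricallyRegular q0.ResidueField (q0.Fiber Ah)) :
    CAlg.IsGeometricallyRegular Q'.ResidueField (EGA4.formalFibre (Localization.AtPrime p') Q') := by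
  letI algBD : Algebra (Localization.AtPrime p') (D R R' p' Ah ρ) := (toD R R' p' Ah ρ).toAlgebra
  letI : Algebra R' (Ah ⊗[R] R') := Algebra.TensorProduct.rightAlgebra
  haveI : IsScalarTower R R' (Ah ⊗[R] R') := Algebra.TensorProduct.right_isScalarTower
  haveI := isScalarTower_toD (R := R) (R' := R') (p' := p') (Ah := Ah) (ρ := ρ)
  haveI := isLocalization_toD (R := R) (R' := R') (p' := p') (Ah := Ah) (ρ := ρ)
  let q' : Ideal R' := Q'.comap (algebraMap R' (Localization.AtPrime p'))
  haveI hq'p : q'.IsPrime := Ideal.comap_isPrime _ _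
  haveI : q'.LiesOver q0 := ⟨hq0⟩
  -- base change to `R'`
  have g1 : CAlg.IsGeometricallyRegular q'.ResidueField (q'.Fiber (R' ⊗[R] Ah)) :=
    FibreGR.geomReg_fibre_baseChange R Ah R' q' q0 hG
  let e : (R' ⊗[R] Ah) ≃ₐ[R'] (Ah ⊗[R] R') :=
    { Algebra.TensorProduct.comm R R' Ah with
      commutes' := fun r' => by
        show Algebra.TensorProduct.comm R R' Ah (r' ⊗ₜ 1) = 1 ⊗ₜ r'
        simp }
  have g2 : CAlg.IsGeometricallyRegular q'.ResidueField (q'.Fiber (Ah ⊗[R] R')) :=
    FibreGR.geomReg_fibre_of_algEquiv R' _ _ e q' g1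
  -- localize the target
  have g3 : CAlg.IsGeometricallyRegular q'.ResidueField (q'.Fiber (D R R' p' Ah ρ)) :=
    FibreGR.geomReg_fibre_of_isLocalization_target R' (Ah ⊗[R] R') (D R R' p' Ah ρ)
      (q R R' p' Ah ρ).primeCompl q' g2
  -- localize the source
  have g4 : CAlg.IsGeometricallyRegular Q'.ResidueField (Q'.Fiber (D R R' p' Ah ρ)) :=
    (FibreGR.geomReg_fibre_iff_of_isLocalization R' (D R R' p' Ah ρ) p'.primeCompl
      (Localization.AtPrime p') (D R R' p' Ah ρ) Q' q' rfl).mpr g3
  -- identify `D` with the completion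
  obtain ⟨ec⟩ := nonempty_cplEquiv (R := R) (R' := R') (p' := p') (Ah := Ah) (ρ := ρ) hker hm hflat
  exact FibreGR.geomReg_fibre_of_algEquiv (Localization.AtPrime p') _ _ ec Q' g4

end Fibrewise

end Groth.Agent.Lib.Helper67.QFFormal
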