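import Mathlib
import Groth.Agent.Lib.Helper67.QFFormal4
import Groth.Agent.Lib.Helper25.SmoothReduced
import Groth.Agent.Lib.Helper87.HensNoeth
import Groth.Agent.S0543

/-!
# Analytic reducedness ascends along étale local homomorphisms
-/

set_option autoImplicit false
set_option linter.unusedSectionVars false
set_option linter.style.haveILetI false
universe u
open TensorProduct IsLocalRing

namespace Groth.Agent.Lib.Helper67.AnRedEtale

theorem isReduced_atPrime_of_away {T : Type u} [CommRing T] (P : Ideal T) [P.IsPrime] (g : T)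
    (hg : g ∉ P) (L : Type u) [CommRing L] [Algebra T L] [IsLocalization.Away g L] [IsReduced L] :
    IsReduced (Localization.AtPrime P) := by
  constructor
  intro x hx
  obtain ⟨n, hn⟩ := hx
  obtain ⟨t, s, rfl⟩ := IsLocalization.exists_mk'_eq P.primeCompl x
  rw [← IsLocalization.mk'_pow, IsLocalization.mk'_eq_zero_iff] at hn
  obtain ⟨c, hc⟩ := hn
  have h1 : ((c : T) * t) ^ (n + 1) = 0 := by
    have : ((c : T) * t) ^ (n + 1) = (c : T) ^ n * t * ((c : T) * t ^ n) := by ring
    rw [this, hc, mul_zero]
  have h2 : algebraMap T L ((c : T) * t) = 0 :=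
    IsReduced.eq_zero _ ⟨n + 1, by rw [← map_pow, h1, map_zero]⟩
  obtain ⟨⟨_, k, rfl⟩, hk⟩ := (IsLocalization.map_eq_zero_iff (Submonoid.powers g) L _).mp h2
  rw [IsLocalization.mk'_eq_zero_iff]
  refine ⟨⟨g ^ k * c, P.primeCompl.mul_mem ?_ c.2⟩, ?_⟩
  · exact fun h => hg (Ideal.IsPrime.mem_of_pow_mem inferInstance k h)
  · show g ^ k * (c : T) * t = 0
    rw [mul_assoc]
    exact hk

section Main

variable (A C : Type u) [CommRing A] [IsLocalRing A] [IsNoetherianRing A] [CommRing C]
  [Algebra A C] [Algebra.FiniteType A C] (q : Ideal C) [q.IsPrime]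

/-- the point `Â → κ(p)`, `p = q ∩ A = m_A`. -/
noncomputable def rho (hq : Ideal.comap (algebraMap A C) q = maximalIdeal A) :
    AdicCompletion (maximalIdeal A) A →ₐ[A] (q.comap (algebraMap A C)).ResidueField :=
  (IsScalarTower.toAlgHom A (A ⧸ q.comap (algebraMap A C)) (q.comap (algebraMap A C)).ResidueField).comp
    ((Ideal.quotientEquivAlgOfEq A hq.symm).toAlgHom.comp
      (AdicCompletion.evalOneₐ (maximalIdeal A)))

theorem ker_rho (hq : Ideal.comap (algebraMap A C) q = maximalIdeal A) :
    RingHom.ker (rho A C q hq).toRingHom =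
      maximalIdeal (AdicCompletion (maximalIdeal A) A) := by
  rw [AdicCompletion.maximalIdeal_eq_map,
    ← AdicCompletion.ker_evalOneₐ_eq_map _ (maximalIdeal A).fg_of_isNoetherianRing]
  ext x
  rw [RingHom.mem_ker, RingHom.mem_ker]
  show algebraMap (A ⧸ q.comap (algebraMap A C)) (q.comap (algebraMap A C)).ResidueField
    (Ideal.quotientEquivAlgOfEq A hq.symm (AdicCompletion.evalOneₐ (maximalIdeal A) x)) = 0 ↔
      AdicCompletion.evalOneₐ (maximalIdeal A) x = 0
  rw [map_eq_zero_iff _ (Ideal.injective_algebraMap_quotient_residueField _),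
    map_eq_zero_iff _ (Ideal.quotientEquivAlgOfEq A hq.symm).injective]

theorem isReduced_cpl_of_isEtaleAt
    (hq : Ideal.comap (algebraMap A C) q = maximalIdeal A) (hC : Algebra.IsEtaleAt A q)
    (hA : IsReduced (AdicCompletion (maximalIdeal A) A)) :
    IsReduced (AdicCompletion (maximalIdeal (Localization.AtPrime q)) (Localization.AtPrime q)) := by
  classical
  haveI hCN : IsNoetherianRing C := Algebra.FiniteType.isNoetherianRing A C
  haveI hFP : Algebra.FinitePresentation A C := Algebra.FinitePresentation.of_finiteType.mp inferInstance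
  haveI hqf : Algebra.QuasiFiniteAt A q := by
    haveI : Algebra.FormallyUnramified A (Localization.AtPrime q) := inferInstance
    haveI : Algebra.EssFiniteType A (Localization.AtPrime q) :=
      Algebra.EssFiniteType.comp A C (Localization.AtPrime q)
    infer_instance
  let Ah := AdicCompletion (maximalIdeal A) A
  haveI hAhN : IsNoetherianRing Ah := Groth.Agent.S0543.result A _
  haveI : HenselianLocalRing Ah := Groth.Agent.Lib.Helper87.Hens.henselianLocalRing_adicCompletion A
  have hker := ker_rho A C q hq
  have hm : maximalIdeal Ah = (q.comap (algebraMap A C)).map (algebraMap A Ah) := by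
    rw [hq, AdicCompletion.maximalIdeal_eq_map]
  have hflat : Module.Flat A Ah := inferInstance
  letI algBD : Algebra (Localization.AtPrime q) (QFFormal.D A C q Ah (rho A C q hq)) :=
    (QFFormal.toD A C q Ah (rho A C q hq)).toAlgebra
  obtain ⟨ec⟩ := QFFormal.nonempty_cplEquiv (R := A) (R' := C) (p' := q) (Ah := Ah)
    (ρ := rho A C q hq) hker hm hflat
  -- `D` is reduced
  obtain ⟨f, hfq, hfet⟩ := Algebra.exists_etale_of_isEtaleAt (R := A) q
  let T := Ah ⊗[A] C
  let P : Ideal T := QFFormal.q A C q Ah (rho A C q hq)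
  have hgP : ((1 : Ah) ⊗ₜ[A] f : T) ∉ P := by
    intro h
    apply hfq
    rw [QFFormal.comap_includeRight_q A C q Ah (rho A C q hq)]
    exact h
  let L := Ah ⊗[A] Localization.Away f
  let φ : T →ₐ[Ah] L :=
    Algebra.TensorProduct.map (AlgHom.id Ah Ah) (IsScalarTower.toAlgHom A C (Localization.Away f))
  letI alg : Algebra T L := φ.toRingHom.toAlgebra
  haveI hst : IsScalarTower Ah T L := IsScalarTower.of_algebraMap_eq (fun t => (φ.commutes t).symm)
  haveI hloc : IsLocalization.Away ((1 : Ah) ⊗ₜ[A] f : T) L := by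
    have h1 : IsLocalization
        ((Submonoid.powers f).map (Algebra.TensorProduct.includeRight (R := A) (A := Ah))) L := by
      refine IsLocalization.tensorProduct_tensorProduct_right A Ah (Submonoid.powers f)
        (Localization.Away f) ?_
      ext s
      change φ (1 ⊗ₜ s) = 1 ⊗ₜ (algebraMap C (Localization.Away f) s)
      show Algebra.TensorProduct.map (AlgHom.id Ah Ah)
        (IsScalarTower.toAlgHom A C (Localization.Away f)) (1 ⊗ₜ s) = _
      rw [Algebra.TensorProduct.map_tmul]
      rfl
    have h2 : (Submonoid.powers f).map (Algebra.TensorProduct.includeRight (R := A) (A := Ah)) =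
        Submonoid.powers ((1 : Ah) ⊗ₜ[A] f : T) := by
      rw [Submonoid.map_powers]
      rfl
    show IsLocalization (Submonoid.powers ((1 : Ah) ⊗ₜ[A] f : T)) L
    rw [← h2]
    exact h1
  haveI : Algebra.Smooth Ah L := inferInstance
  haveI hLred : IsReduced L := Groth.Agent.Lib.Helper25.isReduced_of_smooth Ah L
  haveI hDred : IsReduced (QFFormal.D A C q Ah (rho A C q hq)) :=
    isReduced_atPrime_of_away P _ hgP L
  exact isReduced_of_injective ec.symm ec.symm.injective

end Main

end Groth.Agent.Lib.Helper67.AnRedEtale
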