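import Groth.Agent.Lib.Helper19.An.Pullback
import Mathlib.AlgebraicGeometry.AffineScheme

/-!
# Ring-valued points of a scheme and evaluation of sections

For `t : Spec R ⟶ X` and an open `W` with `t ⁻¹ᵁ W = ⊤` we get the ring map `Γ(X, W) → R`.
-/

set_option autoImplicit false
set_option linter.style.haveILetI false
open CategoryTheory AlgebraicGeometry Topology TopologicalSpace
open An

namespace Groth.Agent.Lib.Helper67.RingPts

variable {X : Scheme.{0}}

/-- Evaluation of sections over `W` at an `R`-valued point landing in `W`. -/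
noncomputable def rev {R : CommRingCat.{0}} (t : Spec R ⟶ X) (W : X.Opens) (h : t ⁻¹ᵁ W = ⊤) :
    Γ(X, W) →+* R :=
  (Scheme.ΓSpecIso R).hom.hom.comp (t.appLE W ⊤ h.ge).hom

lemma rev_res {R : CommRingCat.{0}} (t : Spec R ⟶ X) {W W' : X.Opens} (hle : W' ≤ W)
    (h' : t ⁻¹ᵁ W' = ⊤) (h : t ⁻¹ᵁ W = ⊤) (c : Γ(X, W)) :
    rev t W' h' (X.presheaf.map (homOfLE hle).op c) = rev t W h c := by
  unfold rev
  simp only [RingHom.comp_apply]
  congr 1
  rw [← CommRingCat.comp_apply, Scheme.Hom.map_appLE]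

lemma preimage_comp_eq_top {R R' : CommRingCat.{0}} (φ : R ⟶ R') (t : Spec R ⟶ X) (W : X.Opens)
    (h : t ⁻¹ᵁ W = ⊤) : (Spec.map φ ≫ t) ⁻¹ᵁ W = ⊤ := by
  rw [Scheme.Hom.comp_preimage, h]
  rfl

lemma rev_comp {R R' : CommRingCat.{0}} (φ : R ⟶ R') (t : Spec R ⟶ X) (W : X.Opens)
    (h : t ⁻¹ᵁ W = ⊤) (c : Γ(X, W)) :
    rev (Spec.map φ ≫ t) W (preimage_comp_eq_top φ t W h) c = φ (rev t W h c) := by
  unfold rev
  simp only [RingHom.comp_apply]
  have he : (⊤ : (Spec R').Opens) ≤ Spec.map φ ⁻¹ᵁ ⊤ := fun _ _ => trivial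
  have h1 : (Spec.map φ ≫ t).appLE W ⊤ (preimage_comp_eq_top φ t W h).ge =
      t.appLE W ⊤ h.ge ≫ (Spec.map φ).appLE ⊤ ⊤ he :=
    (Scheme.Hom.appLE_comp_appLE (Spec.map φ) t W ⊤ ⊤ h.ge he).symm
  rw [h1]
  have h2 : (Spec.map φ).appLE ⊤ ⊤ he = (Spec.map φ).appTop := by
    simp only [Scheme.Hom.appLE, Scheme.Hom.appTop]
    erw [CategoryTheory.Functor.map_id]
    exact Category.comp_id _
  rw [h2]
  have h3 := Scheme.ΓSpecIso_naturality φ
  have := congrArg (fun ψ => ψ.hom (t.appLE W ⊤ h.ge c)) h3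
  exact this

/-- An `R`-point landing in an affine open factors through it. -/
lemma eq_SpecMap_rev_fromSpec {R : CommRingCat.{0}} (t : Spec R ⟶ X) {U : X.Opens}
    (hU : IsAffineOpen U) (h : t ⁻¹ᵁ U = ⊤) :
    t = Spec.map (CommRingCat.ofHom (rev t U h)) ≫ hU.fromSpec := by
  have h1 := IsAffineOpen.SpecMap_appLE_fromSpec t hU (isAffineOpen_top (Spec R)) h.ge
  rw [IsAffineOpen.fromSpec_top, Scheme.isoSpec_Spec_inv] at h1
  have h2 : CommRingCat.ofHom (rev t U h) = t.appLE U ⊤ h.ge ≫ (Scheme.ΓSpecIso R).hom := by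
    ext c
    rfl
  rw [h2, Spec.map_comp, Category.assoc, h1, ← Category.assoc, ← Spec.map_comp,
    Iso.inv_hom_id, Spec.map_id]
  exact (Category.id_comp t).symm

lemma rev_SpecMap_fromSpec {R : CommRingCat.{0}} {U : X.Opens} (hU : IsAffineOpen U)
    (φ : Γ(X, U) ⟶ R) (h : (Spec.map φ ≫ hU.fromSpec) ⁻¹ᵁ U = ⊤) :
    rev (Spec.map φ ≫ hU.fromSpec) U h = φ.hom := by
  have h1 := eq_SpecMap_rev_fromSpec (Spec.map φ ≫ hU.fromSpec) hU h
  have h2 : Spec.map φ = Spec.map (CommRingCat.ofHom (rev (Spec.map φ ≫ hU.fromSpec) U h)) :=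
    (cancel_mono hU.fromSpec).mp h1
  have h3 := Spec.map_injective h2
  exact (congrArg CommRingCat.Hom.hom h3).symm

lemma preimage_SpecMap_fromSpec {R : CommRingCat.{0}} {U : X.Opens} (hU : IsAffineOpen U)
    (φ : Γ(X, U) ⟶ R) : (Spec.map φ ≫ hU.fromSpec) ⁻¹ᵁ U = ⊤ := by
  rw [Scheme.Hom.comp_preimage, hU.fromSpec_preimage_self]
  rfl

/-- For a point with values in a field, the point lies in a basic open iff the section does not
vanish there. -/
lemma preimage_basicOpen_eq_top_iff {L : Type} [Field L] (t : Spec (CommRingCat.of L) ⟶ X)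
    (U : X.Opens) (h : t ⁻¹ᵁ U = ⊤) (a : Γ(X, U)) :
    t ⁻¹ᵁ (X.basicOpen a) = ⊤ ↔ rev t U h a ≠ 0 := by
  constructor
  · intro hD hzero
    have hu : IsUnit (X.presheaf.map (homOfLE (X.basicOpen_le a)).op a) :=
      RingedSpace.isUnit_res_basicOpen _ a
    have h1 := rev_res t (X.basicOpen_le a) hD h a
    rw [hzero] at h1
    have := hu.map (rev t (X.basicOpen a) hD)
    rw [h1] at this
    exact not_isUnit_zero this
  · intro hne
    have hne' : t.appLE U ⊤ h.ge a ≠ 0 := by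
      intro h0
      apply hne
      unfold rev
      rw [RingHom.comp_apply]
      change (Scheme.ΓSpecIso (CommRingCat.of L)).hom.hom (t.appLE U ⊤ h.ge a) = 0
      rw [h0, map_zero]
    rw [Ne, ← basicOpen_eq_bot_iff, Scheme.basicOpen_appLE] at hne'
    by_contra hD
    apply hne'
    ext p
    simp only [Opens.coe_inf, Opens.coe_top, Set.univ_inter, Opens.coe_bot,
      Set.mem_empty_iff_false, iff_false]
    intro hp
    apply hD
    ext q
    simp only [Opens.coe_top, Set.mem_univ, iff_true]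
    have : q = p := Subsingleton.elim (α := PrimeSpectrum L) _ _
    rw [this]
    exact hp

end Groth.Agent.Lib.Helper67.RingPts
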