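import Groth.Agent.Lib.Helper67.UltraC
import Groth.Agent.Lib.Helper67.RingPts
import Groth.Agent.Lib.Helper19.An.Pullback
import Mathlib.AlgebraicGeometry.ValuativeCriterion
import Mathlib.Topology.Maps.Proper.Basic

/-!
# Universally closed morphisms are topologically proper on complex points

The proof avoids Chow's lemma: given an ultrafilter `𝒰` on `X(ℂ)` whose image converges in `Y(ℂ)`,
the points assemble to a point of `X` with values in the ultrapower `K` of `ℂ`, the image extends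
to the valuation ring `O` of finite elements, the valuative criterion gives an `O`-point of `X`,
and its reduction along the standard part map `O → ℂ` is the limit of `𝒰`.
-/

set_option autoImplicit false
set_option linter.style.haveILetI false
open CategoryTheory AlgebraicGeometry Topology TopologicalSpace Filter
open An
open Groth.Agent.Lib.Helper19.AnB
open Groth.Agent.Lib.Helper67.UltraC Groth.Agent.Lib.Helper67.RingPts

namespace Groth.Agent.Lib.Helper67.AnVal

section evG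

variable {X : Scheme.{0}} [X.Over SC] {I : Type} (𝒰 : Ultrafilter I) (x : I → Pts X)

/-- The germ of the evaluations of a section at a family of points. -/
noncomputable def evG (W : X.Opens) (c : Γ(X, W)) : K 𝒰 :=
  ((fun i => evD W c (x i) : I → ℂ) : K 𝒰)

/-- Evaluation at a family of points eventually in `W`, as a ring homomorphism to the
ultrapower. -/
noncomputable def evGHom (W : X.Opens) (h : ∀ᶠ i in 𝒰, (x i).pt ∈ W) : Γ(X, W) →+* K 𝒰 where
  toFun := evG 𝒰 x W
  map_zero' := Germ.coe_eq.mpr (Eventually.of_forall fun i => evD_zero W (x i))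
  map_one' := Germ.coe_eq.mpr (h.mono fun i hi => evD_one W (x i) hi)
  map_add' a b := by
    refine (Germ.coe_eq.mpr (Eventually.of_forall fun i => ?_)).trans
      (Germ.coe_add (fun i => evD W a (x i)) (fun i => evD W b (x i)))
    exact evD_add W a b (x i)
  map_mul' a b := by
    refine (Germ.coe_eq.mpr (Eventually.of_forall fun i => ?_)).trans
      (Germ.coe_mul (fun i => evD W a (x i)) (fun i => evD W b (x i)))
    exact evD_mul W a b (x i)

lemma evGHom_apply (W : X.Opens) (h : ∀ᶠ i in 𝒰, (x i).pt ∈ W) (c : Γ(X, W)) :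
    evGHom 𝒰 x W h c = ((fun i => evD W c (x i) : I → ℂ) : K 𝒰) := rfl

end evG

lemma rev_congr {X : Scheme.{0}} {R : CommRingCat.{0}} {t t' : Spec R ⟶ X} (e : t = t')
    (W : X.Opens) (h : t ⁻¹ᵁ W = ⊤) (h' : t' ⁻¹ᵁ W = ⊤) : rev t W h = rev t' W h' := by
  subst e
  rfl

variable {X Y : Scheme.{0}} [X.Over SC] [Y.Over SC]

/-- A universally closed quasi-compact morphism over `ℂ` induces a topologically proper map on
complex points. -/
theorem isProperMap_of_universallyClosed (f : X ⟶ Y) [f.IsOver SC] [QuasiCompact f]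
    [UniversallyClosed f] : IsProperMap (Pts.map f) := by
  rw [isProperMap_iff_ultrafilter]
  refine ⟨Pts.continuous_map f, fun 𝒰 y hy => ?_⟩
  -- Step 1: charts
  obtain ⟨_, ⟨(V : Y.Opens), hV : IsAffineOpen V, rfl⟩, hyV, -⟩ :=
    Y.isBasis_affineOpens.exists_subset_of_mem_open (Set.mem_univ y.pt) isOpen_univ
  have hVev : ∀ᶠ i in (𝒰 : Filter (Pts X)), (Pts.map f i).pt ∈ V :=
    hy.eventually ((Pts.isOpen_preimage_pt V).mem_nhds hyV)
  have hqc : IsCompact ((f ⁻¹ᵁ V : X.Opens) : Set X) :=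
    QuasiCompact.isCompact_preimage (f := f) _ V.isOpen hV.isCompact
  obtain ⟨s, hsfin, hs⟩ :=
    isCompact_and_isOpen_iff_finite_and_eq_biUnion_affineOpens.mp ⟨hqc, (f ⁻¹ᵁ V).isOpen⟩
  have hex : ∀ᶠ i in (𝒰 : Filter (Pts X)), ∃ U ∈ s, i.pt ∈ (U : X.Opens) := by
    filter_upwards [hVev] with i hi
    have : i.pt ∈ ((f ⁻¹ᵁ V : X.Opens) : Set X) := by rw [Pts.pt_map] at hi; exact hi
    rw [hs] at this
    simpa using this
  obtain ⟨U₀, hUs, hUev⟩ := (Ultrafilter.eventually_exists_mem_iff hsfin).mp hex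
  obtain ⟨U, hUaff⟩ := U₀
  change ∀ᶠ i in (𝒰 : Filter (Pts X)), i.pt ∈ U at hUev
  have hUV : U ≤ f ⁻¹ᵁ V := by
    intro p hp
    have : p ∈ ((f ⁻¹ᵁ V : X.Opens) : Set X) := by
      rw [hs]
      exact Set.mem_biUnion hUs hp
    exact this
  -- Step 2: ring homomorphisms
  let φ : Γ(X, U) →+* K 𝒰 := evGHom 𝒰 id U hUev
  let ψ₀ : Γ(Y, V) →+* K 𝒰 := evGHom 𝒰 (Pts.map f) V hVev
  have htend : ∀ b : Γ(Y, V),
      Tendsto (fun i => evD V b (Pts.map f i)) 𝒰 (𝓝 (evD V b y)) := by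
    intro b
    have hc : ContinuousAt (evD V b) y :=
      (continuousOn_evD V b).continuousAt ((Pts.isOpen_preimage_pt V).mem_nhds hyV)
    exact hc.tendsto.comp hy
  have hψO : ∀ b, ψ₀ b ∈ O 𝒰 := fun b => (mem_O 𝒰).mpr (isFin_of_tendsto (htend b))
  let ψ : Γ(Y, V) →+* O 𝒰 := ψ₀.codRestrict (O 𝒰) hψO
  have hstψ : ∀ b, stHom 𝒰 (ψ b) = y.ev V hyV b := by
    intro b
    have := stHom_of_tendsto 𝒰 (htend b) (hψO b)
    rw [evD_of_mem b hyV] at this
    exact this
  -- Step 3: the valuative square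
  let i₁ : Spec (.of (K 𝒰)) ⟶ X := Spec.map (CommRingCat.ofHom φ) ≫ hUaff.fromSpec
  let i₂ : Spec (.of (O 𝒰)) ⟶ Y := Spec.map (CommRingCat.ofHom ψ) ≫ hV.fromSpec
  have hsq : CommSq i₁ (Spec.map (CommRingCat.ofHom (algebraMap (O 𝒰) (K 𝒰)))) f i₂ := ⟨by
    change (Spec.map (CommRingCat.ofHom φ) ≫ hUaff.fromSpec) ≫ f =
      Spec.map (CommRingCat.ofHom (algebraMap (O 𝒰) (K 𝒰))) ≫
        Spec.map (CommRingCat.ofHom ψ) ≫ hV.fromSpec
    rw [Category.assoc, ← IsAffineOpen.SpecMap_appLE_fromSpec f hV hUaff hUV, ← Category.assoc,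
      ← Category.assoc, ← Spec.map_comp, ← Spec.map_comp]
    congr 2
    ext b
    change φ (f.appLE V U hUV b) = ((ψ b : O 𝒰) : K 𝒰)
    exact Germ.coe_eq.mpr (hUev.mono fun i hi => evD_appLE f V U hUV b i hi)⟩
  let S : ValuativeCommSq f :=
    { R := O 𝒰, K := K 𝒰, i₁ := i₁, i₂ := i₂, commSq := hsq }
  have hExist : ValuativeCriterion.Existence f := by
    have h : (ValuativeCriterion.Existence ⊓ @QuasiCompact) f := by
      rw [← UniversallyClosed.eq_valuativeCriterion]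
      infer_instance
    exact h.1
  obtain ⟨⟨l, hl1, hl2⟩⟩ := (hExist S).exists_lift
  change Spec.map (CommRingCat.ofHom (algebraMap (O 𝒰) (K 𝒰))) ≫ l = i₁ at hl1
  change l ≫ f = i₂ at hl2
  -- Step 4: the limit point
  let stC : CommRingCat.of (O 𝒰) ⟶ CommRingCat.of ℂ := CommRingCat.ofHom (stHom 𝒰)
  have hfy : (Spec.map stC ≫ l) ≫ f = y.1 := by
    rw [Category.assoc, hl2]
    change Spec.map stC ≫ Spec.map (CommRingCat.ofHom ψ) ≫ hV.fromSpec = y.1
    have hyV' : y.1 ⁻¹ᵁ V = ⊤ := Pts.preimage_eq_top y hyV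
    rw [eq_SpecMap_rev_fromSpec y.1 hV hyV', ← Category.assoc, ← Spec.map_comp]
    congr 2
    ext b
    exact hstψ b
  let xl : Pts X := ⟨Spec.map stC ≫ l, by rw [← comp_over f, ← Category.assoc, hfy, y.2]⟩
  refine ⟨xl, Subtype.ext hfy, ?_⟩
  -- Step 5: convergence
  have hcl : (Spec.map stC) cpt = IsLocalRing.closedPoint (O 𝒰) := by
    apply PrimeSpectrum.ext
    have hmax : (RingHom.ker (stHom 𝒰)).IsMaximal :=
      RingHom.ker_isMaximal_of_surjective _ (stHom_surjective 𝒰)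
    have h1 := IsLocalRing.eq_maximalIdeal hmax
    change Ideal.comap (stHom 𝒰) (cpt : PrimeSpectrum ℂ).asIdeal = IsLocalRing.maximalIdeal _
    rw [← h1]
    have hbot : (cpt : PrimeSpectrum ℂ).asIdeal = ⊥ := by
      have := Ideal.eq_bot_or_top (cpt : PrimeSpectrum ℂ).asIdeal
      rcases this with h | h
      · exact h
      · exact absurd h (cpt : PrimeSpectrum ℂ).2.ne_top
    rw [hbot]
    rfl
  have htop : ∀ W : X.Opens, xl.pt ∈ W → l ⁻¹ᵁ W = ⊤ := by
    intro W hW
    have h1 : IsLocalRing.closedPoint (O 𝒰) ∈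
        (show Opens (PrimeSpectrum (O 𝒰)) from l ⁻¹ᵁ W) := by
      rw [← hcl]
      change l ((Spec.map stC) cpt) ∈ W
      rw [← Scheme.Hom.comp_apply]
      exact hW
    exact (IsLocalRing.closedPoint_mem_iff _).mp h1
  have key : ∀ (W : X.Opens) (hW : xl.pt ∈ W) (c : Γ(X, W)),
      (∀ᶠ i in (𝒰 : Filter (Pts X)), i.pt ∈ W) ∧
        Tendsto (fun i => evD W c i) 𝒰 (𝓝 (xl.ev W hW c)) := by
    intro W hW c
    have hlW := htop W hW
    let j : Spec (.of (K 𝒰)) ⟶ X :=
      Spec.map (CommRingCat.ofHom (algebraMap (O 𝒰) (K 𝒰))) ≫ l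
    have hj : j = i₁ := hl1
    have hjW : j ⁻¹ᵁ W = ⊤ := preimage_comp_eq_top _ l W hlW
    have hi₁U : i₁ ⁻¹ᵁ U = ⊤ := preimage_SpecMap_fromSpec hUaff _
    have hjU : j ⁻¹ᵁ U = ⊤ := by rw [hj]; exact hi₁U
    have hjφ : ∀ a, rev j U hjU a = φ a := by
      intro a
      rw [rev_congr hj U hjU hi₁U, rev_SpecMap_fromSpec hUaff (CommRingCat.ofHom φ) hi₁U]
      rfl
    let pt0 : Spec (.of (K 𝒰)) := (⊥ : PrimeSpectrum (K 𝒰))
    have hqW : j pt0 ∈ W := by
      have : pt0 ∈ j ⁻¹ᵁ W := by rw [hjW]; trivial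
      exact this
    have hqU : j pt0 ∈ U := by
      have : pt0 ∈ j ⁻¹ᵁ U := by rw [hjU]; trivial
      exact this
    obtain ⟨a, haW, hqa⟩ := hUaff.exists_basicOpen_le ⟨j pt0, hqW⟩ hqU
    have hDU : X.basicOpen a ≤ U := X.basicOpen_le a
    have hjD : j ⁻¹ᵁ (X.basicOpen a) = ⊤ := by
      rw [eq_top_iff]
      intro p _
      have : p = pt0 := Subsingleton.elim (α := PrimeSpectrum (K 𝒰)) _ _
      rw [this]
      exact hqa
    have hne : φ a ≠ 0 := by
      rw [← hjφ a]
      exact (preimage_basicOpen_eq_top_iff j U hjU a).mp hjD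
    have hDev : ∀ᶠ i in (𝒰 : Filter (Pts X)), i.pt ∈ X.basicOpen a := by
      have h1 : ∀ᶠ i in (𝒰 : Filter (Pts X)), evD U a i ≠ 0 := (coe_ne_zero_iff 𝒰).mp hne
      filter_upwards [h1, hUev] with i hi1 hi2
      rw [evD_of_mem a hi2] at hi1
      exact (mem_basicOpen_iff_ev_ne_zero i U hi2 a).mpr hi1
    refine ⟨hDev.mono fun i hi => haW hi, ?_⟩
    haveI := hUaff.isLocalization_basicOpen a
    obtain ⟨⟨b, ⟨_, n, rfl⟩⟩, hb⟩ := IsLocalization.surj (Submonoid.powers a)
      (X.presheaf.map (homOfLE haW).op c)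
    -- the relation at the `K`-point
    have hK : rev j W hjW c * (φ a) ^ n = φ b := by
      have h1 := congrArg (rev j (X.basicOpen a) hjD) hb
      simp only [map_mul, map_pow] at h1
      have h2 : ∀ d : Γ(X, U), rev j (X.basicOpen a) hjD
          (algebraMap Γ(X, U) Γ(X, X.basicOpen a) d) = rev j U hjU d :=
        fun d => rev_res j hDU hjD hjU d
      have h3 : rev j (X.basicOpen a) hjD (X.presheaf.map (homOfLE haW).op c) =
          rev j W hjW c := rev_res j haW hjD hjW c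
      rw [h2, h2, h3, hjφ, hjφ] at h1
      exact h1
    -- the relation pointwise
    have hpt : ∀ (i : Pts X) (hi : i.pt ∈ X.basicOpen a),
        evD W c i * (evD U a i) ^ n = evD U b i := by
      intro i hi
      have h1 := congrArg (evRingHom i (X.basicOpen a) hi) hb
      simp only [map_mul, map_pow] at h1
      have h2 : ∀ d : Γ(X, U), evRingHom i (X.basicOpen a) hi
          (algebraMap Γ(X, U) Γ(X, X.basicOpen a) d) = i.ev U (hDU hi) d :=
        fun d => ev_res i hDU hi d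
      have h3 : evRingHom i (X.basicOpen a) hi (X.presheaf.map (homOfLE haW).op c) =
          i.ev W (haW hi) c := ev_res i haW hi c
      rw [h2, h2, h3] at h1
      rw [evD_of_mem c (haW hi), evD_of_mem a (hDU hi), evD_of_mem b (hDU hi)]
      exact h1
    have hG : ((fun i => evD W c i : Pts X → ℂ) : K 𝒰) * (φ a) ^ n = φ b := by
      change ((fun i => evD W c i : Pts X → ℂ) : K 𝒰) *
        ((fun i => evD U a i : Pts X → ℂ) : K 𝒰) ^ n = ((fun i => evD U b i : Pts X → ℂ) : K 𝒰)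
      rw [← Germ.coe_pow, ← Germ.coe_mul]
      exact Germ.coe_eq.mpr (hDev.mono fun i hi => hpt i hi)
    have heq : ((fun i => evD W c i : Pts X → ℂ) : K 𝒰) = rev j W hjW c :=
      mul_right_cancel₀ (pow_ne_zero n hne) (hG.trans hK.symm)
    have hjl : rev j W hjW c = ((rev l W hlW c : O 𝒰) : K 𝒰) :=
      rev_comp (CommRingCat.ofHom (algebraMap (O 𝒰) (K 𝒰))) l W hlW c
    have hmem : ((fun i => evD W c i : Pts X → ℂ) : K 𝒰) ∈ O 𝒰 := by
      rw [heq, hjl]
      exact (rev l W hlW c).2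
    have ht := tendsto_stHom 𝒰 hmem
    have hval : stHom 𝒰 ⟨((fun i => evD W c i : Pts X → ℂ) : K 𝒰), hmem⟩ = xl.ev W hW c := by
      have h1 : (⟨((fun i => evD W c i : Pts X → ℂ) : K 𝒰), hmem⟩ : O 𝒰) = rev l W hlW c :=
        Subtype.ext (heq.trans hjl)
      rw [h1]
      exact (rev_comp stC l W hlW c).symm
    rw [hval] at ht
    exact ht
  have hn := @TopologicalSpace.nhds_generateFrom (Pts X)
    {S | ∃ (U : X.Opens) (f : Γ(X, U)) (V : Set ℂ), IsOpen V ∧ S = Pts.basicSet U f V} xl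
  rw [show 𝓝 xl = _ from hn]
  refine le_iInf₂ fun s hs => ?_
  obtain ⟨hxs, W, c, T, hT, rfl⟩ := hs
  obtain ⟨hW, hcT⟩ := hxs
  rw [le_principal_iff]
  obtain ⟨hWev, htd⟩ := key W hW c
  have h1 : ∀ᶠ i in (𝒰 : Filter (Pts X)), evD W c i ∈ T := htd.eventually (hT.mem_nhds hcT)
  filter_upwards [hWev, h1] with i hi1 hi2
  exact ⟨hi1, by rwa [evD_of_mem c hi1] at hi2⟩

end Groth.Agent.Lib.Helper67.AnVal
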