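import Groth.Agent.Lib.Helper67.RegFlat4

set_option autoImplicit false
set_option linter.style.haveILetI false
set_option linter.unusedSectionVars false

universe u v w

namespace Groth.Agent.Lib.Helper67

open RingTheory.Sequence LocCoh TensorProduct IsLocalRing
open scoped Pointwise

section ArtinReg

variable {R : Type u} {S : Type v} [CommRing R] [CommRing S] [Algebra R S] [IsLocalRing R]
  [IsArtinianRing R]
  (N : Type w) [AddCommGroup N] [Module S N] [Module R N] [IsScalarTower R S N] [Module.Flat R N]

omit [IsLocalRing R] in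
theorem isFiniteLength_of_artinian (M : Type*) [AddCommGroup M] [Module R M] [Module.Finite R M] :
    IsFiniteLength R M := by
  rw [isFiniteLength_iff_isNoetherian_isArtinian]
  exact ⟨inferInstance, inferInstance⟩

theorem isSMulRegular_tensor_of_fibre_artin (y : S)
    (hy : IsSMulRegular (N ⊗[R] (R ⧸ maximalIdeal R)) y)
    (M : Type*) [AddCommGroup M] [Module R M] [Module.Finite R M] :
    IsSMulRegular (N ⊗[R] M) y :=
  isSMulRegular_tensor_of_isFiniteLength N y hy (isFiniteLength_of_artinian M)

theorem isSMulRegular_of_fibre_artin (y : S)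
    (hy : IsSMulRegular (N ⊗[R] (R ⧸ maximalIdeal R)) y) : IsSMulRegular N y :=
  ((AlgebraTensorModule.rid R S N).isSMulRegular_congr y).mp
    (isSMulRegular_tensor_of_fibre_artin N y hy R)

theorem flat_quotSMulTop_artin (y : S)
    (hy : IsSMulRegular (N ⊗[R] (R ⧸ maximalIdeal R)) y) :
    Module.Flat R (QuotSMulTop y N) := by
  rw [Module.Flat.iff_lTensor_injective']
  intro I
  rw [injective_iff_map_eq_zero]
  intro w hw
  obtain ⟨w', rfl⟩ := quotTensorMap_surjective (R := R) N y I w
  rw [← quotTensorMap_lTensor] at hw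
  have hu0 : LinearMap.lTensor N I.subtype w' ∈ LinearMap.ker (quotTensorMap (R := R) N y R) :=
    LinearMap.mem_ker.mpr hw
  rw [ker_quotTensorMap, Submodule.mem_smul_pointwise_iff_exists] at hu0
  obtain ⟨u', -, hu'⟩ := hu0
  have hex := lTensor_exact N (LinearMap.exact_subtype_mkQ I) (Submodule.mkQ_surjective I)
  have hq0 : LinearMap.lTensor N I.mkQ (LinearMap.lTensor N I.subtype w') = 0 :=
    (hex _).mpr ⟨w', rfl⟩
  have hreg : IsSMulRegular (N ⊗[R] (R ⧸ I)) y :=
    isSMulRegular_tensor_of_fibre_artin N y hy (R ⧸ I)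
  have hq1 : LinearMap.lTensor N I.mkQ u' = 0 := by
    apply hreg.right_eq_zero_of_smul
    have : y • (LinearMap.lTensor N I.mkQ u') = LinearMap.lTensor N I.mkQ (y • u') := by
      have := (AlgebraTensorModule.lTensor S N I.mkQ).map_smul y u'
      exact this.symm
    rw [this, hu', hq0]
  obtain ⟨w'', hw''⟩ := (hex u').mp hq1
  have hinj : Function.Injective (LinearMap.lTensor N I.subtype) :=
    Module.Flat.lTensor_preserves_injective_linearMap _ (Submodule.injective_subtype _)
  have hw'eq : w' = y • w'' := by
    apply hinj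
    have : LinearMap.lTensor N I.subtype (y • w'') = y • LinearMap.lTensor N I.subtype w'' :=
      (AlgebraTensorModule.lTensor S N I.subtype).map_smul y w''
    rw [this, hw'', hu']
  rw [hw'eq, map_smul]
  exact smul_quotSMulTop_tensor_eq_zero N y _

omit [Algebra R S] in
theorem exists_socle_element : ∃ t : R, t ≠ 0 ∧ ∀ a ∈ maximalIdeal R, a * t = 0 := by
  classical
  have h : ∃ n : ℕ, maximalIdeal R ^ n = ⊥ := by
    have h := IsArtinianRing.isNilpotent_jacobson_bot (R := R)
    rwa [IsLocalRing.jacobson_eq_maximalIdeal ⊥ bot_ne_top] at h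
  have hn := Nat.find_spec h
  have hn0 : Nat.find h ≠ 0 := by
    intro h0
    rw [h0, pow_zero, Ideal.one_eq_top] at hn
    exact top_ne_bot hn
  obtain ⟨k, hk⟩ := Nat.exists_eq_succ_of_ne_zero hn0
  have hmin : maximalIdeal R ^ k ≠ ⊥ := Nat.find_min h (by rw [hk]; exact Nat.lt_succ_self k)
  obtain ⟨t, ht, ht0⟩ := Submodule.exists_mem_ne_zero_of_ne_bot hmin
  refine ⟨t, ht0, fun a ha => ?_⟩
  have : a * t ∈ maximalIdeal R ^ (k + 1) := by
    rw [pow_succ']
    exact Ideal.mul_mem_mul ha ht
  rw [← Nat.succ_eq_add_one, ← hk, hn] at this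
  exact this

/-- regular on a flat module over an Artin local ring ⟹ regular on the closed fibre. -/
theorem isSMulRegular_fibre_of_isSMulRegular_artin (y : S) (hy : IsSMulRegular N y) :
    IsSMulRegular (N ⊗[R] (R ⧸ maximalIdeal R)) y := by
  obtain ⟨t, ht0, ht⟩ := exists_socle_element (R := R)
  have hle : maximalIdeal R ≤ LinearMap.ker (LinearMap.toSpanSingleton R R t) := by
    intro a ha
    rw [LinearMap.mem_ker, LinearMap.toSpanSingleton_apply, smul_eq_mul]
    exact ht a ha
  set g : (R ⧸ maximalIdeal R) →ₗ[R] R :=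
    Submodule.liftQ (maximalIdeal R) (LinearMap.toSpanSingleton R R t) hle with hg
  have hginj : Function.Injective g := by
    rw [← LinearMap.ker_eq_bot, LinearMap.ker_eq_bot']
    intro x hx
    obtain ⟨r, rfl⟩ := Submodule.mkQ_surjective _ x
    rw [Submodule.mkQ_apply, Submodule.Quotient.mk_eq_zero]
    by_contra hr
    have hu : IsUnit r := by
      by_contra hnu
      exact hr ((IsLocalRing.mem_maximalIdeal r).mpr hnu)
    have h1 : r * t = 0 := hx
    exact ht0 ((hu.mul_right_eq_zero).mp h1)
  have hinj : Function.Injective (AlgebraTensorModule.lTensor S N g) := by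
    rw [AlgebraTensorModule.coe_lTensor]
    exact Module.Flat.lTensor_preserves_injective_linearMap _ hginj
  have hregT : IsSMulRegular (N ⊗[R] R) y :=
    ((AlgebraTensorModule.rid R S N).isSMulRegular_congr y).mpr hy
  exact hregT.of_injective (AlgebraTensorModule.lTensor S N g) hinj

/-- fibre criterion over an Artin local base, no finiteness: one element. -/
theorem isSMulRegular_and_flat_of_fibre_artin (y : S)
    (hy : IsSMulRegular (N ⧸ (maximalIdeal R).map (algebraMap R S) • (⊤ : Submodule S N)) y) :
    IsSMulRegular N y ∧ Module.Flat R (QuotSMulTop y N) := by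
  have hy' : IsSMulRegular (N ⊗[R] (R ⧸ maximalIdeal R)) y :=
    ((fibreEquiv N (maximalIdeal R)).isSMulRegular_congr y).mp hy
  exact ⟨isSMulRegular_of_fibre_artin N y hy', flat_quotSMulTop_artin N y hy'⟩

end ArtinReg

section ArtinSeq

variable {R : Type u} {S : Type v} [CommRing R] [CommRing S] [Algebra R S] [IsLocalRing R]
  [IsArtinianRing R]

/-- fibre criterion over an Artin local base (no finiteness hypotheses): a sequence regular on the
closed fibre of a flat module is regular, with flat quotients. -/
theorem isWeaklyRegular_and_flat_of_fibre_artin' (fs : List S) :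
    ∀ (N : Type w) [AddCommGroup N] [Module S N] [Module R N] [IsScalarTower R S N]
      [Module.Flat R N],
      IsWeaklyRegular (N ⧸ (maximalIdeal R).map (algebraMap R S) • (⊤ : Submodule S N)) fs →
      IsWeaklyRegular N fs ∧
        ∀ i ≤ fs.length, Module.Flat R (N ⧸ (Ideal.ofList (fs.take i) • (⊤ : Submodule S N))) := by
  induction fs with
  | nil =>
    intro N _ _ _ _ _ _
    refine ⟨IsWeaklyRegular.nil S N, fun i hi => ?_⟩
    have hi0 : i = 0 := by simpa using hi
    subst hi0
    have hbot : Ideal.ofList (List.take 0 ([] : List S)) • (⊤ : Submodule S N) = ⊥ := by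
      simp
    exact Module.Flat.of_linearEquiv
      ((Submodule.quotEquivOfEqBot _ hbot).restrictScalars R)
  | cons f fs ih =>
    intro N _ _ _ _ _ h
    rw [isWeaklyRegular_cons_iff] at h ⊢
    obtain ⟨hf, hfs⟩ := h
    obtain ⟨hfN, hflat⟩ := isSMulRegular_and_flat_of_fibre_artin N f hf
    haveI := hflat
    have hfs' := ((quotSMulTopFibreEquiv' (R := R) N f (maximalIdeal R)).isWeaklyRegular_congr
      fs).mp hfs
    obtain ⟨h1, h2⟩ := ih (QuotSMulTop f N) hfs'
    refine ⟨⟨hfN, h1⟩, fun i hi => ?_⟩
    rcases i with _ | j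
    · have hbot : Ideal.ofList (List.take 0 (f :: fs)) • (⊤ : Submodule S N) = ⊥ := by
        simp
      exact Module.Flat.of_linearEquiv
        ((Submodule.quotEquivOfEqBot _ hbot).restrictScalars R)
    · have hj : j ≤ fs.length := by simpa using hi
      have h3 := h2 j hj
      rw [List.take_succ_cons]
      exact Module.Flat.of_linearEquiv
        ((Submodule.quotOfListConsSMulTopEquivQuotSMulTopInner N f (fs.take j)).restrictScalars R)

/-- conversely a regular sequence on a flat module over an Artin local ring is regular on the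
closed fibre. -/
theorem isWeaklyRegular_fibre_of_isWeaklyRegular_artin (fs : List S) :
    ∀ (N : Type w) [AddCommGroup N] [Module S N] [Module R N] [IsScalarTower R S N]
      [Module.Flat R N], IsWeaklyRegular N fs →
      IsWeaklyRegular (N ⧸ (maximalIdeal R).map (algebraMap R S) • (⊤ : Submodule S N)) fs := by
  induction fs with
  | nil =>
    intro N _ _ _ _ _ _
    exact IsWeaklyRegular.nil S _
  | cons f fs ih =>
    intro N _ _ _ _ _ h
    rw [isWeaklyRegular_cons_iff] at h ⊢
    obtain ⟨hf, hfs⟩ := h
    have hf' : IsSMulRegular (N ⧸ (maximalIdeal R).map (algebraMap R S) •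
        (⊤ : Submodule S N)) f :=
      ((fibreEquiv N (maximalIdeal R)).isSMulRegular_congr f).mpr
        (isSMulRegular_fibre_of_isSMulRegular_artin N f hf)
    haveI : Module.Flat R (QuotSMulTop f N) := (isSMulRegular_and_flat_of_fibre_artin N f hf').2
    refine ⟨hf', ?_⟩
    exact ((quotSMulTopFibreEquiv' (R := R) N f (maximalIdeal R)).isWeaklyRegular_congr fs).mpr
      (ih (QuotSMulTop f N) hfs)

theorem isWeaklyRegular_iff_fibre_artin (fs : List S) (N : Type w) [AddCommGroup N] [Module S N]
    [Module R N] [IsScalarTower R S N] [Module.Flat R N] :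
    IsWeaklyRegular N fs ↔
      IsWeaklyRegular (N ⧸ (maximalIdeal R).map (algebraMap R S) • (⊤ : Submodule S N)) fs :=
  ⟨isWeaklyRegular_fibre_of_isWeaklyRegular_artin fs N,
    fun h => (isWeaklyRegular_and_flat_of_fibre_artin' fs N h).1⟩

end ArtinSeq

end Groth.Agent.Lib.Helper67
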