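import Groth.Agent.Lib.Helper67.ArtinReg
import Mathlib.RingTheory.TensorProduct.Quotient

set_option autoImplicit false
set_option linter.style.haveILetI false
set_option linter.unusedSectionVars false

universe u v w

namespace Groth.Agent.Lib.Helper67

open RingTheory.Sequence LocCoh TensorProduct IsLocalRing
open scoped Pointwise

section ArtinQuot

variable {A' : Type u} [CommRing A'] [IsArtinianRing A'] [IsLocalRing A'] (I : Ideal A')
  {S' : Type v} [CommRing S'] [Algebra A' S']

theorem maximalIdeal_quotient_eq (hI : I ≠ ⊤) :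
    haveI : IsLocalRing (A' ⧸ I) :=
      haveI : Nontrivial (A' ⧸ I) := Ideal.Quotient.nontrivial_iff.mpr hI
      IsLocalRing.of_surjective' (Ideal.Quotient.mk I) Ideal.Quotient.mk_surjective
    maximalIdeal (A' ⧸ I) = (maximalIdeal A').map (Ideal.Quotient.mk I) := by
  haveI : Nontrivial (A' ⧸ I) := Ideal.Quotient.nontrivial_iff.mpr hI
  haveI : IsLocalRing (A' ⧸ I) :=
    IsLocalRing.of_surjective' (Ideal.Quotient.mk I) Ideal.Quotient.mk_surjective
  have hsurj : Function.Surjective (Ideal.Quotient.mk I) := Ideal.Quotient.mk_surjective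
  haveI hloc : IsLocalHom (Ideal.Quotient.mk I) := IsLocalHom.of_surjective _ hsurj
  apply le_antisymm
  · intro x hx
    obtain ⟨a, rfl⟩ := hsurj x
    refine Ideal.mem_map_of_mem _ ?_
    rw [IsLocalRing.mem_maximalIdeal, mem_nonunits_iff] at hx ⊢
    exact fun h => hx (h.map _)
  · rw [Ideal.map_le_iff_le_comap]
    intro a ha
    rw [Ideal.mem_comap, IsLocalRing.mem_maximalIdeal, mem_nonunits_iff] at *
    exact fun h => ha (isUnit_of_map_unit (Ideal.Quotient.mk I) a h)

/-- **Regular sequences on a flat algebra over an Artin local ring can be tested modulo any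
proper ideal of the base** (S13133, weak form). -/
theorem isWeaklyRegular_quotient_iff_artin (hI : I ≠ ⊤) [Module.Flat A' S'] (fs : List S') :
    IsWeaklyRegular S' fs ↔
      IsWeaklyRegular (S' ⧸ I.map (algebraMap A' S'))
        (fs.map (Ideal.Quotient.mk (I.map (algebraMap A' S')))) := by
  haveI : Nontrivial (A' ⧸ I) := Ideal.Quotient.nontrivial_iff.mpr hI
  haveI : IsLocalRing (A' ⧸ I) :=
    IsLocalRing.of_surjective' (Ideal.Quotient.mk I) Ideal.Quotient.mk_surjective
  haveI : Module.Flat (A' ⧸ I) (S' ⧸ I.map (algebraMap A' S')) :=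
    Module.Flat.of_linearEquiv
      (Algebra.TensorProduct.quotIdealMapEquivQuotTensor S' I).toLinearEquiv
  have hIm : I ≤ maximalIdeal A' := IsLocalRing.le_maximalIdeal hI
  have hle : I.map (algebraMap A' S') ≤ (maximalIdeal A').map (algebraMap A' S') :=
    Ideal.map_mono hIm
  have heq : (maximalIdeal (A' ⧸ I)).map
      (algebraMap (A' ⧸ I) (S' ⧸ I.map (algebraMap A' S'))) =
      ((maximalIdeal A').map (algebraMap A' S')).map
        (Ideal.Quotient.mk (I.map (algebraMap A' S'))) := by
    rw [maximalIdeal_quotient_eq I hI, Ideal.map_map, Ideal.map_map]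
    congr 1
  rw [isWeaklyRegular_iff_fibre_artin (R := A') fs S',
    isWeaklyRegular_iff_fibre_artin (R := A' ⧸ I)
      (fs.map (Ideal.Quotient.mk (I.map (algebraMap A' S')))) (S' ⧸ I.map (algebraMap A' S')),
    heq]
  rw [← (quotQuotSMulTopEquiv _ _ hle).isWeaklyRegular_congr fs]
  exact (isWeaklyRegular_map_algebraMap_iff (S' ⧸ I.map (algebraMap A' S')) _ fs).symm

omit [IsArtinianRing A'] [IsLocalRing A'] in
theorem ofList_eq_top_of_map_eq_top (hnil : IsNilpotent I) (fs : List S')
    (h : Ideal.ofList (fs.map (Ideal.Quotient.mk (I.map (algebraMap A' S')))) = ⊤) :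
    Ideal.ofList fs = ⊤ := by
  rw [← Ideal.map_ofList] at h
  have h1 := congrArg (Ideal.comap (Ideal.Quotient.mk (I.map (algebraMap A' S')))) h
  rw [Ideal.comap_map_of_surjective _ Ideal.Quotient.mk_surjective, Ideal.comap_top,
    ← RingHom.ker_eq_comap_bot, Ideal.mk_ker] at h1
  have h2 : (1 : S') ∈ Ideal.ofList fs ⊔ I.map (algebraMap A' S') := by
    rw [h1]
    exact Submodule.mem_top
  obtain ⟨a, ha, b, hb, hab⟩ := Submodule.mem_sup.mp h2
  obtain ⟨n, hn⟩ := hnil
  have hbn : b ^ n = 0 := by
    have h3 := Ideal.pow_mem_pow hb n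
    rw [← Ideal.map_pow, hn, Ideal.zero_eq_bot, Ideal.map_bot] at h3
    exact h3
  have hu : IsUnit a := by
    have : a = 1 - b := by rw [← hab]; ring
    rw [this]
    exact IsNilpotent.isUnit_one_sub ⟨n, hbn⟩
  exact Ideal.eq_top_of_isUnit_mem _ ha hu

/-- **S13133**: regular sequences on a flat algebra over an Artin local ring can be tested modulo
any proper ideal of the base. -/
theorem isRegular_quotient_iff_artin (hI : I ≠ ⊤) [Module.Flat A' S'] (fs : List S') :
    IsRegular S' fs ↔
      IsRegular (S' ⧸ I.map (algebraMap A' S'))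
        (fs.map (Ideal.Quotient.mk (I.map (algebraMap A' S')))) := by
  have hnil : IsNilpotent I := by
    have h := IsArtinianRing.isNilpotent_jacobson_bot (R := A')
    rw [IsLocalRing.jacobson_eq_maximalIdeal ⊥ bot_ne_top] at h
    obtain ⟨n, hn⟩ := h
    refine ⟨n, ?_⟩
    rw [Ideal.zero_eq_bot, ← le_bot_iff, ← Ideal.zero_eq_bot, ← hn]
    exact Ideal.pow_right_mono (IsLocalRing.le_maximalIdeal hI) n
  constructor
  · intro h
    refine ⟨(isWeaklyRegular_quotient_iff_artin I hI fs).mp h.toIsWeaklyRegular, fun htop => ?_⟩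
    apply h.top_ne_smul
    have h1 : Ideal.ofList (fs.map (Ideal.Quotient.mk (I.map (algebraMap A' S')))) = ⊤ := by
      have := htop.symm
      rwa [smul_eq_mul, Ideal.mul_top] at this
    rw [ofList_eq_top_of_map_eq_top I hnil fs h1, smul_eq_mul, Ideal.mul_top]
  · intro h
    exact isRegular_of_isWeaklyRegular_of_isRegular_map
      (Ideal.Quotient.mk (I.map (algebraMap A' S'))) fs
      ((isWeaklyRegular_quotient_iff_artin I hI fs).mpr h.toIsWeaklyRegular) h

end ArtinQuot

end Groth.Agent.Lib.Helper67
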