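import Groth.Agent.Lib.Helper67.CM

/-!
# Cohen–Macaulay modules, part 2 (helper67)
-/

universe u v w

namespace Groth.Agent.Lib.Helper67

open RingTheory.Sequence LocCoh
open scoped Pointwise

section Supp

variable {R : Type u} [CommRing R]

/-- `dim M/pM = dim R/p` for `p ∈ Supp M`. -/
theorem supportDim_quotient_prime_smul_top (M : Type v) [AddCommGroup M] [Module R M]
    [Module.Finite R M] (p : PrimeSpectrum R) (hp : p ∈ Module.support R M) :
    Module.supportDim R (M ⧸ (p.asIdeal • (⊤ : Submodule R M))) = ringKrullDim (R ⧸ p.asIdeal) := by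
  rw [ringKrullDim_quotient]
  unfold Module.supportDim
  rw [Module.support_quotient]
  have : Module.support R M ∩ PrimeSpectrum.zeroLocus (p.asIdeal : Set R) =
      PrimeSpectrum.zeroLocus (p.asIdeal : Set R) := by
    apply Set.inter_eq_right.mpr
    intro q hq
    exact Module.mem_support_mono (by simpa using hq) hp
  rw [this]

end Supp

section CM5760

variable {R : Type u} [CommRing R] [IsLocalRing R] [IsNoetherianRing R]

theorem withBot_enat_add_natCast_cancel {a b : WithBot ℕ∞} (r : ℕ) (h : a + r = b + r) : a = b := by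
  induction r with
  | zero => simpa using h
  | succ r ih =>
    apply ih
    apply withBot_enat_add_one_cancel
    rw [add_assoc, add_assoc]
    exact_mod_cast h

theorem idealDepth_eq_of_supportDim_of_CM (M : Type u) [AddCommGroup M] [Module R M]
    [Module.Finite R M] (hM : IsCohenMacaulayModule R M) (I : Ideal R) (hI : I ≠ ⊤) (r : ℕ)
    (hr : Module.supportDim R (M ⧸ (I • (⊤ : Submodule R M))) + r = Module.supportDim R M) :
    idealDepth I M = r := by
  have hnt := nontrivial_of_isCohenMacaulayModule hM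
  have h1 := supportDim_eq_add_idealDepth_of_CM M hM I hI
  obtain ⟨n, hn⟩ := ENat.ne_top_iff_exists.mp (idealDepth_ne_top_of_ne_top M hI)
  rw [← hn] at h1 ⊢
  rw [h1] at hr
  have hIM := prime_smul_top_ne_top M hI
  have hntQ : Nontrivial (M ⧸ (I • (⊤ : Submodule R M))) :=
    Submodule.Quotient.nontrivial_iff.mpr hIM
  obtain ⟨k, hk⟩ := supportDim_eq_natCast (R := R) (M ⧸ (I • (⊤ : Submodule R M)))
  rw [hk] at hr
  have h2 : ((k + r : ℕ) : WithBot ℕ∞) = ((k + n : ℕ) : WithBot ℕ∞) := by
    push_cast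
    exact hr
  have h3 : k + r = k + n := by exact_mod_cast h2
  have : n = r := by omega
  rw [this]

theorem result_S5760 (M : Type u) [AddCommGroup M] [Module R M] [Module.Finite R M]
    (hM : IsCohenMacaulayModule R M) (p : PrimeSpectrum R) (hp : p ∈ Module.support R M) (r : ℕ)
    (hr : Module.supportDim R (M ⧸ (p.asIdeal • (⊤ : Submodule R M))) + r =
      Module.supportDim R M) :
    (∃ xs : List R, xs.length = r ∧ (∀ x ∈ xs, x ∈ p.asIdeal) ∧ IsWeaklyRegular M xs) ∧
      ∀ xs : List R, xs.length = r → (∀ x ∈ xs, x ∈ p.asIdeal) → IsWeaklyRegular M xs →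
        Module.supportDim R (M ⧸ (Ideal.ofList xs • (⊤ : Submodule R M))) =
            Module.supportDim R (M ⧸ (p.asIdeal • (⊤ : Submodule R M))) ∧
          Module.supportDim R (M ⧸ (p.asIdeal • (⊤ : Submodule R M))) =
            ringKrullDim (R ⧸ p.asIdeal) ∧
          p.asIdeal ∈ associatedPrimes R (M ⧸ (Ideal.ofList xs • (⊤ : Submodule R M))) ∧
          ∀ q ∈ associatedPrimes R (M ⧸ (Ideal.ofList xs • (⊤ : Submodule R M))),
            q ≤ p.asIdeal → q = p.asIdeal := by
  have hnt := nontrivial_of_isCohenMacaulayModule hM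
  have hpM : p.asIdeal • (⊤ : Submodule R M) ≠ ⊤ := prime_smul_top_ne_top M p.2.ne_top
  have hdepth := idealDepth_eq_of_supportDim_of_CM M hM p.asIdeal p.2.ne_top r hr
  have hdimp := supportDim_quotient_prime_smul_top M p hp
  refine ⟨?_, ?_⟩
  · have h1 : (r : ℕ∞) ≤ idealDepth p.asIdeal M := by rw [hdepth]
    rw [le_idealDepth_iff] at h1
    rcases h1 with h1 | ⟨xs, hlen, hreg, hmem⟩
    · exact absurd h1 hpM
    · exact ⟨xs, hlen, hmem, hreg⟩
  · intro xs hlen hmem hreg
    have hmemm : ∀ x ∈ xs, x ∈ IsLocalRing.maximalIdeal R :=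
      fun x hx => IsLocalRing.le_maximalIdeal p.2.ne_top (hmem x hx)
    have hN := isCohenMacaulayModule_quot_ofList xs M hM hmemm hreg
    have hNdim := (isWeaklyRegular_iff_supportDim_of_CM M hM xs hmemm).mp hreg
    rw [hlen] at hNdim
    have hdimeq : Module.supportDim R (M ⧸ (Ideal.ofList xs • (⊤ : Submodule R M))) =
        Module.supportDim R (M ⧸ (p.asIdeal • (⊤ : Submodule R M))) :=
      withBot_enat_add_natCast_cancel r (by rw [hNdim, hr])
    -- depth of the quotient w.r.t. `p` is zero
    have h0 := idealDepth_quot_ofList_add_length p.asIdeal xs M hpM hreg hmem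
    rw [hdepth, hlen] at h0
    have h0' : idealDepth p.asIdeal (M ⧸ (Ideal.ofList xs • (⊤ : Submodule R M))) = 0 := by
      have : idealDepth p.asIdeal (M ⧸ (Ideal.ofList xs • (⊤ : Submodule R M))) + (r : ℕ∞) =
          0 + (r : ℕ∞) := by rw [h0, zero_add]
      exact (ENat.add_left_injective_of_ne_top (ENat.natCast_ne_top r)) this
    rw [idealDepth_eq_zero_iff] at h0'
    obtain ⟨_, q, hq, hpq⟩ := h0'
    have hqp : q.IsPrime := IsAssociatedPrime.isPrime hq
    have hqdim := ringKrullDim_quotient_eq_supportDim_of_CM _ hN hq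
    have hntN := nontrivial_of_isCohenMacaulayModule hN
    obtain ⟨k, hk⟩ := supportDim_eq_natCast (R := R)
      (M ⧸ (Ideal.ofList xs • (⊤ : Submodule R M)))
    have key : ∀ q' : Ideal R, q' ∈ associatedPrimes R
        (M ⧸ (Ideal.ofList xs • (⊤ : Submodule R M))) →
        ringKrullDim (R ⧸ q') = ringKrullDim (R ⧸ p.asIdeal) := by
      intro q' hq'
      rw [ringKrullDim_quotient_eq_supportDim_of_CM _ hN hq', hdimeq, hdimp]
    have hkp : ringKrullDim (R ⧸ p.asIdeal) = (k : WithBot ℕ∞) := by
      rw [← hdimp, ← hdimeq, hk]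
    have heq : p.asIdeal = q := by
      by_contra hne
      have hlt : p.asIdeal < q := lt_of_le_of_ne hpq hne
      have h1 := ringKrullDim_quotient_succ_le_of_lt hlt
      rw [key q hq, hkp] at h1
      have h5 : ((k + 1 : ℕ) : WithBot ℕ∞) ≤ (k : ℕ) := by push_cast; exact h1
      have h6 : k + 1 ≤ k := by exact_mod_cast h5
      omega
    refine ⟨hdimeq, hdimp, by rw [heq]; exact hq, ?_⟩
    intro q' hq' hle
    by_contra hne
    have hq'p : q'.IsPrime := IsAssociatedPrime.isPrime hq'
    have hlt : q' < p.asIdeal := lt_of_le_of_ne hle hne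
    have h1 := ringKrullDim_quotient_succ_le_of_lt hlt
    rw [key q' hq', hkp] at h1
    have h5 : ((k + 1 : ℕ) : WithBot ℕ∞) ≤ (k : ℕ) := by push_cast; exact h1
    have h6 : k + 1 ≤ k := by exact_mod_cast h5
    omega

end CM5760

end Groth.Agent.Lib.Helper67
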