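import Mathlib.RingTheory.Algebraic.LinearIndependent
import Mathlib.RingTheory.Jacobson.Ring
import Mathlib.RingTheory.Localization.Away.Basic
import Mathlib.LinearAlgebra.Dimension.Constructions
import Mathlib.RingTheory.IntegralClosure.IsIntegralClosure.Basic
import Mathlib.RingTheory.TensorProduct.Basic
import Mathlib.FieldTheory.IsAlgClosed.Basic

/-!
# The Nullstellensatz for algebras with few generators over a big field

If `B` is an algebra over a field `K` spanned by a set of cardinality `≤ c` with `ℵ₀ ≤ c < #K`,
then `B` is a Jacobson ring and the residue fields at maximal ideals are algebraic over `K`.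
-/

set_option autoImplicit false
universe u
open Cardinal Polynomial

namespace Groth.Agent.Lib.Helper67.CardNull

variable {K : Type u} [Field K]

/-- `B` is spanned over `K` by a set of cardinality at most `c`. -/
def SmallSpan (K : Type u) [Field K] (B : Type u) [CommRing B] [Algebra K B]
    (c : Cardinal.{u}) : Prop :=
  ∃ s : Set B, Submodule.span K s = ⊤ ∧ #s ≤ c

section

variable {B C : Type u} [CommRing B] [CommRing C] [Algebra K B] [Algebra K C] {c : Cardinal.{u}}

lemma SmallSpan.rank_le (h : SmallSpan K B c) : Module.rank K B ≤ c := by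
  obtain ⟨s, hs, hc⟩ := h
  rw [← rank_top K B, ← hs]
  exact (rank_span_le s).trans hc

lemma SmallSpan.of_surjective (f : B →ₐ[K] C) (hf : Function.Surjective f)
    (h : SmallSpan K B c) : SmallSpan K C c := by
  obtain ⟨s, hs, hc⟩ := h
  refine ⟨f '' s, ?_, mk_image_le.trans hc⟩
  have h1 : Submodule.span K (f '' s) = (Submodule.span K s).map f.toLinearMap :=
    (Submodule.map_span f.toLinearMap s).symm
  rw [h1, hs, Submodule.map_top]
  exact LinearMap.range_eq_top.mpr hf

lemma SmallSpan.away (hc : ℵ₀ ≤ c) (f : B) (h : SmallSpan K B c) :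
    SmallSpan K (Localization.Away f) c := by
  obtain ⟨s, hs, hsc⟩ := h
  let g : s × ℕ → Localization.Away f := fun p =>
    IsLocalization.mk' (Localization.Away f) (p.1 : B) (⟨f ^ p.2, p.2, rfl⟩ : Submonoid.powers f)
  refine ⟨Set.range g, ?_, ?_⟩
  · rw [eq_top_iff]
    intro z _
    obtain ⟨b, ⟨_, n, rfl⟩, rfl⟩ := IsLocalization.exists_mk'_eq (Submonoid.powers f) z
    have hb : b ∈ Submodule.span K s := hs ▸ Submodule.mem_top
    let u : Localization.Away f :=
      IsLocalization.mk' _ (1 : B) (⟨f ^ n, n, rfl⟩ : Submonoid.powers f)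
    let φ : B →ₗ[K] Localization.Away f :=
      (LinearMap.mulLeft K u).comp (IsScalarTower.toAlgHom K B (Localization.Away f)).toLinearMap
    have hφ : ∀ b : B, φ b = IsLocalization.mk' (Localization.Away f) b
        (⟨f ^ n, n, rfl⟩ : Submonoid.powers f) := fun b => by
      change u * algebraMap B (Localization.Away f) b = _
      rw [IsLocalization.mk'_eq_mul_mk'_one (M := Submonoid.powers f) b, mul_comm]
    have h1 : φ b ∈ (Submodule.span K s).map φ := Submodule.mem_map_of_mem hb
    rw [Submodule.map_span, hφ] at h1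
    refine Submodule.span_mono ?_ h1
    rintro _ ⟨y, hy, rfl⟩
    exact ⟨(⟨y, hy⟩, n), (hφ y).symm⟩
  · refine mk_range_le.trans ?_
    rw [mk_prod, lift_uzero, mk_nat, lift_aleph0]
    exact mul_le_of_le hc hsc hc

end

/-- A field extension whose dimension is smaller than the cardinality of the base field is
algebraic. -/
lemma isAlgebraic_of_rank_lt {L : Type u} [Field L] [Algebra K L]
    (h : Module.rank K L < #K) : Algebra.IsAlgebraic K L := by
  refine ⟨fun x => ?_⟩
  by_contra hx
  have hx' : Transcendental K x := hx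
  have h1 := hx'.linearIndependent_sub_inv.cardinal_le_rank
  exact absurd (h1.trans_lt h) (lt_irrefl _)

variable {B : Type u} [CommRing B] [Algebra K B] {c : Cardinal.{u}}

/-- Residue fields at maximal ideals are algebraic. -/
theorem isAlgebraic_quotient_of_smallSpan (hcK : c < #K) (h : SmallSpan K B c)
    (m : Ideal B) [m.IsMaximal] :
    letI := Ideal.Quotient.field m
    Algebra.IsAlgebraic K (B ⧸ m) := by
  letI := Ideal.Quotient.field m
  have h1 : SmallSpan K (B ⧸ m) c :=
    h.of_surjective (Ideal.Quotient.mkₐ K m) (Ideal.Quotient.mkₐ_surjective K m)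
  exact isAlgebraic_of_rank_lt (h1.rank_le.trans_lt hcK)

theorem exists_poly_of_smallSpan (hcK : c < #K) (h : SmallSpan K B c)
    (m : Ideal B) [m.IsMaximal] (b : B) : ∃ P : K[X], P ≠ 0 ∧ aeval b P ∈ m := by
  letI := Ideal.Quotient.field m
  have h1 := isAlgebraic_quotient_of_smallSpan hcK h m
  obtain ⟨P, hP0, hP⟩ := h1.isAlgebraic (Ideal.Quotient.mk m b)
  refine ⟨P, hP0, ?_⟩
  have h2 : aeval (Ideal.Quotient.mk m b) P = Ideal.Quotient.mk m (aeval b P) := by
    have := Polynomial.aeval_algHom_apply (Ideal.Quotient.mkₐ K m) b P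
    exact this
  rw [h2] at hP
  exact Ideal.Quotient.eq_zero_iff_mem.mp hP

/-- An algebra spanned by few elements over a big field is a Jacobson ring. -/
theorem isJacobsonRing_of_smallSpan (hc : ℵ₀ ≤ c) (hcK : c < #K) (h : SmallSpan K B c) :
    IsJacobsonRing B := by
  rw [isJacobsonRing_iff_prime_eq]
  intro P hP
  refine le_antisymm ?_ Ideal.le_jacobson
  intro f hf
  by_contra hfP
  -- the domain `D = B/P` and its localization at `f`
  let D := B ⧸ P
  haveI : IsDomain D := Ideal.Quotient.isDomain P
  let f' : D := Ideal.Quotient.mk P f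
  have hf' : f' ≠ 0 := fun h0 => hfP (Ideal.Quotient.eq_zero_iff_mem.mp h0)
  have hD : SmallSpan K D c :=
    h.of_surjective (Ideal.Quotient.mkₐ K P) (Ideal.Quotient.mkₐ_surjective K P)
  have hC : SmallSpan K (Localization.Away f') c := hD.away hc f'
  haveI : Nontrivial (Localization.Away f') :=
    (IsLocalization.injective (Localization.Away f')
      (powers_le_nonZeroDivisors_of_noZeroDivisors hf')).nontrivial
  obtain ⟨N, hN⟩ := Ideal.exists_maximal (Localization.Away f')
  letI := Ideal.Quotient.field N
  have hL : Algebra.IsAlgebraic K (Localization.Away f' ⧸ N) :=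
    isAlgebraic_quotient_of_smallSpan hcK hC N
  -- the composite `B → L`
  let ψ : B →ₐ[K] (Localization.Away f' ⧸ N) :=
    ((Ideal.Quotient.mkₐ K N).comp (IsScalarTower.toAlgHom K D (Localization.Away f'))).comp
      (Ideal.Quotient.mkₐ K P)
  let M : Ideal B := RingHom.ker ψ.toRingHom
  have hPM : P ≤ M := by
    intro x hx
    change ψ x = 0
    change Ideal.Quotient.mk N (algebraMap D _ (Ideal.Quotient.mk P x)) = 0
    rw [Ideal.Quotient.eq_zero_iff_mem.mpr hx, map_zero, map_zero]
  have hfM : f ∉ M := by
    intro hfM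
    have h0 : ψ f = 0 := hfM
    have hu : IsUnit (algebraMap D (Localization.Away f') f') :=
      IsLocalization.Away.algebraMap_isUnit f'
    have hu' : IsUnit (ψ f) := hu.map (Ideal.Quotient.mk N)
    rw [h0] at hu'
    exact not_isUnit_zero hu'
  have hMmax : M.IsMaximal := by
    -- `B/M` embeds in the algebraic field extension `L`, hence is a field
    have hinj : Function.Injective (Ideal.Quotient.lift M ψ.toRingHom (fun a ha => ha)) :=
      RingHom.lift_injective_of_ker_le_ideal M (fun a ha => ha) le_rfl
    haveI : M.IsPrime := RingHom.ker_isPrime ψ.toRingHom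
    haveI : IsDomain (B ⧸ M) := Ideal.Quotient.isDomain M
    have hint : Algebra.IsIntegral K (B ⧸ M) := by
      refine ⟨fun y => ?_⟩
      obtain ⟨b, rfl⟩ := Ideal.Quotient.mk_surjective y
      have h1 : IsIntegral K (ψ b) := (hL.isAlgebraic (ψ b)).isIntegral
      obtain ⟨p, hp, hp0⟩ := h1
      refine ⟨p, hp, ?_⟩
      apply hinj
      rw [map_zero, Polynomial.hom_eval₂]
      have : (Ideal.Quotient.lift M ψ.toRingHom (fun a ha => ha)).comp (algebraMap K (B ⧸ M)) =
          algebraMap K (Localization.Away f' ⧸ N) := by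
        ext a
        change ψ (algebraMap K B a) = _
        exact ψ.commutes a
      rw [this]
      exact hp0
    exact Ideal.Quotient.maximal_of_isField M
      (isField_of_isIntegral_of_isField' (Field.toIsField K))
  have hmem : f ∈ M := by
    have := Ideal.mem_sInf.mp hf (I := M) ⟨hPM, hMmax⟩
    exact this
  exact hfM hmem

section tensor

open TensorProduct

variable (k R : Type u) [Field k] [CommRing R] [Algebra k R] [Algebra k K]

attribute [local instance] Algebra.TensorProduct.rightAlgebra

/-- `R ⊗[k] K` is spanned over `K` by the image of `R`. -/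
lemma smallSpan_tensor : SmallSpan K (R ⊗[k] K) #R := by
  refine ⟨Set.range (fun r : R => (r ⊗ₜ[k] (1 : K))), ?_, mk_range_le⟩
  rw [eq_top_iff]
  rintro z -
  induction z using TensorProduct.induction_on with
  | zero => exact Submodule.zero_mem _
  | tmul r a =>
    have : r ⊗ₜ[k] a = a • (r ⊗ₜ[k] (1 : K)) := by
      rw [Algebra.smul_def, Algebra.TensorProduct.right_algebraMap_apply,
        Algebra.TensorProduct.tmul_mul_tmul, one_mul, mul_one]
    rw [this]
    exact Submodule.smul_mem _ _ (Submodule.subset_span ⟨r, rfl⟩)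
  | add x y hx hy => exact Submodule.add_mem _ hx hy

end tensor

end Groth.Agent.Lib.Helper67.CardNull
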