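import Groth.Agent.Lib.Helper67.CardNull
import Groth.Prelude.Def_CurvBase
import Mathlib.AlgebraicGeometry.ResidueField
import Mathlib.AlgebraicGeometry.Pullbacks
import Mathlib.AlgebraicGeometry.Morphisms.FiniteType
import Mathlib.RingTheory.Spectrum.Prime.Jacobson

/-!
# Base change of an arbitrary scheme over a field to a big field is Jacobson
-/

set_option autoImplicit false
set_option linter.style.haveILetI false
universe u
open CategoryTheory CategoryTheory.Limits AlgebraicGeometry TensorProduct Cardinal Polynomial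

namespace Groth.Agent.Lib.Helper67.CardNullSch

open Groth.Agent.Lib.Helper67.CardNull

attribute [local instance] Curv2.resAlgebra

/-- The structure map to the residue field as an evaluation. -/
lemma resMap_eq {K : Type u} [Field K] (Y : Scheme.{u}) [Y.Over (Spec (CommRingCat.of K))] (y : Y) :
    Curv2.resMap K Y y =
      (Y.Γevaluation y).hom.comp (Coh.toGlobal (Y ↘ Spec (CommRingCat.of K))) := rfl

/-- Compatibility of the structure maps to residue fields along a morphism over `Spec K`. -/
lemma residueFieldMap_comp_resMap {K : Type u} [Field K] {W Y : Scheme.{u}}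
    [W.Over (Spec (CommRingCat.of K))] [Y.Over (Spec (CommRingCat.of K))] (g : W ⟶ Y)
    [g.IsOver (Spec (CommRingCat.of K))] (w : W) :
    (g.residueFieldMap w).hom.comp (Curv2.resMap K Y (g w)) = Curv2.resMap K W w := by
  rw [resMap_eq, resMap_eq]
  have h1 := Scheme.Γevaluation_naturality g w
  have h2 : Coh.toGlobal (W ↘ Spec (CommRingCat.of K)) =
      g.appTop.hom.comp (Coh.toGlobal (Y ↘ Spec (CommRingCat.of K))) := by
    unfold Coh.toGlobal
    rw [← comp_over g (Spec (CommRingCat.of K)), Scheme.Hom.comp_appTop]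
    rfl
  rw [h2]
  ext a
  simp only [RingHom.comp_apply]
  have := congrArg (fun ψ => ψ.hom (Coh.toGlobal (Y ↘ Spec (CommRingCat.of K)) a)) h1
  simp only [CommRingCat.hom_comp] at this
  exact this

/-- Algebraicity of residue fields transfers backwards along morphisms over `Spec K`. -/
lemma isAlgebraic_residueField_of_map {K : Type u} [Field K] {W Y : Scheme.{u}}
    [W.Over (Spec (CommRingCat.of K))] [Y.Over (Spec (CommRingCat.of K))] (g : W ⟶ Y)
    [g.IsOver (Spec (CommRingCat.of K))] (w : W)
    (h : Algebra.IsAlgebraic K (W.residueField w)) :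
    Algebra.IsAlgebraic K (Y.residueField (g w)) := by
  refine ⟨fun y => ?_⟩
  obtain ⟨P, hP0, hP⟩ := h.isAlgebraic ((g.residueFieldMap w).hom y)
  refine ⟨P, hP0, ?_⟩
  have hinj : Function.Injective (g.residueFieldMap w).hom := RingHom.injective _
  apply hinj
  rw [map_zero]
  rw [Polynomial.aeval_def] at hP ⊢
  rw [Polynomial.hom_eval₂]
  have hc := residueFieldMap_comp_resMap (K := K) g w
  have : (g.residueFieldMap w).hom.comp (algebraMap K (Y.residueField (g w))) =
      algebraMap K (W.residueField w) := hc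
  rw [this]
  exact hP

section affine

variable {K : Type u} [Field K] (B : Type u) [CommRing B] [Algebra K B]

/-- Residue fields at closed points of `Spec B` are algebraic over `K` if `B` has a small
spanning set. -/
lemma isAlgebraic_residueField_Spec {c : Cardinal.{u}} (hcK : c < #K) (h : SmallSpan K B c)
    (p : Spec (CommRingCat.of B)) (hp : IsClosed ({p} : Set (Spec (CommRingCat.of B)))) :
    letI : (Spec (CommRingCat.of B)).Over (Spec (CommRingCat.of K)) :=
      ⟨Spec.map (CommRingCat.ofHom (algebraMap K B))⟩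
    Algebra.IsAlgebraic K ((Spec (CommRingCat.of B)).residueField p) := by
  letI : (Spec (CommRingCat.of B)).Over (Spec (CommRingCat.of K)) :=
    ⟨Spec.map (CommRingCat.ofHom (algebraMap K B))⟩
  haveI hmax : p.asIdeal.IsMaximal := (PrimeSpectrum.isClosed_singleton_iff_isMaximal p).mp hp
  -- the evaluation map `B → κ(p)`
  let Θ : B →+* (Spec (CommRingCat.of B)).residueField p :=
    ((Scheme.ΓSpecIso (CommRingCat.of B)).inv ≫
      (Spec (CommRingCat.of B)).presheaf.germ ⊤ p trivial ≫
        (Spec (CommRingCat.of B)).residue p).hom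
  have hΘ : CommRingCat.ofHom (algebraMap B p.asIdeal.ResidueField) ≫
      (Scheme.Spec.residueFieldIso (CommRingCat.of B) p).inv = CommRingCat.ofHom Θ :=
    Scheme.Spec.algebraMap_residueFieldIso_inv (CommRingCat.of B) p
  have hΘapp : ∀ b : B, Θ b = (Scheme.Spec.residueFieldIso (CommRingCat.of B) p).inv.hom
      (algebraMap B p.asIdeal.ResidueField b) := fun b =>
    (congrArg (fun ψ => ψ.hom b) hΘ).symm
  have hΘsurj : Function.Surjective Θ := by
    intro y
    obtain ⟨b, hb⟩ := p.asIdeal.algebraMap_residueField_surjective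
      ((Scheme.Spec.residueFieldIso (CommRingCat.of B) p).hom.hom y)
    refine ⟨b, ?_⟩
    rw [hΘapp, hb, ← CommRingCat.comp_apply, Iso.hom_inv_id, CommRingCat.id_apply]
  have hΘker : ∀ b ∈ p.asIdeal, Θ b = 0 := by
    intro b hb
    rw [hΘapp, (Ideal.algebraMap_residueField_eq_zero (I := p.asIdeal)).mpr hb, map_zero]
  have hΘK : Θ.comp (algebraMap K B) =
      Curv2.resMap K (Spec (CommRingCat.of B)) p := by
    rw [resMap_eq]
    unfold Coh.toGlobal
    have h1 := Scheme.ΓSpecIso_inv_naturality (CommRingCat.ofHom (algebraMap K B))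
    ext a
    have := congrArg (fun ψ => ((Spec (CommRingCat.of B)).Γevaluation p).hom (ψ.hom a)) h1
    exact this
  refine ⟨fun y => ?_⟩
  obtain ⟨b, rfl⟩ := hΘsurj y
  obtain ⟨P, hP0, hP⟩ := exists_poly_of_smallSpan hcK h p.asIdeal b
  refine ⟨P, hP0, ?_⟩
  have h1 := hΘker _ hP
  rw [Polynomial.aeval_def, Polynomial.hom_eval₂, hΘK] at h1
  rw [Polynomial.aeval_def]
  exact h1

end affine

section pullback

variable (k : Type u) [Field k] (K : Type u) [Field K] [Algebra k K]

attribute [local instance] Algebra.TensorProduct.rightAlgebra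

/-- The base change of `Spec R` to a big field is Jacobson with algebraic residue fields at
closed points. -/
lemma pullback_Spec (R : CommRingCat.{u}) (φ : Spec R ⟶ Spec (CommRingCat.of k))
    (hK : max ℵ₀ #R < #K) :
    JacobsonSpace ↥(pullback φ (Spec.map (CommRingCat.ofHom (algebraMap k K)))) ∧
      ∀ w : ↥(pullback φ (Spec.map (CommRingCat.ofHom (algebraMap k K)))),
        IsClosed ({w} : Set ↥(pullback φ (Spec.map (CommRingCat.ofHom (algebraMap k K))))) →
        letI : (pullback φ (Spec.map (CommRingCat.ofHom (algebraMap k K)))).Over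
          (Spec (CommRingCat.of K)) := ⟨pullback.snd _ _⟩
        Algebra.IsAlgebraic K
          ((pullback φ (Spec.map (CommRingCat.ofHom (algebraMap k K)))).residueField w) := by
  obtain ⟨ψ, rfl⟩ := Spec.map_surjective φ
  algebraize [ψ.hom]
  have hψ : ψ = CommRingCat.ofHom (algebraMap k R) := rfl
  rw [hψ]
  let e := pullbackSpecIso k R K
  have hspan : SmallSpan K (R ⊗[k] K) (max ℵ₀ #R) := by
    obtain ⟨s, hs, hc⟩ := smallSpan_tensor (K := K) k R
    exact ⟨s, hs, hc.trans (le_max_right _ _)⟩
  haveI : IsJacobsonRing (R ⊗[k] K) :=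
    isJacobsonRing_of_smallSpan (le_max_left _ _) hK hspan
  constructor
  · haveI : JacobsonSpace ↥(Spec (CommRingCat.of (R ⊗[k] K))) := inferInstance
    exact JacobsonSpace.of_isOpenEmbedding e.hom.isOpenEmbedding
  · intro w hw
    letI : (pullback (Spec.map (CommRingCat.ofHom (algebraMap k R)))
        (Spec.map (CommRingCat.ofHom (algebraMap k K)))).Over
      (Spec (CommRingCat.of K)) := ⟨pullback.snd _ _⟩
    letI : (Spec (CommRingCat.of (R ⊗[k] K))).Over (Spec (CommRingCat.of K)) :=
      ⟨Spec.map (CommRingCat.ofHom (algebraMap K (R ⊗[k] K)))⟩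
    haveI : e.inv.IsOver (Spec (CommRingCat.of K)) := ⟨pullbackSpecIso_inv_snd k R K⟩
    have hw' : e.inv (e.hom w) = w := by
      rw [← Scheme.Hom.comp_apply, Iso.hom_inv_id]
      rfl
    have hcl : IsClosed ({e.hom w} : Set (Spec (CommRingCat.of (R ⊗[k] K)))) := by
      have : ({e.hom w} : Set (Spec (CommRingCat.of (R ⊗[k] K)))) = e.inv ⁻¹' {w} := by
        ext q
        simp only [Set.mem_singleton_iff, Set.mem_preimage]
        constructor
        · rintro rfl
          exact hw'
        · intro hq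
          rw [← hq, ← Scheme.Hom.comp_apply, Iso.inv_hom_id]
          rfl
      rw [this]
      exact hw.preimage e.inv.continuous
    have h1 := isAlgebraic_residueField_Spec (K := K) (R ⊗[k] K) hK hspan (e.hom w) hcl
    have h2 := isAlgebraic_residueField_of_map e.inv (e.hom w) h1
    rw [hw'] at h2
    exact h2

end pullback

/-- Main theorem: base change to a big field is Jacobson with algebraic residue fields at closed
points. -/
theorem main (k : Type u) [Field k] (X : Scheme.{u}) [X.Over (Spec (CommRingCat.of k))] :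
    ∃ κ : Cardinal.{u}, ∀ (K : Type u) [Field K] [Algebra k K], κ ≤ Cardinal.mk K →
      JacobsonSpace ↥(Curv2.bc k X K) ∧
        ∀ x : ↥(Curv2.bc k X K), IsClosed ({x} : Set ↥(Curv2.bc k X K)) →
          letI : (Curv2.bc k X K).Over (Spec (CommRingCat.of K)) := ⟨Curv2.bcSnd k X K⟩
          Algebra.IsAlgebraic K ((Curv2.bc k X K).residueField x) := by
  let 𝒰 := X.affineOpenCover
  refine ⟨Order.succ (max ℵ₀ (⨆ i : 𝒰.I₀, #(𝒰.X i))), fun K _ _ hK => ?_⟩
  have hKi : ∀ i : 𝒰.I₀, max ℵ₀ #(𝒰.X i) < #K := by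
    intro i
    refine lt_of_lt_of_le (Order.lt_succ_iff.mpr ?_) hK
    exact max_le_max le_rfl (le_ciSup Cardinal.bddAbove_of_small i)
  let 𝒱 := Scheme.Pullback.openCoverOfLeft 𝒰.openCover (X ↘ Spec (CommRingCat.of k))
    (Spec.map (CommRingCat.ofHom (algebraMap k K)))
  have key := fun i : 𝒰.I₀ => pullback_Spec k K (𝒰.X i)
    (𝒰.f i ≫ (X ↘ Spec (CommRingCat.of k))) (hKi i)
  constructor
  · rw [(Scheme.OpenCover.isOpenCover_opensRange 𝒱).jacobsonSpace_iff]
    intro i
    haveI : JacobsonSpace ↥(𝒱.X i) := (key i).1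
    let e := (𝒱.f i).isOpenEmbedding.isEmbedding.toHomeomorph
    exact .of_isClosedEmbedding e.symm.isClosedEmbedding
  · intro x hx
    obtain ⟨i, w, rfl⟩ := 𝒱.exists_eq x
    letI iY : (Curv2.bc k X K).Over (Spec (CommRingCat.of K)) := ⟨Curv2.bcSnd k X K⟩
    letI iW : (𝒱.X i).Over (Spec (CommRingCat.of K)) := ⟨pullback.snd _ _⟩
    have iO : @Scheme.Hom.IsOver _ _ (𝒱.f i) (Spec (CommRingCat.of K)) iW iY := ⟨by
      change (Scheme.Pullback.openCoverOfLeft 𝒰.openCover _ _).f i ≫ pullback.snd _ _ =
        pullback.snd _ _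
      simp [Scheme.Pullback.openCoverOfLeft, pullback.map]
      exact pullback.lift_snd _ _ _⟩
    have hcl : IsClosed ({w} : Set ↥(𝒱.X i)) := by
      have : ({w} : Set ↥(𝒱.X i)) = (𝒱.f i) ⁻¹' {(𝒱.f i) w} := by
        ext q
        simp only [Set.mem_singleton_iff, Set.mem_preimage]
        exact ⟨fun h => h ▸ rfl, fun h => (𝒱.f i).isOpenEmbedding.injective h⟩
      rw [this]
      exact hx.preimage (𝒱.f i).continuous
    exact @isAlgebraic_residueField_of_map K _ (𝒱.X i) (Curv2.bc k X K) iW iY (𝒱.f i) iO w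
      ((key i).2 w hcl)

end Groth.Agent.Lib.Helper67.CardNullSch
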