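import Groth.Agent.Lib.Helper67.DimSet6
import Groth.Agent.Lib.Helper55.FL.SchemeModel
import Groth.Agent.Lib.Helper15.SuppTensor
import Groth.Agent.Lib.Helper15.RelPerfLoc
import Groth.Agent.Lib.Helper21.StalkLen
import Groth.Agent.Lib.Helper21.CohSupport

/-!
# The support of a quasi-coherent module of finite presentation is locally constructible
(helper67)

* `isLocallyConstructible_support`.
* `main`: the level sets of the set of dimensions of the irreducible components of the supports
  of the restrictions of a finitely presented module to the fibres are locally constructible.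
-/

set_option autoImplicit false
set_option linter.style.haveILetI false
universe u

open CategoryTheory AlgebraicGeometry CategoryTheory.Limits Topology TopologicalSpace

namespace Groth.Agent.Lib.Helper67.SuppLC

open Groth.Agent.Lib.Helper67.DimSet

theorem isConstructible_support_of_isAffine {X : Scheme.{u}} [IsAffine X] (F : X.Modules)
    [F.IsQuasicoherent] (hF : CohB1.IsFP F) : IsConstructible (CohB1.support F) := by
  obtain ⟨X₀, S₀, f₀, g, g', _, _, hpb, hft, hlft, F₀, hcoh, -, ⟨iso⟩⟩ :=
    Groth.Agent.Lib.Helper55.FL.exists_scheme_model (𝟙 X) F hF False (fun h => h.elim)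
  rw [← Groth.Agent.Lib.Helper21.StalkLen.support_eq_of_iso iso]
  have h1 : CohB1.support ((Scheme.Modules.pullback g').obj F₀) = g'.base ⁻¹' CohB1.support F₀ := by
    ext z
    exact Groth.Agent.Lib.Helper15.SuppTensor.mem_support_pullback_iff g' F₀ hcoh z
  rw [h1]
  haveI : IsNoetherianRing Γ(S₀, ⊤) := Algebra.FiniteType.isNoetherianRing ℤ Γ(S₀, ⊤)
  haveI : IsLocallyNoetherian S₀ := by
    have : IsLocallyNoetherian (Spec Γ(S₀, ⊤)) := inferInstance
    exact isLocallyNoetherian_of_isOpenImmersion S₀.isoSpec.hom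
  haveI : IsNoetherian S₀ := {}
  haveI : IsLocallyNoetherian X₀ := LocallyOfFiniteType.isLocallyNoetherian f₀
  haveI : IsNoetherian X₀ := {}
  haveI : F₀.IsQuasicoherent := hcoh.1
  have hcl : IsClosed (CohB1.support F₀) :=
    Groth.Agent.Lib.Helper21.CohSupport.isClosed_support F₀ hcoh.2
  exact g'.isConstructible_preimage
    (Groth.Agent.Lib.Helper35.noeth_isConstructible_of_isClosed hcl)

theorem isLocallyConstructible_support {X : Scheme.{u}} (F : X.Modules) [F.IsQuasicoherent]
    (hF : CohB1.IsFP F) : IsLocallyConstructible (CohB1.support F) := by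
  intro x
  obtain ⟨_, ⟨U, hU : IsAffineOpen U, rfl⟩, hxU, -⟩ :=
    X.isBasis_affineOpens.exists_subset_of_mem_open (Set.mem_univ x) isOpen_univ
  refine ⟨U, U.2.mem_nhds hxU, U.2, ?_⟩
  haveI : IsAffine (U : Scheme.{u}) := hU
  have hFU : CohB1.IsFP ((Scheme.Modules.pullback (Scheme.Opens.ι U)).obj F) :=
    (SheafOfModules.isFinitePresentation (U : Scheme.{u}).ringCatSheaf).prop_of_iso
      ((Scheme.Modules.restrictFunctorIsoPullback (Scheme.Opens.ι U)).app F)
      (Groth.Agent.Lib.Helper15.RelPerfLoc.isFP_restrict (Scheme.Opens.ι U) F hF)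
  haveI : SheafOfModules.IsFinitePresentation (R := (U : Scheme.{u}).ringCatSheaf)
    ((Scheme.Modules.pullback (Scheme.Opens.ι U)).obj F) := hFU
  haveI : SheafOfModules.IsFinitePresentation (R := X.ringCatSheaf) F := hF
  have hc := isConstructible_support_of_isAffine ((Scheme.Modules.pullback (Scheme.Opens.ι U)).obj F) hFU
  have hft : CohB1.IsFT F := by
    haveI : SheafOfModules.IsFinitePresentation (R := X.ringCatSheaf) F := hF
    exact SheafOfModules.instIsFiniteTypeOfIsFinitePresentation F
  have hcoh : Coh.IsCoh F := ⟨inferInstance, hft⟩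
  have h1 : CohB1.support ((Scheme.Modules.pullback (Scheme.Opens.ι U)).obj F) =
      (Subtype.val ⁻¹' CohB1.support F : Set ↥(U : Set X)) := by
    ext z
    exact Groth.Agent.Lib.Helper15.SuppTensor.mem_support_pullback_iff (Scheme.Opens.ι U) F hcoh z
  rw [h1] at hc
  exact hc

/-- **EGA IV 9.8-type statement** for supports of finitely presented modules. -/
theorem main {X S : Scheme.{u}} (f : X ⟶ S)
    [LocallyOfFinitePresentation f] [QuasiCompact f] [QuasiSeparated f]
    (F : X.Modules) [Coh.IsQCoh F] (hF : CohB1.IsFP F) (Φ : Set (WithBot ℕ∞)) :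
    Topology.IsLocallyConstructible {s : S |
      (fun Z : Set ↥(CohB1.support ((Scheme.Modules.pullback (f.fiberι s)).obj F)) =>
          topologicalKrullDim ↥Z) ''
        irreducibleComponents ↥(CohB1.support ((Scheme.Modules.pullback (f.fiberι s)).obj F)) =
        Φ} := by
  haveI : F.IsQuasicoherent := ‹Coh.IsQCoh F›
  haveI : SheafOfModules.IsFinitePresentation (R := X.ringCatSheaf) F := hF
  have hft : CohB1.IsFT F := by
    haveI : SheafOfModules.IsFinitePresentation (R := X.ringCatSheaf) F := hF
    exact SheafOfModules.instIsFiniteTypeOfIsFinitePresentation F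
  have hcoh : Coh.IsCoh F := ⟨inferInstance, hft⟩
  have hZ := isLocallyConstructible_support F hF
  have hcl : IsClosed (CohB1.support F) :=
    Groth.Agent.Lib.Helper21.CohSupport.isClosed_support F hcoh.2
  have key := isLocallyConstructible_dimLocus (hasDimDichotomy Φ) f hZ
  convert key using 1
  ext s
  have h1 : CohB1.support ((Scheme.Modules.pullback (f.fiberι s)).obj F) =
      ⇑(f.fiberι s) ⁻¹' CohB1.support F := by
    ext z
    exact Groth.Agent.Lib.Helper15.SuppTensor.mem_support_pullback_iff (f.fiberι s) F hcoh z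
  have h2 : IsLocallyClosed (⇑(f.fiberι s) ⁻¹' CohB1.support F) :=
    (hcl.preimage (f.fiberι s).continuous).isLocallyClosed
  show Dset ↥(CohB1.support ((Scheme.Modules.pullback (f.fiberι s)).obj F)) = Φ ↔
    (IsLocallyClosed (⇑(f.fiberι s) ⁻¹' CohB1.support F) ∧
      Dset ↥(⇑(f.fiberι s) ⁻¹' CohB1.support F) = Φ)
  rw [h1]
  exact ⟨fun h => ⟨h2, h⟩, fun h => h.2⟩

end Groth.Agent.Lib.Helper67.SuppLC
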