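import Groth.Agent.Lib.Helper15.GenLiftSch
import Groth.Agent.Lib.Helper67.SuppLC

/-!
# Openness on the support of a flat finitely presented module (helper67; backup of Q1)
-/

set_option autoImplicit false
set_option linter.style.haveILetI false
universe u
open CategoryTheory AlgebraicGeometry Topology

namespace Groth.Agent.Lib.Helper67.CompDimQ1

theorem isCoh_of_isFP {X : Scheme.{u}} (F : X.Modules) (hF : CohB1.IsFP F) : Coh.IsCoh F := by
  haveI : SheafOfModules.IsFinitePresentation (R := X.ringCatSheaf) F := hF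
  haveI hq : F.IsQuasicoherent :=
    SheafOfModules.QuasicoherentData.isQuasicoherent (R := X.ringCatSheaf) (M := F)
      (SheafOfModules.IsFinitePresentation.exists_quasicoherentData
        (R := X.ringCatSheaf) F).choose
  exact ⟨hq, SheafOfModules.instIsFiniteTypeOfIsFinitePresentation F⟩

set_option backward.isDefEq.respectTransparency false in
theorem isOpen_image_inter_support {X Y : Scheme.{u}} (f : X ⟶ Y) [LocallyOfFinitePresentation f]
    (F : X.Modules) (hF : CohB1.IsFP F) (hflat : FlatMod.IsFlatOver f F) (W : Set X) (hW : IsOpen W) :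
    IsOpen (f.base '' (W ∩ CohB1.support F)) := by
  have hcoh := isCoh_of_isFP F hF
  haveI : F.IsQuasicoherent := hcoh.1
  rw [isOpen_iff_forall_mem_open]
  rintro _ ⟨x0, ⟨hx0W, hx0S⟩, rfl⟩
  obtain ⟨V, hV, hyV, -⟩ := exists_isAffineOpen_mem_and_subset (X := Y) (x := f x0) (U := ⊤) trivial
  have hx0' : x0 ∈ (⟨W, hW⟩ : X.Opens) ⊓ f ⁻¹ᵁ V := ⟨hx0W, hyV⟩
  obtain ⟨U, hU, hx0U, hUle⟩ := exists_isAffineOpen_mem_and_subset hx0'
  have e : U ≤ f ⁻¹ᵁ V := fun x hx => (hUle hx).2
  have hUW : (U : Set X) ⊆ W := fun x hx => (hUle hx).1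
  have hφ : (f.appLE V U e).hom.FinitePresentation := f.finitePresentation_appLE hV hU e
  have hcomm : Spec.map (f.appLE V U e) ≫ hV.fromSpec = hU.fromSpec ≫ f :=
    IsAffineOpen.SpecMap_appLE_fromSpec f hV hU e
  have hcomm' : ∀ p : ↥(Spec Γ(X, U)), hV.fromSpec (Spec.map (f.appLE V U e) p) = f (hU.fromSpec p) := by
    intro p
    rw [← Scheme.Hom.comp_apply, hcomm, Scheme.Hom.comp_apply]
  set s : Set ↥(Spec Γ(X, U)) := hU.fromSpec ⁻¹' CohB1.support F with hs_def
  have hs : IsConstructible s :=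
    ((Groth.Agent.Lib.Helper67.SuppLC.isLocallyConstructible_support F hF).preimage_of_isOpenEmbedding
      hU.fromSpec.isOpenEmbedding).isConstructible
  have hT : IsConstructible ((Spec.map (f.appLE V U e)) '' s) :=
    PrimeSpectrum.isConstructible_comap_image hφ hs
  have hgen : StableUnderGeneralization ((Spec.map (f.appLE V U e)) '' s) := by
    rintro t t' htt' ⟨p, hp, rfl⟩
    have h1 : hV.fromSpec t' ⤳ f (hU.fromSpec p) := by
      rw [← hcomm' p]
      exact htt'.map hV.fromSpec.continuous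
    obtain ⟨x', hx'x, hfx', hx'S⟩ :=
      Groth.Agent.Lib.Helper15.GenLiftSch.exists_generization_in_support f F hcoh (hU.fromSpec p)
        (hflat _) hp _ h1
    have hpU : hU.fromSpec p ∈ U := by
      have : hU.fromSpec p ∈ Set.range hU.fromSpec := ⟨p, rfl⟩
      rwa [hU.range_fromSpec] at this
    have hx'U : x' ∈ U := hx'x.mem_open U.isOpen hpU
    have : x' ∈ Set.range hU.fromSpec := by rw [hU.range_fromSpec]; exact hx'U
    obtain ⟨p', rfl⟩ := this
    refine ⟨p', hx'S, ?_⟩
    apply hV.fromSpec.isOpenEmbedding.injective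
    rw [hcomm' p', hfx']
  have hopen : IsOpen ((Spec.map (f.appLE V U e)) '' s) :=
    PrimeSpectrum.isOpen_of_stableUnderGeneralization_of_isConstructible hgen hT
  refine ⟨hV.fromSpec '' ((Spec.map (f.appLE V U e)) '' s), ?_,
    hV.fromSpec.isOpenEmbedding.isOpenMap _ hopen, ?_⟩
  · rintro _ ⟨_, ⟨p, hp, rfl⟩, rfl⟩
    refine ⟨hU.fromSpec p, ⟨hUW ?_, hp⟩, (hcomm' p).symm⟩
    have : hU.fromSpec p ∈ Set.range hU.fromSpec := ⟨p, rfl⟩
    rwa [hU.range_fromSpec] at this
  · have : x0 ∈ Set.range hU.fromSpec := by rw [hU.range_fromSpec]; exact hx0U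
    obtain ⟨p0, rfl⟩ := this
    exact ⟨_, ⟨p0, hx0S, rfl⟩, hcomm' p0⟩

end Groth.Agent.Lib.Helper67.CompDimQ1
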