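import Groth.Agent.S4982
import Groth.Agent.Lib.Helper15.SuppTensor
import Groth.Agent.Lib.Helper21.CohPullback
import Groth.Agent.Lib.Helper21.NowhereDense
import Groth.Agent.Lib.Helper19.CompDimQ3
import Groth.Agent.Lib.Helper67.CompDimQ1
import Groth.Agent.S4983
import Groth.Agent.S4964

/-!
# Openness of the locus where the fibre support has a component of given dimension (helper67)
EGA IV 12.2.1 (ii)-type statements, from helper73's S4982.
-/

set_option autoImplicit false
set_option linter.style.haveILetI false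
universe u
open CategoryTheory AlgebraicGeometry

namespace Groth.Agent.Lib.Helper67.CompDim

variable {X Y : Scheme.{u}}

/-- Q1 -/
theorem isOpen_image_inter_support {X Y : Scheme.{u}} (f : X ⟶ Y) [LocallyOfFinitePresentation f]
    (F : X.Modules) (hF : CohB1.IsFP F) (hflat : FlatMod.IsFlatOver f F) (W : Set X) (hW : IsOpen W) :
    IsOpen (f.base '' (W ∩ CohB1.support F)) :=
  Groth.Agent.Lib.Helper67.CompDimQ1.isOpen_image_inter_support f F hF hflat W hW

/-- Q2 -/
theorem exists_ass_of_mem_irreducibleComponents {T : Scheme.{u}} [IsLocallyNoetherian T]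
    (G : T.Modules) (hG : Coh.IsCoh G)
    (Z : Set ↥{z : ↥T | Nontrivial ↑(G.presheaf.stalk z)})
    (hZ : Z ∈ irreducibleComponents ↥{z : ↥T | Nontrivial ↑(G.presheaf.stalk z)}) :
    ∃ z : ↥T, z ∈ AssSch.Ass G ∧ (∀ z' ∈ AssSch.Ass G, z ∈ closure {z'} → z' = z) ∧
      topologicalKrullDim ↥(closure ({z} : Set ↥T)) = topologicalKrullDim ↥Z :=
  Groth.Agent.Lib.Helper19.CompDimQ2.exists_ass_of_mem_irreducibleComponents G hG Z hZ

/-- Q3 -/
theorem exists_mem_irreducibleComponents_of_nontrivial {T : Scheme.{u}} [IsLocallyNoetherian T]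
    (G : T.Modules) (hG : Coh.IsCoh G) (x : ↥T) (hx : Nontrivial ↑(G.presheaf.stalk x)) :
    ∃ z ∈ AssSch.Ass G, x ∈ closure {z} ∧
      ∃ Z ∈ irreducibleComponents ↥{z : ↥T | Nontrivial ↑(G.presheaf.stalk z)},
        topologicalKrullDim ↥Z = topologicalKrullDim ↥(closure ({z} : Set ↥T)) :=
  Groth.Agent.Lib.Helper19.CompDimQ3.exists_mem_irreducibleComponents_of_nontrivial G hG x hx

theorem isCoh_of_isFP (F : X.Modules) (hF : CohB1.IsFP F) : Coh.IsCoh F := by
  haveI : SheafOfModules.IsFinitePresentation (R := X.ringCatSheaf) F := hF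
  haveI hq : F.IsQuasicoherent :=
    SheafOfModules.QuasicoherentData.isQuasicoherent (R := X.ringCatSheaf) (M := F)
      (SheafOfModules.IsFinitePresentation.exists_quasicoherentData
        (R := X.ringCatSheaf) F).choose
  exact ⟨hq, SheafOfModules.instIsFiniteTypeOfIsFinitePresentation F⟩

theorem isCoh_fiber (f : X ⟶ Y) (F : X.Modules) (hF : Coh.IsCoh F) (y : Y) :
    Coh.IsCoh ((Scheme.Modules.pullback (f.fiberι y)).obj F) := by
  haveI : F.IsQuasicoherent := hF.1
  exact ⟨Groth.Agent.Lib.Lead.PullbackAff.isQuasicoherent_pullback (f.fiberι y) F,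
    Groth.Agent.Lib.Helper21.CohPullback.isFiniteType_pullback (f.fiberι y) F hF.2⟩

theorem isLocallyNoetherian_fiber (f : X ⟶ Y) [LocallyOfFiniteType f] (y : Y) :
    IsLocallyNoetherian (f.fiber y) :=
  LocallyOfFiniteType.isLocallyNoetherian (f.fiberToSpecResidueField y)

/-- The set of points `y` such that `Supp F_y` has an irreducible component of dimension `n` is
open, for `F` finitely presented and flat over `Y`. -/
theorem isOpen_exists_component (f : X ⟶ Y) [LocallyOfFinitePresentation f]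
    (F : X.Modules) (hF : CohB1.IsFP F) (hflat : FlatMod.IsFlatOver f F) (n : ℕ) :
    IsOpen {y : Y | ∃ Z ∈ irreducibleComponents ↥{z : ↥(f.fiber y) | Nontrivial
        (((Scheme.Modules.pullback (f.fiberι y)).obj F).presheaf.stalk z)},
      topologicalKrullDim ↥Z = (n : WithBot ℕ∞)} := by
  have hcoh := isCoh_of_isFP F hF
  let Q : ∀ s : Y, ↥(f.fiber s) → Prop := fun s z =>
    ∀ z' ∈ AssSch.Ass ((Scheme.Modules.pullback (f.fiberι s)).obj F), z ∈ closure {z'} →
      ∃ m ∈ ({n} : Finset ℕ),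
        topologicalKrullDim ↥(closure ({z'} : Set ↥(f.fiber s))) = (m : WithBot ℕ∞)
  have hW : IsOpen {x : X | Q (f.base x) (f.asFiber x)} :=
    Groth.Agent.S4982.result f F hF hflat {n}
  rw [isOpen_iff_forall_mem_open]
  rintro y0 ⟨Z, hZ, hdim⟩
  refine ⟨f.base '' ({x : X | Q (f.base x) (f.asFiber x)} ∩ CohB1.support F), ?_,
    isOpen_image_inter_support f F hF hflat _ hW, ?_⟩
  · rintro _ ⟨x, ⟨hxW, hxS⟩, rfl⟩
    haveI := isLocallyNoetherian_fiber f (f.base x)
    have h1 : f.asFiber x ∈ CohB1.support ((Scheme.Modules.pullback (f.fiberι (f.base x))).obj F) := by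
      rw [Groth.Agent.Lib.Helper15.SuppTensor.mem_support_pullback_iff _ F hcoh]
      rw [f.fiberι_asFiber x]
      exact hxS
    obtain ⟨z, hzA, hxz, Z', hZ', hd⟩ := exists_mem_irreducibleComponents_of_nontrivial
      ((Scheme.Modules.pullback (f.fiberι (f.base x))).obj F) (isCoh_fiber f F hcoh _)
      (f.asFiber x) (not_subsingleton_iff_nontrivial.1 h1)
    obtain ⟨m, hm, hdm⟩ := hxW z hzA hxz
    rw [Finset.mem_singleton] at hm
    subst hm
    exact ⟨Z', hZ', hd.trans hdm⟩
  · haveI := isLocallyNoetherian_fiber f y0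
    obtain ⟨z, hzA, huniq, hd⟩ := exists_ass_of_mem_irreducibleComponents
      ((Scheme.Modules.pullback (f.fiberι y0)).obj F) (isCoh_fiber f F hcoh _) Z hZ
    refine ⟨f.fiberι y0 z, ⟨?_, ?_⟩, Groth.Agent.Lib.Helper73.map_fiberι_eq f y0 z⟩
    · show Q (f.base (f.fiberι y0 z)) (f.asFiber (f.fiberι y0 z))
      rw [← Groth.Agent.Lib.Helper73.fiber_pred_iff f Q y0 z]
      intro z' hz' hzz'
      have := huniq z' hz' hzz'
      subst this
      exact ⟨n, Finset.mem_singleton_self n, hd.trans hdim⟩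
    · rw [← Groth.Agent.Lib.Helper15.SuppTensor.mem_support_pullback_iff _ F hcoh]
      exact Groth.Agent.Lib.Helper21.NowhereDense.ass_subset_support _ hzA

/-- **EGA IV 12.2.1 (ii)**. -/
theorem main (f : X ⟶ Y) [LocallyOfFinitePresentation f]
    (F : X.Modules) (hF : CohB1.IsFP F) (hflat : FlatMod.IsFlatOver f F) (Φ : Finset ℕ) :
    IsOpen {y : Y | ∀ n ∈ Φ, ∃ Z ∈ irreducibleComponents ↥{z : ↥(f.fiber y) | Nontrivial
        (((Scheme.Modules.pullback (f.fiberι y)).obj F).presheaf.stalk z)},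
      topologicalKrullDim ↥Z = (n : WithBot ℕ∞)} := by
  have : {y : Y | ∀ n ∈ Φ, ∃ Z ∈ irreducibleComponents ↥{z : ↥(f.fiber y) | Nontrivial
        (((Scheme.Modules.pullback (f.fiberι y)).obj F).presheaf.stalk z)},
      topologicalKrullDim ↥Z = (n : WithBot ℕ∞)} =
      ⋂ n ∈ Φ, {y : Y | ∃ Z ∈ irreducibleComponents ↥{z : ↥(f.fiber y) | Nontrivial
        (((Scheme.Modules.pullback (f.fiberι y)).obj F).presheaf.stalk z)},
      topologicalKrullDim ↥Z = (n : WithBot ℕ∞)} := by
    ext y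
    simp only [Set.mem_ofPred_eq, Set.mem_iInter]
  rw [this]
  exact isOpen_biInter_finset fun n _ => isOpen_exists_component f F hF hflat n

/-- the locus of `y` where `F_y` has no embedded associated point is open (`f` closed map). -/
theorem isOpen_noEmbedded (f : X ⟶ Y) [LocallyOfFinitePresentation f] (hcl : IsClosedMap f)
    (F : X.Modules) (hF : CohB1.IsFP F) (hflat : FlatMod.IsFlatOver f F) :
    IsOpen {y : Y | AssSch.NoEmbedded ((Scheme.Modules.pullback (f.fiberι y)).obj F)} := by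
  have h := Groth.Agent.Lib.Helper73.isOpen_forall_fiber_of_isClosedMap' f hcl
    (fun y x => ∀ z ∈ AssSch.Ass ((Scheme.Modules.pullback (f.fiberι y)).obj F), x ∈ closure {z} →
      ∀ z' ∈ AssSch.Ass ((Scheme.Modules.pullback (f.fiberι y)).obj F), z ∈ closure {z'} → z' = z)
    (Groth.Agent.S4983.result f F hF hflat)
  convert h using 1
  ext y
  simp only [Set.mem_ofPred_eq]
  constructor
  · intro h1 x z hz _ z' hz' hzz'
    exact (h1 z hz z' hz' (specializes_iff_mem_closure.2 hzz')).symm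
  · intro h1 z hz z' hz' hsp
    exact (h1 z z hz (subset_closure rfl) z' hz' (specializes_iff_mem_closure.1 hsp)).symm

/-- **EGA IV 12.2.1 (iii)-type statement**. -/
theorem main2 (f : X ⟶ Y) [IsProper f] [LocallyOfFinitePresentation f]
    (F : X.Modules) (hF : CohB1.IsFP F) (hflat : FlatMod.IsFlatOver f F) (Φ : Finset ℕ) :
    IsOpen {y : Y | AssSch.NoEmbedded ((Scheme.Modules.pullback (f.fiberι y)).obj F) ∧
      (fun Z : Set ↥{z : ↥(f.fiber y) | Nontrivial (((Scheme.Modules.pullback (f.fiberι y)).obj F).presheaf.stalk z)} => topologicalKrullDim ↥Z) '' irreducibleComponents ↥{z : ↥(f.fiber y) | Nontrivial (((Scheme.Modules.pullback (f.fiberι y)).obj F).presheaf.stalk z)} =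
        (fun n : ℕ => (n : WithBot ℕ∞)) '' (Φ : Set ℕ)} := by
  have hcoh := isCoh_of_isFP F hF
  have hN := isOpen_noEmbedded f f.isClosedMap F hF hflat
  have hA := main f F hF hflat Φ
  have hB := Groth.Agent.S4964.result f F hF hflat Φ
  convert (hN.inter hA).inter hB using 1
  ext y
  haveI := isLocallyNoetherian_fiber f y
  have hG := isCoh_fiber f F hcoh y
  simp only [Set.mem_ofPred_eq, Set.mem_inter_iff]
  constructor
  · rintro ⟨hne, hset⟩
    refine ⟨⟨hne, ?_⟩, ?_⟩
    · intro n hn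
      have : ((n : ℕ) : WithBot ℕ∞) ∈ (fun n : ℕ => (n : WithBot ℕ∞)) '' (Φ : Set ℕ) :=
        ⟨n, hn, rfl⟩
      rw [← hset] at this
      obtain ⟨Z, hZ, hd⟩ := this
      exact ⟨Z, hZ, hd⟩
    · intro z hz
      have hzS : Nontrivial (((Scheme.Modules.pullback (f.fiberι y)).obj F).presheaf.stalk z) :=
        not_subsingleton_iff_nontrivial.1
          (Groth.Agent.Lib.Helper21.NowhereDense.ass_subset_support _ hz)
      obtain ⟨z₁, hz₁, hzz₁, Z, hZ, hd⟩ :=
        exists_mem_irreducibleComponents_of_nontrivial _ hG z hzS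
      have hzeq : z = z₁ := hne z hz z₁ hz₁ (specializes_iff_mem_closure.2 hzz₁)
      subst hzeq
      have : topologicalKrullDim ↥Z ∈ (fun n : ℕ => (n : WithBot ℕ∞)) '' (Φ : Set ℕ) := by
        rw [← hset]
        exact ⟨Z, hZ, rfl⟩
      obtain ⟨n, hn, hnd⟩ := this
      exact ⟨n, hn, by rw [← hd]; exact hnd.symm⟩
  · rintro ⟨⟨hne, hA'⟩, hB'⟩
    refine ⟨hne, ?_⟩
    apply Set.Subset.antisymm
    · rintro _ ⟨Z, hZ, rfl⟩
      obtain ⟨z, hzA, -, hd⟩ := exists_ass_of_mem_irreducibleComponents _ hG Z hZ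
      obtain ⟨n, hn, hnd⟩ := hB' z hzA
      refine ⟨n, hn, ?_⟩
      show ((n : ℕ) : WithBot ℕ∞) = topologicalKrullDim ↥Z
      rw [← hd, hnd]
    · rintro _ ⟨n, hn, rfl⟩
      obtain ⟨Z, hZ, hd⟩ := hA' n hn
      exact ⟨Z, hZ, hd⟩

end Groth.Agent.Lib.Helper67.CompDim
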