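import Groth.Agent.Lib.Helper67.CompDim
import Groth.Agent.Lib.Helper73.DimFT.Scheme
import Groth.Agent.Lib.Helper73.DimFormula.LocDimFiber
import Groth.Agent.Lib.Helper73.DimFormula.GenericFibre
import Groth.Agent.Lib.Helper21.AssTools

/-!
# Local constancy of the dimension of the fibre supports of a flat module (helper67)
EGA IV 12.2.1 (i).
-/

set_option autoImplicit false
set_option linter.style.haveILetI false
universe u
open CategoryTheory AlgebraicGeometry Topology

namespace Groth.Agent.Lib.Helper67.CompDim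

open Groth.Agent.Lib.Helper73

section Abs

variable {T : Scheme.{u}} [IsLocallyNoetherian T] (G : T.Modules) (hG : Coh.IsCoh G)
  {δ : ↥T → ℕ} (hδ : IsDimFun δ)

theorem setOf_nontrivial_eq : {z : ↥T | Nontrivial ↑(G.presheaf.stalk z)} = CohB1.support G := by
  ext z
  exact not_subsingleton_iff_nontrivial.symm

include hG in
theorem isClosed_setOf_nontrivial : IsClosed {z : ↥T | Nontrivial ↑(G.presheaf.stalk z)} := by
  rw [setOf_nontrivial_eq]
  haveI : G.IsQuasicoherent := hG.1
  exact Groth.Agent.Lib.Helper21.CohSupport.isClosed_support G hG.2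

include hG hδ in
theorem dim_eq_iSup : topologicalKrullDim ↥{z : ↥T | Nontrivial ↑(G.presheaf.stalk z)} =
    ⨆ x : ↥{z : ↥T | Nontrivial ↑(G.presheaf.stalk z)}, ((δ x.1 : ℕ∞) : WithBot ℕ∞) := by
  have hS := isClosed_setOf_nontrivial G hG
  haveI : QuasiSober ↥{z : ↥T | Nontrivial ↑(G.presheaf.stalk z)} :=
    hS.isClosedEmbedding_subtypeVal.quasiSober
  exact (hδ.comp_isClosedEmbedding Subtype.val hS.isClosedEmbedding_subtypeVal).topologicalKrullDim_eq_iSup

include hG hδ in
/-- every point of the support has an associated generization, of at least the same `δ` -/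
theorem exists_ass_le (x : ↥T) (hx : Nontrivial ↑(G.presheaf.stalk x)) :
    ∃ z ∈ AssSch.Ass G, z ⤳ x ∧ δ x ≤ δ z := by
  haveI : G.IsQuasicoherent := hG.1
  obtain ⟨z, hz, hzx⟩ := Groth.Agent.Lib.Helper21.NowhereDense.exists_ass_specializes G x
    (not_subsingleton_iff_nontrivial.2 hx)
  refine ⟨z, hz, hzx, ?_⟩
  by_cases h : z = x
  · rw [h]
  · exact (hδ.lt_of_specializes hzx h).le

include hG hδ in
theorem dim_le_iff (n : ℕ) :
    topologicalKrullDim ↥{z : ↥T | Nontrivial ↑(G.presheaf.stalk z)} ≤ ((n : ℕ∞) : WithBot ℕ∞) ↔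
      ∀ z ∈ AssSch.Ass G, ∃ m ∈ Finset.range (n + 1),
        topologicalKrullDim ↥(closure ({z} : Set ↥T)) = ((m : ℕ) : WithBot ℕ∞) := by
  rw [dim_eq_iSup G hG hδ]
  constructor
  · intro h z hz
    have hzS : Nontrivial ↑(G.presheaf.stalk z) := not_subsingleton_iff_nontrivial.1
      (Groth.Agent.Lib.Helper21.NowhereDense.ass_subset_support _ hz)
    have h1 := le_trans (le_iSup (fun x : ↥{z : ↥T | Nontrivial ↑(G.presheaf.stalk z)} =>
      ((δ x.1 : ℕ∞) : WithBot ℕ∞)) ⟨z, hzS⟩) h
    have h2 : δ z ≤ n := by exact_mod_cast h1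
    refine ⟨δ z, Finset.mem_range.2 (by omega), ?_⟩
    rw [hδ.topologicalKrullDim_closure_singleton z]
    rfl
  · intro h
    refine iSup_le fun x => ?_
    obtain ⟨z, hz, -, hle⟩ := exists_ass_le G hG hδ x.1 x.2
    obtain ⟨m, hm, hd⟩ := h z hz
    rw [hδ.topologicalKrullDim_closure_singleton z] at hd
    have h3 : δ z = m := by exact_mod_cast hd
    have h4 : m < n + 1 := Finset.mem_range.1 hm
    have : δ x.1 ≤ n := by omega
    exact_mod_cast this

include hG hδ in
theorem le_dim_iff (n : ℕ) :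
    ((n : ℕ∞) : WithBot ℕ∞) ≤ topologicalKrullDim ↥{z : ↥T | Nontrivial ↑(G.presheaf.stalk z)} ↔
      ∃ m : ℕ, n ≤ m ∧ ∃ Z ∈ irreducibleComponents ↥{z : ↥T | Nontrivial ↑(G.presheaf.stalk z)},
        topologicalKrullDim ↥Z = ((m : ℕ) : WithBot ℕ∞) := by
  constructor
  · intro h
    rw [dim_eq_iSup G hG hδ] at h
    -- some point of the support has δ ≥ n
    have hex : ∃ x : ↥{z : ↥T | Nontrivial ↑(G.presheaf.stalk z)}, n ≤ δ x.1 := by
      by_contra hcon
      push Not at hcon
      rcases Nat.eq_zero_or_pos n with h0 | hpos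
      · subst h0
        by_cases hne : Nonempty ↥{z : ↥T | Nontrivial ↑(G.presheaf.stalk z)}
        · obtain ⟨x⟩ := hne
          exact absurd (hcon x) (by omega)
        · rw [not_nonempty_iff] at hne
          rw [iSup_of_empty] at h
          exact absurd h (by simp)
      · have h1 : (⨆ x : ↥{z : ↥T | Nontrivial ↑(G.presheaf.stalk z)},
            ((δ x.1 : ℕ∞) : WithBot ℕ∞)) ≤ (((n - 1 : ℕ) : ℕ∞) : WithBot ℕ∞) := by
          refine iSup_le fun x => ?_
          have := hcon x
          have h2 : δ x.1 ≤ n - 1 := by omega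
          exact_mod_cast h2
        have h3 := le_trans h h1
        have h4 : n ≤ n - 1 := by exact_mod_cast h3
        omega
    obtain ⟨x, hx⟩ := hex
    have hS := isClosed_setOf_nontrivial G hG
    haveI : QuasiSober ↥{z : ↥T | Nontrivial ↑(G.presheaf.stalk z)} :=
      hS.isClosedEmbedding_subtypeVal.quasiSober
    have hδS := hδ.comp_isClosedEmbedding Subtype.val hS.isClosedEmbedding_subtypeVal
    haveI := hδS.t0Space
    obtain ⟨ζ, hζx, hζmax⟩ := exists_maximal_specializes x
    have hle : δ x.1 ≤ δ ζ.1 := by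
      by_cases h : ζ = x
      · rw [h]
      · exact (hδS.lt_of_specializes hζx h).le
    refine ⟨δ ζ.1, by omega, closure {ζ},
      closure_singleton_mem_irreducibleComponents_of_maximal ζ hζmax, ?_⟩
    rw [hδS.topologicalKrullDim_closure_singleton ζ]
    rfl
  · rintro ⟨m, hnm, Z, -, hd⟩
    have h1 := topologicalKrullDim_subspace_le ↥{z : ↥T | Nontrivial ↑(G.presheaf.stalk z)} Z
    rw [hd] at h1
    refine le_trans ?_ h1
    exact_mod_cast hnm

include hG hδ in
theorem dim_eq_bot_iff :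
    topologicalKrullDim ↥{z : ↥T | Nontrivial ↑(G.presheaf.stalk z)} = ⊥ ↔
      ∀ z ∈ AssSch.Ass G, ∃ m ∈ (∅ : Finset ℕ),
        topologicalKrullDim ↥(closure ({z} : Set ↥T)) = ((m : ℕ) : WithBot ℕ∞) := by
  rw [dim_eq_iSup G hG hδ]
  constructor
  · intro h z hz
    exfalso
    have hzS : Nontrivial ↑(G.presheaf.stalk z) := not_subsingleton_iff_nontrivial.1
      (Groth.Agent.Lib.Helper21.NowhereDense.ass_subset_support _ hz)
    have h1 := le_iSup (fun x : ↥{z : ↥T | Nontrivial ↑(G.presheaf.stalk z)} =>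
      ((δ x.1 : ℕ∞) : WithBot ℕ∞)) ⟨z, hzS⟩
    rw [h] at h1
    simp at h1
  · intro h
    haveI : IsEmpty ↥{z : ↥T | Nontrivial ↑(G.presheaf.stalk z)} := by
      refine ⟨fun x => ?_⟩
      obtain ⟨z, hz, -, -⟩ := exists_ass_le G hG hδ x.1 x.2
      obtain ⟨m, hm, -⟩ := h z hz
      simp at hm
    rw [iSup_of_empty]

include hG hδ in
theorem dim_ne_top [IsNoetherian T] :
    topologicalKrullDim ↥{z : ↥T | Nontrivial ↑(G.presheaf.stalk z)} ≠ ⊤ := by
  have hfin := Groth.Agent.Lib.Helper21.AssTools.ass_finite G hG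
  intro htop
  have h1 := (dim_le_iff G hG hδ (hfin.toFinset.sup δ)).2 (by
    intro z hz
    refine ⟨δ z, Finset.mem_range.2 ?_, ?_⟩
    · have : δ z ≤ hfin.toFinset.sup δ := Finset.le_sup (hfin.mem_toFinset.2 hz)
      omega
    · rw [hδ.topologicalKrullDim_closure_singleton z]
      rfl)
  rw [htop, top_le_iff, ← WithBot.coe_top, WithBot.coe_eq_coe] at h1
  exact ENat.coe_ne_top _ h1

end Abs

variable {X Y : Scheme.{u}}

/-- **EGA IV 12.2.1 (i)**. -/
theorem main3 (f : X ⟶ Y) [IsProper f] [LocallyOfFinitePresentation f]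
    (F : X.Modules) (hF : CohB1.IsFP F) (hflat : FlatMod.IsFlatOver f F) :
    IsLocallyConstant (fun y : Y => topologicalKrullDim ↥{z : ↥(f.fiber y) | Nontrivial (((Scheme.Modules.pullback (f.fiberι y)).obj F).presheaf.stalk z)}) := by
  have hcoh := isCoh_of_isFP F hF
  have hδ : ∀ y : Y, IsDimFun (trdegNat (k := Y.residueField y) (f.fiberToSpecResidueField y)) :=
    fun y => isDimFun_trdegNat (k := Y.residueField y) (f.fiberToSpecResidueField y)
  have hLe : ∀ n : ℕ, IsOpen {y : Y | topologicalKrullDim ↥{z : ↥(f.fiber y) | Nontrivial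
      (((Scheme.Modules.pullback (f.fiberι y)).obj F).presheaf.stalk z)} ≤
        ((n : ℕ∞) : WithBot ℕ∞)} := by
    intro n
    have := Groth.Agent.S4964.result f F hF hflat (Finset.range (n + 1))
    convert this using 1
    ext y
    haveI := isLocallyNoetherian_fiber f y
    exact dim_le_iff _ (isCoh_fiber f F hcoh y) (hδ y) n
  have hGe : ∀ n : ℕ, IsOpen {y : Y | ((n : ℕ∞) : WithBot ℕ∞) ≤
      topologicalKrullDim ↥{z : ↥(f.fiber y) | Nontrivial
        (((Scheme.Modules.pullback (f.fiberι y)).obj F).presheaf.stalk z)}} := by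
    intro n
    have : {y : Y | ((n : ℕ∞) : WithBot ℕ∞) ≤
        topologicalKrullDim ↥{z : ↥(f.fiber y) | Nontrivial
          (((Scheme.Modules.pullback (f.fiberι y)).obj F).presheaf.stalk z)}} =
        ⋃ m ∈ {m : ℕ | n ≤ m}, {y : Y | ∃ Z ∈ irreducibleComponents ↥{z : ↥(f.fiber y) | Nontrivial
          (((Scheme.Modules.pullback (f.fiberι y)).obj F).presheaf.stalk z)},
          topologicalKrullDim ↥Z = (m : WithBot ℕ∞)} := by
      ext y
      haveI := isLocallyNoetherian_fiber f y
      rw [Set.mem_ofPred_eq, le_dim_iff _ (isCoh_fiber f F hcoh y) (hδ y) n]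
      simp only [Set.mem_iUnion, Set.mem_ofPred_eq, exists_prop]
    rw [this]
    exact isOpen_biUnion fun m _ => isOpen_exists_component f F hF hflat m
  have hBot : IsOpen {y : Y | topologicalKrullDim ↥{z : ↥(f.fiber y) | Nontrivial
      (((Scheme.Modules.pullback (f.fiberι y)).obj F).presheaf.stalk z)} = ⊥} := by
    have := Groth.Agent.S4964.result f F hF hflat ∅
    convert this using 1
    ext y
    haveI := isLocallyNoetherian_fiber f y
    exact dim_eq_bot_iff _ (isCoh_fiber f F hcoh y) (hδ y)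
  rw [IsLocallyConstant.iff_exists_open]
  intro y0
  by_cases hb : topologicalKrullDim ↥{z : ↥(f.fiber y0) | Nontrivial
      (((Scheme.Modules.pullback (f.fiberι y0)).obj F).presheaf.stalk z)} = ⊥
  · refine ⟨_, hBot, hb, ?_⟩
    intro y hy
    rw [hb]
    exact hy
  · haveI := isLocallyNoetherian_fiber f y0
    haveI : CompactSpace ↥(f.fiber y0) :=
      QuasiCompact.compactSpace_of_compactSpace (f.fiberToSpecResidueField y0)
    haveI : IsNoetherian (f.fiber y0) := {}
    have ht := dim_ne_top _ (isCoh_fiber f F hcoh y0) (hδ y0)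
    obtain ⟨e, he⟩ := WithBot.ne_bot_iff_exists.1 hb
    have he' : e ≠ ⊤ := by
      intro h
      rw [h] at he
      exact ht he.symm
    obtain ⟨n, hn⟩ := ENat.ne_top_iff_exists.1 he'
    have hd0 : topologicalKrullDim ↥{z : ↥(f.fiber y0) | Nontrivial
        (((Scheme.Modules.pullback (f.fiberι y0)).obj F).presheaf.stalk z)} =
        ((n : ℕ∞) : WithBot ℕ∞) := by
      rw [← he, ← hn]
    refine ⟨_, (hLe n).inter (hGe n), ⟨hd0.le, hd0.ge⟩, ?_⟩
    rintro y ⟨h1, h2⟩
    rw [hd0]
    exact le_antisymm h1 h2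

end Groth.Agent.Lib.Helper67.CompDim
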