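import Mathlib
import Groth.Agent.S1335
import Groth.Agent.S1339
import Groth.Agent.Lib.Helper51.GeomFibreBC
import Groth.Agent.Lib.Helper73.LimConstructible
import Groth.Agent.Lib.Helper67.SecComp

/-!
# Geometric connectedness of fibres at a finite stage of a limit of Noetherian schemes
-/

set_option autoImplicit false
set_option linter.style.haveILetI false
universe u

open AlgebraicGeometry CategoryTheory Limits TopologicalSpace

namespace Groth.Agent.Lib.Helper67.ConnLim

open Groth.Agent.Lib.Helper51

/-- Over a separably closed field, the number of geometric connected components of the fibre is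
the number of connected components of the scheme. -/
theorem nGeomConnComp_eq_card_of_isSepClosed {Ω : Type u} [Field Ω] [IsSepClosed Ω]
    {W : Scheme.{u}} (g : W ⟶ Spec (CommRingCat.of Ω)) (pt : Spec (CommRingCat.of Ω)) :
    MoreMor.nGeomConnComp g pt = ENat.card (_root_.ConnectedComponents ↥W) := by
  obtain ⟨Y, hY⟩ : ∃ Y : Scheme.{u}, Y = Spec (CommRingCat.of Ω) := ⟨_, rfl⟩
  subst hY
  let z : Spec (CommRingCat.of (SeparableClosure ((Spec (CommRingCat.of Ω)).residueField pt))) ⟶
      Spec (CommRingCat.of Ω) :=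
    sepMap (Spec (CommRingCat.of Ω)) pt ≫ (Spec (CommRingCat.of Ω)).fromSpecResidueField pt
  let p : MoreMor.geomFiber g pt ⟶ W :=
    pullback.fst (g.fiberToSpecResidueField pt) (sepMap (Spec (CommRingCat.of Ω)) pt) ≫
      g.fiberι pt
  have hpb : IsPullback p
      (pullback.snd (g.fiberToSpecResidueField pt) (sepMap (Spec (CommRingCat.of Ω)) pt)) g z :=
    (IsPullback.of_hasPullback (g.fiberToSpecResidueField pt)
      (sepMap (Spec (CommRingCat.of Ω)) pt)).paste_horiz
      (IsPullback.of_hasPullback g ((Spec (CommRingCat.of Ω)).fromSpecResidueField pt))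
  obtain ⟨ψ, hψ⟩ := Spec.map_surjective z
  letI : Algebra Ω (SeparableClosure ((Spec (CommRingCat.of Ω)).residueField pt)) :=
    ψ.hom.toAlgebra
  have hz : z = Spec.map (CommRingCat.ofHom
      (algebraMap Ω (SeparableClosure ((Spec (CommRingCat.of Ω)).residueField pt)))) := hψ.symm
  haveI hz1 : GeometricallyConnected z := by
    rw [hz]
    exact geometricallyConnected_specMap_of_isSepClosed Ω _
  haveI hz2 : UniversallyOpen z := by
    rw [hz]
    infer_instance
  haveI : GeometricallyConnected p :=
    MorphismProperty.of_isPullback (P := @GeometricallyConnected) hpb.flip hz1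
  haveI : UniversallyOpen p :=
    MorphismProperty.of_isPullback (P := @UniversallyOpen) hpb.flip hz2
  have e := p.connectedComponentsHomeomorph p.isOpenMap
  unfold MoreMor.nGeomConnComp
  exact ENat.card_congr e.toEquiv

/-- Preconnectedness of a geometric fibre in terms of the count of geometric components. -/
theorem preconnectedSpace_pullback_iff {X₀ S₀ : Scheme.{u}} (f₀ : X₀ ⟶ S₀) {Ω : Type u} [Field Ω]
    [IsSepClosed Ω] (t : Spec (CommRingCat.of Ω) ⟶ S₀) (pt : Spec (CommRingCat.of Ω)) :
    PreconnectedSpace ↥(pullback f₀ t) ↔ MoreMor.nGeomConnComp f₀ (t pt) ≤ 1 := by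
  rw [← Groth.Agent.S1335.result f₀ (pullback.snd f₀ t) (pullback.fst f₀ t) t
    (IsPullback.of_hasPullback f₀ t) pt, nGeomConnComp_eq_card_of_isSepClosed,
    ENat.card_le_one_iff_subsingleton]
  exact ⟨fun _ => inferInstance,
    fun _ => Groth.Agent.Lib.Helper67.SecComp.preconnectedSpace_of_subsingleton⟩

/-- Preconnectedness passes to continuous surjective images. -/
theorem preconnectedSpace_of_surjective {α β : Type*} [TopologicalSpace α] [TopologicalSpace β]
    [PreconnectedSpace α] (f : α → β) (hf : Continuous f) (hs : Function.Surjective f) :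
    PreconnectedSpace β := by
  refine ⟨?_⟩
  have h1 : _root_.IsPreconnected (Set.range f) := isPreconnected_range hf
  rwa [hs.range_eq] at h1

/-- **Geometric connectedness of fibres holds at a finite stage** (statement S18877). -/
theorem main {I : Type u} [SmallCategory I] [IsCofiltered I]
    (D : I ⥤ Scheme.{u}) (c : Limits.Cone D) (hc : Limits.IsLimit c)
    [∀ (i j : I) (a : i ⟶ j), IsAffineHom (D.map a)]
    [∀ i : I, AlgebraicGeometry.IsNoetherian (D.obj i)]
    (i₀ : I) {X₀ : Scheme.{u}} (f₀ : X₀ ⟶ D.obj i₀) [QuasiCompact f₀] [LocallyOfFiniteType f₀]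
    {X : Scheme.{u}} (f : X ⟶ c.pt) (q : X ⟶ X₀) (hX : IsPullback q f f₀ (c.π.app i₀))
    (hconn : ∀ (Ω : Type u) [Field Ω] [IsAlgClosed Ω] (t : Spec (CommRingCat.of Ω) ⟶ c.pt),
      PreconnectedSpace ↥(Limits.pullback f t)) :
    ∃ (i : I) (a : i ⟶ i₀), ∀ (Ω : Type u) [Field Ω] [IsAlgClosed Ω]
      (t : Spec (CommRingCat.of Ω) ⟶ D.obj i),
      PreconnectedSpace ↥(Limits.pullback f₀ (t ≫ D.map a)) := by
  classical
  obtain ⟨E₀, hE₀d⟩ : ∃ E₀ : Set (D.obj i₀), E₀ = {s | MoreMor.nGeomConnComp f₀ s ≤ 1} :=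
    ⟨_, rfl⟩
  have hE₀ : Topology.IsConstructible E₀ := by
    have : E₀ = {s | MoreMor.nGeomConnComp f₀ s = 0} ∪ {s | MoreMor.nGeomConnComp f₀ s = 1} := by
      rw [hE₀d]
      ext s
      simp only [Set.mem_ofPred_eq, Set.mem_union]
      constructor
      · intro h
        rcases lt_or_eq_of_le h with h | h
        · exact Or.inl (Order.lt_one_iff.1 h)
        · exact Or.inr h
      · rintro (h | h) <;> rw [h]
        exact zero_le_one
    rw [this]
    exact (Groth.Agent.S1339.isConstructible_noeth f₀ 0).union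
      (Groth.Agent.S1339.isConstructible_noeth f₀ 1)
  -- the image of the limit lies in `E₀`
  have himg : ∀ s : c.pt, c.π.app i₀ s ∈ E₀ := by
    intro s
    let Ω := AlgebraicClosure (c.pt.residueField s)
    let t : Spec (CommRingCat.of Ω) ⟶ c.pt :=
      Spec.map (CommRingCat.ofHom (algebraMap (c.pt.residueField s) Ω)) ≫
        c.pt.fromSpecResidueField s
    have ht : ∀ p, t p = s := fun p => by
      show (Spec.map _ ≫ c.pt.fromSpecResidueField s) p = s
      rw [Scheme.Hom.comp_apply, Scheme.fromSpecResidueField_apply]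
    haveI h1 := hconn Ω t
    have hpb : IsPullback (pullback.fst f t ≫ q) (pullback.snd f t) f₀ (t ≫ c.π.app i₀) :=
      (IsPullback.of_hasPullback f t).paste_horiz hX
    haveI : PreconnectedSpace ↥(pullback f₀ (t ≫ c.π.app i₀)) :=
      preconnectedSpace_of_surjective hpb.isoPullback.hom hpb.isoPullback.hom.continuous
        hpb.isoPullback.hom.homeomorph.surjective
    let pt : Spec (CommRingCat.of Ω) := IsLocalRing.closedPoint Ω
    have h2 := (preconnectedSpace_pullback_iff f₀ (t ≫ c.π.app i₀) pt).1 inferInstance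
    rw [Scheme.Hom.comp_apply, ht] at h2
    rw [hE₀d]
    exact h2
  obtain ⟨j', ψ, hψ⟩ := Groth.Agent.Lib.Helper73.exists_forall_mem_of_isConstructible D c hc i₀
    (Topology.isConstructible_compl.2 hE₀) i₀ (𝟙 i₀) ⊤ ⊥ isCompact_univ
    (fun s _ hs => absurd (himg s) hs)
  refine ⟨j', ψ, fun Ω _ _ t => ?_⟩
  let pt : Spec (CommRingCat.of Ω) := IsLocalRing.closedPoint Ω
  rw [preconnectedSpace_pullback_iff f₀ (t ≫ D.map ψ) pt]
  by_contra hn
  have h3 := hψ (t pt) trivial (by
    rw [CategoryTheory.Functor.map_id, hE₀d]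
    rw [Scheme.Hom.comp_apply] at hn
    exact hn)
  exact h3

end Groth.Agent.Lib.Helper67.ConnLim
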