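import Groth.Agent.Lib.Helper67.RegFlat4
import Groth.Agent.Lib.Helper77.MiracleFlat

set_option autoImplicit false
set_option linter.style.haveILetI false
set_option linter.unusedSectionVars false

universe u v w

namespace Groth.Agent.Lib.Helper67

open RingTheory.Sequence LocCoh TensorProduct IsLocalRing
open scoped Pointwise

section QuotData

variable {A : Type u} (B : Type u) [CommRing A] [CommRing B] [Algebra A B]
  (M : Type u) [AddCommGroup M] [Module B M] [Module A M] [IsScalarTower A B M] (I : Ideal A)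

/-- `M/(IB)M` as a `B`-module quotient. -/
abbrev QuotMod : Type u := M ⧸ (I.map (algebraMap A B) • (⊤ : Submodule B M))

/-- the `A/I`-module structure on `M/(IB)M` through `B/IB`. -/
@[reducible] noncomputable def quotModModule : Module (A ⧸ I) (QuotMod B M I) :=
  Module.compHom (QuotMod B M I) (algebraMap (A ⧸ I) (B ⧸ I.map (algebraMap A B)))

attribute [local instance] quotModModule

theorem quotMod_isScalarTower₁ :
    IsScalarTower (A ⧸ I) (B ⧸ I.map (algebraMap A B)) (QuotMod B M I) :=
  IsScalarTower.of_algebraMap_smul fun _ _ => rfl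

theorem quotMod_isScalarTower₂ : IsScalarTower A (A ⧸ I) (QuotMod B M I) := by
  apply IsScalarTower.of_algebraMap_smul
  intro a x
  obtain ⟨x, rfl⟩ := Submodule.Quotient.mk_surjective _ x
  change (algebraMap (A ⧸ I) (B ⧸ I.map (algebraMap A B)) (Ideal.Quotient.mk I a)) •
    (Submodule.Quotient.mk x : QuotMod B M I) = a • Submodule.Quotient.mk x
  have h1 : algebraMap (A ⧸ I) (B ⧸ I.map (algebraMap A B)) (Ideal.Quotient.mk I a) =
      Ideal.Quotient.mk (I.map (algebraMap A B)) (algebraMap A B a) := rfl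
  rw [h1, Module.Quotient.mk_smul_mk, ← Submodule.Quotient.mk_smul, algebraMap_smul]

theorem quotMod_finite [Module.Finite B M] :
    Module.Finite (B ⧸ I.map (algebraMap A B)) (QuotMod B M I) :=
  Module.Finite.of_restrictScalars_finite B _ _

/-- `M/(IB)M ≃ M/IM` over `A`. -/
noncomputable def quotModEquiv : QuotMod B M I ≃ₗ[A] M ⧸ (I • (⊤ : Submodule A M)) :=
  (Submodule.Quotient.restrictScalarsEquiv A
    (I.map (algebraMap A B) • (⊤ : Submodule B M))).symm ≪≫ₗ
    Submodule.quotEquivOfEq _ _ (by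
      rw [Ideal.smul_restrictScalars, Submodule.restrictScalars_top])

/-- `M/(IB)M ≃ (A/I) ⊗ M` over `A/I`. -/
noncomputable def quotModTensorEquiv : QuotMod B M I ≃ₗ[A ⧸ I] ((A ⧸ I) ⊗[A] M) :=
  haveI := quotMod_isScalarTower₂ B M I
  (quotModEquiv B M I ≪≫ₗ (TensorProduct.quotTensorEquivQuotSMul M I).symm).extendScalarsOfSurjective
    Ideal.Quotient.mk_surjective

end QuotData

section LocalStep

variable {A B : Type u} [CommRing A] [CommRing B] [Algebra A B] [IsLocalRing A] [IsLocalRing B]
  [IsNoetherianRing A] [IsNoetherianRing B] [IsLocalHom (algebraMap A B)]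
  (M : Type u) [AddCommGroup M] [Module B M] [Module A M] [IsScalarTower A B M]
  [Module.Finite B M]

attribute [local instance] quotModModule

theorem isLocalRing_quot (I : Ideal A) (hI : I ≠ ⊤) : IsLocalRing (A ⧸ I) :=
  haveI : Nontrivial (A ⧸ I) := Ideal.Quotient.nontrivial_iff.mpr hI
  IsLocalRing.of_surjective' (Ideal.Quotient.mk I) Ideal.Quotient.mk_surjective

theorem isLocalRing_quot_map (I : Ideal A) (hI : I ≠ ⊤) :
    IsLocalRing (B ⧸ I.map (algebraMap A B)) :=
  isLocalRing_quot _ (Groth.Agent.Lib.Helper77.MiracleFlat.map_ne_top A B I hI)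

/-- Stacks 00ML / EGA 0_IV 15.1.16 for modules: `f ∈ m_A` regular on `M`, `M/fM` flat over `A/f`
⟹ `M` flat over `A`. -/
theorem flat_of_flat_quotMod (f : A) (hf : f ∈ maximalIdeal A) (hreg : IsSMulRegular M f)
    (hflat : Module.Flat (A ⧸ Ideal.span {f}) (QuotMod B M (Ideal.span {f}))) :
    Module.Flat A M := by
  have hle : Ideal.span {f} ≤ maximalIdeal A := (Ideal.span_singleton_le_iff_mem _).mpr hf
  have hne : Ideal.span {f} ≠ ⊤ := fun h =>
    (maximalIdeal.isMaximal A).ne_top (top_le_iff.mp (h ▸ hle))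
  apply Groth.Agent.Lib.Helper6.LocalFlat.flat_of_isLocalHom (S := B) (M := M) (Ideal.span {f}) hne
  · exact Groth.Agent.Lib.Helper6.FlatRegular.rTensor_span_singleton_injective f hreg
  · exact Module.Flat.of_linearEquiv (quotModTensorEquiv B M (Ideal.span {f})).symm

theorem map_mk_ofList_cons {A : Type u} [CommRing A] (f : A) (fs : List A) :
    Ideal.map (Ideal.Quotient.mk (Ideal.span {f})) (Ideal.ofList (f :: fs)) =
      Ideal.ofList (fs.map (Ideal.Quotient.mk (Ideal.span {f}))) := by
  rw [Ideal.map_ofList, List.map_cons, Ideal.ofList_cons]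
  have h0 : Ideal.Quotient.mk (Ideal.span {f}) f = 0 :=
    Ideal.Quotient.eq_zero_iff_mem.mpr (Ideal.subset_span rfl)
  rw [h0, Ideal.span_singleton_zero, bot_sup_eq]

theorem span_singleton_le_ofList_cons {A : Type u} [CommRing A] (f : A) (fs : List A) :
    Ideal.span {f} ≤ Ideal.ofList (f :: fs) := by
  rw [Ideal.ofList_cons]
  exact le_sup_left

theorem mk_mem_ofList_map_iff {A : Type u} [CommRing A] (f : A) (fs : List A) (a : A) :
    Ideal.Quotient.mk (Ideal.span {f}) a ∈
      Ideal.ofList (fs.map (Ideal.Quotient.mk (Ideal.span {f}))) ↔ a ∈ Ideal.ofList (f :: fs) := by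
  rw [← map_mk_ofList_cons, ← Ideal.mem_comap,
    Ideal.comap_map_of_surjective _ Ideal.Quotient.mk_surjective, ← RingHom.ker_eq_comap_bot,
    Ideal.mk_ker, sup_eq_left.mpr (span_singleton_le_ofList_cons f fs)]

end LocalStep

end Groth.Agent.Lib.Helper67
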