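import Groth.Agent.Lib.Helper67.FlatDim
import Groth.Agent.Lib.Helper67.QuotData
import Groth.Agent.Lib.Helper77.FlatDepth2
import Mathlib.RingTheory.KrullDimension.NonZeroDivisors

/-!
# Dimension inequality for local homomorphisms, module version (EGA 0_IV 16.3.9)

`dim_B (N ⊗_A M) ≤ dim_A M + dim_B (N / m_A N)` for a local homomorphism `A → B` of noetherian local
rings, `M` finite over `A`, `N` finite over `B` (no flatness).
-/

set_option autoImplicit false
set_option linter.style.haveILetI false
set_option linter.unusedSectionVars false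

universe u v w

namespace Groth.Agent.Lib.Helper67.DimIneq

open TensorProduct IsLocalRing Groth.Agent.Lib.Helper67 LocCoh
open scoped Pointwise

theorem maximalIdeal_quotient_eq_map {R : Type*} [CommRing R] [IsLocalRing R] (I : Ideal R)
    [IsLocalRing (R ⧸ I)] : maximalIdeal (R ⧸ I) = (maximalIdeal R).map (Ideal.Quotient.mk I) := by
  have hsurj : Function.Surjective (Ideal.Quotient.mk I) := Ideal.Quotient.mk_surjective
  have hloc : IsLocalHom (Ideal.Quotient.mk I) := IsLocalHom.of_surjective _ hsurj
  apply le_antisymm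
  · intro x hx
    obtain ⟨b, rfl⟩ := hsurj x
    apply Ideal.mem_map_of_mem
    rw [mem_maximalIdeal, mem_nonunits_iff] at *
    intro hu
    exact hx (hu.map _)
  · rw [Ideal.map_le_iff_le_comap]
    intro b hb
    rw [Ideal.mem_comap, mem_maximalIdeal, mem_nonunits_iff] at *
    intro hu
    exact hb (hloc.map_nonunit b hu)

/-- `dim_B (N / a N) = dim B / (ann N + a)` for a finite module. -/
theorem supportDim_quotient_smul_top {B : Type*} [CommRing B] (N : Type*) [AddCommGroup N]
    [Module B N] [Module.Finite B N] (a : Ideal B) :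
    Module.supportDim B (N ⧸ a • (⊤ : Submodule B N)) =
      ringKrullDim (B ⧸ (Module.annihilator B N ⊔ a)) := by
  rw [ringKrullDim_quotient, PrimeSpectrum.zeroLocus_sup, ← Module.support_eq_zeroLocus,
    ← Module.support_quotient]
  rfl

section Main

variable {A B : Type u} [CommRing A] [CommRing B] [IsLocalRing A] [IsLocalRing B]
  [IsNoetherianRing A] [IsNoetherianRing B] [Algebra A B] [IsLocalHom (algebraMap A B)]

theorem annihilator_le_maximalIdeal (M : Type*) [AddCommGroup M] [Module A M] [Nontrivial M] :
    Module.annihilator A M ≤ maximalIdeal A := by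
  apply le_maximalIdeal
  intro h
  rw [Module.annihilator_eq_top_iff] at h
  exact not_subsingleton M h

/-- **Dimension inequality** (EGA 0_IV 16.3.9):
`dim_B (N ⊗_A M) ≤ dim_A M + dim_B (N / m_A N)`. -/
theorem supportDim_tensor_le_add (M : Type u) [AddCommGroup M] [Module A M] [Module.Finite A M]
    (N : Type u) [AddCommGroup N] [Module B N] [Module A N] [IsScalarTower A B N]
    [Module.Finite B N] :
    Module.supportDim B (N ⊗[A] M) ≤ Module.supportDim A M +
      Module.supportDim B
        (N ⧸ ((maximalIdeal A).map (algebraMap A B) • (⊤ : Submodule B N))) := by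
  rcases subsingleton_or_nontrivial M with hM | hM
  · haveI : Subsingleton (N ⊗[A] M) := inferInstance
    rw [Module.supportDim_eq_bot_of_subsingleton B (N ⊗[A] M)]
    exact bot_le
  rcases subsingleton_or_nontrivial N with hN | hN
  · haveI : Subsingleton (N ⊗[A] M) := inferInstance
    rw [Module.supportDim_eq_bot_of_subsingleton B (N ⊗[A] M)]
    exact bot_le
  set I := Module.annihilator A M with hI
  set J := Module.annihilator B N with hJ
  set mB := (maximalIdeal A).map (algebraMap A B) with hmB
  set K := J ⊔ I.map (algebraMap A B) with hK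
  haveI : Module.Finite B (N ⊗[A] M) := finite_tensor N M
  have hKann : K ≤ Module.annihilator B (N ⊗[A] M) := by
    rw [hK, sup_le_iff]
    constructor
    · intro b hb
      rw [Module.mem_annihilator] at hb ⊢
      intro t
      induction t using TensorProduct.induction_on with
      | zero => simp
      | add a b ha hb' => rw [smul_add, ha, hb', add_zero]
      | tmul n m => rw [TensorProduct.smul_tmul', hb n, TensorProduct.zero_tmul]
    · rw [Ideal.map_le_iff_le_comap]
      intro a ha
      rw [Ideal.mem_comap, Module.mem_annihilator]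
      rw [hI, Module.mem_annihilator] at ha
      intro t
      rw [algebraMap_smul]
      induction t using TensorProduct.induction_on with
      | zero => simp
      | add a b ha' hb' => rw [smul_add, ha', hb', add_zero]
      | tmul n m => rw [← TensorProduct.tmul_smul, ha m, TensorProduct.tmul_zero]
  have h1 : Module.supportDim B (N ⊗[A] M) ≤ ringKrullDim (B ⧸ K) := by
    rw [Module.supportDim_eq_ringKrullDim_quotient_annihilator]
    exact ringKrullDim_quotient_le_of_le hKann
  have hIm : I ≤ maximalIdeal A := annihilator_le_maximalIdeal M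
  have hJm : J ≤ maximalIdeal B := annihilator_le_maximalIdeal N
  have hmBm : mB ≤ maximalIdeal B := map_maximalIdeal_le (algebraMap A B)
  have hIB : I.map (algebraMap A B) ≤ mB := Ideal.map_mono hIm
  have hKm : K ≤ maximalIdeal B := sup_le hJm (hIB.trans hmBm)
  have hIne : I ≠ ⊤ := fun h => (maximalIdeal.isMaximal A).ne_top (top_le_iff.mp (h ▸ hIm))
  have hKne : K ≠ ⊤ := fun h => (maximalIdeal.isMaximal B).ne_top (top_le_iff.mp (h ▸ hKm))
  have hIK : I ≤ K.comap (algebraMap A B) := Ideal.le_comap_of_map_le le_sup_right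
  letI : Algebra (A ⧸ I) (B ⧸ K) := (Ideal.quotientMap K (algebraMap A B) hIK).toAlgebra
  haveI : IsLocalRing (A ⧸ I) := isLocalRing_quot I hIne
  haveI : IsLocalRing (B ⧸ K) := isLocalRing_quot K hKne
  have hcomp : (algebraMap (A ⧸ I) (B ⧸ K)).comp (Ideal.Quotient.mk I) =
      (Ideal.Quotient.mk K).comp (algebraMap A B) := Ideal.quotientMap_comp_mk hIK
  haveI : IsLocalHom (algebraMap (A ⧸ I) (B ⧸ K)) := by
    constructor
    intro a ha
    obtain ⟨r, rfl⟩ := Ideal.Quotient.mk_surjective a
    have h1 : algebraMap (A ⧸ I) (B ⧸ K) (Ideal.Quotient.mk I r) =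
        Ideal.Quotient.mk K (algebraMap A B r) := RingHom.congr_fun hcomp r
    rw [h1] at ha
    have hmk : IsLocalHom (Ideal.Quotient.mk K) :=
      IsLocalHom.of_surjective _ Ideal.Quotient.mk_surjective
    have h2 : IsUnit (algebraMap A B r) := hmk.map_nonunit _ ha
    have h3 : IsUnit r := (isUnit_map_iff (algebraMap A B) r).mp h2
    exact h3.map _
  have h2 := Groth.Agent.Lib.Helper77.FlatDepth.dim_le_add (A ⧸ I) (B ⧸ K)
  have h3 : ringKrullDim (A ⧸ I) = Module.supportDim A M :=
    (Module.supportDim_eq_ringKrullDim_quotient_annihilator A M).symm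
  have hmax : (maximalIdeal (A ⧸ I)).map (algebraMap (A ⧸ I) (B ⧸ K)) =
      mB.map (Ideal.Quotient.mk K) := by
    rw [maximalIdeal_quotient_eq_map, Ideal.map_map, hcomp, ← Ideal.map_map]
  have hsup : K ⊔ mB = J ⊔ mB := by
    rw [hK, sup_assoc, sup_eq_right.mpr hIB]
  have h4 : ringKrullDim ((B ⧸ K) ⧸ (maximalIdeal (A ⧸ I)).map (algebraMap (A ⧸ I) (B ⧸ K))) =
      Module.supportDim B (N ⧸ (mB • (⊤ : Submodule B N))) := by
    rw [supportDim_quotient_smul_top N mB, ← hJ, ← hsup]
    exact ringKrullDim_eq_of_ringEquiv ((Ideal.quotEquivOfEq hmax).trans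
      (DoubleQuot.quotQuotEquivQuotSup K mB))
  rw [h3, h4] at h2
  exact h1.trans h2

end Main

end Groth.Agent.Lib.Helper67.DimIneq
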