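import Groth.Agent.Lib.Helper67.CMCat
import Groth.Agent.Lib.Helper67.FlatDim
import Groth.Agent.Lib.Helper67.DimIneq
import Groth.Agent.Lib.Helper19.UnramifiedBaseChange
import Groth.Agent.S0543
import Groth.Prelude.Def_EGA4b

/-!
# Completion of a local ring carrying a Cohen–Macaulay module of full support

* `exists_CM_module_mem_associatedPrimes`: for a finite CM module `M` and `p ∈ Supp M` there is a
  finite CM module `N` with `p ∈ Ass N`.
* `isEquidim_of_CM`: a Noetherian local ring with a finite CM module of full support is
  equidimensional.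
* `isCohenMacaulayModule_cpl_tensor`: `Â ⊗ N` is CM over `Â` when `N` is CM over `A`.
-/

set_option autoImplicit false
set_option linter.style.haveILetI false
set_option linter.unusedSectionVars false

universe u

namespace Groth.Agent.Lib.Helper67.CplCM

open IsLocalRing LocCoh TensorProduct Groth.Agent.Lib.Helper67

section General

variable {R : Type u} [CommRing R] [IsLocalRing R] [IsNoetherianRing R]

/-- For a CM module `M` and `p ∈ Supp M` there is a finite CM module `N` with `p ∈ Ass N`
(namely `M/(x)M` for a maximal `M`-regular sequence in `p`). -/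
theorem exists_CM_module_mem_associatedPrimes_aux (n : ℕ) :
    ∀ (M : Type u) [AddCommGroup M] [Module R M] [Module.Finite R M],
      IsCohenMacaulayModule R M → ∀ p : PrimeSpectrum R, p ∈ Module.support R M →
      idealDepth p.asIdeal M = n →
      ∃ (N : Type u) (_ : AddCommGroup N) (_ : Module R N) (_ : Module.Finite R N),
        IsCohenMacaulayModule R N ∧ p.asIdeal ∈ associatedPrimes R N := by
  induction n with
  | zero =>
    intro M _ _ _ hM p hp h0
    have hnt := nontrivial_of_isCohenMacaulayModule hM
    rw [Nat.cast_zero, idealDepth_eq_zero_iff] at h0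
    obtain ⟨_, q, hq, hpq⟩ := h0
    have hqp : q.IsPrime := IsAssociatedPrime.isPrime hq
    have hqdim := ringKrullDim_quotient_eq_supportDim_of_CM M hM hq
    obtain ⟨k, hk⟩ := supportDim_eq_natCast (R := R) M
    have heq : p.asIdeal = q := by
      by_contra hne
      have hlt : p.asIdeal < q := lt_of_le_of_ne hpq hne
      have h1 := ringKrullDim_quotient_succ_le_of_lt hlt
      have h2 := ringKrullDim_quotient_le_supportDim (M := M)
        (Module.annihilator_le_of_mem_support hp)
      rw [hqdim] at h1
      have h4 : Module.supportDim R M + 1 ≤ Module.supportDim R M := le_trans h1 h2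
      rw [hk] at h4
      have h5 : ((k + 1 : ℕ) : WithBot ℕ∞) ≤ (k : ℕ) := by push_cast; exact h4
      have h6 : k + 1 ≤ k := by exact_mod_cast h5
      omega
    exact ⟨M, inferInstance, inferInstance, inferInstance, hM, by rw [heq]; exact hq⟩
  | succ n ih =>
    intro M _ _ _ hM p hp hn
    have hnt := nontrivial_of_isCohenMacaulayModule hM
    have hpM : p.asIdeal • (⊤ : Submodule R M) ≠ ⊤ := prime_smul_top_ne_top M p.2.ne_top
    have h1 : (1 : ℕ∞) ≤ idealDepth p.asIdeal M := by
      rw [hn]
      exact_mod_cast Nat.le_add_left 1 n
    rw [one_le_idealDepth_iff] at h1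
    rcases h1 with h1 | ⟨x, hxp, hx⟩
    · exact absurd h1 hpM
    · have hxm : x ∈ IsLocalRing.maximalIdeal R := IsLocalRing.le_maximalIdeal p.2.ne_top hxp
      have hQ := isCohenMacaulayModule_quotSMulTop M hM hxm hx
      have hpQ : p ∈ Module.support R (QuotSMulTop x M) := by
        rw [Module.support_quotSMulTop]
        exact ⟨hp, by simpa using hxp⟩
      have h2 := idealDepth_quotSMulTop_add_one p.asIdeal M hpM x hxp hx
      have h3 : idealDepth p.asIdeal (QuotSMulTop x M) = n := by
        rw [hn] at h2
        have : idealDepth p.asIdeal (QuotSMulTop x M) + 1 = (n : ℕ∞) + 1 := by exact_mod_cast h2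
        exact (ENat.add_left_injective_of_ne_top ENat.one_ne_top) this
      exact ih (QuotSMulTop x M) hQ p hpQ h3

theorem exists_CM_module_mem_associatedPrimes (M : Type u) [AddCommGroup M] [Module R M]
    [Module.Finite R M] (hM : IsCohenMacaulayModule R M) (p : PrimeSpectrum R)
    (hp : p ∈ Module.support R M) :
    ∃ (N : Type u) (_ : AddCommGroup N) (_ : Module R N) (_ : Module.Finite R N),
      IsCohenMacaulayModule R N ∧ p.asIdeal ∈ associatedPrimes R N := by
  have hnt := nontrivial_of_isCohenMacaulayModule hM
  obtain ⟨n, hn⟩ := ENat.ne_top_iff_exists.mp (idealDepth_ne_top_of_ne_top M p.2.ne_top)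
  exact exists_CM_module_mem_associatedPrimes_aux n M hM p hp hn.symm

/-- A Noetherian local ring with a finite CM module of full support is equidimensional. -/
theorem isEquidim_of_CM (M : Type u) [AddCommGroup M] [Module R M] [Module.Finite R M]
    (hM : IsCohenMacaulayModule R M) (hsupp : Module.support R M = Set.univ) :
    EGA4.IsEquidim R := by
  intro p hp
  haveI : p.IsPrime := hp.1.1
  have h1 := CMCat.ringKrullDim_quotient_add_height M hM hsupp p
  have h2 : p.height = 0 := Ideal.height_eq_zero_iff.mpr hp
  rw [h2] at h1
  simpa using h1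

end General

section Completion

variable (A : Type u) [CommRing A] [IsLocalRing A] [IsNoetherianRing A]

instance isNoetherianRing_cpl : IsNoetherianRing (AdicCompletion (maximalIdeal A) A) :=
  Groth.Agent.S0543.result A _

/-- The closed fibre of `A → Â` has dimension zero (as an `Â`-module). -/
theorem supportDim_fibre_cpl :
    Module.supportDim (AdicCompletion (maximalIdeal A) A)
      (AdicCompletion (maximalIdeal A) A ⧸
        (maximalIdeal A).map (algebraMap A (AdicCompletion (maximalIdeal A) A)) •
          (⊤ : Submodule (AdicCompletion (maximalIdeal A) A)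
            (AdicCompletion (maximalIdeal A) A))) = 0 := by
  rw [DimIneq.supportDim_quotient_smul_top, ← AdicCompletion.maximalIdeal_eq_map,
    Module.annihilator_eq_bot.mpr inferInstance, bot_sup_eq]
  exact ringKrullDim_quotient_maximalIdeal

variable (N : Type u) [AddCommGroup N] [Module A N] [Module.Finite A N]

/-- Completion preserves Cohen–Macaulayness and the dimension of modules (in tensor form). -/
theorem isCohenMacaulayModule_cpl_tensor (hN : IsCohenMacaulayModule A N) :
    IsCohenMacaulayModule (AdicCompletion (maximalIdeal A) A)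
        (AdicCompletion (maximalIdeal A) A ⊗[A] N) ∧
      Module.supportDim (AdicCompletion (maximalIdeal A) A)
        (AdicCompletion (maximalIdeal A) A ⊗[A] N) = Module.supportDim A N := by
  have hnt := nontrivial_of_isCohenMacaulayModule hN
  set B := AdicCompletion (maximalIdeal A) A with hB
  have h0 := supportDim_fibre_cpl A
  haveI : Nontrivial (B ⧸ (maximalIdeal A).map (algebraMap A B) • (⊤ : Submodule B B)) :=
    FlatDim.nontrivial_fibre (R := A) (S := B) B
  have hF : IsCohenMacaulayModule B
      (B ⧸ (maximalIdeal A).map (algebraMap A B) • (⊤ : Submodule B B)) := by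
    obtain ⟨k, d, hk, hd, hle⟩ := FlatDim.exists_dim_depth_natCast_module (A := B)
      (B ⧸ (maximalIdeal A).map (algebraMap A B) • (⊤ : Submodule B B))
    rw [hk] at h0
    have hk0 : k = 0 := by exact_mod_cast h0
    rw [FlatDim.isCohenMacaulayModule_iff_natCast _ k d hk hd]
    omega
  refine ⟨(FlatDim.isCohenMacaulayModule_tensor_iff (R := A) (S := B) B N).mpr ⟨hN, hF⟩, ?_⟩
  rw [FlatDim.supportDim_tensor_eq_add_quotient (R := A) (S := B) B N, h0, add_zero]

/-- Full support is preserved by completion. -/
theorem support_cpl_tensor_eq_univ (hsupp : Module.support A N = Set.univ) :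
    Module.support (AdicCompletion (maximalIdeal A) A)
      (AdicCompletion (maximalIdeal A) A ⊗[A] N) = Set.univ := by
  rw [Set.eq_univ_iff_forall]
  intro P
  apply Groth.Agent.Lib.Helper19.mem_support_baseChange_of_comap_mem
  rw [hsupp]
  trivial

/-- A Noetherian local ring with a finite CM module of full support is formally equidimensional. -/
theorem isFormallyEquidim_of_CM (hN : IsCohenMacaulayModule A N)
    (hsupp : Module.support A N = Set.univ) : EGA4.IsFormallyEquidim A :=
  isEquidim_of_CM (AdicCompletion (maximalIdeal A) A ⊗[A] N)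
    (isCohenMacaulayModule_cpl_tensor A N hN).1 (support_cpl_tensor_eq_univ A N hsupp)

end Completion

end Groth.Agent.Lib.Helper67.CplCM
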