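import Groth.Agent.Lib.Helper67.RegLocus6

/-!
# More applications of the J-2 criterion: semilocal of dimension ≤ 1
-/

set_option autoImplicit false
set_option linter.style.haveILetI false
set_option linter.unusedSectionVars false

universe u

namespace Groth.Agent.Lib.Helper67.RegLocus

open IsLocalRing TensorProduct

/-- A Noetherian ring of dimension `≤ 1` with finitely many maximal ideals has finite spectrum. -/
theorem finite_primeSpectrum_of_semilocal_dim_le_one (A : Type u) [CommRing A] [IsNoetherianRing A]
    (hsl : {I : Ideal A | I.IsMaximal}.Finite) (hdim : ringKrullDim A ≤ 1) :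
    Finite (PrimeSpectrum A) := by
  have h1 : Ring.KrullDimLE 1 A := by
    rw [Ring.krullDimLE_iff]; exact_mod_cast hdim
  have hfin : (minimalPrimes A ∪ {I : Ideal A | I.IsMaximal}).Finite :=
    (minimalPrimes.finite_of_isNoetherianRing A).union hsl
  have hinj : Function.Injective
      (fun p : PrimeSpectrum A => (⟨p.asIdeal, by
        rcases Ring.krullDimLE_one_iff.mp h1 p.asIdeal p.2 with h | h
        · exact Or.inl h
        · exact Or.inr h⟩ : (minimalPrimes A ∪ {I : Ideal A | I.IsMaximal} : Set (Ideal A)))) := by
    intro p q hpq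
    exact PrimeSpectrum.ext (congrArg Subtype.val hpq)
  haveI := hfin.to_subtype
  exact Finite.of_injective _ hinj

/-- A Noetherian semilocal ring of dimension `≤ 1` is J-2. -/
theorem isJ2_of_semilocal_dim_le_one (A : Type u) [CommRing A] [IsNoetherianRing A]
    (hsl : {I : Ideal A | I.IsMaximal}.Finite) (hdim : ringKrullDim A ≤ 1) : EGA4.IsJ2 A := by
  rw [isJ2_iff]
  intro A' _ _ _ hfin
  haveI := finite_primeSpectrum_of_semilocal_dim_le_one A hsl hdim
  haveI : Finite (PrimeSpectrum A') := by
    have := Algebra.QuasiFinite.finite_comap_preimage (R := A) (S := A')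
      (s := Set.univ) Set.finite_univ
    rw [Set.preimage_univ] at this
    exact Set.finite_univ_iff.mp this
  exact hasGenReg_of_finite_primeSpectrum A'

end Groth.Agent.Lib.Helper67.RegLocus
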