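import Groth.Agent.Lib.Helper67.GRingDed
import Groth.Agent.Lib.Helper67.RegLocus7
import Groth.Agent.Lib.Helper56.CplLocalRegular
import Groth.Agent.Lib.Helper56.FormalDescent
import Groth.Agent.Lib.Helper35.RegField
import Groth.Agent.S0549
import Groth.Agent.S7414

/-!
# A DVR is excellent iff its generic formal fibre is geometrically reduced
-/

set_option autoImplicit false
set_option linter.style.haveILetI false
set_option linter.unusedSectionVars false

universe u

namespace Groth.Agent.Lib.Helper67.DVRExc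

open IsLocalRing TensorProduct EGA4

/-- A localization of a DVR at a submonoid of nonzero elements containing a nonunit has
Krull dimension zero. -/
theorem krullDimLE_zero_of_isLocalization_dvr (C : Type u) [CommRing C] [IsDomain C]
    [IsDiscreteValuationRing C] (M : Submonoid C) (hM : M ≤ nonZeroDivisors C)
    (π : C) (hπM : π ∈ M) (hπ : π ∈ maximalIdeal C)
    (S : Type u) [CommRing S] [Algebra C S] [IsLocalization M S] : Ring.KrullDimLE 0 S := by
  haveI : IsDomain S := IsLocalization.isDomain_of_le_nonZeroDivisors S hM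
  have key : ∀ (q : Ideal S), q.IsPrime → q = ⊥ := by
    intro q hq
    have hQ : (q.comap (algebraMap C S)).IsPrime := Ideal.IsPrime.comap _
    have hdisj : Disjoint (M : Set C) (q.comap (algebraMap C S) : Set C) :=
      ((IsLocalization.isPrime_iff_isPrime_disjoint M S q).mp hq).2
    have hQbot : q.comap (algebraMap C S) = ⊥ := by
      by_contra hne
      have hmax : (q.comap (algebraMap C S)).IsMaximal := Ideal.IsPrime.isMaximal hQ hne
      have : q.comap (algebraMap C S) = maximalIdeal C := IsLocalRing.eq_maximalIdeal hmax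
      exact Set.disjoint_left.mp hdisj hπM (this ▸ hπ)
    rw [← IsLocalization.map_comap M S q, Ideal.under_def, hQbot, Ideal.map_bot]
  rw [Ring.krullDimLE_zero_iff]
  intro I hI
  obtain ⟨m, hm⟩ := Ideal.exists_maximal S
  rw [key I hI, ← key m hm.isPrime]
  exact hm

open Groth.Agent.Lib.Helper67.RegLocus in
/-- A DVR whose generic formal fibre is geometrically reduced has a regular completion map. -/
theorem isRegularHom_cpl_of_dvr (R : Type u) [CommRing R] [IsDomain R]
    [IsDiscreteValuationRing R]
    (h : Algebra.IsGeometricallyReduced (⊥ : Ideal R).ResidueField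
      (EGA4.formalFibre R (⊥ : Ideal R))) :
    CAlg.IsRegularHom R (EGA4.Cpl R) := by
  have hN : IsNoetherianRing (EGA4.Cpl R) := Groth.Agent.S0543.result R (maximalIdeal R)
  refine ⟨inferInstance, fun P _ => ⟨Groth.Agent.Lib.Helper56.isNoetherianRing_fiber R _ P, ?_⟩⟩
  by_cases hP : P = ⊥
  · subst hP
    obtain ⟨hdomC, hdvrC⟩ := (Groth.Agent.S0549.result R).mp ⟨inferInstance, inferInstance⟩
    letI : Algebra (EGA4.Cpl R) ((⊥ : Ideal R).ResidueField ⊗[R] EGA4.Cpl R) :=
      Algebra.TensorProduct.rightAlgebra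
    haveI := isLocalization_generic_fiber R (EGA4.Cpl R)
    obtain ⟨π, hπ⟩ := IsDiscreteValuationRing.exists_irreducible R
    have hinj : Function.Injective (algebraMap R (EGA4.Cpl R)) :=
      AdicCompletion.of_injective _ _
    have hM : Algebra.algebraMapSubmonoid (EGA4.Cpl R) (nonZeroDivisors R) ≤
        nonZeroDivisors (EGA4.Cpl R) := by
      rintro _ ⟨x, hx, rfl⟩
      apply mem_nonZeroDivisors_of_ne_zero
      intro h0
      exact nonZeroDivisors.ne_zero hx (hinj (by rw [h0, map_zero]))
    have hπM : algebraMap R (EGA4.Cpl R) π ∈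
        Algebra.algebraMapSubmonoid (EGA4.Cpl R) (nonZeroDivisors R) :=
      ⟨π, mem_nonZeroDivisors_of_ne_zero hπ.ne_zero, rfl⟩
    have hπm : algebraMap R (EGA4.Cpl R) π ∈ maximalIdeal (EGA4.Cpl R) := by
      rw [IsLocalRing.mem_maximalIdeal, mem_nonunits_iff]
      intro hu
      exact hπ.not_isUnit (isUnit_of_map_unit (algebraMap R (EGA4.Cpl R)) π hu)
    have hdim0 : Ring.KrullDimLE 0 ((⊥ : Ideal R).ResidueField ⊗[R] EGA4.Cpl R) :=
      krullDimLE_zero_of_isLocalization_dvr (EGA4.Cpl R)
        (Algebra.algebraMapSubmonoid (EGA4.Cpl R) (nonZeroDivisors R)) hM _ hπM hπm _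
    have hNS : IsNoetherianRing ((⊥ : Ideal R).ResidueField ⊗[R] EGA4.Cpl R) :=
      Groth.Agent.Lib.Helper56.isNoetherianRing_fiber R _ ⊥
    haveI hArt : IsArtinianRing ((⊥ : Ideal R).ResidueField ⊗[R] EGA4.Cpl R) :=
      isArtinianRing_iff_isNoetherianRing_krullDimLE_zero.mpr ⟨hNS, hdim0⟩
    intro k' _ _ hfin
    haveI := hfin
    haveI := h
    haveI : Algebra.IsAlgebraic (⊥ : Ideal R).ResidueField k' := Algebra.IsAlgebraic.of_finite _ _
    haveI hred : IsReduced (k' ⊗[(⊥ : Ideal R).ResidueField]
        ((⊥ : Ideal R).ResidueField ⊗[R] EGA4.Cpl R)) := inferInstance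
    haveI : IsArtinianRing (((⊥ : Ideal R).ResidueField ⊗[R] EGA4.Cpl R)
        ⊗[(⊥ : Ideal R).ResidueField] k') :=
      IsArtinianRing.of_finite ((⊥ : Ideal R).ResidueField ⊗[R] EGA4.Cpl R)
        (((⊥ : Ideal R).ResidueField ⊗[R] EGA4.Cpl R) ⊗[(⊥ : Ideal R).ResidueField] k')
    haveI : IsArtinianRing (k' ⊗[(⊥ : Ideal R).ResidueField]
        ((⊥ : Ideal R).ResidueField ⊗[R] EGA4.Cpl R)) :=
      (Algebra.TensorProduct.comm (⊥ : Ideal R).ResidueField
        ((⊥ : Ideal R).ResidueField ⊗[R] EGA4.Cpl R) k').toRingEquiv.isArtinianRing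
    exact Groth.Agent.Lib.Helper35.RegField.isRegularRing_of_isArtinianRing_of_isReduced _
  · have hPm : P = maximalIdeal R :=
      IsLocalRing.eq_maximalIdeal (Ideal.IsPrime.isMaximal inferInstance hP)
    subst hPm
    exact isGeometricallyRegular_closedFibre R

open Groth.Agent.Lib.Helper67.RegLocus in
/-- A Noetherian local ring whose maximal ideal is its only prime has a regular completion map. -/
theorem isRegularHom_cpl_of_forall_eq_maximalIdeal (L : Type u) [CommRing L] [IsLocalRing L]
    [IsNoetherianRing L] (hL : ∀ (P : Ideal L) [P.IsPrime], P = maximalIdeal L) :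
    CAlg.IsRegularHom L (AdicCompletion (maximalIdeal L) L) := by
  have hN : IsNoetherianRing (AdicCompletion (maximalIdeal L) L) :=
    Groth.Agent.S0543.result L (maximalIdeal L)
  refine ⟨inferInstance, fun P _ => ⟨Groth.Agent.Lib.Helper56.isNoetherianRing_fiber L _ P, ?_⟩⟩
  have hP := hL P
  subst hP
  exact isGeometricallyRegular_closedFibre L

theorem isGRing_of_dvr (R : Type u) [CommRing R] [IsDomain R] [IsDiscreteValuationRing R]
    (h : Algebra.IsGeometricallyReduced (⊥ : Ideal R).ResidueField
      (EGA4.formalFibre R (⊥ : Ideal R))) : CAlg.IsGRing R := by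
  refine ⟨inferInstance, fun p _ => ?_⟩
  by_cases hp : p = ⊥
  · subst hp
    apply isRegularHom_cpl_of_forall_eq_maximalIdeal
    intro P _
    have h1 : maximalIdeal (Localization.AtPrime (⊥ : Ideal R)) = ⊥ := by
      rw [← Localization.AtPrime.map_eq_maximalIdeal, Ideal.map_bot]
    rw [h1]
    exact le_bot_iff.mp (h1 ▸ IsLocalRing.le_maximalIdeal (Ideal.IsPrime.ne_top inferInstance))
  · have hpm : p = maximalIdeal R :=
      IsLocalRing.eq_maximalIdeal (Ideal.IsPrime.isMaximal inferInstance hp)
    subst hpm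
    let e : R ≃ₐ[R] Localization.AtPrime (maximalIdeal R) :=
      IsLocalization.atUnits R (maximalIdeal R).primeCompl (fun x hx => by
        have : IsUnit x := by simpa using hx
        exact this)
    exact Groth.Agent.S7414.isRegularHom_completion_of_ringEquiv e.toRingEquiv
      (isRegularHom_cpl_of_dvr R h)

theorem isExcellent_dvr_iff (R : Type u) [CommRing R] [IsDomain R] [IsDiscreteValuationRing R] :
    EGA4.IsExcellent R ↔
      Algebra.IsGeometricallyReduced (⊥ : Ideal R).ResidueField
        (EGA4.formalFibre R (⊥ : Ideal R)) := by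
  constructor
  · rintro ⟨hN, -, hG, -⟩
    have h1 : CAlg.IsRegularHom R (EGA4.Cpl R) :=
      Groth.Agent.Lib.Helper56.isRegularHom_adicCompletion R (maximalIdeal R) hG
    exact Groth.Agent.Lib.Helper56.isGeometricallyReduced_of_isGeometricallyRegular _ _
      (h1.2 ⊥).2
  · intro h
    haveI : LocCoh.IsCohenMacaulayRing R :=
      Groth.Agent.Lib.Helper56.isCohenMacaulayRing_of_isRegularRing R
    refine ⟨inferInstance,
      Groth.Agent.Lib.Helper67.CMCat.isUniversallyCatenary_of_isCohenMacaulayRing R,
      isGRing_of_dvr R h, ?_⟩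
    apply Groth.Agent.Lib.Helper67.RegLocus.isJ2_of_semilocal_dim_le_one
    · have : {I : Ideal R | I.IsMaximal} = {maximalIdeal R} := by
        ext I
        simp only [Set.mem_setOf_eq, Set.mem_singleton_iff]
        exact ⟨fun hI => IsLocalRing.eq_maximalIdeal hI,
          fun hI => hI ▸ IsLocalRing.maximalIdeal.isMaximal R⟩
      rw [this]
      exact Set.finite_singleton _
    · exact (IsDiscreteValuationRing.ringKrullDim_eq_one (R := R)).le

end Groth.Agent.Lib.Helper67.DVRExc
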