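import Groth.Agent.Lib.Helper67.QENagata
import Groth.Agent.Lib.Helper67.GeomIntFib2
import Groth.Agent.Lib.Helper38.Tate
import Mathlib.RingTheory.Spectrum.Prime.Homeomorph

/-!
# Integral closure of an excellent DVR in a finite purely inseparable extension
-/

set_option autoImplicit false
set_option linter.style.haveILetI false
set_option linter.unusedSectionVars false

universe u

namespace Groth.Agent.Lib.Helper67.DVRInsep

open IsLocalRing

/-- For a purely inseparable extension `L/K` of the fraction field of an integrally closed domain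
`R`, every element of the integral closure of `R` in `L` has a power in `R`. -/
theorem exists_pow_mem_range (R K L : Type u) [CommRing R] [IsDomain R] [IsIntegrallyClosed R]
    [Field K] [Algebra R K] [IsFractionRing R K] [Field L] [Algebra K L]
    [IsPurelyInseparable K L] [Algebra R L] [IsScalarTower R K L] (x : integralClosure R L) :
    ∃ n > 0, x ^ n ∈ (algebraMap R (integralClosure R L)).range := by
  obtain ⟨n, y, hy⟩ := IsPurelyInseparable.pow_mem K (ringExpChar K) (x : L)
  refine ⟨ringExpChar K ^ n, expChar_pow_pos K (ringExpChar K) n, ?_⟩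
  have hint : IsIntegral R ((x : L) ^ ringExpChar K ^ n) := (x.2 : IsIntegral R (x : L)).pow _
  rw [← hy] at hint
  have hyint : IsIntegral R y :=
    (isIntegral_algebraMap_iff (algebraMap K L).injective).mp hint
  obtain ⟨r, hr⟩ := IsIntegrallyClosed.isIntegral_iff.mp hyint
  refine ⟨r, Subtype.ext ?_⟩
  show algebraMap R L r = _
  rw [IsScalarTower.algebraMap_apply R K L, hr, hy]
  rfl

theorem isDVR_integralClosure_of_isPurelyInseparable
    (R K L : Type u) [CommRing R] [IsDomain R] [IsDiscreteValuationRing R]
    [Field K] [Algebra R K] [IsFractionRing R K] [Field L] [Algebra K L] [FiniteDimensional K L]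
    [IsPurelyInseparable K L] [Algebra R L] [IsScalarTower R K L]
    (hfin : Module.Finite R (integralClosure R L)) :
    IsDiscreteValuationRing (integralClosure R L) := by
  haveI := hfin
  haveI : IsNoetherianRing (integralClosure R L) := Algebra.FiniteType.isNoetherianRing R _
  haveI : IsIntegrallyClosed (integralClosure R L) :=
    integralClosure.isIntegrallyClosedOfFiniteExtension K
  haveI : FaithfulSMul R K := (faithfulSMul_iff_algebraMap_injective R K).mpr
    (IsFractionRing.injective R K)
  haveI : FaithfulSMul R L := by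
    rw [faithfulSMul_iff_algebraMap_injective, IsScalarTower.algebraMap_eq R K L]
    exact (algebraMap K L).injective.comp (IsFractionRing.injective R K)
  have hinj : Function.Injective (algebraMap R (integralClosure R L)) :=
    FaithfulSMul.algebraMap_injective R _
  have hhomeo := PrimeSpectrum.isHomeomorph_comap (algebraMap R (integralClosure R L))
    (exists_pow_mem_range R K L) (by
      rw [(RingHom.injective_iff_ker_eq_bot _).mp hinj]; exact bot_le)
  have hbij := hhomeo.bijective
  have hnfR : ¬ IsField R := IsDiscreteValuationRing.not_isField R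
  have hnf : ¬ IsField (integralClosure R L) := by
    intro hF
    exact hnfR (isField_of_isIntegral_of_isField hinj hF)
  -- the unique nonzero prime
  have hmne : maximalIdeal R ≠ ⊥ := IsDiscreteValuationRing.not_a_field R
  obtain ⟨P₀, hP₀⟩ := hbij.2 ⟨maximalIdeal R, inferInstance⟩
  have hcomapbot : PrimeSpectrum.comap (algebraMap R (integralClosure R L))
      ⟨⊥, Ideal.isPrime_bot⟩ = ⟨⊥, Ideal.isPrime_bot⟩ := by
    ext1
    show Ideal.comap _ ⊥ = ⊥
    rw [← RingHom.ker_eq_comap_bot, (RingHom.injective_iff_ker_eq_bot _).mp hinj]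
  have hP₀ne : P₀.asIdeal ≠ ⊥ := by
    intro h0
    have : P₀ = ⟨⊥, Ideal.isPrime_bot⟩ := PrimeSpectrum.ext h0
    rw [this, hcomapbot] at hP₀
    exact hmne (congrArg PrimeSpectrum.asIdeal hP₀).symm
  have huniq : ∀ (P : Ideal (integralClosure R L)), P ≠ ⊥ → P.IsPrime → P = P₀.asIdeal := by
    intro P hPne hP
    have h1 : (PrimeSpectrum.comap (algebraMap R (integralClosure R L)) ⟨P, hP⟩).asIdeal ≠ ⊥ := by
      intro h0
      have h2 : PrimeSpectrum.comap (algebraMap R (integralClosure R L)) ⟨P, hP⟩ =
          PrimeSpectrum.comap (algebraMap R (integralClosure R L)) ⟨⊥, Ideal.isPrime_bot⟩ := by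
        rw [hcomapbot]; exact PrimeSpectrum.ext h0
      exact hPne (congrArg PrimeSpectrum.asIdeal (hbij.1 h2))
    have h3 : (PrimeSpectrum.comap (algebraMap R (integralClosure R L)) ⟨P, hP⟩).asIdeal =
        maximalIdeal R :=
      IsLocalRing.eq_maximalIdeal (Ideal.IsPrime.isMaximal
        (PrimeSpectrum.comap (algebraMap R (integralClosure R L)) ⟨P, hP⟩).2 h1)
    have h4 : PrimeSpectrum.comap (algebraMap R (integralClosure R L)) ⟨P, hP⟩ =
        PrimeSpectrum.comap (algebraMap R (integralClosure R L)) P₀ := by
      rw [hP₀]; exact PrimeSpectrum.ext h3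
    exact congrArg PrimeSpectrum.asIdeal (hbij.1 h4)
  haveI : IsLocalRing (integralClosure R L) := by
    apply IsLocalRing.of_unique_max_ideal
    obtain ⟨M, hM⟩ := Ideal.exists_maximal (integralClosure R L)
    have hMeq : ∀ (M' : Ideal (integralClosure R L)), M'.IsMaximal → M' = P₀.asIdeal :=
      fun M' hM' => huniq M' (Ring.ne_bot_of_isMaximal_of_not_isField hM' hnf) hM'.isPrime
    exact ⟨M, hM, fun M' hM' => (hMeq M' hM').trans (hMeq M hM).symm⟩
  have h03 := (IsDiscreteValuationRing.TFAE (integralClosure R L) hnf).out 0 3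
  rw [h03]
  exact ⟨inferInstance, P₀.asIdeal, ⟨hP₀ne, P₀.2⟩, fun P hP => huniq P hP.1 hP.2⟩

theorem main (R K L : Type u) [CommRing R] [IsDomain R] [IsDiscreteValuationRing R]
    (hR : EGA4.IsExcellent R)
    [Field K] [Algebra R K] [IsFractionRing R K] [Field L] [Algebra K L] [FiniteDimensional K L]
    [IsPurelyInseparable K L] [Algebra R L] [IsScalarTower R K L] :
    IsDiscreteValuationRing ↥(integralClosure R L) ∧ Module.Finite R ↥(integralClosure R L) := by
  have hNag : CAlg.IsNagata R :=
    Groth.Agent.Lib.Helper67.RegLocus.isNagata_of_isQuasiExcellent R ⟨hR.1, hR.2.2.1, hR.2.2.2⟩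
  have hN2 : CAlg.IsN2 R :=
    Groth.Agent.Lib.Helper38.Tate.isN2_of_ringEquiv (RingEquiv.quotientBot R) (hNag.2 ⊥)
  have hfin : Module.Finite R (integralClosure R L) :=
    Groth.Agent.Lib.Helper67.GeomIntFib.finite_integralClosure_of_isN2 R hN2 K L
  exact ⟨isDVR_integralClosure_of_isPurelyInseparable R K L hfin, hfin⟩

end Groth.Agent.Lib.Helper67.DVRInsep
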