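import Groth.Agent.Lib.Helper67.DimSet6

/-!
# Equidimensionality of the fibre at a point: point-level form, base change (helper67)
-/

set_option autoImplicit false
set_option linter.style.haveILetI false
universe u

open CategoryTheory AlgebraicGeometry CategoryTheory.Limits Topology TopologicalSpace

namespace Groth.Agent.Lib.Helper67.DimAt

open Groth.Agent.Lib.Helper73

variable {X S : Scheme.{u}} (f : X ⟶ S)

/-- the residual transcendence degrees of the maximal points of the fibre generizing `x` -/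
def DptAt (x : X) : Set ℕ :=
  {n | ∃ z : X, z ⤳ x ∧ f z = f x ∧ (∀ t : X, t ⤳ z → f t = f z → t = z) ∧ resTrdegNat f z = n}

/-- the fibre through `x` is equidimensional at `x`, point-level form -/
def EqAt (x : X) : Prop := ∃ e : ℕ, DptAt f x ⊆ {e}

/-- the fibre through `x` is equidimensional at `x`, topological form -/
def EqAtTop (x : X) : Prop :=
  ∃ e : ℕ, ∀ Z ∈ irreducibleComponents (↥(f.fiber (f.base x)) : Type u), f.asFiber x ∈ Z →
    topologicalKrullDim (↥Z : Type u) = e

theorem eqAtTop_iff [LocallyOfFiniteType f] (x : X) : EqAtTop f x ↔ EqAt f x := by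
  have hδ := isDimFun_trdegNat (k := S.residueField (f x)) (f.fiberToSpecResidueField (f x))
  have hsp : ∀ a b : ↥(f.fiber (f x)), a ⤳ b ↔ f.fiberι (f x) a ⤳ f.fiberι (f x) b := fun a b =>
    ((f.fiberι (f x)).isEmbedding.isInducing.specializes_iff).symm
  constructor
  · rintro ⟨e, he⟩
    refine ⟨e, ?_⟩
    rintro n ⟨z, hzx, hfz, hzmax, rfl⟩
    obtain ⟨ζ, hζz, hζmax⟩ := maximal_fiber_of_maximal' f (f x) z hfz
      (fun t ht hft => hzmax t ht (hft.trans hfz.symm))
    have hC := closure_singleton_mem_irreducibleComponents_of_maximal ζ hζmax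
    have hxC : f.asFiber x ∈ closure ({ζ} : Set ↥(f.fiber (f x))) := by
      rw [← specializes_iff_mem_closure, hsp, hζz, f.fiberι_asFiber x]
      exact hzx
    have h1 := he _ hC hxC
    rw [hδ.topologicalKrullDim_closure_singleton ζ, trdegNat_fiber_eq_resTrdegNat, hζz] at h1
    have h2 : ((resTrdegNat f z : ℕ) : WithBot ℕ∞) = ((e : ℕ) : WithBot ℕ∞) := h1
    exact_mod_cast h2
  · rintro ⟨e, he⟩
    refine ⟨e, fun C hC hxC => ?_⟩
    obtain ⟨ζ, hζC, hζmax⟩ := exists_maximal_of_mem_irreducibleComponents C hC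
    obtain ⟨hfζ, hζmax'⟩ := fiberι_maximal_of_maximal f (f x) ζ hζmax
    have hζx : f.fiberι (f x) ζ ⤳ x := by
      have : ζ ⤳ f.asFiber x := by
        rw [specializes_iff_mem_closure, hζC]; exact hxC
      rw [hsp, f.fiberι_asFiber x] at this
      exact this
    have h1 : resTrdegNat f (f.fiberι (f x) ζ) = e :=
      he ⟨_, hζx, hfζ, fun t ht hft => hζmax' t ht (hft.trans hfζ), rfl⟩
    rw [← hζC, hδ.topologicalKrullDim_closure_singleton ζ, trdegNat_fiber_eq_resTrdegNat, h1]
    rfl

end Groth.Agent.Lib.Helper67.DimAt
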