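import Groth.Agent.Lib.Helper67.DimAt1

/-!
# Equidimensionality of the fibre at a point: base change (helper67)
-/

set_option autoImplicit false
set_option linter.style.haveILetI false
universe u

open CategoryTheory AlgebraicGeometry CategoryTheory.Limits Topology TopologicalSpace

namespace Groth.Agent.Lib.Helper67.DimAt

open Groth.Agent.Lib.Helper73

theorem dptAt_of_isPullback {X' X S' S : Scheme.{u}} {eX : X' ⟶ X}
    {f' : X' ⟶ S'} {f : X ⟶ S} {h : S' ⟶ S} [LocallyOfFiniteType f]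
    (hp : IsPullback eX f' f h) (x' : X') :
    DptAt f' x' = DptAt f (eX x') := by
  haveI : LocallyOfFiniteType f' := MorphismProperty.of_isPullback hp ‹_›
  have hw : ∀ y' : X', f (eX y') = h (f' y') := by
    intro y'
    rw [← Scheme.Hom.comp_apply, ← Scheme.Hom.comp_apply, hp.w]
  obtain ⟨s', hs'⟩ : ∃ s', s' = f' x' := ⟨_, rfl⟩
  let EX : f'.fiber s' ⟶ f.fiber (h s') := fiberMapOfIsPullback f h eX f' hp s'
  have hP : IsPullback EX (f'.fiberToSpecResidueField s') (f.fiberToSpecResidueField (h s'))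
      (Spec.map (h.residueFieldMap s')) := isPullback_fiberToSpecResidueField_of_isPullback hp s'
  have hcomm : EX ≫ f.fiberι (h s') = f'.fiberι s' ≫ eX :=
    fiberMapOfIsPullback_fiberι f h eX f' hp s'
  have hcomm' : ∀ z : ↥(f'.fiber s'), f.fiberι (h s') (EX z) = eX (f'.fiberι s' z) := by
    intro z
    rw [← Scheme.Hom.comp_apply, ← Scheme.Hom.comp_apply, hcomm]
  have hflat : Flat EX := flat_of_isPullback_field (k := S.residueField (h s'))
    (K := S'.residueField s') (h.residueFieldMap s').hom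
    (f.fiberToSpecResidueField (h s')) (f'.fiberToSpecResidueField s') EX hP
  have hgen : GeneralizingMap EX := Flat.generalizingMap EX
  have htr : ∀ ζ' : ↥(f'.fiber s'), (∀ t, t ⤳ ζ' → t = ζ') →
      resTrdegNat f' (f'.fiberι s' ζ') = resTrdegNat f (f.fiberι (h s') (EX ζ')) := by
    intro ζ' hmax
    have := trdegNat_eq_of_isPullback_of_maximal (k := S.residueField (h s'))
      (K := S'.residueField s') (h.residueFieldMap s').hom
      (f.fiberToSpecResidueField (h s')) (f'.fiberToSpecResidueField s') EX hP ζ' hmax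
    rwa [trdegNat_fiber_eq_resTrdegNat, trdegNat_fiber_eq_resTrdegNat] at this
  have hmaxmap : ∀ ζ' : ↥(f'.fiber s'), (∀ t, t ⤳ ζ' → t = ζ') →
      ∀ t : ↥(f.fiber (h s')), t ⤳ EX ζ' → t = EX ζ' := by
    intro ζ' hmax
    exact maximal_map_of_isPullback_field (k := S.residueField (h s'))
      (K := S'.residueField s') (h.residueFieldMap s').hom
      (f.fiberToSpecResidueField (h s')) (f'.fiberToSpecResidueField s') EX hP ζ' hmax
  have hsp' : ∀ a b : ↥(f'.fiber s'), a ⤳ b ↔ f'.fiberι s' a ⤳ f'.fiberι s' b := fun a b =>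
    ((f'.fiberι s').isEmbedding.isInducing.specializes_iff).symm
  have hsp : ∀ a b : ↥(f.fiber (h s')), a ⤳ b ↔ f.fiberι (h s') a ⤳ f.fiberι (h s') b :=
    fun a b => ((f.fiberι (h s')).isEmbedding.isInducing.specializes_iff).symm
  have hfx : f (eX x') = h s' := by rw [hw, hs']
  -- the point `x'` in the fibre
  obtain ⟨xb', hxb'⟩ : ∃ xb' : ↥(f'.fiber s'), f'.fiberι s' xb' = x' := by
    have : x' ∈ Set.range (f'.fiberι s') := by rw [f'.range_fiberι]; exact hs'.symm
    exact this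
  ext n
  constructor
  · rintro ⟨z', hz'x', hfz', hz'max, rfl⟩
    obtain ⟨ζ', hζ'z', hζ'max⟩ := maximal_fiber_of_maximal' f' s' z' (hfz'.trans hs'.symm)
      (fun t ht hft => hz'max t ht (hft.trans (hfz'.trans hs'.symm).symm))
    obtain ⟨hfζ, hζmax⟩ := fiberι_maximal_of_maximal f (h s') (EX ζ') (hmaxmap ζ' hζ'max)
    refine ⟨f.fiberι (h s') (EX ζ'), ?_, hfζ.trans hfx.symm,
      fun t ht hft => hζmax t ht (hft.trans hfζ), ?_⟩
    · rw [hcomm', hζ'z']
      exact hz'x'.map eX.continuous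
    · rw [← htr ζ' hζ'max, hζ'z']
  · rintro ⟨z, hzx, hfz, hzmax, rfl⟩
    obtain ⟨ζ, hζz, hζmax⟩ := maximal_fiber_of_maximal' f (h s') z (hfz.trans hfx)
      (fun t ht hft => hzmax t ht (hft.trans (hfz.trans hfx).symm))
    have h1 : ζ ⤳ EX xb' := by
      rw [hsp, hζz, hcomm', hxb']
      exact hzx
    obtain ⟨z'', hz''x, hz''ζ⟩ := hgen h1
    obtain ⟨ζ', hζ'z'', hζ'max⟩ := exists_maximal_specializes z''
    have h2 : EX ζ' = ζ := by
      apply hζmax
      rw [← hz''ζ]
      exact hζ'z''.map EX.continuous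
    obtain ⟨hfζ', hζ'max'⟩ := fiberι_maximal_of_maximal f' s' ζ' hζ'max
    refine ⟨f'.fiberι s' ζ', ?_, hfζ'.trans hs', fun t ht hft => hζ'max' t ht (hft.trans hfζ'), ?_⟩
    · rw [← hxb', ← hsp']
      exact hζ'z''.trans hz''x
    · rw [htr ζ' hζ'max, h2, hζz]

theorem eqAt_of_isPullback {X' X S' S : Scheme.{u}} {eX : X' ⟶ X}
    {f' : X' ⟶ S'} {f : X ⟶ S} {h : S' ⟶ S} [LocallyOfFiniteType f]
    (hp : IsPullback eX f' f h) (x' : X') :
    EqAt f' x' ↔ EqAt f (eX x') := by
  unfold EqAt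
  rw [dptAt_of_isPullback hp x']

end Groth.Agent.Lib.Helper67.DimAt
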