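import Groth.Agent.Lib.Helper67.DimAt2

/-!
# Generic constancy of the dimensions of the fibre components through a section (helper67)
-/

set_option autoImplicit false
set_option linter.style.haveILetI false
universe u

open CategoryTheory AlgebraicGeometry CategoryTheory.Limits Topology TopologicalSpace

namespace Groth.Agent.Lib.Helper67.DimAt

open Groth.Agent.Lib.Helper73 Groth.Agent.Lib.Helper35 Groth.Agent.Lib.Helper22.GenStr
  Groth.Agent.Lib.Helper67.DimSet

variable {X S : Scheme.{u}} (f : X ⟶ S)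

theorem exists_open_DptAt_eq [IsIntegral S] [IsNoetherian S] [LocallyOfFiniteType f]
    [QuasiCompact f] (γ : S ⟶ X) (hγ : γ ≫ f = 𝟙 S) :
    ∃ V : Set S, IsOpen V ∧ genericPoint S ∈ V ∧
      ∀ s ∈ V, DptAt f (γ s) = DptAt f (γ (genericPoint S)) := by
  classical
  haveI : IsNoetherian X := Groth.Agent.Lib.Helper78.FibClosure.noetherianSpace_of_finiteType f
  have hfγ : ∀ s : S, f (γ s) = s := by
    intro s
    rw [← Scheme.Hom.comp_apply, hγ]
    rfl
  let Z : Set X := Set.univ
  have hZ : IsConstructible Z := IsConstructible.univ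
  let M : Set X := {m | m ∈ Z ∧ f m = genericPoint S ∧ ∀ t ∈ Z, t ⤳ m → t = m}
  have hMfin : M.Finite := (finite_maximal hZ).subset (fun m hm => ⟨hm.1, hm.2.2⟩)
  have hM : ∀ m ∈ M, m ∈ Z ∧ f m = genericPoint S ∧ ∀ t ∈ Z, t ⤳ m → t = m := fun m hm => hm
  have hgen : ∀ t m : X, f m = genericPoint S → t ⤳ m → f t = genericPoint S := by
    intro t m hfm htm
    have h1 : f t ⤳ genericPoint S := hfm ▸ htm.map f.continuous
    exact (h1.antisymm (genericPoint_specializes (f t))).eq
  have hcoverη : ∀ z ∈ Z, f z = genericPoint S → ∃ m ∈ M, m ⤳ z := by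
    intro z hzZ hfz
    obtain ⟨m, hmZ, hmz, hfm, hmmax⟩ := exists_maximal_generization f Z z hzZ
    refine ⟨m, ⟨hmZ, hfm.trans hfz, fun t ht htm => ?_⟩, hmz⟩
    refine hmmax t ht htm ?_
    rw [hgen t m (hfm.trans hfz) htm, hfm, hfz]
  have hcl : IsClosed (⋃ m ∈ M, closure ({m} : Set X)) :=
    hMfin.isClosed_biUnion fun _ _ => isClosed_closure
  have hQ : IsConstructible (Z \ ⋃ m ∈ M, closure ({m} : Set X)) :=
    hZ.sdiff (noeth_isConstructible_of_isClosed hcl)
  have hQimg : IsConstructible (f.base '' (Z \ ⋃ m ∈ M, closure ({m} : Set X))) :=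
    f.isConstructible_image hQ
  have hηQ : genericPoint S ∉ f.base '' (Z \ ⋃ m ∈ M, closure ({m} : Set X)) := by
    rintro ⟨z, ⟨hzZ, hzn⟩, hfz⟩
    obtain ⟨m, hmM, hmz⟩ := hcoverη z hzZ hfz
    exact hzn (Set.mem_biUnion hmM (specializes_iff_mem_closure.mp hmz))
  obtain ⟨V0, hV0o, hηV0, hV0⟩ : ∃ V0 : Set S, IsOpen V0 ∧ genericPoint S ∈ V0 ∧
      ∀ z ∈ Z, f z ∈ V0 → ∃ m ∈ M, m ⤳ z := by
    rcases constr_dichotomy hQimg (IrreducibleSpace.isIrreducible_univ S) with
      ⟨U, hU, ⟨y, hyU, -⟩, hsub⟩ | ⟨U, hU, ⟨y, hyU, -⟩, hsub⟩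
    · exfalso
      have : genericPoint S ∈ U := (genericPoint_specializes y).mem_open hU hyU
      exact hηQ (hsub ⟨this, trivial⟩)
    · refine ⟨U, hU, (genericPoint_specializes y).mem_open hU hyU, fun z hzZ hfz => ?_⟩
      by_contra hcon
      push Not at hcon
      refine hsub ⟨hfz, trivial⟩ ⟨z, ⟨hzZ, ?_⟩, rfl⟩
      intro hmem
      obtain ⟨m, hmM, hzm⟩ := Set.mem_iUnion₂.mp hmem
      exact hcon m hmM (specializes_iff_mem_closure.mpr hzm)
  have hpt := fun m (hm : m ∈ M) => exists_open_point f Z hZ M hMfin hM m hm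
  let W : X → Set S := fun m => if h : m ∈ M then Classical.choose (hpt m h) else Set.univ
  have hWo : ∀ m, IsOpen (W m) := by
    intro m
    by_cases h : m ∈ M
    · simp only [W, dif_pos h]; exact (Classical.choose_spec (hpt m h)).1
    · simp only [W, dif_neg h]; exact isOpen_univ
  have hWη : ∀ m, genericPoint S ∈ W m := by
    intro m
    by_cases h : m ∈ M
    · simp only [W, dif_pos h]; exact (Classical.choose_spec (hpt m h)).2.1
    · simp only [W, dif_neg h]; trivial
  have hW : ∀ m ∈ M,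
      (∀ z, m ⤳ z → f z ∈ W m → resTrdegNat f z ≤ resTrdegNat f m) ∧
      (∀ z, m ⤳ z → f z ∈ W m → resTrdegNat f z = resTrdegNat f m → z ∈ Z) ∧
      (∀ s ∈ W m, ∃ t, m ⤳ t ∧ f t = s ∧ resTrdegNat f m ≤ resTrdegNat f t) ∧
      (∀ m' ∈ M, m' ≠ m → ∀ z, m ⤳ z → m' ⤳ z → f z ∈ W m →
        resTrdegNat f z < resTrdegNat f m) := by
    intro m h
    have := (Classical.choose_spec (hpt m h)).2.2
    simp only [W, dif_pos h]
    exact this
  -- the opens avoiding the components not through the section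
  let W' : X → Set S := fun m =>
    if m ⤳ γ (genericPoint S) then Set.univ else (γ.base ⁻¹' closure ({m} : Set X))ᶜ
  have hW'o : ∀ m, IsOpen (W' m) := by
    intro m
    by_cases h : m ⤳ γ (genericPoint S)
    · simp only [W', if_pos h]; exact isOpen_univ
    · simp only [W', if_neg h]
      exact (isClosed_closure.preimage γ.continuous).isOpen_compl
  have hW'η : ∀ m, genericPoint S ∈ W' m := by
    intro m
    by_cases h : m ⤳ γ (genericPoint S)
    · simp only [W', if_pos h]; trivial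
    · simp only [W', if_neg h]
      intro hmem
      exact h (specializes_iff_mem_closure.mpr hmem)
  have hW' : ∀ m s, s ∈ W' m → m ⤳ γ s → m ⤳ γ (genericPoint S) := by
    intro m s hs hms
    by_contra h
    simp only [W', if_neg h] at hs
    exact hs (specializes_iff_mem_closure.mp hms)
  -- the common value
  have key : ∀ s ∈ V0 ∩ (⋂ m ∈ M, W m) ∩ ⋂ m ∈ M, W' m,
      DptAt f (γ s) = (fun m => resTrdegNat f m) '' {m | m ∈ M ∧ m ⤳ γ (genericPoint S)} := by
    intro s hs
    have hsW : ∀ m ∈ M, s ∈ W m := fun m hm => Set.mem_iInter₂.mp hs.1.2 m hm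
    have hsW' : ∀ m ∈ M, s ∈ W' m := fun m hm => Set.mem_iInter₂.mp hs.2 m hm
    ext n
    constructor
    · rintro ⟨c, hcs, hfc, hcmax, rfl⟩
      have hfc' : f c = s := hfc.trans (hfγ s)
      obtain ⟨m, hmM, hmc⟩ := hV0 c trivial (by rw [hfc']; exact hs.1.1)
      obtain ⟨h1, h2, -, -⟩ := hW m hmM
      have hfcW : f c ∈ W m := by rw [hfc']; exact hsW m hmM
      have hle : resTrdegNat f c ≤ resTrdegNat f m := h1 c hmc hfcW
      have hge : resTrdegNat f m ≤ resTrdegNat f c :=
        le_resTrdegNat_of_maximal_closure f m c hmc (fun t _ htc hft => hcmax t htc hft)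
      refine ⟨m, ⟨hmM, hW' m s (hsW' m hmM) (hmc.trans hcs)⟩, ?_⟩
      exact le_antisymm hge hle
    · rintro ⟨m, ⟨hmM, hmγ⟩, rfl⟩
      obtain ⟨h1, h2, h3, h4⟩ := hW m hmM
      have hmγs : m ⤳ γ s := hmγ.trans ((genericPoint_specializes s).map γ.continuous)
      obtain ⟨a, hacl, haγ, hfa, hamax⟩ := exists_maximal_generization f (closure {m}) (γ s)
        (specializes_iff_mem_closure.mp hmγs)
      have hma : m ⤳ a := specializes_iff_mem_closure.mpr hacl
      have hfa' : f a = s := hfa.trans (hfγ s)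
      have hfaW : f a ∈ W m := by rw [hfa']; exact hsW m hmM
      have hle : resTrdegNat f a ≤ resTrdegNat f m := h1 a hma hfaW
      have hge : resTrdegNat f m ≤ resTrdegNat f a :=
        le_resTrdegNat_of_maximal_closure f m a hma
          (fun t hmt hta hft => hamax t (specializes_iff_mem_closure.mp hmt) hta hft)
      have heq : resTrdegNat f a = resTrdegNat f m := le_antisymm hle hge
      refine ⟨a, haγ, hfa, fun t' ht'a hft' => ?_, heq⟩
      by_contra hne
      have hlt := resTrdegNat_lt_of_specializes_fiber f a t' ht'a hft' hne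
      obtain ⟨m', hm'M, hm't'⟩ := hV0 t' trivial (by rw [hft', hfa']; exact hs.1.1)
      obtain ⟨h1', -, -, -⟩ := hW m' hm'M
      have hle' : resTrdegNat f t' ≤ resTrdegNat f m' :=
        h1' t' hm't' (by rw [hft', hfa']; exact hsW m' hm'M)
      have hne' : m' ≠ m := by
        rintro rfl
        omega
      have := h4 m' hm'M hne' a hma (hm't'.trans ht'a) hfaW
      omega
  refine ⟨V0 ∩ (⋂ m ∈ M, W m) ∩ ⋂ m ∈ M, W' m,
    (hV0o.inter (hMfin.isOpen_biInter fun m _ => hWo m)).inter
      (hMfin.isOpen_biInter fun m _ => hW'o m),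
    ⟨⟨hηV0, Set.mem_iInter₂.mpr fun m _ => hWη m⟩, Set.mem_iInter₂.mpr fun m _ => hW'η m⟩,
    fun s hs => ?_⟩
  rw [key s hs, key (genericPoint S)
    ⟨⟨hηV0, Set.mem_iInter₂.mpr fun m _ => hWη m⟩, Set.mem_iInter₂.mpr fun m _ => hW'η m⟩]

end Groth.Agent.Lib.Helper67.DimAt
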