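import Groth.Agent.Lib.Helper67.DimAt3

/-!
# The locus where the fibre is equidimensional at the point is locally constructible (helper67)
-/

set_option autoImplicit false
set_option linter.style.haveILetI false
universe u

open CategoryTheory AlgebraicGeometry CategoryTheory.Limits Topology TopologicalSpace

namespace Groth.Agent.Lib.Helper67.DimAt

open Groth.Agent.Lib.Helper73 Groth.Agent.Lib.Helper78.FibClosure Groth.Agent.Lib.Helper78.ConsNoeth

theorem isConstructible_eqAt_noeth {X S : Scheme.{u}} [IsNoetherian S] (f : X ⟶ S)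
    [LocallyOfFiniteType f] [QuasiCompact f] : IsConstructible {x : X | EqAt f x} := by
  haveI : IsNoetherian X := noetherianSpace_of_finiteType f
  apply isConstructible_of_forall_integral
  intro T i _ _ _
  have hp : IsPullback (pullback.fst f (i ≫ f)) (pullback.snd f (i ≫ f)) f (i ≫ f) :=
    IsPullback.of_hasPullback f (i ≫ f)
  haveI hlft : LocallyOfFiniteType (pullback.snd f (i ≫ f)) :=
    MorphismProperty.of_isPullback (P := @LocallyOfFiniteType) hp inferInstance
  haveI hqc : QuasiCompact (pullback.snd f (i ≫ f)) :=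
    MorphismProperty.of_isPullback (P := @QuasiCompact) hp inferInstance
  let γ : T ⟶ pullback f (i ≫ f) := pullback.lift i (𝟙 T) (by simp)
  have hγ1 : γ ≫ pullback.snd f (i ≫ f) = 𝟙 T := pullback.lift_snd _ _ _
  have hγ2 : γ ≫ pullback.fst f (i ≫ f) = i := pullback.lift_fst _ _ _
  have hiff : ∀ t : T, i t ∈ {x : X | EqAt f x} ↔ EqAt (pullback.snd f (i ≫ f)) (γ t) := by
    intro t
    rw [eqAt_of_isPullback hp (γ t)]
    have h3 : pullback.fst f (i ≫ f) (γ t) = i t := by
      rw [← Scheme.Hom.comp_apply, hγ2]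
    rw [h3]
    rfl
  obtain ⟨V, hVo, hηV, hV⟩ := exists_open_DptAt_eq (pullback.snd f (i ≫ f)) γ hγ1
  have hV' : ∀ t ∈ V, (i t ∈ {x : X | EqAt f x} ↔
      EqAt (pullback.snd f (i ≫ f)) (γ (genericPoint T))) := by
    intro t ht
    rw [hiff t]
    unfold EqAt
    rw [hV t ht]
  by_cases hη : EqAt (pullback.snd f (i ≫ f)) (γ (genericPoint T))
  · left
    refine ⟨genericPoint T, interior_maximal ?_ hVo hηV⟩
    intro t ht
    exact (hV' t ht).mpr hη
  · right
    refine ⟨genericPoint T, interior_maximal ?_ hVo hηV⟩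
    intro t ht hmem
    exact hη ((hV' t ht).mp hmem)

theorem isConstructible_eqAt_of_isAffine {X S : Scheme.{u}} [IsAffine S] (f : X ⟶ S)
    [LocallyOfFinitePresentation f] [QuasiCompact f] [QuasiSeparated f] :
    IsConstructible {x : X | EqAt f x} := by
  obtain ⟨S₀, X₀, f₀, h, eX, Z₀, Z₀', _, _, _, hp, -, -, -, -⟩ :=
    exists_noeth_model_sets f (Z := Set.univ) (Z' := Set.univ) IsConstructible.univ
      IsConstructible.univ
  have e : {x : X | EqAt f x} = eX.base ⁻¹' {x : X₀ | EqAt f₀ x} := by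
    ext x
    exact eqAt_of_isPullback hp x
  rw [e]
  exact eX.isConstructible_preimage (isConstructible_eqAt_noeth f₀)

/-- restriction to opens of the source and the target -/
theorem eqAt_resLE {X S : Scheme.{u}} (f : X ⟶ S) [LocallyOfFiniteType f] (V : S.Opens)
    (U : X.Opens) (hUV : U ≤ f ⁻¹ᵁ V) (u : ↥(U : Scheme.{u})) :
    EqAt (f.resLE V U hUV) u ↔ EqAt f (U.ι u) := by
  have hcomp : f.resLE V U hUV ≫ V.ι = U.ι ≫ f := Scheme.Hom.resLE_comp_ι f hUV
  have hval : ∀ a : ↥(U : Scheme.{u}), V.ι (f.resLE V U hUV a) = f (U.ι a) := by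
    intro a
    rw [← Scheme.Hom.comp_apply, ← Scheme.Hom.comp_apply, hcomp]
  have hinjV : Function.Injective V.ι := V.ι.isOpenEmbedding.injective
  have hinjU : Function.Injective U.ι := U.ι.isOpenEmbedding.injective
  have hfeq : ∀ a b : ↥(U : Scheme.{u}), f.resLE V U hUV a = f.resLE V U hUV b ↔ f (U.ι a) = f (U.ι b) := by
    intro a b
    rw [← hval, ← hval]
    exact ⟨fun h => by rw [h], fun h => hinjV h⟩
  have hspU : ∀ a b : ↥(U : Scheme.{u}), a ⤳ b ↔ U.ι a ⤳ U.ι b := fun a b =>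
    (U.ι.isOpenEmbedding.isInducing.specializes_iff).symm
  have htr : ∀ a : ↥(U : Scheme.{u}), resTrdegNat (f.resLE V U hUV) a = resTrdegNat f (U.ι a) := by
    intro a
    rw [← resTrdegNat_comp_of_isOpenImmersion U.ι f a]
    unfold resTrdegNat
    rw [resTrdeg_congr hcomp.symm a]
    rw [resTrdeg_comp_of_bijective_right (f.resLE V U hUV) V.ι a
      ((ConcreteCategory.isIso_iff_bijective _).mp inferInstance)]
  have hlift : ∀ (a : ↥(U : Scheme.{u})) (z : X), z ⤳ U.ι a → ∃ z' : ↥(U : Scheme.{u}), U.ι z' = z := by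
    intro a z hz
    have : z ∈ U := hz.mem_open U.2 a.2
    exact ⟨⟨z, this⟩, rfl⟩
  have hD : DptAt (f.resLE V U hUV) u = DptAt f (U.ι u) := by
    ext n
    constructor
    · rintro ⟨z, hzu, hfz, hzmax, rfl⟩
      refine ⟨U.ι z, (hspU z u).mp hzu, (hfeq z u).mp hfz, fun t ht hft => ?_, (htr z).symm⟩
      obtain ⟨t', rfl⟩ := hlift z t ht
      rw [hzmax t' ((hspU t' z).mpr ht) ((hfeq t' z).mpr hft)]
    · rintro ⟨z, hzu, hfz, hzmax, rfl⟩
      obtain ⟨z', rfl⟩ := hlift u z hzu
      refine ⟨z', (hspU z' u).mpr hzu, (hfeq z' u).mpr hfz, fun t ht hft => ?_, htr z'⟩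
      apply hinjU
      exact hzmax _ ((hspU t z').mp ht) ((hfeq t z').mp hft)
  unfold EqAt
  rw [hD]

theorem isLocallyConstructible_eqAt {X S : Scheme.{u}} (f : X ⟶ S)
    [LocallyOfFinitePresentation f] : IsLocallyConstructible {x : X | EqAt f x} := by
  intro x
  obtain ⟨_, ⟨V, hV : IsAffineOpen V, rfl⟩, hxV, -⟩ :=
    S.isBasis_affineOpens.exists_subset_of_mem_open (Set.mem_univ (f x)) isOpen_univ
  obtain ⟨_, ⟨U, hU : IsAffineOpen U, rfl⟩, hxU, hUV⟩ :=
    X.isBasis_affineOpens.exists_subset_of_mem_open (show x ∈ (f ⁻¹ᵁ V : Set X) from hxV)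
      (f ⁻¹ᵁ V).2
  refine ⟨U, U.2.mem_nhds hxU, U.2, ?_⟩
  haveI : IsAffine (V : Scheme.{u}) := hV
  haveI : IsAffine (U : Scheme.{u}) := hU
  have hUV' : U ≤ f ⁻¹ᵁ V := hUV
  have hc := isConstructible_eqAt_of_isAffine (f.resLE V U hUV')
  have e : {u : ↥(U : Scheme.{u}) | EqAt (f.resLE V U hUV') u} =
      (Subtype.val ⁻¹' {x : X | EqAt f x} : Set ↥(U : Set X)) := by
    ext u
    exact eqAt_resLE f V U hUV' u
  exact e ▸ hc

/-- the statement in topological form -/
theorem main {X S : Scheme.{u}} (f : X ⟶ S) [LocallyOfFinitePresentation f] :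
    Topology.IsLocallyConstructible {x : X | ∃ e : ℕ,
      ∀ Z ∈ irreducibleComponents (↥(f.fiber (f.base x)) : Type u), f.asFiber x ∈ Z →
        topologicalKrullDim (↥Z : Type u) = e} := by
  have := isLocallyConstructible_eqAt f
  convert this using 1
  ext x
  exact eqAtTop_iff f x

end Groth.Agent.Lib.Helper67.DimAt
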