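import Mathlib

/-!
# Dimension functions on the prime spectrum of a Noetherian ring and Krull dimension of intervals
(helper67, sub-lemma T1 for helper89's S1714)
-/

set_option autoImplicit false
universe u

namespace Groth.Agent.Lib.Helper67.DimFunIcc

variable {A : Type u} [CommRing A] [IsNoetherianRing A]

theorem height_ne_top (q : PrimeSpectrum A) : Order.height q ≠ ⊤ := by
  rw [← PrimeSpectrum.height_eq_orderHeight]
  exact Ideal.height_ne_top q.2.ne_top

theorem wellFoundedGT_primeSpectrum : WellFoundedGT (PrimeSpectrum A) := by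
  have h : WellFounded (fun I J : Ideal A => I > J) := wellFounded_gt
  refine ⟨?_⟩
  have h2 := InvImage.wf (fun p : PrimeSpectrum A => p.asIdeal) h
  refine Subrelation.wf ?_ h2
  intro p q hpq
  exact hpq

theorem exists_le_covBy {p q : PrimeSpectrum A} (hpq : p < q) : ∃ x, p ≤ x ∧ x ⋖ q := by
  haveI := wellFoundedGT_primeSpectrum (A := A)
  haveI : IsStronglyCoatomic (PrimeSpectrum A) := by
    rw [← isStronglyAtomic_dual_iff_is_stronglyCoatomic]
    exact IsStronglyAtomic.of_wellFounded_lt (α := (PrimeSpectrum A)ᵒᵈ)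
      (wellFounded_gt (α := PrimeSpectrum A))
  exact exists_le_covBy_of_lt hpq

variable (δ : PrimeSpectrum A → ℤ) (hδ : ∀ p q : PrimeSpectrum A, p ⋖ q → δ p = δ q + 1)

include hδ in
/-- `δ` is strictly decreasing. -/
theorem lt_of_lt : ∀ (n : ℕ) (q : PrimeSpectrum A), Order.height q = n →
    ∀ x : PrimeSpectrum A, x < q → δ q + 1 ≤ δ x := by
  intro n
  induction n using Nat.strong_induction_on with
  | _ n ih =>
    intro q hq x hxq
    obtain ⟨x₀, hx₀, hcov⟩ := exists_le_covBy hxq
    have h1 := hδ x₀ q hcov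
    rcases hx₀.eq_or_lt with rfl | hlt
    · omega
    · have hfin : Order.height x₀ < ⊤ := (height_ne_top x₀).lt_top
      have hlt' : Order.height x₀ < Order.height q := Order.height_strictMono hcov.lt hfin
      obtain ⟨m, hm⟩ := ENat.ne_top_iff_exists.1 (height_ne_top x₀)
      have hmn : m < n := by
        rw [← hm, hq] at hlt'
        exact_mod_cast hlt'
      have := ih m hmn x₀ hm.symm x hlt
      omega

include hδ in
theorem le_of_le {x q : PrimeSpectrum A} (hxq : x ≤ q) : δ q ≤ δ x := by
  rcases hxq.eq_or_lt with rfl | hlt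
  · exact le_refl _
  · obtain ⟨n, hn⟩ := ENat.ne_top_iff_exists.1 (height_ne_top q)
    have := lt_of_lt δ hδ n q hn.symm x hlt
    omega

include hδ in
theorem lt_of_lt' {x q : PrimeSpectrum A} (hxq : x < q) : δ q + 1 ≤ δ x := by
  obtain ⟨n, hn⟩ := ENat.ne_top_iff_exists.1 (height_ne_top q)
  exact lt_of_lt δ hδ n q hn.symm x hxq

include hδ in
/-- existence of a chain of the expected length -/
theorem exists_series : ∀ (n : ℕ) (q : PrimeSpectrum A), Order.height q = n →
    ∀ p : PrimeSpectrum A, p ≤ q → ∃ l : LTSeries (PrimeSpectrum A),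
      l.head = p ∧ l.last = q ∧ δ p = δ q + (l.length : ℤ) := by
  intro n
  induction n using Nat.strong_induction_on with
  | _ n ih =>
    intro q hq p hpq
    rcases hpq.eq_or_lt with rfl | hlt
    · exact ⟨RelSeries.singleton _ p, rfl, rfl, by simp⟩
    · obtain ⟨x₀, hx₀, hcov⟩ := exists_le_covBy hlt
      have h1 := hδ x₀ q hcov
      have hfin : Order.height x₀ < ⊤ := (height_ne_top x₀).lt_top
      have hlt' : Order.height x₀ < Order.height q := Order.height_strictMono hcov.lt hfin
      obtain ⟨m, hm⟩ := ENat.ne_top_iff_exists.1 (height_ne_top x₀)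
      have hmn : m < n := by
        rw [← hm, hq] at hlt'
        exact_mod_cast hlt'
      obtain ⟨l, hl1, hl2, hl3⟩ := ih m hmn x₀ hm.symm p hx₀
      refine ⟨l.snoc q (by rw [hl2]; exact hcov.lt), ?_, ?_, ?_⟩
      · rw [RelSeries.head_snoc, hl1]
      · rw [RelSeries.last_snoc]
      · rw [RelSeries.snoc_length]
        push_cast
        omega

include hδ in
theorem exists_krullDim_Icc_eq (p q : PrimeSpectrum A) (hpq : p ≤ q) :
    ∃ n : ℕ, Order.krullDim (Set.Icc p q) = ((n : ℕ∞) : WithBot ℕ∞) ∧ δ p = δ q + (n : ℤ) := by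
  obtain ⟨N, hN⟩ := ENat.ne_top_iff_exists.1 (height_ne_top q)
  obtain ⟨l, hl1, hl2, hl3⟩ := exists_series δ hδ N q hN.symm p hpq
  refine ⟨l.length, ?_, hl3⟩
  apply le_antisymm
  · -- upper bound
    haveI : Nonempty (Set.Icc p q) := ⟨⟨p, le_refl _, hpq⟩⟩
    rw [Order.krullDim_eq_iSup_length]
    have key : ∀ c : LTSeries (Set.Icc p q), c.length ≤ l.length := by
      intro c
      have hstep : ∀ i : ℕ, (hi : i < c.length + 1) →
          δ (c ⟨i, hi⟩).1 + (i : ℤ) ≤ δ (c 0).1 := by
        intro i
        induction i with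
        | zero => intro hi; simp
        | succ k ihk =>
          intro hi
          have hk : k < c.length + 1 := by omega
          have h1 := ihk hk
          have hlt : c ⟨k, hk⟩ < c ⟨k + 1, hi⟩ := by
            apply c.strictMono
            exact Fin.mk_lt_mk.2 (Nat.lt_succ_self k)
          have h2 := lt_of_lt' δ hδ (show (c ⟨k, hk⟩).1 < (c ⟨k + 1, hi⟩).1 from hlt)
          push_cast
          omega
      have h3 := hstep c.length (Nat.lt_succ_self _)
      have h4 : δ (c 0).1 ≤ δ p := le_of_le δ hδ (c 0).2.1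
      have h5 : δ q ≤ δ (c ⟨c.length, Nat.lt_succ_self _⟩).1 :=
        le_of_le δ hδ (c ⟨c.length, Nat.lt_succ_self _⟩).2.2
      have : (c.length : ℤ) ≤ (l.length : ℤ) := by omega
      exact_mod_cast this
    have : (⨆ c : LTSeries (Set.Icc p q), (c.length : ℕ∞)) ≤ (l.length : ℕ∞) :=
      iSup_le fun c => by exact_mod_cast key c
    exact_mod_cast this
  · -- lower bound
    have hmem : ∀ i, l i ∈ Set.Icc p q := by
      intro i
      refine ⟨?_, ?_⟩
      · rw [← hl1]
        exact l.strictMono.monotone (Fin.zero_le _)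
      · rw [← hl2]
        exact l.strictMono.monotone (Fin.le_last _)
    let c : LTSeries (Set.Icc p q) :=
      { length := l.length
        toFun := fun i => ⟨l i, hmem i⟩
        step := fun i => l.step i }
    have : ((c.length : ℕ) : WithBot ℕ∞) ≤ Order.krullDim (Set.Icc p q) :=
      Order.le_krullDim_iff.2 ⟨c, rfl⟩
    exact this

end Groth.Agent.Lib.Helper67.DimFunIcc
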