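import Groth.Agent.Lib.Helper73.DimFormula.GenericFibre
import Groth.Agent.Lib.Helper73.DimFormula.FieldExt
import Groth.Agent.Lib.Helper22.FlatDim

/-!
# The set of dimensions of the irreducible components of a space (helper67)

* `Dset T`: the set of dimensions of the irreducible components of `T`.
* `Dset_eq_of_isDimFun`: on a quasi-sober space with a dimension function `δ`, `Dset T` is the set
  of values of `δ` at the points without proper generizations.
* `Dset_preimage_eq`: invariance of `Dset` of a locally closed subset under preimage by an open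
  surjective generalizing map not increasing dimension functions (e.g. extension of the base field).
-/

set_option autoImplicit false
universe u

open Topology TopologicalSpace

namespace Groth.Agent.Lib.Helper67.DimSet

open Groth.Agent.Lib.Helper73

/-- the set of dimensions of the irreducible components -/
def Dset (T : Type*) [TopologicalSpace T] : Set (WithBot ℕ∞) :=
  (fun C : Set T => topologicalKrullDim ↥C) '' irreducibleComponents T

theorem Dset_homeomorph {A B : Type*} [TopologicalSpace A] [TopologicalSpace B] (φ : A ≃ₜ B) :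
    Dset A = Dset B := by
  ext d
  constructor
  · rintro ⟨C, hC, rfl⟩
    obtain ⟨h1, h2⟩ :=
      Groth.Agent.Lib.Helper22.FlatDim.image_mem_irreducibleComponents_of_homeomorph φ C hC
    exact ⟨_, h1, h2⟩
  · rintro ⟨C, hC, rfl⟩
    obtain ⟨h1, h2⟩ :=
      Groth.Agent.Lib.Helper22.FlatDim.image_mem_irreducibleComponents_of_homeomorph φ.symm C hC
    exact ⟨_, h1, h2⟩

theorem Dset_eq_of_isDimFun {T : Type*} [TopologicalSpace T] [QuasiSober T] {δ : T → ℕ}
    (h : IsDimFun δ) :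
    Dset T = (fun t : T => ((δ t : ℕ∞) : WithBot ℕ∞)) '' {t | ∀ t' : T, t' ⤳ t → t' = t} := by
  have := h.t0Space
  ext d
  constructor
  · rintro ⟨C, hC, rfl⟩
    obtain ⟨ζ, hζC, hζmax⟩ := exists_maximal_of_mem_irreducibleComponents C hC
    refine ⟨ζ, hζmax, ?_⟩
    show ((δ ζ : ℕ∞) : WithBot ℕ∞) = topologicalKrullDim ↥C
    rw [← hζC]
    exact (h.topologicalKrullDim_closure_singleton ζ).symm
  · rintro ⟨ζ, hζ, rfl⟩
    exact ⟨closure {ζ}, closure_singleton_mem_irreducibleComponents_of_maximal ζ hζ,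
      h.topologicalKrullDim_closure_singleton ζ⟩

/-- `Dset` of a locally closed subset, through a dimension function of the ambient space. -/
theorem Dset_inter_eq {T : Type*} [TopologicalSpace T] [QuasiSober T] {δ : T → ℕ}
    (h : IsDimFun δ) {W Z : Set T} (hW : IsOpen W) (hZ : IsClosed Z) :
    Dset ↥(W ∩ Z) = (fun t : T => ((δ t : ℕ∞) : WithBot ℕ∞)) ''
      {t | t ∈ W ∩ Z ∧ ∀ t' ∈ W ∩ Z, t' ⤳ t → t' = t} := by
  have : QuasiSober ↥W := hW.isOpenEmbedding_subtypeVal.quasiSober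
  have : QuasiSober ↥(W ∩ Z) := QuasiSober.inter_of_isClosed_of_quasiSober_left W hZ
  rw [Dset_eq_of_isDimFun (h.restrict hW hZ)]
  ext d
  constructor
  · rintro ⟨ζ, hζ, rfl⟩
    refine ⟨ζ.1, ⟨ζ.2, fun t' ht' hsp => ?_⟩, rfl⟩
    have := hζ ⟨t', ht'⟩ (IsInducing.subtypeVal.specializes_iff.mp hsp)
    exact congrArg Subtype.val this
  · rintro ⟨ζ, ⟨hζA, hζ⟩, rfl⟩
    refine ⟨⟨ζ, hζA⟩, fun t' hsp => ?_, rfl⟩
    exact Subtype.ext (hζ t'.1 t'.2 (hsp.map continuous_subtype_val))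

/-- Invariance of `Dset` of a locally closed subset under an open surjective generalizing map which
does not increase dimension functions. -/
theorem Dset_preimage_eq {F' F : Type*} [TopologicalSpace F'] [TopologicalSpace F]
    [QuasiSober F'] [NoetherianSpace F'] [QuasiSober F] {δ' : F' → ℕ} {δ : F → ℕ}
    (h' : IsDimFun δ') (h : IsDimFun δ) (π : F' → F) (hc : Continuous π) (ho : IsOpenMap π)
    (hs : Function.Surjective π) (hg : GeneralizingMap π) (hle : ∀ x', δ' x' ≤ δ (π x'))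
    (A : Set F) (hA : IsLocallyClosed A) :
    Dset ↥(π ⁻¹' A) = Dset ↥A := by
  obtain ⟨W, Z, hW, hZ, rfl⟩ := hA
  have hW' : IsOpen (π ⁻¹' W) := hW.preimage hc
  have hZ' : IsClosed (π ⁻¹' Z) := hZ.preimage hc
  have : QuasiSober ↥W := hW.isOpenEmbedding_subtypeVal.quasiSober
  have : QuasiSober ↥(W ∩ Z) := QuasiSober.inter_of_isClosed_of_quasiSober_left W hZ
  have : QuasiSober ↥(π ⁻¹' W) := hW'.isOpenEmbedding_subtypeVal.quasiSober
  have : QuasiSober ↥(π ⁻¹' W ∩ π ⁻¹' Z) :=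
    QuasiSober.inter_of_isClosed_of_quasiSober_left (π ⁻¹' W) hZ'
  have hD : IsDimFun (fun t : ↥(W ∩ Z) => δ t.1) := h.restrict hW hZ
  have hD' : IsDimFun (fun t : ↥(π ⁻¹' W ∩ π ⁻¹' Z) => δ' t.1) := h'.restrict hW' hZ'
  have : T0Space ↥(π ⁻¹' W ∩ π ⁻¹' Z) := hD'.t0Space
  let πA : ↥(π ⁻¹' W ∩ π ⁻¹' Z) → ↥(W ∩ Z) := (W ∩ Z).restrictPreimage π
  have hcA : Continuous πA := hc.restrictPreimage
  have hoA : IsOpenMap πA := ho.restrictPreimage (W ∩ Z)
  have hgA : GeneralizingMap πA := hg.restrictPreimage (W ∩ Z)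
  have hsA : Function.Surjective πA := by
    rintro ⟨a, ha⟩
    obtain ⟨x, rfl⟩ := hs a
    exact ⟨⟨x, ha⟩, rfl⟩
  have hleA : ∀ x' : ↥(π ⁻¹' W ∩ π ⁻¹' Z), δ' x'.1 ≤ δ (πA x').1 := fun x' => hle x'.1
  have hloc : ∀ x' : ↥(π ⁻¹' W ∩ π ⁻¹' Z), ∃ O : Set ↥(π ⁻¹' W ∩ π ⁻¹' Z), IsOpen O ∧ x' ∈ O ∧
      ∀ w ∈ O, ∃ η : ↥(π ⁻¹' W ∩ π ⁻¹' Z), η ⤳ w ∧ η ⤳ x' :=
    fun x' => exists_open_forall_exists_generic x'
  show Dset ↥(π ⁻¹' W ∩ π ⁻¹' Z) = Dset ↥(W ∩ Z)
  rw [Dset_eq_of_isDimFun hD', Dset_eq_of_isDimFun hD]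
  ext d
  constructor
  · rintro ⟨ζ', hζ', rfl⟩
    refine ⟨πA ζ', IsDimFun.maximal_map_of_generalizingMap πA hgA ζ' hζ', ?_⟩
    have := IsDimFun.eq_of_maximal hD hD' πA hgA hoA hleA hloc ζ' hζ'
    simp only [this]
  · rintro ⟨a, ha, rfl⟩
    obtain ⟨x', rfl⟩ := hsA a
    obtain ⟨ζ', hζ'x', hζ'max⟩ := exists_maximal_specializes x'
    have h1 : πA ζ' = πA x' := ha _ (hζ'x'.map hcA)
    refine ⟨ζ', hζ'max, ?_⟩
    have := IsDimFun.eq_of_maximal hD hD' πA hgA hoA hleA hloc ζ' hζ'max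
    simp only [this, h1]

end Groth.Agent.Lib.Helper67.DimSet
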