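import Groth.Agent.Lib.Helper67.DimSet1
import Groth.Agent.Lib.Helper67.SecComp
import Groth.Agent.Lib.Helper73.DimFormula.FieldExtScheme
import Groth.Agent.Lib.Helper73.DimFormula.FiberDimBC
import Groth.Agent.Lib.Helper78.FibClosure

/-!
# The locus where the fibre of a subset has a given set of component dimensions (helper67)

* `dimLocus Φ f Z`: the set of `s` such that the trace of `Z` on the fibre `X_s` is locally closed
  and the set of dimensions of its irreducible components is `Φ`.
* `dimLocus_of_isPullback`: compatibility with base change.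
-/

set_option autoImplicit false
set_option linter.style.haveILetI false
universe u

open CategoryTheory AlgebraicGeometry CategoryTheory.Limits Topology TopologicalSpace

namespace Groth.Agent.Lib.Helper67.DimSet

open Groth.Agent.Lib.Helper73

/-- the locus of `s` where `Z ∩ X_s` is locally closed in `X_s` with set of dimensions of
irreducible components equal to `Φ` -/
def dimLocus (Φ : Set (WithBot ℕ∞)) {X S : Scheme.{u}} (f : X ⟶ S) (Z : Set X) : Set S :=
  {s | IsLocallyClosed (⇑(f.fiberι s) ⁻¹' Z) ∧ Dset ↥(⇑(f.fiberι s) ⁻¹' Z) = Φ}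

theorem dimLocus_of_isPullback (Φ : Set (WithBot ℕ∞)) {X' X S' S : Scheme.{u}} {eX : X' ⟶ X}
    {f' : X' ⟶ S'} {f : X ⟶ S} {h : S' ⟶ S} [LocallyOfFiniteType f] [QuasiCompact f]
    (hp : IsPullback eX f' f h) (Z : Set X) :
    dimLocus Φ f' (⇑eX ⁻¹' Z) = ⇑h ⁻¹' dimLocus Φ f Z := by
  ext s'
  haveI : LocallyOfFiniteType f' := MorphismProperty.of_isPullback hp ‹_›
  haveI : QuasiCompact f' := MorphismProperty.of_isPullback hp ‹_›
  let EX : f'.fiber s' ⟶ f.fiber (h s') := fiberMapOfIsPullback f h eX f' hp s'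
  have hP : IsPullback EX (f'.fiberToSpecResidueField s') (f.fiberToSpecResidueField (h s'))
      (Spec.map (h.residueFieldMap s')) := isPullback_fiberToSpecResidueField_of_isPullback hp s'
  have hcomm : EX ≫ f.fiberι (h s') = f'.fiberι s' ≫ eX :=
    fiberMapOfIsPullback_fiberι f h eX f' hp s'
  have hpre : ⇑(f'.fiberι s') ⁻¹' (⇑eX ⁻¹' Z) = ⇑EX ⁻¹' (⇑(f.fiberι (h s')) ⁻¹' Z) := by
    ext z
    simp only [Set.mem_preimage]
    rw [← Scheme.Hom.comp_apply, ← Scheme.Hom.comp_apply, hcomm]
  have hflat : Flat EX := flat_of_isPullback_field (k := S.residueField (h s'))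
    (K := S'.residueField s') (h.residueFieldMap s').hom
    (f.fiberToSpecResidueField (h s')) (f'.fiberToSpecResidueField s') EX hP
  have huo : UniversallyOpen EX := universallyOpen_of_isPullback_field
    (k := S.residueField (h s'))
    (K := S'.residueField s') (h.residueFieldMap s').hom
    (f.fiberToSpecResidueField (h s')) (f'.fiberToSpecResidueField s') EX hP
  have hsurj : Surjective EX := surjective_of_isPullback_field
    (k := S.residueField (h s'))
    (K := S'.residueField s') (h.residueFieldMap s').hom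
    (f.fiberToSpecResidueField (h s')) (f'.fiberToSpecResidueField s') EX hP
  have hle := trdegNat_le_of_isPullback (k := S.residueField (h s'))
    (K := S'.residueField s') (h.residueFieldMap s').hom
    (f.fiberToSpecResidueField (h s')) (f'.fiberToSpecResidueField s') EX hP
  have hc : Continuous EX := EX.continuous
  have ho : IsOpenMap EX := EX.isOpenMap
  have hs : Function.Surjective EX := hsurj.surj
  haveI : NoetherianSpace ↥(f'.fiber s') := SecComp.noetherianSpace_fiber f' s'
  show (IsLocallyClosed (⇑(f'.fiberι s') ⁻¹' (⇑eX ⁻¹' Z)) ∧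
      Dset ↥(⇑(f'.fiberι s') ⁻¹' (⇑eX ⁻¹' Z)) = Φ) ↔
    (IsLocallyClosed (⇑(f.fiberι (h s')) ⁻¹' Z) ∧ Dset ↥(⇑(f.fiberι (h s')) ⁻¹' Z) = Φ)
  rw [hpre]
  have hlc : IsLocallyClosed (⇑EX ⁻¹' (⇑(f.fiberι (h s')) ⁻¹' Z)) ↔
      IsLocallyClosed (⇑(f.fiberι (h s')) ⁻¹' Z) :=
    Groth.Agent.Lib.Helper78.FibClosure.isFibInvariant_lc ⇑EX hc ho hs _ (∅ : Set ↥(f.fiber (h s')))
  rw [hlc]
  refine and_congr_right fun hA => ?_
  rw [Dset_preimage_eq
    (isDimFun_trdegNat (k := S'.residueField s') (f'.fiberToSpecResidueField s'))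
    (isDimFun_trdegNat (k := S.residueField (h s')) (f.fiberToSpecResidueField (h s')))
    ⇑EX hc ho hs (Flat.generalizingMap EX) hle _ hA]

end Groth.Agent.Lib.Helper67.DimSet
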