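import Groth.Agent.Lib.Helper67.DimSet2

/-!
# Local constructibility of `dimLocus` from its generic behaviour (helper67)
-/

set_option autoImplicit false
set_option linter.style.haveILetI false
universe u

open CategoryTheory AlgebraicGeometry CategoryTheory.Limits Topology TopologicalSpace

namespace Groth.Agent.Lib.Helper67.DimSet

open Groth.Agent.Lib.Helper73 Groth.Agent.Lib.Helper78.FibClosure Groth.Agent.Lib.Helper78.ConsNoeth

/-- generic behaviour of `dimLocus` over integral Noetherian bases -/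
def HasDimDichotomy (Φ : Set (WithBot ℕ∞)) : Prop :=
  ∀ {X S : Scheme.{u}} (f : X ⟶ S) [IsIntegral S] [IsNoetherian S] [LocallyOfFiniteType f]
    [QuasiCompact f] (Z : Set X), IsConstructible Z →
    (interior (dimLocus Φ f Z)).Nonempty ∨ (interior (dimLocus Φ f Z)ᶜ).Nonempty

variable {Φ : Set (WithBot ℕ∞)}

theorem isConstructible_dimLocus_noeth (hd : HasDimDichotomy.{u} Φ)
    {X S : Scheme.{u}} [IsNoetherian S] (f : X ⟶ S) [LocallyOfFiniteType f] [QuasiCompact f]
    {Z : Set X} (hZ : IsConstructible Z) :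
    IsConstructible (dimLocus Φ f Z) := by
  apply isConstructible_of_forall_integral
  intro T i _ _ _
  have e := dimLocus_of_isPullback Φ (IsPullback.of_hasPullback f i) Z
  have hlft : LocallyOfFiniteType (pullback.snd f i) :=
    MorphismProperty.of_isPullback (P := @LocallyOfFiniteType)
      (IsPullback.of_hasPullback f i) inferInstance
  have hqc : QuasiCompact (pullback.snd f i) :=
    MorphismProperty.of_isPullback (P := @QuasiCompact)
      (IsPullback.of_hasPullback f i) inferInstance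
  have := hd (pullback.snd f i) _ ((pullback.fst f i).isConstructible_preimage hZ)
  rw [e] at this
  exact this

theorem isConstructible_dimLocus_of_isAffine (hd : HasDimDichotomy.{u} Φ)
    {X S : Scheme.{u}} [IsAffine S] (f : X ⟶ S)
    [LocallyOfFinitePresentation f] [QuasiCompact f] [QuasiSeparated f] {Z : Set X}
    (hZ : IsConstructible Z) :
    IsConstructible (dimLocus Φ f Z) := by
  obtain ⟨S₀, X₀, f₀, h, eX, Z₀, Z₀', _, _, _, hp, hZ₀, hZ₀', rfl, -⟩ :=
    exists_noeth_model_sets f hZ hZ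
  have e := dimLocus_of_isPullback Φ hp Z₀
  rw [e]
  exact h.isConstructible_preimage (isConstructible_dimLocus_noeth hd f₀ hZ₀)

theorem isLocallyConstructible_dimLocus (hd : HasDimDichotomy.{u} Φ)
    {X S : Scheme.{u}} (f : X ⟶ S)
    [LocallyOfFinitePresentation f] [QuasiCompact f] [QuasiSeparated f] {Z : Set X}
    (hZ : IsLocallyConstructible Z) :
    IsLocallyConstructible (dimLocus Φ f Z) := by
  intro x
  obtain ⟨_, ⟨U, hU : IsAffineOpen U, rfl⟩, hxU, -⟩ :=
    S.isBasis_affineOpens.exists_subset_of_mem_open (Set.mem_univ x) isOpen_univ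
  refine ⟨U, U.2.mem_nhds hxU, U.2, ?_⟩
  haveI : IsAffine (U : Scheme.{u}) := hU
  have e := dimLocus_of_isPullback Φ (isPullback_morphismRestrict f U).flip Z
  haveI : CompactSpace ↥(f ⁻¹ᵁ U : Scheme.{u}) :=
    QuasiCompact.compactSpace_of_compactSpace (f ∣_ U)
  haveI : QuasiSeparatedSpace ↥(f ⁻¹ᵁ U : Scheme.{u}) :=
    quasiSeparatedSpace_of_quasiSeparated (f ∣_ U)
  have hc := isConstructible_dimLocus_of_isAffine hd (f ∣_ U)
    (Z := (f ⁻¹ᵁ U).ι.base ⁻¹' Z)
    (hZ.preimage_of_isOpenEmbedding (f ⁻¹ᵁ U).ι.isOpenEmbedding).isConstructible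
  have e' : dimLocus Φ (f ∣_ U) ((f ⁻¹ᵁ U).ι.base ⁻¹' Z) = (Scheme.Opens.ι U).base ⁻¹' dimLocus Φ f Z := e
  rw [e'] at hc
  exact hc

/-- translation to the topological fibres -/
theorem Dset_fibre_eq {X S : Scheme.{u}} (f : X ⟶ S) (Z : Set X) (s : S) :
    Dset ↥(Z ∩ f.base ⁻¹' {s}) = Dset ↥(⇑(f.fiberι s) ⁻¹' Z) := by
  symm
  refine Dset_homeomorph ?_
  let e : ↥(f.fiber s) ≃ₜ ↥(f.base ⁻¹' {s}) := f.fiberHomeo s
  have he : ∀ z : ↥(f.fiber s), (e z).1 = f.fiberι s z := fun z => rfl
  refine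
  { toFun := fun z => ⟨(e z.1).1, by
      refine ⟨?_, (e z.1).2⟩
      rw [he]; exact z.2⟩
    invFun := fun x => ⟨e.symm ⟨x.1, x.2.2⟩, by
      show f.fiberι s (e.symm ⟨x.1, x.2.2⟩) ∈ Z
      rw [← he, e.apply_symm_apply]; exact x.2.1⟩
    left_inv := fun z => by
      apply Subtype.ext
      show e.symm ⟨(e z.1).1, _⟩ = z.1
      exact e.symm_apply_apply z.1
    right_inv := fun x => by
      apply Subtype.ext
      show (e (e.symm ⟨x.1, x.2.2⟩)).1 = x.1
      rw [e.apply_symm_apply]
    continuous_toFun := by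
      refine Continuous.subtype_mk ?_ _
      exact continuous_subtype_val.comp (e.continuous.comp continuous_subtype_val)
    continuous_invFun := by
      refine Continuous.subtype_mk ?_ _
      refine e.symm.continuous.comp ?_
      exact Continuous.subtype_mk continuous_subtype_val _ }

theorem isLocallyClosed_fibre_iff {X S : Scheme.{u}} (f : X ⟶ S) (Z : Set X) (s : S) :
    IsLocallyClosed (Subtype.val ⁻¹' Z : Set ↥(f.base ⁻¹' {s})) ↔
      IsLocallyClosed (⇑(f.fiberι s) ⁻¹' Z) := by
  let e : ↥(f.fiber s) ≃ₜ ↥(f.base ⁻¹' {s}) := f.fiberHomeo s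
  have h1 : ⇑(f.fiberι s) ⁻¹' Z = e ⁻¹' (Subtype.val ⁻¹' Z) := rfl
  rw [h1]
  constructor
  · intro h
    exact h.preimage e.continuous
  · intro h
    have := h.preimage e.symm.continuous
    rwa [← Set.preimage_comp, e.self_comp_symm, Set.preimage_id] at this

end Groth.Agent.Lib.Helper67.DimSet
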