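import Groth.Agent.Lib.Helper67.DimSet3
import Groth.Agent.Lib.Helper22.GenStr
import Groth.Agent.Lib.Helper22.GenericFibreDim
import Groth.Agent.Lib.Helper35.ConstrTop
import Groth.Agent.Lib.Helper73.DimFormula.FibreDimSemi

/-!
# Point-level description of the dimensions of the components of fibres (helper67)

* `Dpt f Z s`: the set of residual transcendence degrees of the points of `Z` over `s` without
  proper generization in `Z` over `s`.
* `exists_maximal_generization`, `finite_maximal`, `le_resTrdegNat_of_maximal_closure`.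
* `Dset_fibre_eq_Dpt`: for a locally closed trace, `Dset` of the trace is `Dpt`.
-/

set_option autoImplicit false
set_option linter.style.haveILetI false
universe u

open CategoryTheory AlgebraicGeometry CategoryTheory.Limits Topology TopologicalSpace

namespace Groth.Agent.Lib.Helper67.DimSet

open Groth.Agent.Lib.Helper73 Groth.Agent.Lib.Helper35

variable {X S : Scheme.{u}} (f : X ⟶ S)

/-- the residual transcendence degrees of the maximal points of the trace of `Z` on the fibre -/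
def Dpt (Z : Set X) (s : S) : Set ℕ :=
  {n | ∃ z ∈ Z, f z = s ∧ (∀ t ∈ Z, t ⤳ z → f t = s → t = z) ∧ resTrdegNat f z = n}

theorem exists_maximal_generization [LocallyOfFiniteType f] (Q : Set X) (x : X) (hx : x ∈ Q) :
    ∃ m ∈ Q, m ⤳ x ∧ f m = f x ∧ ∀ t ∈ Q, t ⤳ m → f t = f m → t = m := by
  obtain ⟨d, hd⟩ := exists_fibreDimAt_eq_natCast f x
  let N : Set ℕ := {n | ∃ t ∈ Q, t ⤳ x ∧ f t = f x ∧ resTrdegNat f t = n}
  have hNne : N.Nonempty := ⟨_, x, hx, specializes_rfl, rfl, rfl⟩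
  have hNb : BddAbove N := ⟨d, by
    rintro n ⟨t, -, h1, h2, rfl⟩
    have := resTrdegNat_le_fibreDimAt_of_specializes f x t h1 h2
    rw [hd] at this
    exact_mod_cast this⟩
  obtain ⟨m, hmQ, hmx, hfm, hm⟩ := Nat.sSup_mem hNne hNb
  refine ⟨m, hmQ, hmx, hfm, fun t ht htm hft => ?_⟩
  by_contra hne
  have hlt := resTrdegNat_lt_of_specializes_fiber f m t htm hft hne
  have : resTrdegNat f t ≤ sSup N := le_csSup hNb ⟨t, ht, htm.trans hmx, hft.trans hfm, rfl⟩
  omega

/-- In a Noetherian quasi-sober space a constructible set has finitely many maximal points. -/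
theorem finite_maximal {T : Type*} [TopologicalSpace T] [NoetherianSpace T] [QuasiSober T]
    [T0Space T] {Z : Set T} (hZ : IsConstructible Z) :
    {m | m ∈ Z ∧ ∀ t ∈ Z, t ⤳ m → t = m}.Finite := by
  suffices H : ∀ C : Set T, IsClosed C →
      {m | m ∈ Z ∩ C ∧ ∀ t ∈ Z ∩ C, t ⤳ m → t = m}.Finite by
    have := H Set.univ isClosed_univ
    simpa using this
  apply noeth_closed_induction
  · simp
  · intro C₁ C₂ _ _ h1 h2
    refine (h1.union h2).subset ?_
    rintro m ⟨⟨hmZ, hmC | hmC⟩, hm⟩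
    · exact Or.inl ⟨⟨hmZ, hmC⟩, fun t ht htm => hm t ⟨ht.1, Or.inl ht.2⟩ htm⟩
    · exact Or.inr ⟨⟨hmZ, hmC⟩, fun t ht htm => hm t ⟨ht.1, Or.inr ht.2⟩ htm⟩
  · intro C hC hCi IH
    obtain ⟨c, hc⟩ := QuasiSober.sober hCi hC
    by_cases hcZ : c ∈ Z
    · refine (Set.finite_singleton c).subset ?_
      rintro m ⟨⟨hmZ, hmC⟩, hm⟩
      have h1 : c ⤳ m := hc.specializes hmC
      exact (hm c ⟨hcZ, hc.mem⟩ h1).symm
    · rcases constr_dichotomy hZ hCi with ⟨U, hU, hne, hsub⟩ | ⟨U, hU, hne, hsub⟩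
      · exfalso
        have : c ∈ U := (hc.mem_open_set_iff hU).mpr (by rwa [Set.inter_comm] at hne)
        exact hcZ (hsub ⟨this, hc.mem⟩)
      · have hlt : C \ U ⊂ C := sdiff_open_ssubset hne
        have hcl : IsClosed (C \ U) := hC.sdiff hU
        have heq : Z ∩ C = Z ∩ (C \ U) := by
          ext x
          constructor
          · rintro ⟨hxZ, hxC⟩
            exact ⟨hxZ, hxC, fun hxU => hsub ⟨hxU, hxC⟩ hxZ⟩
          · rintro ⟨hxZ, hxC, -⟩
            exact ⟨hxZ, hxC⟩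
        rw [heq]
        exact IH _ hcl hlt

/-- Chevalley lower bound: a point of `closure {e}` which is maximal among the points of
`closure {e}` in its fibre has residual transcendence degree at least that of `e`. -/
theorem le_resTrdegNat_of_maximal_closure [LocallyOfFiniteType f] (e a : X) (ha : e ⤳ a)
    (hmax : ∀ t : X, e ⤳ t → t ⤳ a → f t = f a → t = a) :
    resTrdegNat f e ≤ resTrdegNat f a := by
  obtain ⟨A, j, hj, hirr, hr, hgen⟩ :=
    Groth.Agent.Lib.Helper72.FibDimIrr.exists_closedSubscheme_closure e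
  have haA : a ∈ Set.range j := by rw [hr]; exact specializes_iff_mem_closure.mp ha
  obtain ⟨a', rfl⟩ := haA
  have hinj : Function.Injective j := j.isClosedEmbedding.injective
  have hmax' : ∀ t : A, t ⤳ a' → (j ≫ f) t = (j ≫ f) a' → t = a' := by
    intro t ht hft
    apply hinj
    refine hmax (j t) ?_ (ht.map j.continuous) (by simpa using hft)
    rw [specializes_iff_mem_closure, ← hr]
    exact ⟨t, rfl⟩
  have h1 := Groth.Agent.Lib.Helper22.GenericFibreDim.fibreDimAt_eq_resTrdegNat_of_maximal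
    (j ≫ f) a' hmax'
  have hopen := isOpen_fibreDimAt_le (resTrdegNat (j ≫ f) a') A S (j ≫ f)
  have hξ : genericPoint A ∈ {x' : A | FlatMor.fibreDimAt (j ≫ f) x' ≤
      ((resTrdegNat (j ≫ f) a' : ℕ) : WithBot ℕ∞)} :=
    (genericPoint_specializes a').mem_open hopen h1.le
  have h2 := Groth.Agent.Lib.Helper22.GenericFibreDim.fibreDimAt_eq_resTrdegNat_of_maximal
    (j ≫ f) (genericPoint A)
    (fun t ht _ => ((genericPoint_specializes t).antisymm ht).eq.symm)
  change FlatMor.fibreDimAt (j ≫ f) (genericPoint A) ≤ _ at hξ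
  rw [h2] at hξ
  have h3 : resTrdegNat (j ≫ f) (genericPoint A) ≤ resTrdegNat (j ≫ f) a' := by
    exact_mod_cast hξ
  rwa [resTrdegNat_comp_of_isPreimmersion, resTrdegNat_comp_of_isPreimmersion, hgen] at h3

/-- For a locally closed trace on the fibre, the set of dimensions of its irreducible components
is the point-level set `Dpt`. -/
theorem Dset_fibre_eq_Dpt [LocallyOfFiniteType f] (Z : Set X) (s : S)
    (hlc : IsLocallyClosed (⇑(f.fiberι s) ⁻¹' Z)) :
    Dset ↥(⇑(f.fiberι s) ⁻¹' Z) = (fun n : ℕ => ((n : ℕ∞) : WithBot ℕ∞)) '' Dpt f Z s := by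
  obtain ⟨W, C, hW, hC, hWC⟩ := hlc
  rw [hWC, Dset_inter_eq
    (isDimFun_trdegNat (k := S.residueField s) (f.fiberToSpecResidueField s)) hW hC]
  have hrange : ∀ t : X, f t = s → ∃ τ : ↥(f.fiber s), f.fiberι s τ = t := by
    intro t ht
    have : t ∈ Set.range (f.fiberι s) := by rw [f.range_fiberι]; exact ht
    exact this
  have hsp : ∀ a b : ↥(f.fiber s), a ⤳ b ↔ f.fiberι s a ⤳ f.fiberι s b := fun a b =>
    ((f.fiberι s).isEmbedding.isInducing.specializes_iff).symm
  have hfib : ∀ τ : ↥(f.fiber s), f (f.fiberι s τ) = s := by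
    intro τ
    have : f.fiberι s τ ∈ Set.range (f.fiberι s) := ⟨τ, rfl⟩
    rwa [f.range_fiberι] at this
  have hmem : ∀ τ : ↥(f.fiber s), τ ∈ W ∩ C ↔ f.fiberι s τ ∈ Z := by
    intro τ
    rw [← hWC]; rfl
  ext d
  constructor
  · rintro ⟨ζ, ⟨hζA, hζ⟩, rfl⟩
    refine ⟨_, ⟨f.fiberι s ζ, (hmem ζ).mp hζA, hfib ζ, ?_, rfl⟩, ?_⟩
    · intro t htZ htz hft
      obtain ⟨τ, rfl⟩ := hrange t hft
      rw [hζ τ ((hmem τ).mpr htZ) ((hsp τ ζ).mpr htz)]
    · simp only
      rw [trdegNat_fiber_eq_resTrdegNat]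
  · rintro ⟨_, ⟨z, hzZ, hfz, hz, rfl⟩, rfl⟩
    obtain ⟨ζ, rfl⟩ := hrange z hfz
    refine ⟨ζ, ⟨(hmem ζ).mpr hzZ, ?_⟩, ?_⟩
    · intro τ hτ hτζ
      apply (f.fiberι s).isEmbedding.injective
      exact hz _ ((hmem τ).mp hτ) ((hsp τ ζ).mp hτζ) (hfib τ)
    · simp only
      rw [trdegNat_fiber_eq_resTrdegNat]

end Groth.Agent.Lib.Helper67.DimSet
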