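import Groth.Agent.Lib.Helper67.DimSet4

/-!
# Generic constancy of the dimensions of the components of the fibres of a constructible set
(helper67)

`exists_open_Dpt_eq`: over an integral Noetherian base, for `f` of finite type and `Z`
constructible, `Dpt f Z s = Dpt f Z η` for `s` in a neighbourhood of the generic point `η`.
-/

set_option autoImplicit false
set_option linter.style.haveILetI false
universe u

open CategoryTheory AlgebraicGeometry CategoryTheory.Limits Topology TopologicalSpace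

namespace Groth.Agent.Lib.Helper67.DimSet

open Groth.Agent.Lib.Helper73 Groth.Agent.Lib.Helper35 Groth.Agent.Lib.Helper22.GenStr

variable {X S : Scheme.{u}} (f : X ⟶ S)

/-- upper bound on `closure {e}` near the generic point -/
theorem exists_open_le [LocallyOfFiniteType f] [QuasiCompact f] [IrreducibleSpace S]
    (e : X) (he : f e = genericPoint S) :
    ∃ V : Set S, IsOpen V ∧ genericPoint S ∈ V ∧
      ∀ z, e ⤳ z → f z ∈ V → resTrdegNat f z ≤ resTrdegNat f e := by
  obtain ⟨V, hηV, hV⟩ := exists_open_forall_resTrdegNat_lt f (closure {e}) isClosed_closure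
    (resTrdegNat f e + 1) (by
      intro z hz hfz
      have := resTrdegNat_le_of_specializes_fiber f z e (specializes_iff_mem_closure.mpr hz)
        (he.trans hfz.symm)
      omega)
  refine ⟨V, V.2, hηV, fun z hz hfz => ?_⟩
  have := hV z (specializes_iff_mem_closure.mp hz) hfz
  omega

/-- strict upper bound on `B ∩ closure {e}` near the generic point, `B` closed missing `e` -/
theorem exists_open_lt [LocallyOfFiniteType f] [QuasiCompact f] [IrreducibleSpace S]
    (e : X) (he : f e = genericPoint S) (B : Set X) (hB : IsClosed B) (heB : e ∉ B) :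
    ∃ V : Set S, IsOpen V ∧ genericPoint S ∈ V ∧
      ∀ z ∈ B, e ⤳ z → f z ∈ V → resTrdegNat f z < resTrdegNat f e := by
  obtain ⟨V, hηV, hV⟩ := exists_open_forall_resTrdegNat_lt f (B ∩ closure {e})
    (hB.inter isClosed_closure) (resTrdegNat f e) (by
      rintro z ⟨hzB, hz⟩ hfz
      refine resTrdegNat_lt_of_specializes_fiber f z e (specializes_iff_mem_closure.mpr hz)
        (he.trans hfz.symm) ?_
      rintro rfl
      exact heB hzB)
  exact ⟨V, V.2, hηV, fun z hzB hz hfz => hV z ⟨hzB, specializes_iff_mem_closure.mp hz⟩ hfz⟩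

/-- the per-point generic structure -/
theorem exists_open_point [LocallyOfFiniteType f] [QuasiCompact f] [IrreducibleSpace S]
    (Z : Set X) (hZ : IsConstructible Z) (M : Set X) (hMfin : M.Finite)
    (hM : ∀ m ∈ M, m ∈ Z ∧ f m = genericPoint S ∧ ∀ t ∈ Z, t ⤳ m → t = m) (m : X) (hm : m ∈ M) :
    ∃ V : Set S, IsOpen V ∧ genericPoint S ∈ V ∧
      (∀ z, m ⤳ z → f z ∈ V → resTrdegNat f z ≤ resTrdegNat f m) ∧
      (∀ z, m ⤳ z → f z ∈ V → resTrdegNat f z = resTrdegNat f m → z ∈ Z) ∧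
      (∀ s ∈ V, ∃ t, m ⤳ t ∧ f t = s ∧ resTrdegNat f m ≤ resTrdegNat f t) ∧
      (∀ m' ∈ M, m' ≠ m → ∀ z, m ⤳ z → m' ⤳ z → f z ∈ V →
        resTrdegNat f z < resTrdegNat f m) := by
  obtain ⟨hmZ, hfm, hmmax⟩ := hM m hm
  obtain ⟨V1, hV1o, hηV1, hV1⟩ := exists_open_le f m hfm
  -- the open part of `closure {m}` contained in `Z`
  obtain ⟨U, hU, ⟨y, hyU, hym⟩, hUsub⟩ := constr_exists_open_of_dense hZ
    (isIrreducible_singleton.closure : IsIrreducible (closure ({m} : Set X)))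
    (closure_mono (Set.singleton_subset_iff.mpr ⟨hmZ, subset_closure rfl⟩))
  have hmU : m ∈ U := (specializes_iff_mem_closure.mpr hym : m ⤳ y).mem_open hU hyU
  obtain ⟨V2, hV2o, hηV2, hV2⟩ := exists_open_lt f m hfm Uᶜ hU.isClosed_compl (fun h => h hmU)
  obtain ⟨V3, hηV3, hV3⟩ := exists_open_forall_exists_le_resTrdegNat f m hfm
  -- the pairs
  have hpair : ∀ m' ∈ M, m' ≠ m → ∃ V : Set S, IsOpen V ∧ genericPoint S ∈ V ∧
      ∀ z ∈ closure ({m'} : Set X), m ⤳ z → f z ∈ V → resTrdegNat f z < resTrdegNat f m := by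
    intro m' hm' hne
    refine exists_open_lt f m hfm (closure {m'}) isClosed_closure ?_
    intro hmem
    have h1 : m' ⤳ m := specializes_iff_mem_closure.mpr hmem
    exact hne (hmmax m' (hM m' hm').1 h1)
  classical
  let V4 : X → Set S := fun m' =>
    if h : m' ∈ M ∧ m' ≠ m then Classical.choose (hpair m' h.1 h.2) else Set.univ
  have hV4o : ∀ m', IsOpen (V4 m') := by
    intro m'
    by_cases h : m' ∈ M ∧ m' ≠ m
    · simp only [V4, dif_pos h]
      exact (Classical.choose_spec (hpair m' h.1 h.2)).1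
    · simp only [V4, dif_neg h]
      exact isOpen_univ
  have hV4η : ∀ m', genericPoint S ∈ V4 m' := by
    intro m'
    by_cases h : m' ∈ M ∧ m' ≠ m
    · simp only [V4, dif_pos h]
      exact (Classical.choose_spec (hpair m' h.1 h.2)).2.1
    · simp only [V4, dif_neg h]
      trivial
  have hV4 : ∀ m' ∈ M, m' ≠ m → ∀ z ∈ closure ({m'} : Set X), m ⤳ z → f z ∈ V4 m' →
      resTrdegNat f z < resTrdegNat f m := by
    intro m' hm' hne z hz hmz hfz
    have h : m' ∈ M ∧ m' ≠ m := ⟨hm', hne⟩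
    simp only [V4, dif_pos h] at hfz
    exact (Classical.choose_spec (hpair m' h.1 h.2)).2.2 z hz hmz hfz
  refine ⟨V1 ∩ V2 ∩ (V3 : Set S) ∩ ⋂ m' ∈ M, V4 m', ?_, ?_, ?_, ?_, ?_, ?_⟩
  · exact ((hV1o.inter hV2o).inter V3.2).inter (hMfin.isOpen_biInter fun m' _ => hV4o m')
  · exact ⟨⟨⟨hηV1, hηV2⟩, hηV3⟩, Set.mem_iInter₂.mpr fun m' _ => hV4η m'⟩
  · intro z hz hfz
    exact hV1 z hz hfz.1.1.1
  · intro z hz hfz heq
    by_contra hzZ
    have hzU : z ∈ Uᶜ := fun hzU => hzZ (hUsub ⟨hzU, specializes_iff_mem_closure.mp hz⟩)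
    have := hV2 z hzU hz hfz.1.1.2
    omega
  · intro s hs
    exact hV3 s hs.1.2
  · intro m' hm' hne z hmz hm'z hfz
    exact hV4 m' hm' hne z (specializes_iff_mem_closure.mp hm'z) hmz
      (Set.mem_iInter₂.mp hfz.2 m' hm')

theorem exists_open_Dpt_eq [IsIntegral S] [IsNoetherian S] [LocallyOfFiniteType f]
    [QuasiCompact f] (Z : Set X) (hZ : IsConstructible Z) :
    ∃ V : Set S, IsOpen V ∧ genericPoint S ∈ V ∧
      ∀ s ∈ V, Dpt f Z s = Dpt f Z (genericPoint S) := by
  classical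
  haveI : IsNoetherian X := Groth.Agent.Lib.Helper78.FibClosure.noetherianSpace_of_finiteType f
  let M : Set X := {m | m ∈ Z ∧ f m = genericPoint S ∧ ∀ t ∈ Z, t ⤳ m → t = m}
  have hMfin : M.Finite := (finite_maximal hZ).subset (fun m hm => ⟨hm.1, hm.2.2⟩)
  have hM : ∀ m ∈ M, m ∈ Z ∧ f m = genericPoint S ∧ ∀ t ∈ Z, t ⤳ m → t = m := fun m hm => hm
  have hgen : ∀ t m : X, f m = genericPoint S → t ⤳ m → f t = genericPoint S := by
    intro t m hfm htm
    have h1 : f t ⤳ genericPoint S := hfm ▸ htm.map f.continuous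
    exact (h1.antisymm (genericPoint_specializes (f t))).eq
  have hcoverη : ∀ z ∈ Z, f z = genericPoint S → ∃ m ∈ M, m ⤳ z := by
    intro z hzZ hfz
    obtain ⟨m, hmZ, hmz, hfm, hmmax⟩ := exists_maximal_generization f Z z hzZ
    refine ⟨m, ⟨hmZ, hfm.trans hfz, fun t ht htm => ?_⟩, hmz⟩
    refine hmmax t ht htm ?_
    rw [hgen t m (hfm.trans hfz) htm, hfm, hfz]
  -- the covering open
  have hcl : IsClosed (⋃ m ∈ M, closure ({m} : Set X)) :=
    hMfin.isClosed_biUnion fun _ _ => isClosed_closure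
  have hQ : IsConstructible (Z \ ⋃ m ∈ M, closure ({m} : Set X)) :=
    hZ.sdiff (noeth_isConstructible_of_isClosed hcl)
  have hQimg : IsConstructible (f.base '' (Z \ ⋃ m ∈ M, closure ({m} : Set X))) :=
    f.isConstructible_image hQ
  have hηQ : genericPoint S ∉ f.base '' (Z \ ⋃ m ∈ M, closure ({m} : Set X)) := by
    rintro ⟨z, ⟨hzZ, hzn⟩, hfz⟩
    obtain ⟨m, hmM, hmz⟩ := hcoverη z hzZ hfz
    exact hzn (Set.mem_biUnion hmM (specializes_iff_mem_closure.mp hmz))
  obtain ⟨V0, hV0o, hηV0, hV0⟩ : ∃ V0 : Set S, IsOpen V0 ∧ genericPoint S ∈ V0 ∧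
      ∀ z ∈ Z, f z ∈ V0 → ∃ m ∈ M, m ⤳ z := by
    rcases constr_dichotomy hQimg (IrreducibleSpace.isIrreducible_univ S) with
      ⟨U, hU, ⟨y, hyU, -⟩, hsub⟩ | ⟨U, hU, ⟨y, hyU, -⟩, hsub⟩
    · exfalso
      have : genericPoint S ∈ U := (genericPoint_specializes y).mem_open hU hyU
      exact hηQ (hsub ⟨this, trivial⟩)
    · refine ⟨U, hU, (genericPoint_specializes y).mem_open hU hyU, fun z hzZ hfz => ?_⟩
      by_contra hcon
      push Not at hcon
      refine hsub ⟨hfz, trivial⟩ ⟨z, ⟨hzZ, ?_⟩, rfl⟩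
      intro hmem
      obtain ⟨m, hmM, hzm⟩ := Set.mem_iUnion₂.mp hmem
      exact hcon m hmM (specializes_iff_mem_closure.mpr hzm)
  -- the per-point opens
  have hpt := fun m (hm : m ∈ M) => exists_open_point f Z hZ M hMfin hM m hm
  let W : X → Set S := fun m => if h : m ∈ M then Classical.choose (hpt m h) else Set.univ
  have hWo : ∀ m, IsOpen (W m) := by
    intro m
    by_cases h : m ∈ M
    · simp only [W, dif_pos h]; exact (Classical.choose_spec (hpt m h)).1
    · simp only [W, dif_neg h]; exact isOpen_univ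
  have hWη : ∀ m, genericPoint S ∈ W m := by
    intro m
    by_cases h : m ∈ M
    · simp only [W, dif_pos h]; exact (Classical.choose_spec (hpt m h)).2.1
    · simp only [W, dif_neg h]; trivial
  have hW : ∀ m ∈ M,
      (∀ z, m ⤳ z → f z ∈ W m → resTrdegNat f z ≤ resTrdegNat f m) ∧
      (∀ z, m ⤳ z → f z ∈ W m → resTrdegNat f z = resTrdegNat f m → z ∈ Z) ∧
      (∀ s ∈ W m, ∃ t, m ⤳ t ∧ f t = s ∧ resTrdegNat f m ≤ resTrdegNat f t) ∧
      (∀ m' ∈ M, m' ≠ m → ∀ z, m ⤳ z → m' ⤳ z → f z ∈ W m →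
        resTrdegNat f z < resTrdegNat f m) := by
    intro m h
    have := (Classical.choose_spec (hpt m h)).2.2
    simp only [W, dif_pos h]
    exact this
  -- the description of `Dpt` at the generic point
  have hDη : Dpt f Z (genericPoint S) = (fun m => resTrdegNat f m) '' M := by
    ext n
    constructor
    · rintro ⟨z, hzZ, hfz, hzmax, rfl⟩
      exact ⟨z, ⟨hzZ, hfz, fun t ht htz => hzmax t ht htz (hgen t z hfz htz)⟩, rfl⟩
    · rintro ⟨m, ⟨hmZ, hfm, hmmax⟩, rfl⟩
      exact ⟨m, hmZ, hfm, fun t ht htm _ => hmmax t ht htm, rfl⟩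
  refine ⟨V0 ∩ ⋂ m ∈ M, W m, hV0o.inter (hMfin.isOpen_biInter fun m _ => hWo m),
    ⟨hηV0, Set.mem_iInter₂.mpr fun m _ => hWη m⟩, fun s hs => ?_⟩
  have hsW : ∀ m ∈ M, s ∈ W m := fun m hm => Set.mem_iInter₂.mp hs.2 m hm
  rw [hDη]
  ext n
  constructor
  · rintro ⟨c, hcZ, hfc, hcmax, rfl⟩
    obtain ⟨m, hmM, hmc⟩ := hV0 c hcZ (by rw [hfc]; exact hs.1)
    obtain ⟨h1, h2, -, -⟩ := hW m hmM
    obtain ⟨a, hacl, hac, hfa, hamax⟩ := exists_maximal_generization f (closure {m}) c
      (specializes_iff_mem_closure.mp hmc)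
    have hma : m ⤳ a := specializes_iff_mem_closure.mpr hacl
    have hfaW : f a ∈ W m := by rw [hfa, hfc]; exact hsW m hmM
    have hle : resTrdegNat f a ≤ resTrdegNat f m := h1 a hma hfaW
    have hge : resTrdegNat f m ≤ resTrdegNat f a :=
      le_resTrdegNat_of_maximal_closure f m a hma
        (fun t hmt hta hft => hamax t (specializes_iff_mem_closure.mp hmt) hta hft)
    have haZ : a ∈ Z := h2 a hma hfaW (le_antisymm hle hge)
    have hac' : a = c := hcmax a haZ hac (hfa.trans hfc)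
    refine ⟨m, hmM, ?_⟩
    show resTrdegNat f m = resTrdegNat f c
    rw [← hac']
    exact le_antisymm hge hle
  · rintro ⟨m, hmM, rfl⟩
    obtain ⟨h1, h2, h3, h4⟩ := hW m hmM
    obtain ⟨t, hmt, hft, hge⟩ := h3 s (hsW m hmM)
    have hftW : f t ∈ W m := by rw [hft]; exact hsW m hmM
    have hle : resTrdegNat f t ≤ resTrdegNat f m := h1 t hmt hftW
    have heq : resTrdegNat f t = resTrdegNat f m := le_antisymm hle hge
    have htZ : t ∈ Z := h2 t hmt hftW heq
    refine ⟨t, htZ, hft, fun t' ht'Z ht't hft' => ?_, heq⟩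
    by_contra hne
    have hlt := resTrdegNat_lt_of_specializes_fiber f t t' ht't (hft'.trans hft.symm) hne
    obtain ⟨m', hm'M, hm't'⟩ := hV0 t' ht'Z (by rw [hft']; exact hs.1)
    obtain ⟨h1', -, -, -⟩ := hW m' hm'M
    have hle' : resTrdegNat f t' ≤ resTrdegNat f m' :=
      h1' t' hm't' (by rw [hft']; exact hsW m' hm'M)
    have hne' : m' ≠ m := by
      rintro rfl
      omega
    have := h4 m' hm'M hne' t hmt (hm't'.trans ht't) hftW
    omega

end Groth.Agent.Lib.Helper67.DimSet
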