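import Groth.Agent.Lib.Helper67.DimSet5

/-!
# Local constructibility of the level sets of the set of dimensions of the components of the
fibres of a locally constructible subset with locally closed traces (helper67)
-/

set_option autoImplicit false
set_option linter.style.haveILetI false
universe u

open CategoryTheory AlgebraicGeometry CategoryTheory.Limits Topology TopologicalSpace

namespace Groth.Agent.Lib.Helper67.DimSet

open Groth.Agent.Lib.Helper73 Groth.Agent.Lib.Helper78.FibClosure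

theorem hasDimDichotomy (Φ : Set (WithBot ℕ∞)) : HasDimDichotomy.{u} Φ := by
  intro X S f _ _ _ _ Z hZ
  have hlcd := hasDichotomy_lc f Z Z hZ hZ
  have hLCeq : ∀ s, s ∈ fibLocus ΦLC f Z Z ↔ IsLocallyClosed (⇑(f.fiberι s) ⁻¹' Z) :=
    fun s => isLocallyClosed_fibre_iff f Z s
  obtain ⟨V, hVo, hηV, hV⟩ := exists_open_Dpt_eq f Z hZ
  rcases hlcd with ⟨s₀, hs₀⟩ | ⟨s₀, hs₀⟩
  · have hηV0 : genericPoint S ∈ interior (fibLocus ΦLC f Z Z) :=
      (genericPoint_specializes s₀).mem_open isOpen_interior hs₀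
    by_cases hΦ : (fun n : ℕ => ((n : ℕ∞) : WithBot ℕ∞)) '' Dpt f Z (genericPoint S) = Φ
    · left
      refine ⟨genericPoint S, interior_maximal ?_ (isOpen_interior.inter hVo) ⟨hηV0, hηV⟩⟩
      rintro s ⟨hs0, hsV⟩
      have hlc := (hLCeq s).mp (interior_subset hs0)
      exact ⟨hlc, by rw [Dset_fibre_eq_Dpt f Z s hlc, hV s hsV, hΦ]⟩
    · right
      refine ⟨genericPoint S, interior_maximal ?_ (isOpen_interior.inter hVo) ⟨hηV0, hηV⟩⟩
      rintro s ⟨hs0, hsV⟩ ⟨hlc, hD⟩
      rw [Dset_fibre_eq_Dpt f Z s hlc, hV s hsV] at hD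
      exact hΦ hD
  · right
    refine ⟨s₀, interior_mono ?_ hs₀⟩
    intro s hs hsd
    exact hs ((hLCeq s).mpr hsd.1)

/-- **EGA IV 9.5.5-type statement**: level sets of the set of dimensions of the irreducible
components of the traces of a locally constructible subset on the fibres. -/
theorem main {X S : Scheme.{u}} (f : X ⟶ S)
    [LocallyOfFinitePresentation f] [QuasiCompact f] [QuasiSeparated f]
    (Z : Set X) (hZ : Topology.IsLocallyConstructible Z)
    (hZs : ∀ s : S, IsLocallyClosed (Subtype.val ⁻¹' Z : Set ↥(⇑f ⁻¹' {s})))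
    (Φ : Set (WithBot ℕ∞)) :
    Topology.IsLocallyConstructible {s : S |
      (fun T : Set ↥(Z ∩ ⇑f ⁻¹' {s}) => topologicalKrullDim ↥T) ''
        irreducibleComponents ↥(Z ∩ ⇑f ⁻¹' {s}) = Φ} := by
  have key := isLocallyConstructible_dimLocus (hasDimDichotomy Φ) f hZ
  convert key using 1
  ext s
  have h1 : Dset ↥(Z ∩ f.base ⁻¹' {s}) = Dset ↥(⇑(f.fiberι s) ⁻¹' Z) := Dset_fibre_eq f Z s
  have h2 := isLocallyClosed_fibre_iff f Z s
  constructor
  · intro h
    refine ⟨h2.mp (hZs s), ?_⟩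
    rw [← h1]
    exact h
  · rintro ⟨-, h⟩
    rw [← h1] at h
    exact h

end Groth.Agent.Lib.Helper67.DimSet
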