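import Groth.Agent.Lib.Helper67.EquiCat

/-!
# Equidimensionality of quotients and flat local maps (EGA IV 7.1.3, second half)
-/

set_option autoImplicit false
set_option linter.style.haveILetI false
set_option linter.unusedSectionVars false

universe u

namespace Groth.Agent.Lib.Helper67.EquiCat

open IsLocalRing Groth.Agent.Lib.Helper73 Groth.Agent.Lib.Helper70

section G1

variable {R : Type*} [CommRing R]

theorem ringKrullDim_quotient_eq_coheight (P : Ideal R) [hP : P.IsPrime] :
    ringKrullDim (R ⧸ P) = (Order.coheight (⟨P, hP⟩ : PrimeSpectrum R) : WithBot ℕ∞) := by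
  rw [ringKrullDim_quotient, Order.coheight_eq_krullDim_Ici]
  congr 1

/-- The dimension of a ring is bounded by the dimensions of its irreducible components. -/
theorem ringKrullDim_le_of_forall_minimalPrimes (e : WithBot ℕ∞)
    (h : ∀ p ∈ minimalPrimes R, ringKrullDim (R ⧸ p) ≤ e) : ringKrullDim R ≤ e := by
  rw [ringKrullDim, Order.krullDim_eq_iSup_coheight]
  apply iSup_le
  intro q
  obtain ⟨p, hp, hle⟩ := Ideal.exists_minimalPrimes_le (I := (⊥ : Ideal R)) (J := q.asIdeal) bot_le
  haveI hpp : p.IsPrime := hp.1.1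
  have h1 := h p hp
  rw [ringKrullDim_quotient_eq_coheight] at h1
  refine le_trans ?_ h1
  have : Order.coheight q ≤ Order.coheight (⟨p, hpp⟩ : PrimeSpectrum R) :=
    Order.coheight_anti (show (⟨p, hpp⟩ : PrimeSpectrum R) ≤ q from hle)
  exact_mod_cast this

theorem ringKrullDim_quotient_quotient (I P : Ideal R) (h : I ≤ P) :
    ringKrullDim ((R ⧸ I) ⧸ P.map (Ideal.Quotient.mk I)) = ringKrullDim (R ⧸ P) :=
  ringKrullDim_eq_of_ringEquiv (DoubleQuot.quotQuotEquivQuotOfLE h)

theorem ringKrullDim_quotient_le_of_le (I P : Ideal R) (h : I ≤ P) :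
    ringKrullDim (R ⧸ P) ≤ ringKrullDim (R ⧸ I) := by
  rw [← ringKrullDim_quotient_quotient I P h]
  exact ringKrullDim_quotient_le _

theorem mem_minimalPrimes_quotient_iff (I : Ideal R) (q : Ideal (R ⧸ I)) :
    q ∈ minimalPrimes (R ⧸ I) ↔ ∃ p ∈ I.minimalPrimes, p.map (Ideal.Quotient.mk I) = q := by
  have h := Ideal.minimalPrimes_map_of_surjective (f := Ideal.Quotient.mk I)
    Ideal.Quotient.mk_surjective (⊥ : Ideal R)
  rw [Ideal.map_bot, Ideal.mk_ker, bot_sup_eq] at h
  show q ∈ (⊥ : Ideal (R ⧸ I)).minimalPrimes ↔ _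
  rw [h]
  rfl

/-- `R/I` is equidimensional iff all `R/p`, `p` minimal over `I`, have the dimension of `R/I`. -/
theorem isEquidim_quotient_iff (I : Ideal R) :
    EGA4.IsEquidim (R ⧸ I) ↔ ∀ p ∈ I.minimalPrimes, ringKrullDim (R ⧸ p) = ringKrullDim (R ⧸ I) := by
  constructor
  · intro h p hp
    have := h _ ((mem_minimalPrimes_quotient_iff I _).mpr ⟨p, hp, rfl⟩)
    rwa [ringKrullDim_quotient_quotient I p hp.1.2] at this
  · intro h q hq
    obtain ⟨p, hp, rfl⟩ := (mem_minimalPrimes_quotient_iff I q).mp hq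
    rw [ringKrullDim_quotient_quotient I p hp.1.2]
    exact h p hp

/-- `R/I` is equidimensional iff all `R/p`, `p` minimal over `I`, have the same dimension. -/
theorem isEquidim_quotient_iff_const (I : Ideal R) :
    EGA4.IsEquidim (R ⧸ I) ↔ ∀ p ∈ I.minimalPrimes, ∀ q ∈ I.minimalPrimes,
      ringKrullDim (R ⧸ p) = ringKrullDim (R ⧸ q) := by
  rw [isEquidim_quotient_iff]
  constructor
  · intro h p hp q hq
    rw [h p hp, h q hq]
  · intro h p hp
    apply le_antisymm (ringKrullDim_quotient_le_of_le I p hp.1.2)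
    apply ringKrullDim_le_of_forall_minimalPrimes
    intro q hq
    obtain ⟨q', hq', rfl⟩ := (mem_minimalPrimes_quotient_iff I q).mp hq
    rw [ringKrullDim_quotient_quotient I q' hq'.1.2, h p hp q' hq']

end G1

section G2

variable {R : Type u} [CommRing R] [IsLocalRing R] [IsNoetherianRing R]

/-- In an equidimensional catenary local ring, `R/P` and `R/Q` have the same dimension iff `P` and
`Q` have the same height. -/
theorem ringKrullDim_quotient_eq_iff_height_eq (heq : EGA4.IsEquidim R) (hcat : CAlg.IsCatenary R)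
    (P Q : Ideal R) [hP : P.IsPrime] [hQ : Q.IsPrime] :
    ringKrullDim (R ⧸ P) = ringKrullDim (R ⧸ Q) ↔ P.height = Q.height := by
  obtain ⟨d, hd⟩ := exists_nat_ringKrullDim (R := R)
  have h1 := height_add_ringKrullDim_quotient heq hcat P
  have h2 := height_add_ringKrullDim_quotient heq hcat Q
  obtain ⟨a, ha⟩ := ENat.ne_top_iff_exists.mp (Ideal.height_ne_top_of_isPrime (I := P))
  obtain ⟨b, hb⟩ := ENat.ne_top_iff_exists.mp (Ideal.height_ne_top_of_isPrime (I := Q))
  obtain ⟨c, hc⟩ := exists_nat_ringKrullDim_quotient P hP.ne_top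
  obtain ⟨e, he⟩ := exists_nat_ringKrullDim_quotient Q hQ.ne_top
  rw [← ha, hc, hd] at h1
  rw [← hb, he, hd] at h2
  have h1' : ((a : ℕ) : WithBot ℕ∞) + ((c : ℕ) : WithBot ℕ∞) = ((d : ℕ) : WithBot ℕ∞) := h1
  have h2' : ((b : ℕ) : WithBot ℕ∞) + ((e : ℕ) : WithBot ℕ∞) = ((d : ℕ) : WithBot ℕ∞) := h2
  have h1'' : a + c = d := by exact_mod_cast h1'
  have h2'' : b + e = d := by exact_mod_cast h2'
  rw [hc, he, ← ha, ← hb]
  constructor
  · intro h
    have : c = e := by exact_mod_cast h
    exact_mod_cast (show a = b by omega)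
  · intro h
    have : a = b := by exact_mod_cast h
    exact_mod_cast (show c = e by omega)

/-- In an equidimensional catenary local ring, `R/I` is equidimensional iff all minimal primes of
`I` have the same height. -/
theorem isEquidim_quotient_iff_height (heq : EGA4.IsEquidim R) (hcat : CAlg.IsCatenary R)
    (I : Ideal R) :
    EGA4.IsEquidim (R ⧸ I) ↔ ∀ p ∈ I.minimalPrimes, ∀ q ∈ I.minimalPrimes, p.height = q.height := by
  rw [isEquidim_quotient_iff_const]
  constructor
  · intro h p hp q hq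
    haveI := hp.1.1
    haveI := hq.1.1
    exact (ringKrullDim_quotient_eq_iff_height_eq heq hcat p q).mp (h p hp q hq)
  · intro h p hp q hq
    haveI := hp.1.1
    haveI := hq.1.1
    exact (ringKrullDim_quotient_eq_iff_height_eq heq hcat p q).mpr (h p hp q hq)

end G2

section G3

variable {A A' : Type*} [CommRing A] [CommRing A'] [Algebra A A'] [Module.Flat A A']

/-- Along a flat map, a minimal prime of `aA'` contracts to a minimal prime of `a`,
and is minimal over the extension of its contraction. -/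
theorem comap_mem_minimalPrimes_of_flat (a : Ideal A) (P : Ideal A')
    (hP : P ∈ (a.map (algebraMap A A')).minimalPrimes) :
    P.comap (algebraMap A A') ∈ a.minimalPrimes ∧
      P ∈ ((P.comap (algebraMap A A')).map (algebraMap A A')).minimalPrimes := by
  haveI hPp : P.IsPrime := hP.1.1
  have hle : a ≤ P.comap (algebraMap A A') := Ideal.map_le_iff_le_comap.mp hP.1.2
  constructor
  · refine ⟨⟨Ideal.comap_isPrime _ P, hle⟩, ?_⟩
    rintro p0 ⟨hp0, hap0⟩ hp0le
    haveI := hp0
    by_contra hne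
    have hlt : p0 < P.comap (algebraMap A A') := lt_of_le_of_ne hp0le (fun e => hne (e ▸ le_rfl))
    haveI : P.LiesOver (P.comap (algebraMap A A')) := ⟨rfl⟩
    obtain ⟨P', hP'lt, hP'p, hP'over⟩ :=
      Ideal.exists_ideal_lt_liesOver_of_lt (p := p0) (q := P.comap (algebraMap A A')) P hlt
    have h1 : a.map (algebraMap A A') ≤ P' := by
      rw [Ideal.map_le_iff_le_comap]
      exact hap0.trans hP'over.over.le
    exact absurd (hP.2 ⟨hP'p, h1⟩ hP'lt.le) (not_le_of_gt hP'lt)
  · refine ⟨⟨hPp, Ideal.map_comap_le⟩, ?_⟩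
    rintro K ⟨hKp, hK⟩ hKP
    exact hP.2 ⟨hKp, (Ideal.map_mono hle).trans hK⟩ hKP

/-- Along a flat map, a minimal prime of `pA'`, `p` minimal over `a`, is minimal over `aA'`. -/
theorem mem_minimalPrimes_map_of_flat (a p : Ideal A) (hp : p ∈ a.minimalPrimes) (P : Ideal A')
    (hP : P ∈ (p.map (algebraMap A A')).minimalPrimes) :
    P ∈ (a.map (algebraMap A A')).minimalPrimes := by
  haveI hpp : p.IsPrime := hp.1.1
  haveI hPp : P.IsPrime := hP.1.1
  have hc := comap_eq_of_mem_minimalPrimes_map p P hP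
  refine ⟨⟨hPp, (Ideal.map_mono hp.1.2).trans hP.1.2⟩, ?_⟩
  rintro K ⟨hKp, hK⟩ hKP
  haveI := hKp
  have h1 : a ≤ K.comap (algebraMap A A') := Ideal.map_le_iff_le_comap.mp hK
  have h2 : K.comap (algebraMap A A') ≤ p := by
    rw [← hc]; exact Ideal.comap_mono hKP
  have h3 : p ≤ K.comap (algebraMap A A') := hp.2 ⟨Ideal.comap_isPrime _ K, h1⟩ h2
  exact hP.2 ⟨hKp, Ideal.map_le_iff_le_comap.mpr h3⟩ hKP

end G3

section G4

variable {A A' : Type u} [CommRing A] [CommRing A'] [IsNoetherianRing A] [IsNoetherianRing A']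
  [IsLocalRing A] [IsLocalRing A'] [Algebra A A'] [IsLocalHom (algebraMap A A')] [Module.Flat A A']

/-- EGA IV 7.1.3 (second half): for a flat local homomorphism `A → A'` into an equidimensional
catenary local ring, `A'/aA'` is equidimensional iff `A/a` is. -/
theorem isEquidim_quotient_map_iff_of_flat (heq : EGA4.IsEquidim A') (hcat : CAlg.IsCatenary A')
    (a : Ideal A) : EGA4.IsEquidim (A' ⧸ a.map (algebraMap A A')) ↔ EGA4.IsEquidim (A ⧸ a) := by
  obtain ⟨heqA, hcatA⟩ := isEquidim_and_isCatenary_of_flat (A := A) heq hcat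
  rw [isEquidim_quotient_iff_height heq hcat, isEquidim_quotient_iff_height heqA hcatA]
  have hm : (maximalIdeal A).map (algebraMap A A') ≤ maximalIdeal A' :=
    ((IsLocalRing.local_hom_TFAE (algebraMap A A')).out 0 2).mp ‹_›
  constructor
  · intro h p hp q hq
    haveI := hp.1.1
    haveI := hq.1.1
    have hpm : p.map (algebraMap A A') ≤ maximalIdeal A' :=
      (Ideal.map_mono (IsLocalRing.le_maximalIdeal hp.1.1.ne_top)).trans hm
    have hqm : q.map (algebraMap A A') ≤ maximalIdeal A' :=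
      (Ideal.map_mono (IsLocalRing.le_maximalIdeal hq.1.1.ne_top)).trans hm
    obtain ⟨P, hP, -⟩ := Ideal.exists_minimalPrimes_le hpm
    obtain ⟨Q, hQ, -⟩ := Ideal.exists_minimalPrimes_le hqm
    rw [← height_eq_of_mem_minimalPrimes_map p P hP, ← height_eq_of_mem_minimalPrimes_map q Q hQ]
    exact h P (mem_minimalPrimes_map_of_flat a p hp P hP) Q (mem_minimalPrimes_map_of_flat a q hq Q hQ)
  · intro h P hP Q hQ
    obtain ⟨hP1, hP2⟩ := comap_mem_minimalPrimes_of_flat a P hP
    obtain ⟨hQ1, hQ2⟩ := comap_mem_minimalPrimes_of_flat a Q hQ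
    haveI := hP1.1.1
    haveI := hQ1.1.1
    rw [height_eq_of_mem_minimalPrimes_map _ P hP2, height_eq_of_mem_minimalPrimes_map _ Q hQ2]
    exact h _ hP1 _ hQ1

end G4

end Groth.Agent.Lib.Helper67.EquiCat
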