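import Groth.Agent.Lib.Helper67.EquiCat2
import Groth.Agent.Lib.Helper67.CplCat
import Groth.Agent.Lib.Helper67.CplCM
import Groth.Agent.Lib.Helper56.CplQuot

/-!
# Formally equidimensional local rings (EGA IV 7.1.4)
-/

set_option autoImplicit false
set_option linter.style.haveILetI false
set_option linter.unusedSectionVars false

universe u

namespace Groth.Agent.Lib.Helper67.EquiCat

open IsLocalRing EGA4 Groth.Agent.Lib.Helper56 Groth.Agent.Lib.Helper67.CplCM

/-- Equidimensionality is invariant under ring isomorphisms. -/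
theorem isEquidim_of_ringEquiv' {R S : Type*} [CommRing R] [CommRing S] (e : R ≃+* S)
    (h : EGA4.IsEquidim R) : EGA4.IsEquidim S := by
  intro p hp
  have hsurj : Function.Surjective (e : R →+* S) := e.surjective
  have h1 : p.comap (e : R →+* S) ∈ minimalPrimes R := by
    have := Ideal.minimalPrimes_comap_of_surjective hsurj (I := (⊥ : Ideal S)) hp
    have hb : Ideal.comap (e : R →+* S) ⊥ = ⊥ :=
      Ideal.comap_bot_of_injective (e : R →+* S) e.injective
    rw [hb] at this
    exact this
  have h2 := h _ h1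
  have hmap : p = (p.comap (e : R →+* S)).map (e : R →+* S) :=
    (Ideal.map_comap_of_surjective _ hsurj p).symm
  rw [← ringKrullDim_eq_of_ringEquiv e,
    ← ringKrullDim_eq_of_ringEquiv (Ideal.quotientEquiv _ p e hmap)]
  exact h2

theorem isEquidim_iff_of_ringEquiv {R S : Type*} [CommRing R] [CommRing S] (e : R ≃+* S) :
    EGA4.IsEquidim R ↔ EGA4.IsEquidim S :=
  ⟨isEquidim_of_ringEquiv' e, isEquidim_of_ringEquiv' e.symm⟩

variable (A : Type u) [CommRing A] [IsNoetherianRing A] [IsLocalRing A]

/-- `Â/aÂ ≃ (A/a)^`. -/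
noncomputable def cplQuotEquiv (a : Ideal A) [Nontrivial (A ⧸ a)] :
    (Cpl A ⧸ a.map (algebraMap A (Cpl A))) ≃+* Cpl (A ⧸ a) :=
  (Ideal.quotEquivOfEq (ker_cplMap_quot A a).symm).trans
    (RingHom.quotientKerEquivOfSurjective (cplMap_quot_surjective A a))

variable {A}

/-- A formally equidimensional Noetherian local ring is equidimensional and catenary. -/
theorem isEquidim_and_isCatenary_of_isFormallyEquidim (h : EGA4.IsFormallyEquidim A) :
    EGA4.IsEquidim A ∧ CAlg.IsCatenary A :=
  isEquidim_and_isCatenary_of_flat (A := A) (A' := Cpl A) h (CplCat.isCatenary_of_complete (Cpl A))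

/-- For a formally equidimensional Noetherian local ring `A`, `A/a` is equidimensional iff it is
formally equidimensional. -/
theorem isEquidim_quotient_iff_isFormallyEquidim (h : EGA4.IsFormallyEquidim A) (a : Ideal A)
    [Nontrivial (A ⧸ a)] : EGA4.IsEquidim (A ⧸ a) ↔ EGA4.IsFormallyEquidim (A ⧸ a) := by
  rw [← isEquidim_quotient_map_iff_of_flat (A := A) (A' := Cpl A) h
    (CplCat.isCatenary_of_complete (Cpl A)) a]
  exact isEquidim_iff_of_ringEquiv (cplQuotEquiv A a)

end Groth.Agent.Lib.Helper67.EquiCat
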