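import Groth.Agent.Lib.Helper67.EquiCat8
import Groth.Agent.Lib.Helper25.CompleteFinite
import Groth.Agent.Lib.Helper87.HensDim

/-!
# Strictly equidimensional rings: descent along flat local maps, and henselization
-/

set_option autoImplicit false
set_option linter.style.haveILetI false
set_option linter.unusedSectionVars false

universe u

namespace Groth.Agent.Lib.Helper67.EquiCat

open IsLocalRing EGA4 LocCoh TensorProduct Groth.Agent.Lib.Helper56 Groth.Agent.Lib.Helper67.CplCM
  Groth.Agent.Lib.Helper70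

section Ass

/-- Associated primes of `R/I` over `R` give associated primes of the ring `R/I`. -/
theorem map_quotientMk_mem_associatedPrimes {R : Type*} [CommRing R] [IsNoetherianRing R]
    (I Q : Ideal R)
    (hQ : Q ∈ associatedPrimes R (R ⧸ I)) :
    Q.map (Ideal.Quotient.mk I) ∈ associatedPrimes (R ⧸ I) (R ⧸ I) := by
  rw [AssociatedPrimes.mem_iff, isAssociatedPrime_iff] at hQ ⊢
  obtain ⟨hQp, x, hx⟩ := hQ
  have hIQ : I ≤ Q := by
    intro r hr
    rw [hx, Submodule.mem_colon_singleton, Submodule.mem_bot]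
    obtain ⟨y, rfl⟩ := Ideal.Quotient.mk_surjective x
    have : r • (Ideal.Quotient.mk I y) = Ideal.Quotient.mk I (r * y) := rfl
    rw [this, Ideal.Quotient.eq_zero_iff_mem]
    exact I.mul_mem_right _ hr
  refine ⟨Ideal.isPrime_map_quotientMk_of_isPrime hIQ, x, ?_⟩
  ext y
  obtain ⟨r, rfl⟩ := Ideal.Quotient.mk_surjective y
  rw [Ideal.mem_quotient_iff_mem hIQ, hx, Submodule.mem_colon_singleton,
    Submodule.mem_colon_singleton, Submodule.mem_bot, Submodule.mem_bot]
  rfl

/-- Along a flat ring map `A → A'`, associated primes of `A'/JA'` are associated primes of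
`A'/IA'` whenever `J` is an associated prime of `A/I`. -/
theorem associatedPrimes_quotient_map_subset_of_flat {A A' : Type u} [CommRing A] [CommRing A']
    [IsNoetherianRing A] [Algebra A A'] [Module.Flat A A'] (I J : Ideal A)
    (hJ : J ∈ associatedPrimes A (A ⧸ I)) :
    associatedPrimes A' (A' ⧸ J.map (algebraMap A A')) ⊆
      associatedPrimes A' (A' ⧸ I.map (algebraMap A A')) := by
  obtain ⟨-, g, hg⟩ := (isAssociatedPrime_iff_exists_injective_linearMap J (A ⧸ I)).mp hJ
  have hgB : Function.Injective (g.baseChange A') := by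
    rw [LinearMap.baseChange_eq_ltensor]
    exact Module.Flat.lTensor_preserves_injective_linearMap g hg
  let e1 : (A' ⧸ J.map (algebraMap A A')) ≃ₗ[A'] A' ⊗[A] (A ⧸ J) :=
    (Algebra.TensorProduct.quotIdealMapEquivTensorQuot A' J).toLinearEquiv
  let e2 : (A' ⧸ I.map (algebraMap A A')) ≃ₗ[A'] A' ⊗[A] (A ⧸ I) :=
    (Algebra.TensorProduct.quotIdealMapEquivTensorQuot A' I).toLinearEquiv
  intro Q hQ
  have h1 : Q ∈ associatedPrimes A' (A' ⊗[A] (A ⧸ I)) :=
    associatedPrimes.subset_of_injective hgB (associatedPrimes.subset_of_injective e1.injective hQ)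
  exact associatedPrimes.subset_of_injective e2.symm.injective h1

/-- Along a flat ring map `A → A'`, associated primes of `A'/pA'`, `p ∈ Ass A`, are associated primes
of `A'`. -/
theorem associatedPrimes_quotient_map_subset_self_of_flat {A A' : Type u} [CommRing A] [CommRing A']
    [IsNoetherianRing A] [Algebra A A'] [Module.Flat A A'] (p : Ideal A)
    (hp : p ∈ associatedPrimes A A) :
    associatedPrimes A' (A' ⧸ p.map (algebraMap A A')) ⊆ associatedPrimes A' A' := by
  obtain ⟨-, g, hg⟩ := (isAssociatedPrime_iff_exists_injective_linearMap p A).mp hp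
  have hgB : Function.Injective (g.baseChange A') := by
    rw [LinearMap.baseChange_eq_ltensor]
    exact Module.Flat.lTensor_preserves_injective_linearMap g hg
  let e1 : (A' ⧸ p.map (algebraMap A A')) ≃ₗ[A'] A' ⊗[A] (A ⧸ p) :=
    (Algebra.TensorProduct.quotIdealMapEquivTensorQuot A' p).toLinearEquiv
  have e2 : associatedPrimes A' (A' ⊗[A] A) = associatedPrimes A' A' :=
    LinearEquiv.AssociatedPrimes.eq (TensorProduct.AlgebraTensorModule.rid A A' A')
  intro Q hQ
  rw [← e2]
  exact associatedPrimes.subset_of_injective hgB (associatedPrimes.subset_of_injective e1.injective hQ)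

/-- Strict equidimensionality is invariant under ring isomorphisms. -/
theorem isStrictlyEquidim_of_ringEquiv {X Y : Type*} [CommRing X] [CommRing Y] [IsNoetherianRing X]
    [IsNoetherianRing Y] (e : X ≃+* Y) (h : EGA4.IsStrictlyEquidim X) : EGA4.IsStrictlyEquidim Y := by
  intro q hq
  have h1 := comap_mem_associatedPrimes (e : X →+* Y) e.surjective q hq
  have hker : RingHom.ker (e : X →+* Y) = ⊥ :=
    (RingHom.injective_iff_ker_eq_bot _).mp e.injective
  have h2 : q.comap (e : X →+* Y) ∈ associatedPrimes X X := by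
    have e3 : associatedPrimes X (X ⧸ RingHom.ker (e : X →+* Y)) = associatedPrimes X X :=
      LinearEquiv.AssociatedPrimes.eq (Submodule.quotEquivOfEqBot _ hker)
    rw [← e3]
    exact h1
  have h3 := h _ h2
  have hmap : q = (q.comap (e : X →+* Y)).map (e : X →+* Y) :=
    (Ideal.map_comap_of_surjective _ e.surjective q).symm
  rw [← ringKrullDim_eq_of_ringEquiv e,
    ← ringKrullDim_eq_of_ringEquiv (Ideal.quotientEquiv _ q e hmap)]
  exact h3

end Ass

section SH

variable (A A' : Type u) [CommRing A] [CommRing A'] [IsNoetherianRing A] [IsNoetherianRing A']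
  [IsLocalRing A] [IsLocalRing A'] [Algebra A A'] [IsLocalHom (algebraMap A A')] [Module.Flat A A']

/-- Strict equidimensionality descends along flat local homomorphisms into catenary rings. -/
theorem isStrictlyEquidim_of_flat (hs : EGA4.IsStrictlyEquidim A') (hcat : CAlg.IsCatenary A') :
    EGA4.IsStrictlyEquidim A := by
  have heq' : EGA4.IsEquidim A' := isEquidim_of_isStrictlyEquidim A' hs
  obtain ⟨heqA, hcatA⟩ := isEquidim_and_isCatenary_of_flat (A := A) heq' hcat
  intro p hp
  haveI hpp : p.IsPrime := IsAssociatedPrime.isPrime hp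
  have hpm : p.map (algebraMap A A') ≤ maximalIdeal A' :=
    (Ideal.map_mono (le_maximalIdeal hpp.ne_top)).trans (map_maximalIdeal_le_of_isLocalHom A A')
  obtain ⟨P', hP', -⟩ := Ideal.exists_minimalPrimes_le hpm
  haveI hP'p : P'.IsPrime := hP'.1.1
  have h1 : P' ∈ associatedPrimes A' (A' ⧸ p.map (algebraMap A A')) := by
    apply Module.associatedPrimes.minimalPrimes_annihilator_subset_associatedPrimes
    rw [Ideal.annihilator_quotient]
    exact hP'
  have h2 : P' ∈ associatedPrimes A' A' :=
    associatedPrimes_quotient_map_subset_self_of_flat p hp h1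
  have h3 := hs P' h2
  have h4 := height_add_ringKrullDim_quotient heq' hcat P'
  obtain ⟨d, hd⟩ := exists_nat_ringKrullDim (R := A')
  obtain ⟨a, ha⟩ := ENat.ne_top_iff_exists.mp (Ideal.height_ne_top_of_isPrime (I := P'))
  rw [h3, hd, ← ha] at h4
  have h4' : ((a : ℕ) : WithBot ℕ∞) + ((d : ℕ) : WithBot ℕ∞) = ((d : ℕ) : WithBot ℕ∞) := h4
  have h5 : a + d = d := by exact_mod_cast h4'
  have ha0 : a = 0 := by omega
  have h6 : p.height = 0 := by
    rw [← height_eq_of_mem_minimalPrimes_map p P' hP', ← ha, ha0]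
    rfl
  exact heqA p (Ideal.height_eq_zero_iff.mp h6)

end SH

section Hens

open Groth.Agent.Lib.Helper87.Hens Groth.Agent.Lib.Helper69.HensCompl

variable (R S : Type u) [CommRing R] [IsLocalRing R]
  [CommRing S] [IsLocalRing S] [Algebra R S] [IsLocalHom (algebraMap R S)]
  [Hensel.IsHenselization R S]

/-- The fibres of `Spec S → Spec R`, `S` a henselization of `R`, have no strict inclusions. -/
theorem eq_of_le_of_comap_eq_of_isHenselization (P Q : Ideal S) [P.IsPrime] [Q.IsPrime]
    (h₁ : P ≤ Q) (h₂ : P.comap (algebraMap R S) = Q.comap (algebraMap R S)) : P = Q := by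
  obtain ⟨e⟩ := nonempty_algEquiv_Hh R S
  set P' := P.comap (e.symm : Hh R →+* S) with hP'
  set Q' := Q.comap (e.symm : Hh R →+* S) with hQ'
  haveI : P'.IsPrime := Ideal.comap_isPrime _ P
  haveI : Q'.IsPrime := Ideal.comap_isPrime _ Q
  have hle : P' ≤ Q' := Ideal.comap_mono h₁
  have hcomp : (e.symm : Hh R →+* S).comp (algebraMap R (Hh R)) = algebraMap R S := by
    ext r
    exact e.symm.commutes r
  have hu : P'.under R = Q'.under R := by
    rw [Ideal.under_def, Ideal.under_def, hP', hQ', Ideal.comap_comap, Ideal.comap_comap, hcomp]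
    exact h₂
  have heq := H.eq_of_le_of_under_eq P' Q' hle hu
  have hP : P = P'.comap (e : S →+* Hh R) := by
    rw [hP', Ideal.comap_comap]
    have : (e.symm : Hh R →+* S).comp (e : S →+* Hh R) = RingHom.id S := by
      ext x; exact e.symm_apply_apply x
    rw [this, Ideal.comap_id]
  have hQ : Q = Q'.comap (e : S →+* Hh R) := by
    rw [hQ', Ideal.comap_comap]
    have : (e.symm : Hh R →+* S).comp (e : S →+* Hh R) = RingHom.id S := by
      ext x; exact e.symm_apply_apply x
    rw [this, Ideal.comap_id]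
  rw [hP, hQ, heq]

variable [IsNoetherianRing R]

/-- The henselization of a formally strictly catenary Noetherian local ring is formally strictly
catenary. -/
theorem isFormallyStrictlyCatenary_of_isHenselization (h : EGA4.IsFormallyStrictlyCatenary R) :
    EGA4.IsFormallyStrictlyCatenary S := by
  intro P hP
  haveI : IsNoetherianRing S := isNoetherianRing_of_isHenselization R S
  obtain ⟨ψ, hψ, -⟩ := Hensel.IsHenselization.universal (R := R) (S := S) (Cpl R)
    (algebraMap R (Cpl R)) inferInstance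
  letI : Algebra S (Cpl R) := ψ.toAlgebra
  haveI : IsScalarTower R S (Cpl R) :=
    IsScalarTower.of_algebraMap_eq (fun r => (RingHom.congr_fun hψ r).symm)
  haveI : Module.Flat S (Cpl R) := flat_toCompletion R S ψ hψ
  haveI : IsLocalHom (algebraMap S (Cpl R)) := isLocalHom_toCompletion R S ψ hψ
  set p := P.comap (algebraMap R S) with hp
  haveI hpp : p.IsPrime := Ideal.comap_isPrime _ P
  set I := p.map (algebraMap R S) with hI
  have hIP : I ≤ P := Ideal.map_comap_le
  have hImap : I.map (algebraMap S (Cpl R)) = p.map (algebraMap R (Cpl R)) := by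
    rw [hI, Ideal.map_map, ← IsScalarTower.algebraMap_eq]
  -- `P` is minimal over `I`, hence an associated prime of `S/I`
  have hPmin : P ∈ I.minimalPrimes := by
    refine ⟨⟨hP, hIP⟩, ?_⟩
    rintro K ⟨hKp, hIK⟩ hKP
    haveI := hKp
    have h1 : p ≤ K.comap (algebraMap R S) := Ideal.map_le_iff_le_comap.mp hIK
    have h2 : K.comap (algebraMap R S) ≤ p := Ideal.comap_mono hKP
    have := eq_of_le_of_comap_eq_of_isHenselization R S K P hKP (le_antisymm h2 h1)
    rw [this]
  have hPass : P ∈ associatedPrimes S (S ⧸ I) := by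
    apply Module.associatedPrimes.minimalPrimes_annihilator_subset_associatedPrimes
    rw [Ideal.annihilator_quotient]
    exact hPmin
  -- the ring `T' = Â/IÂ ≅ (R/p)^` is strictly equidimensional
  have hT' : EGA4.IsStrictlyEquidim (Cpl R ⧸ I.map (algebraMap S (Cpl R))) :=
    isStrictlyEquidim_of_ringEquiv
      ((Ideal.quotEquivOfEq hImap).trans (cplQuotEquiv R p)).symm (h p)
  -- `Â/PÂ` is strictly equidimensional
  set J := P.map (algebraMap S (Cpl R)) with hJ
  have hIJ : I.map (algebraMap S (Cpl R)) ≤ J := Ideal.map_mono hIP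
  have hJm : J ≤ maximalIdeal (Cpl R) :=
    (Ideal.map_mono (le_maximalIdeal hP.ne_top)).trans (map_maximalIdeal_le_of_isLocalHom S (Cpl R))
  haveI : Nontrivial (Cpl R ⧸ J) := Ideal.Quotient.nontrivial_iff.mpr
    (fun h => (maximalIdeal.isMaximal (Cpl R)).ne_top (top_le_iff.mp (h ▸ hJm)))
  have hsJ : EGA4.IsStrictlyEquidim (Cpl R ⧸ J) := by
    intro Q hQ
    haveI hQp : Q.IsPrime := IsAssociatedPrime.isPrime hQ
    have h1 := comap_mem_associatedPrimes (Ideal.Quotient.mk J) Ideal.Quotient.mk_surjective Q hQ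
    rw [Ideal.mk_ker] at h1
    set Q' := Q.comap (Ideal.Quotient.mk J) with hQ'
    haveI hQ'p : Q'.IsPrime := Ideal.comap_isPrime _ Q
    have hJQ' : J ≤ Q' := by
      intro x hx
      rw [hQ', Ideal.mem_comap, Ideal.Quotient.eq_zero_iff_mem.mpr hx]
      exact Q.zero_mem
    have h2 : Q' ∈ associatedPrimes (Cpl R) (Cpl R ⧸ I.map (algebraMap S (Cpl R))) :=
      associatedPrimes_quotient_map_subset_of_flat I P hPass h1
    have h3 := hT' _ (map_quotientMk_mem_associatedPrimes _ Q' h2)
    rw [ringKrullDim_quotient_quotient _ Q' (hIJ.trans hJQ')] at h3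
    have hQeq : Q = Q'.map (Ideal.Quotient.mk J) :=
      (Ideal.map_comap_of_surjective _ Ideal.Quotient.mk_surjective Q).symm
    have h4 : ringKrullDim ((Cpl R ⧸ J) ⧸ Q) = ringKrullDim (Cpl R ⧸ Q') := by
      rw [hQeq]
      exact ringKrullDim_quotient_quotient J Q' hJQ'
    apply le_antisymm (ringKrullDim_quotient_le _)
    rw [h4, h3]
    exact ringKrullDim_quotient_le_of_le _ J hIJ
  -- pass to the completion of `Â/PÂ`
  haveI : IsAdicComplete (maximalIdeal (Cpl R ⧸ J)) (Cpl R ⧸ J) :=
    Groth.Agent.Lib.Helper25.isAdicComplete_of_finite_of_isLocalRing (Cpl R) (Cpl R ⧸ J)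
  have hsJ' : EGA4.IsStrictlyEquidim (Cpl (Cpl R ⧸ J)) :=
    isStrictlyEquidim_of_ringEquiv
      (AdicCompletion.ofAlgEquiv (maximalIdeal (Cpl R ⧸ J))).toRingEquiv hsJ
  -- descend along `(S/P)^ → (Â/PÂ)^`
  haveI := flat_quotient_map S (Cpl R) P
  haveI := isLocalHom_quotient_map S (Cpl R) P
  letI := cplAlgebra (S ⧸ P) (Cpl R ⧸ J)
  haveI := flat_cplMap (S ⧸ P) (Cpl R ⧸ J)
  haveI : IsLocalHom (algebraMap (Cpl (S ⧸ P)) (Cpl (Cpl R ⧸ J))) :=
    isLocalHom_cplMap (S ⧸ P) (Cpl R ⧸ J)
  exact isStrictlyEquidim_of_flat (Cpl (S ⧸ P)) (Cpl (Cpl R ⧸ J)) hsJ'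
    (CplCat.isCatenary_of_complete _)

end Hens

end Groth.Agent.Lib.Helper67.EquiCat
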