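import Groth.Agent.Lib.Helper67.FiberStalk3

set_option autoImplicit false
set_option linter.style.haveILetI false
set_option linter.unusedSectionVars false

universe u
open CategoryTheory CategoryTheory.Limits AlgebraicGeometry Opposite TopologicalSpace

namespace Groth.Agent.Lib.Helper67.FiberTower

open LocCoh IsLocalRing

variable {C A B : Type u} [CommRing C] [CommRing A] [CommRing B] [IsLocalRing C] [IsLocalRing A]
  [IsLocalRing B] (γ : C →+* A) (φ : A →+* B)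

theorem ringKrullDim_tower_eq_add [IsLocalHom γ] [IsLocalHom φ] (hφ : φ.Flat)
    [IsNoetherianRing (A ⧸ IA γ)] [IsNoetherianRing (B ⧸ IB γ φ)] :
    ringKrullDim (B ⧸ IB γ φ) = ringKrullDim (A ⧸ IA γ) + ringKrullDim (B ⧸ JB φ) := by
  letI : Algebra (A ⧸ IA γ) (B ⧸ IB γ φ) := (φ' γ φ).toAlgebra
  haveI : IsLocalHom (algebraMap (A ⧸ IA γ) (B ⧸ IB γ φ)) := isLocalHom_φ' γ φ
  haveI : Module.Flat (A ⧸ IA γ) (B ⧸ IB γ φ) := flat_φ' γ φ hφ
  have h := ringKrullDim_eq_add_fibre_of_flat (R := A ⧸ IA γ) (S := B ⧸ IB γ φ)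
  rw [h]
  congr 1
  exact ringKrullDim_eq_of_ringEquiv (fibreEquiv γ φ)

theorem ringKrullDim_tower_le [IsLocalHom γ] [IsLocalHom φ] (hφ : φ.Flat)
    [IsNoetherianRing (A ⧸ IA γ)] [IsNoetherianRing (B ⧸ IB γ φ)] :
    ringKrullDim (A ⧸ IA γ) ≤ ringKrullDim (B ⧸ IB γ φ) := by
  rw [ringKrullDim_tower_eq_add γ φ hφ]
  have h0 : (0 : WithBot ℕ∞) ≤ ringKrullDim (B ⧸ JB φ) := ringKrullDim_nonneg_of_nontrivial
  calc ringKrullDim (A ⧸ IA γ) = ringKrullDim (A ⧸ IA γ) + 0 := (add_zero _).symm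
    _ ≤ _ := by gcongr

end Groth.Agent.Lib.Helper67.FiberTower

namespace Groth.Agent.Lib.Helper67.FiberStalk

open LocCoh IsLocalRing FiberTower

variable {X Y Z : Scheme.{u}} (f : X ⟶ Y) (g : Y ⟶ Z)

theorem isNoetherianRing_Q_of_isLocallyNoetherian [IsLocallyNoetherian X] (x : X) :
    IsNoetherianRing (Q f x) :=
  inferInstanceAs (IsNoetherianRing (X.presheaf.stalk x ⧸ fibIdeal f x))

/-- for `f` flat at `x`: `dim O_{Y_z,f x} ≤ dim O_{X_z,x}`. -/
theorem ringKrullDim_fiberStalk_le_comp [IsLocallyNoetherian X] [IsLocallyNoetherian Y] (x : X)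
    (hfl : (f.stalkMap x).hom.Flat) :
    ringKrullDim (CInt.fiberStalk g (f x)) ≤ ringKrullDim (CInt.fiberStalk (f ≫ g) x) := by
  rw [ringKrullDim_fiberStalk, ringKrullDim_fiberStalk,
    ringKrullDim_eq_of_ringEquiv (qCompEquiv f g x)]
  haveI : IsNoetherianRing (Y.presheaf.stalk (f x) ⧸ IA (g.stalkMap (f x)).hom) :=
    isNoetherianRing_Q_of_isLocallyNoetherian g (f x)
  haveI : IsNoetherianRing
      (X.presheaf.stalk x ⧸ IB (g.stalkMap (f x)).hom (f.stalkMap x).hom) :=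
    isNoetherianRing_of_ringEquiv _ (qCompEquiv f g x)
  exact ringKrullDim_tower_le (g.stalkMap (f x)).hom (f.stalkMap x).hom hfl

end Groth.Agent.Lib.Helper67.FiberStalk
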