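import Mathlib
import Groth.Agent.Lib.Helper67.FibreGR
import Groth.Agent.Lib.Helper56.HomPushout
import Groth.Agent.Lib.Helper56.FormalQuot
import Groth.Agent.S7414

/-!
# Fibrewise geometric regularity: pushouts along maps surjective on stalks, quotients, ring isos
-/

set_option autoImplicit false
set_option linter.unusedSectionVars false
set_option linter.style.haveILetI false
universe u
open TensorProduct

namespace Groth.Agent.Lib.Helper67.FibreGR

open Groth.Agent.Lib.Helper56

section PO

variable (A B : Type u) [CommRing A] [CommRing B] [Algebra A B]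
  (A' B' : Type u) [CommRing A'] [CommRing B'] [Algebra A A'] [Algebra B B'] [Algebra A' B']
  [Algebra A B'] [IsScalarTower A A' B'] [IsScalarTower A B B']

theorem nonempty_fibre_equiv_of_isPushout (hpo : Algebra.IsPushout A B A' B')
    (p' : Ideal A') [p'.IsPrime] (p : Ideal A) [p.IsPrime]
    (hp : p = p'.comap (algebraMap A A'))
    (k : Type u) [Field k] [Algebra p'.ResidueField k] [Algebra p.ResidueField k]
    (hcompat : ∀ x, algebraMap p'.ResidueField k
      (Ideal.ResidueField.map p p' (algebraMap A A') hp x) = algebraMap p.ResidueField k x) :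
    Nonempty ((k ⊗[p'.ResidueField] p'.Fiber B') ≃+* (k ⊗[p.ResidueField] p.Fiber B)) := by
  let _ : Algebra A' k :=
    ((algebraMap p'.ResidueField k).comp (algebraMap A' p'.ResidueField)).toAlgebra
  have : IsScalarTower A' p'.ResidueField k := IsScalarTower.of_algebraMap_eq (fun _ => rfl)
  let _ : Algebra A k :=
    ((algebraMap p.ResidueField k).comp (algebraMap A p.ResidueField)).toAlgebra
  have : IsScalarTower A p.ResidueField k := IsScalarTower.of_algebraMap_eq (fun _ => rfl)
  have : IsScalarTower A A' k := by
    refine IsScalarTower.of_algebraMap_eq (fun a => ?_)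
    show algebraMap p.ResidueField k (algebraMap A p.ResidueField a) =
      algebraMap p'.ResidueField k (algebraMap A' p'.ResidueField (algebraMap A A' a))
    rw [← hcompat, Ideal.ResidueField.map_algebraMap]
  have e1 : B' ⊗[A'] k ≃ₐ[B] B ⊗[A] k := Algebra.IsPushout.cancelBaseChangeAlg A B A' B' k
  exact ⟨(fibreTensorEquiv A' B' p' k).symm.trans
    (e1.toRingEquiv.trans (fibreTensorEquiv A B p k))⟩

theorem geomReg_fibre_iff_of_isPushout (hpo : Algebra.IsPushout A B A' B')
    (hs : (algebraMap A A').SurjectiveOnStalks)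
    (p' : Ideal A') [p'.IsPrime] (p : Ideal A) [p.IsPrime]
    (hp : p = p'.comap (algebraMap A A')) :
    CAlg.IsGeometricallyRegular p'.ResidueField (p'.Fiber B') ↔
      CAlg.IsGeometricallyRegular p.ResidueField (p.Fiber B) := by
  let φ : p.ResidueField →+* p'.ResidueField :=
    Ideal.ResidueField.map p p' (algebraMap A A') hp
  have hφ : Function.Bijective φ := hs.residueFieldMap_bijective p p' hp
  let φe : p.ResidueField ≃+* p'.ResidueField := RingEquiv.ofBijective φ hφ
  let _ : Algebra p.ResidueField p'.ResidueField := φ.toAlgebra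
  have hf1 : Module.Finite p.ResidueField p'.ResidueField :=
    Module.Finite.of_surjective (Algebra.linearMap p.ResidueField p'.ResidueField) hφ.surjective
  constructor
  · intro h k _ _ hfin
    let _ : Algebra p'.ResidueField k :=
      ((algebraMap p.ResidueField k).comp φe.symm.toRingHom).toAlgebra
    have hc : ∀ x, algebraMap p'.ResidueField k (φ x) = algebraMap p.ResidueField k x := by
      intro x
      show algebraMap p.ResidueField k (φe.symm (φe x)) = _
      rw [φe.symm_apply_apply]
    have : IsScalarTower p.ResidueField p'.ResidueField k :=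
      IsScalarTower.of_algebraMap_eq (fun x => (hc x).symm)
    have hfin' : Module.Finite p'.ResidueField k :=
      Module.Finite.of_restrictScalars_finite p.ResidueField p'.ResidueField k
    obtain ⟨e⟩ := nonempty_fibre_equiv_of_isPushout A B A' B' hpo p' p hp k hc
    have := h k hfin'
    exact IsRegularRing.of_ringEquiv (R := k ⊗[p'.ResidueField] p'.Fiber B') e
  · intro h k _ _ hfin
    let _ : Algebra p.ResidueField k := ((algebraMap p'.ResidueField k).comp φ).toAlgebra
    have : IsScalarTower p.ResidueField p'.ResidueField k :=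
      IsScalarTower.of_algebraMap_eq (fun _ => rfl)
    have hfin' : Module.Finite p.ResidueField k := Module.Finite.trans p'.ResidueField k
    obtain ⟨e⟩ := nonempty_fibre_equiv_of_isPushout A B A' B' hpo p' p hp k (fun _ => rfl)
    have := h k hfin'
    exact IsRegularRing.of_ringEquiv (R := k ⊗[p.ResidueField] p.Fiber B) e.symm

end PO

section Quot

open IsLocalRing EGA4

variable (A : Type u) [CommRing A] [IsNoetherianRing A] [IsLocalRing A] (I : Ideal A)
  [Nontrivial (A ⧸ I)]

/-- the formal fibres of `A/I` are formal fibres of `A`. -/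
theorem geomReg_formalFibre_quot_iff (Q1 : Ideal (A ⧸ I)) [Q1.IsPrime] (Q : Ideal A) [Q.IsPrime]
    (hQ : Q = Q1.comap (algebraMap A (A ⧸ I))) :
    CAlg.IsGeometricallyRegular Q1.ResidueField (formalFibre (A ⧸ I) Q1) ↔
      CAlg.IsGeometricallyRegular Q.ResidueField (formalFibre A Q) := by
  let _ := cplAlgebra A (A ⧸ I)
  have := isScalarTower_cpl A (A ⧸ I)
  have := isScalarTower_cpl_base A (A ⧸ I)
  have hpo := isPushout_cpl_quot A I
  exact geomReg_fibre_iff_of_isPushout A (Cpl A) (A ⧸ I) (Cpl (A ⧸ I)) hpo
    (surjectiveOnStalks_quotient A I) Q1 Q hQ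

end Quot

section Iso

open IsLocalRing EGA4

variable {L L' : Type u} [CommRing L] [CommRing L'] [IsLocalRing L] [IsLocalRing L']

/-- transport of a single formal fibre along a ring isomorphism of local rings. -/
theorem geomReg_formalFibre_of_ringEquiv (σ : L ≃+* L') (Q' : Ideal L') [Q'.IsPrime]
    (Q : Ideal L) [Q.IsPrime] (hQ : Q = Q'.comap σ.toRingHom) :
    CAlg.IsGeometricallyRegular Q'.ResidueField (formalFibre L' Q') ↔
      CAlg.IsGeometricallyRegular Q.ResidueField (formalFibre L Q) := by
  have hm : maximalIdeal L = (maximalIdeal L').comap σ :=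
    (IsLocalRing.maximalIdeal_comap (σ : L →+* L')).symm
  let τ : Cpl L ≃+* Cpl L' := Groth.Agent.S7414.adicEquiv _ _ σ hm
  letI : Algebra L L' := σ.toRingHom.toAlgebra
  letI : Algebra (Cpl L) (Cpl L') := τ.toRingHom.toAlgebra
  haveI : IsScalarTower L L' (Cpl L') := inferInstance
  haveI : IsScalarTower L (Cpl L) (Cpl L') := IsScalarTower.of_algebraMap_eq (fun x => by
    show algebraMap L' (Cpl L') (σ x) = τ (algebraMap L (Cpl L) x)
    exact (Groth.Agent.S7414.adicEquiv_of _ _ σ hm x).symm)
  haveI : IsLocalization (⊥ : Submonoid L) L' := by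
    haveI : IsLocalization (⊥ : Submonoid L) L :=
      IsLocalization.self (fun x hx => by
        rw [Submonoid.mem_bot] at hx
        rw [hx]
        exact isUnit_one)
    exact IsLocalization.isLocalization_of_algEquiv (⊥ : Submonoid L)
      (AlgEquiv.ofRingEquiv (f := σ) (fun _ => rfl) : L ≃ₐ[L] L')
  haveI : IsLocalization (Algebra.algebraMapSubmonoid (Cpl L) (⊥ : Submonoid L)) (Cpl L') := by
    haveI : IsLocalization (Algebra.algebraMapSubmonoid (Cpl L) (⊥ : Submonoid L)) (Cpl L) :=
      IsLocalization.self (fun x hx => by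
        obtain ⟨y, hy, rfl⟩ := hx
        rw [SetLike.mem_coe, Submonoid.mem_bot] at hy
        rw [hy, map_one]
        exact isUnit_one)
    exact IsLocalization.isLocalization_of_algEquiv _
      (AlgEquiv.ofRingEquiv (f := τ) (fun _ => rfl) : Cpl L ≃ₐ[Cpl L] Cpl L')
  exact geomReg_fibre_iff_of_isLocalization L (Cpl L) (⊥ : Submonoid L) L' (Cpl L') Q' Q hQ

end Iso

end Groth.Agent.Lib.Helper67.FibreGR
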