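import Groth.Agent.Lib.Helper67.DepthAlg
import Mathlib.LinearAlgebra.TensorProduct.RightExactness
import Mathlib.RingTheory.Flat.Basic

/-!
# Depth along flat local homomorphisms, part 1: quotients of tensor products

For an `R`-algebra `S`, an `S`-module `N` and an `R`-module `M`, we identify (as `S`-modules)
`(N ⊗ M)/x(N ⊗ M)` with `N ⊗ (M/xM)` (`x : R`) and `(N ⊗ M)/y(N ⊗ M)` with `(N/yN) ⊗ M` (`y : S`).
-/

set_option autoImplicit false

universe u v w

namespace Groth.Agent.Lib.Helper67

open RingTheory.Sequence LocCoh TensorProduct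
open scoped Pointwise

section L0

variable {S : Type u} [CommRing S] {T : Type v} {T'' : Type w} [AddCommGroup T] [Module S T]
  [AddCommGroup T''] [Module S T'']

/-- A surjection with kernel `x • ⊤` identifies the target with `T/xT`. -/
noncomputable def quotSMulTopEquivOfSurjective (g : T →ₗ[S] T'') (hg : Function.Surjective g)
    (x : S) (hker : LinearMap.ker g = x • (⊤ : Submodule S T)) : QuotSMulTop x T ≃ₗ[S] T'' :=
  (Submodule.quotEquivOfEq _ _ hker.symm) ≪≫ₗ g.quotKerEquivOfSurjective hg

end L0

section L1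

variable {S : Type u} [CommRing S] [IsNoetherianRing S] (I : Ideal S)
  {T T'' : Type u} [AddCommGroup T] [Module S T] [Module.Finite S T]
  [AddCommGroup T''] [Module S T'']

theorem idealDepth_add_one_of_surjective (g : T →ₗ[S] T'') (hg : Function.Surjective g)
    (x : S) (hker : LinearMap.ker g = x • (⊤ : Submodule S T))
    (hIT : I • (⊤ : Submodule S T) ≠ ⊤) (hx : x ∈ I) (hreg : IsSMulRegular T x) :
    idealDepth I T'' + 1 = idealDepth I T := by
  rw [← idealDepth_congr I (quotSMulTopEquivOfSurjective g hg x hker)]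
  exact idealDepth_quotSMulTop_add_one I T hIT x hx hreg

end L1

section Ker

variable {R : Type u} {S : Type v} [CommRing R] [CommRing S] [Algebra R S]
  (N : Type w) [AddCommGroup N] [Module S N] [Module R N] [IsScalarTower R S N]
  (M : Type*) [AddCommGroup M] [Module R M]

omit [Module S N] [IsScalarTower R S N] in
theorem lTensor_lsmul_apply (x : R) (w : N ⊗[R] M) :
    LinearMap.lTensor N (LinearMap.lsmul R M x) w = x • w := by
  induction w using TensorProduct.induction_on with
  | zero => simp
  | tmul n m => simp [TensorProduct.tmul_smul]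
  | add a b ha hb => rw [smul_add, map_add, ha, hb]

theorem rTensor_lsmul_apply (y : S) (w : N ⊗[R] M) :
    LinearMap.rTensor M ((LinearMap.lsmul S N y).restrictScalars R) w = y • w := by
  induction w using TensorProduct.induction_on with
  | zero => simp
  | tmul n m => simp [TensorProduct.smul_tmul']
  | add a b ha hb => rw [smul_add, map_add, ha, hb]

/-- The kernel of `N ⊗ M → N ⊗ M/xM` is `x (N ⊗ M)`. -/
theorem ker_lTensor_mkQ (x : R) :
    LinearMap.ker (AlgebraTensorModule.lTensor S N
      (Submodule.mkQ (x • (⊤ : Submodule R M)))) =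
      (algebraMap R S x) • (⊤ : Submodule S (N ⊗[R] M)) := by
  ext z
  rw [LinearMap.mem_ker, Submodule.mem_smul_pointwise_iff_exists]
  have hex : Function.Exact (LinearMap.lsmul R M x) (Submodule.mkQ (x • (⊤ : Submodule R M))) := by
    intro m
    rw [Submodule.mkQ_apply, Submodule.Quotient.mk_eq_zero,
      Submodule.mem_smul_pointwise_iff_exists]
    constructor
    · rintro ⟨m', -, rfl⟩
      exact ⟨m', rfl⟩
    · rintro ⟨m', rfl⟩
      exact ⟨m', trivial, rfl⟩
  have h1 := lTensor_exact N hex (Submodule.mkQ_surjective _) z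
  rw [AlgebraTensorModule.coe_lTensor, h1]
  constructor
  · rintro ⟨w, rfl⟩
    refine ⟨w, trivial, ?_⟩
    rw [lTensor_lsmul_apply]
    exact algebraMap_smul S x w
  · rintro ⟨w, -, rfl⟩
    refine ⟨w, ?_⟩
    rw [lTensor_lsmul_apply]
    exact (algebraMap_smul S x w).symm

theorem exact_lsmul_mkQ_restrictScalars (y : S) :
    Function.Exact ((LinearMap.lsmul S N y).restrictScalars R)
      ((Submodule.mkQ (y • (⊤ : Submodule S N))).restrictScalars R) := by
  intro m
  rw [LinearMap.restrictScalars_apply]
  rw [Submodule.mkQ_apply, Submodule.Quotient.mk_eq_zero,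
      Submodule.mem_smul_pointwise_iff_exists]
  constructor
  · rintro ⟨m', -, rfl⟩
    exact ⟨m', rfl⟩
  · rintro ⟨m', rfl⟩
    exact ⟨m', trivial, rfl⟩

/-- The kernel of `N ⊗ M → N/yN ⊗ M` is `y (N ⊗ M)`. -/
theorem ker_rTensor_mkQ (y : S) :
    LinearMap.ker (AlgebraTensorModule.rTensor R M
      (Submodule.mkQ (y • (⊤ : Submodule S N)))) =
      y • (⊤ : Submodule S (N ⊗[R] M)) := by
  ext z
  rw [LinearMap.mem_ker, Submodule.mem_smul_pointwise_iff_exists]
  have hsurj : Function.Surjective
      ((Submodule.mkQ (y • (⊤ : Submodule S N))).restrictScalars R) :=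
    fun q => Submodule.mkQ_surjective (y • (⊤ : Submodule S N)) q
  have h1 := rTensor_exact M (exact_lsmul_mkQ_restrictScalars (R := R) N y) hsurj z
  rw [AlgebraTensorModule.coe_rTensor]
  refine Iff.trans h1 ?_
  constructor
  · rintro ⟨w, rfl⟩
    exact ⟨w, trivial, (rTensor_lsmul_apply N M y w).symm⟩
  · rintro ⟨w, -, rfl⟩
    exact ⟨w, rTensor_lsmul_apply N M y w⟩

end Ker

end Groth.Agent.Lib.Helper67
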