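import Groth.Agent.Lib.Helper67.FlatDepth10
import Mathlib.RingTheory.Flat.Equalizer

set_option autoImplicit false
set_option linter.style.haveILetI false
set_option linter.unusedSectionVars false

universe u v w

namespace Groth.Agent.Lib.Helper67

open RingTheory.Sequence LocCoh TensorProduct IsLocalRing
open scoped Pointwise

section FlatQuotInter

variable {A : Type u} [CommRing A] {M : Type v} [AddCommGroup M] [Module A M]

/-- If `M/P` is flat then `IM ∩ P = IP` (here: elementwise, inside `M`). -/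
theorem mem_smul_of_mem_smul_top_of_flat_quotient (P : Submodule A M) [Module.Flat A (M ⧸ P)]
    (I : Ideal A) {z : M} (hzP : z ∈ P) (hz : z ∈ I • (⊤ : Submodule A M)) :
    z ∈ I • P := by
  have hinj := LinearMap.lTensor_injective_of_exact_of_flat P.mkQ (Submodule.mkQ_surjective P)
    P.subtype (Submodule.injective_subtype P) (LinearMap.exact_subtype_mkQ P) (A ⧸ I)
  -- `1 ⊗ z = 0` in `(A/I) ⊗ M`
  have h1 : (1 : A ⧸ I) ⊗ₜ[A] z = 0 := by
    have := (TensorProduct.quotTensorEquivQuotSMul M I).injective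
    apply this
    rw [map_zero, TensorProduct.quotTensorEquivQuotSMul_mk_one_tmul,
      Submodule.Quotient.mk_eq_zero]
    exact hz
  have h2 : (1 : A ⧸ I) ⊗ₜ[A] (⟨z, hzP⟩ : P) = 0 := by
    apply hinj
    rw [map_zero, LinearMap.lTensor_tmul]
    exact h1
  have h3 : (TensorProduct.quotTensorEquivQuotSMul P I) ((1 : A ⧸ I) ⊗ₜ[A] (⟨z, hzP⟩ : P)) = 0 := by
    rw [h2, map_zero]
  rw [TensorProduct.quotTensorEquivQuotSMul_mk_one_tmul, Submodule.Quotient.mk_eq_zero] at h3
  -- `⟨z, _⟩ ∈ I • ⊤` in `P`; map to `M`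
  have h4 : P.subtype ⟨z, hzP⟩ ∈ (I • (⊤ : Submodule A P)).map P.subtype :=
    Submodule.mem_map_of_mem h3
  rw [Submodule.map_smul'', Submodule.map_top, Submodule.range_subtype] at h4
  exact h4

end FlatQuotInter

section EGA15116

variable {R : Type u} {S : Type u} [CommRing R] [CommRing S] [Algebra R S] [IsLocalRing R]
  [IsLocalRing S] [IsNoetherianRing R] [IsNoetherianRing S] [IsLocalHom (algebraMap R S)]

theorem eq_ofList_smul_top_of_fibre (N : Type u) [AddCommGroup N] [Module S N] [Module R N]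
    [IsScalarTower R S N] [Module.Finite S N] [Module.Flat R N] (P : Submodule S N)
    (hP : Module.Flat R (N ⧸ P)) (fs : List S)
    (h1 : Ideal.ofList fs • (⊤ : Submodule S N) ≤ P)
    (h2 : IsWeaklyRegular
      (N ⧸ ((maximalIdeal R).map (algebraMap R S) • (⊤ : Submodule S N))) fs)
    (h3 : Ideal.ofList fs • (⊤ : Submodule S
        (N ⧸ ((maximalIdeal R).map (algebraMap R S) • (⊤ : Submodule S N)))) =
      P.map ((maximalIdeal R).map (algebraMap R S) • (⊤ : Submodule S N)).mkQ) :
    IsWeaklyRegular N fs ∧ P = Ideal.ofList fs • (⊤ : Submodule S N) := by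
  refine ⟨(isWeaklyRegular_and_flat_of_fibre (R := R) fs N h2).1, le_antisymm ?_ h1⟩
  set mS := (maximalIdeal R).map (algebraMap R S) with hmS
  haveI : Module.Flat R (N ⧸ P.restrictScalars R) :=
    Module.Flat.of_linearEquiv (Submodule.Quotient.restrictScalarsEquiv R P)
  have hPfg : P.FG := IsNoetherian.noetherian P
  refine Submodule.le_of_le_smul_of_le_jacobson_bot (I := maximalIdeal S) hPfg
    (IsLocalRing.maximalIdeal_le_jacobson ⊥) ?_
  intro x hx
  -- the image of `x` in `N/mN` lies in `(fs)(N/mN)`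
  have hx1 : (mS • (⊤ : Submodule S N)).mkQ x ∈
      (Ideal.ofList fs • (⊤ : Submodule S N)).map (mS • (⊤ : Submodule S N)).mkQ := by
    rw [Submodule.map_smul'', Submodule.map_top, Submodule.range_mkQ, h3]
    exact Submodule.mem_map_of_mem hx
  obtain ⟨x', hx', hxx'⟩ := hx1
  have hz : x - x' ∈ mS • (⊤ : Submodule S N) := by
    rw [← Submodule.ker_mkQ (mS • (⊤ : Submodule S N)), LinearMap.mem_ker, map_sub, hxx', sub_self]
  have hzP : x - x' ∈ P.restrictScalars R := P.sub_mem hx (h1 hx')
  have hz' : x - x' ∈ maximalIdeal R • (⊤ : Submodule R N) :=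
    mem_smul_top_of_mem_map_smul_top N (maximalIdeal R) hz
  have hz2 := mem_smul_of_mem_smul_top_of_flat_quotient (P.restrictScalars R) (maximalIdeal R)
    hzP hz'
  have hz3 : x - x' ∈ maximalIdeal S • P := by
    refine Submodule.smul_induction_on hz2 (fun r hr n hn => ?_) (fun a b ha hb => add_mem ha hb)
    rw [← algebraMap_smul S r n]
    exact Submodule.smul_mem_smul
      (IsLocalRing.map_maximalIdeal_le (algebraMap R S) (Ideal.mem_map_of_mem _ hr)) hn
  have : x = x' + (x - x') := by abel
  rw [this]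
  exact Submodule.add_mem_sup hx' hz3

end EGA15116

end Groth.Agent.Lib.Helper67
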