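import Groth.Agent.Lib.Helper67.FlatDepth
import Mathlib.RingTheory.Flat.Tensor
import Mathlib.RingTheory.Flat.FaithfullyFlat.Basic
import Mathlib.RingTheory.HopkinsLevitzki
import Mathlib.RingTheory.Ideal.KrullsHeightTheorem
import Mathlib.RingTheory.Filtration
import Mathlib.RingTheory.FiniteLength
import Mathlib.RingTheory.TensorProduct.Finite

set_option autoImplicit false
set_option linter.style.haveILetI false

universe u v w

namespace Groth.Agent.Lib.Helper67

open RingTheory.Sequence LocCoh TensorProduct IsLocalRing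
open scoped Pointwise

section Finite

variable {R : Type u} {S : Type v} [CommRing R] [CommRing S] [Algebra R S]
  (N : Type w) [AddCommGroup N] [Module S N] [Module R N] [IsScalarTower R S N]
  (M : Type*) [AddCommGroup M] [Module R M]

theorem finite_tensor [Module.Finite S N] [Module.Finite R M] : Module.Finite S (N ⊗[R] M) :=
  Module.Finite.equiv (AlgebraTensorModule.cancelBaseChange R S S N M)

end Finite

section FinLen

variable {R : Type u} [CommRing R] [IsNoetherianRing R] [IsLocalRing R]
  (M : Type v) [AddCommGroup M] [Module R M] [Module.Finite R M]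

theorem isFiniteLength_quotient_maximalIdeal_pow_smul (k : ℕ) :
    IsFiniteLength R (M ⧸ (maximalIdeal R ^ k) • (⊤ : Submodule R M)) := by
  rcases k with _ | k
  · have : Subsingleton (M ⧸ (maximalIdeal R ^ 0) • (⊤ : Submodule R M)) := by
      rw [pow_zero, Ideal.one_eq_top, Submodule.top_smul]
      exact Submodule.Quotient.subsingleton_iff.mpr rfl
    exact IsFiniteLength.of_subsingleton
  · set I := maximalIdeal R ^ (k + 1) with hI
    have hmin : maximalIdeal R ∈ I.minimalPrimes := by
      refine ⟨⟨inferInstance, Ideal.pow_le_self (Nat.succ_ne_zero k)⟩, fun q ⟨hq, hIq⟩ _ => ?_⟩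
      exact hq.le_of_pow_le hIq
    haveI : IsArtinianRing (R ⧸ I) :=
      IsLocalRing.quotient_artinian_of_mem_minimalPrimes_of_isLocalRing I hmin
    rw [isFiniteLength_iff_isNoetherian_isArtinian]
    refine ⟨inferInstance, ?_⟩
    haveI : Module.Finite (R ⧸ I) (M ⧸ I • (⊤ : Submodule R M)) :=
      Module.Finite.of_restrictScalars_finite R _ _
    haveI : IsArtinian (R ⧸ I) (M ⧸ I • (⊤ : Submodule R M)) := inferInstance
    exact isArtinian_of_surjective_algebraMap (S := R) (R := R ⧸ I) Ideal.Quotient.mk_surjective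

end FinLen

section RegFinLen

variable {R : Type u} {S : Type v} [CommRing R] [CommRing S] [Algebra R S]
  (N : Type w) [AddCommGroup N] [Module S N] [Module R N] [IsScalarTower R S N]

/-- exactness of `N ⊗ M' → N ⊗ M → N ⊗ M/M'` for a submodule -/
theorem range_lTensor_subtype_eq_ker {M : Type*} [AddCommGroup M] [Module R M] (M' : Submodule R M) :
    LinearMap.range (AlgebraTensorModule.lTensor S N M'.subtype) =
      LinearMap.ker (AlgebraTensorModule.lTensor S N M'.mkQ) := by
  ext z
  rw [LinearMap.mem_range, LinearMap.mem_ker]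
  have h1 := lTensor_exact N (LinearMap.exact_subtype_mkQ M') (Submodule.mkQ_surjective M') z
  rw [AlgebraTensorModule.coe_lTensor]
  refine Iff.trans ?_ h1.symm
  rfl

/-- the image of `N ⊗ I M` in `N ⊗ M` lies in `(I S)(N ⊗ M)` -/
theorem lTensor_subtype_mem_smul_top {M : Type*} [AddCommGroup M] [Module R M] (I : Ideal R)
    (J : Ideal S) (hIJ : I.map (algebraMap R S) ≤ J)
    (w : N ⊗[R] ↥(I • (⊤ : Submodule R M))) :
    AlgebraTensorModule.lTensor S N (I • (⊤ : Submodule R M)).subtype w ∈
      J • (⊤ : Submodule S (N ⊗[R] M)) := by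
  induction w using TensorProduct.induction_on with
  | zero => simp
  | add a b ha hb => rw [map_add]; exact add_mem ha hb
  | tmul n m =>
    rw [AlgebraTensorModule.lTensor_tmul, Submodule.subtype_apply]
    obtain ⟨m, hm⟩ := m
    show n ⊗ₜ[R] m ∈ _
    refine Submodule.smul_induction_on hm (fun r hr m' _ => ?_) (fun a b ha hb => ?_)
    · rw [TensorProduct.tmul_smul, ← algebraMap_smul S r (n ⊗ₜ[R] m')]
      exact Submodule.smul_mem_smul (hIJ (Ideal.mem_map_of_mem _ hr)) trivial
    · rw [TensorProduct.tmul_add]
      exact add_mem ha hb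

theorem isSMulRegular_tensor_of_isFiniteLength [IsLocalRing R] [Module.Flat R N] (y : S)
    (hy : IsSMulRegular (N ⊗[R] (R ⧸ maximalIdeal R)) y)
    {M : Type*} [AddCommGroup M] [Module R M] (hM : IsFiniteLength R M) :
    IsSMulRegular (N ⊗[R] M) y := by
  induction hM with
  | @of_subsingleton M _ _ _ =>
    have : Subsingleton (N ⊗[R] M) := inferInstance
    intro a b _
    exact Subsingleton.elim a b
  | @of_simple_quotient M _ _ M' hsimple _ ih =>
    have hf : Function.Injective (AlgebraTensorModule.lTensor S N M'.subtype) := by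
      rw [AlgebraTensorModule.coe_lTensor]
      exact Module.Flat.lTensor_preserves_injective_linearMap _ (Submodule.injective_subtype _)
    have h3 : IsSMulRegular (N ⊗[R] (M ⧸ M')) y := by
      obtain ⟨I, hI, ⟨e⟩⟩ := isSimpleModule_iff_quot_maximal.mp hsimple
      have hIm : I = maximalIdeal R := IsLocalRing.eq_maximalIdeal hI
      subst hIm
      exact ((AlgebraTensorModule.congr (LinearEquiv.refl S N) e).isSMulRegular_congr y).mpr hy
    exact isSMulRegular_of_range_eq_ker hf (range_lTensor_subtype_eq_ker N M') ih h3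

end RegFinLen

section RegFinite

variable {R : Type u} {S : Type u} [CommRing R] [CommRing S] [Algebra R S] [IsLocalRing R]
  [IsLocalRing S] [IsNoetherianRing R] [IsNoetherianRing S] [IsLocalHom (algebraMap R S)]
  (N : Type u) [AddCommGroup N] [Module S N] [Module R N] [IsScalarTower R S N] [Module.Flat R N]
  [Module.Finite S N]

theorem isSMulRegular_tensor_of_finite (y : S)
    (hy : IsSMulRegular (N ⊗[R] (R ⧸ maximalIdeal R)) y)
    (M : Type u) [AddCommGroup M] [Module R M] [Module.Finite R M] :
    IsSMulRegular (N ⊗[R] M) y := by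
  haveI : Module.Finite S (N ⊗[R] M) := finite_tensor N M
  rw [isSMulRegular_iff_right_eq_zero_of_smul]
  intro z hz
  have hkrull := Ideal.iInf_pow_smul_eq_bot_of_isLocalRing (M := N ⊗[R] M) (maximalIdeal S)
    (Ideal.IsPrime.ne_top inferInstance)
  have hmem : z ∈ (⨅ i : ℕ, maximalIdeal S ^ i • ⊤ : Submodule S (N ⊗[R] M)) := by
    rw [Submodule.mem_iInf]
    intro k
    have hfl := isFiniteLength_quotient_maximalIdeal_pow_smul (R := R) M k
    have hreg := isSMulRegular_tensor_of_isFiniteLength N y hy hfl
    have hz0 : AlgebraTensorModule.lTensor S N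
        ((maximalIdeal R ^ k) • (⊤ : Submodule R M)).mkQ z = 0 := by
      apply hreg.right_eq_zero_of_smul
      rw [← map_smul, hz, map_zero]
    have hzr : z ∈ LinearMap.range (AlgebraTensorModule.lTensor S N
        ((maximalIdeal R ^ k) • (⊤ : Submodule R M)).subtype) := by
      rw [range_lTensor_subtype_eq_ker]
      exact hz0
    obtain ⟨w, rfl⟩ := hzr
    refine lTensor_subtype_mem_smul_top N (maximalIdeal R ^ k) (maximalIdeal S ^ k) ?_ w
    rw [Ideal.map_pow]
    exact Ideal.pow_right_mono (IsLocalRing.map_maximalIdeal_le (algebraMap R S)) k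
  rw [hkrull] at hmem
  exact (Submodule.mem_bot S).mp hmem

end RegFinite

end Groth.Agent.Lib.Helper67
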