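import Groth.Agent.Lib.Helper67.FlatDepth2

set_option autoImplicit false
set_option linter.style.haveILetI false
set_option linter.unusedSectionVars false

universe u v w

namespace Groth.Agent.Lib.Helper67

open RingTheory.Sequence LocCoh TensorProduct IsLocalRing
open scoped Pointwise

section QuotMap

variable {R : Type u} {S : Type v} [CommRing R] [CommRing S] [Algebra R S]
  (N : Type w) [AddCommGroup N] [Module S N] [Module R N] [IsScalarTower R S N]

/-- The projection `N ⊗ X → (N/yN) ⊗ X`. -/
noncomputable def quotTensorMap (y : S) (X : Type*) [AddCommGroup X] [Module R X] :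
    N ⊗[R] X →ₗ[S] QuotSMulTop y N ⊗[R] X :=
  AlgebraTensorModule.rTensor R X (Submodule.mkQ (y • (⊤ : Submodule S N)))

theorem quotTensorMap_tmul (y : S) (X : Type*) [AddCommGroup X] [Module R X] (n : N) (x : X) :
    quotTensorMap N y X (n ⊗ₜ[R] x) = (Submodule.mkQ (y • (⊤ : Submodule S N)) n) ⊗ₜ[R] x := rfl

theorem quotTensorMap_surjective (y : S) (X : Type*) [AddCommGroup X] [Module R X] :
    Function.Surjective (quotTensorMap (R := R) N y X) := by
  have hsurj : Function.Surjective
      ((Submodule.mkQ (y • (⊤ : Submodule S N))).restrictScalars R) :=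
    fun q => Submodule.mkQ_surjective (y • (⊤ : Submodule S N)) q
  unfold quotTensorMap
  rw [AlgebraTensorModule.coe_rTensor]
  exact LinearMap.rTensor_surjective X hsurj

theorem ker_quotTensorMap (y : S) (X : Type*) [AddCommGroup X] [Module R X] :
    LinearMap.ker (quotTensorMap (R := R) N y X) = y • (⊤ : Submodule S (N ⊗[R] X)) :=
  ker_rTensor_mkQ N X y

theorem quotTensorMap_lTensor (y : S) {X Y : Type*} [AddCommGroup X] [Module R X]
    [AddCommGroup Y] [Module R Y] (f : X →ₗ[R] Y) (w : N ⊗[R] X) :
    quotTensorMap N y Y (LinearMap.lTensor N f w) =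
      LinearMap.lTensor (QuotSMulTop y N) f (quotTensorMap N y X w) := by
  induction w using TensorProduct.induction_on with
  | zero => simp
  | add a b ha hb => simp only [map_add, ha, hb]
  | tmul n x => rfl

theorem smul_quotSMulTop_tensor_eq_zero (y : S) {X : Type*} [AddCommGroup X] [Module R X]
    (t : QuotSMulTop y N ⊗[R] X) : y • t = 0 := by
  induction t using TensorProduct.induction_on with
  | zero => simp
  | add a b ha hb => rw [smul_add, ha, hb, add_zero]
  | tmul n x =>
    rw [TensorProduct.smul_tmul']
    obtain ⟨n, rfl⟩ := Submodule.mkQ_surjective _ n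
    have : y • (Submodule.mkQ (y • (⊤ : Submodule S N)) n) = 0 := by
      rw [← map_smul, Submodule.mkQ_apply, Submodule.Quotient.mk_eq_zero]
      exact Submodule.smul_mem_pointwise_smul n y ⊤ trivial
    rw [this, TensorProduct.zero_tmul]

end QuotMap

section FlatQuot

variable {R : Type u} {S : Type u} [CommRing R] [CommRing S] [Algebra R S] [IsLocalRing R]
  [IsLocalRing S] [IsNoetherianRing R] [IsNoetherianRing S] [IsLocalHom (algebraMap R S)]
  (N : Type u) [AddCommGroup N] [Module S N] [Module R N] [IsScalarTower R S N] [Module.Flat R N]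
  [Module.Finite S N]

theorem flat_quotSMulTop (y : S)
    (hy : IsSMulRegular (N ⊗[R] (R ⧸ maximalIdeal R)) y) :
    Module.Flat R (QuotSMulTop y N) := by
  rw [Module.Flat.iff_lTensor_injective']
  intro I
  rw [injective_iff_map_eq_zero]
  intro w hw
  obtain ⟨w', rfl⟩ := quotTensorMap_surjective (R := R) N y I w
  rw [← quotTensorMap_lTensor] at hw
  have hu0 : LinearMap.lTensor N I.subtype w' ∈ LinearMap.ker (quotTensorMap (R := R) N y R) :=
    LinearMap.mem_ker.mpr hw
  rw [ker_quotTensorMap, Submodule.mem_smul_pointwise_iff_exists] at hu0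
  obtain ⟨u', -, hu'⟩ := hu0
  -- `q : N ⊗ R → N ⊗ R/I`
  have hex := lTensor_exact N (LinearMap.exact_subtype_mkQ I) (Submodule.mkQ_surjective I)
  have hq0 : LinearMap.lTensor N I.mkQ (LinearMap.lTensor N I.subtype w') = 0 :=
    (hex _).mpr ⟨w', rfl⟩
  have hreg : IsSMulRegular (N ⊗[R] (R ⧸ I)) y := isSMulRegular_tensor_of_finite N y hy (R ⧸ I)
  have hq1 : LinearMap.lTensor N I.mkQ u' = 0 := by
    apply hreg.right_eq_zero_of_smul
    have : y • (LinearMap.lTensor N I.mkQ u') = LinearMap.lTensor N I.mkQ (y • u') := by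
      have := (AlgebraTensorModule.lTensor S N I.mkQ).map_smul y u'
      exact this.symm
    rw [this, hu', hq0]
  obtain ⟨w'', hw''⟩ := (hex u').mp hq1
  have hinj : Function.Injective (LinearMap.lTensor N I.subtype) :=
    Module.Flat.lTensor_preserves_injective_linearMap _ (Submodule.injective_subtype _)
  have hw'eq : w' = y • w'' := by
    apply hinj
    have : LinearMap.lTensor N I.subtype (y • w'') = y • LinearMap.lTensor N I.subtype w'' :=
      (AlgebraTensorModule.lTensor S N I.subtype).map_smul y w''
    rw [this, hw'', hu']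
  rw [hw'eq, map_smul]
  exact smul_quotSMulTop_tensor_eq_zero N y _

end FlatQuot

end Groth.Agent.Lib.Helper67
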