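import Groth.Agent.Lib.Helper67.FlatDepth3

set_option autoImplicit false
set_option linter.style.haveILetI false
set_option linter.unusedSectionVars false

universe u

namespace Groth.Agent.Lib.Helper67

open RingTheory.Sequence LocCoh TensorProduct IsLocalRing
open scoped Pointwise

section Main

variable {R : Type u} {S : Type u} [CommRing R] [CommRing S] [Algebra R S] [IsLocalRing R]
  [IsLocalRing S] [IsNoetherianRing R] [IsNoetherianRing S] [IsLocalHom (algebraMap R S)]

theorem faithfullyFlat_of_flat_of_finite (N : Type u) [AddCommGroup N] [Module S N] [Module R N]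
    [IsScalarTower R S N] [Module.Flat R N] [Module.Finite S N] [Nontrivial N] :
    Module.FaithfullyFlat R N := by
  refine ⟨fun m hm h => ?_⟩
  have hm' : m = maximalIdeal R := IsLocalRing.eq_maximalIdeal hm
  subst hm'
  have h1 := (smul_top_eq_top_iff_map (B := S) N (maximalIdeal R)).mp h
  have h2 : maximalIdeal S • (⊤ : Submodule S N) = ⊤ := by
    have hle : (maximalIdeal R).map (algebraMap R S) • (⊤ : Submodule S N) ≤
        maximalIdeal S • ⊤ := Submodule.smul_mono_left (map_maximalIdeal_le _)
    rw [h1] at hle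
    exact top_le_iff.mp hle
  exact maximalIdeal_smul_top_ne_top N h2

theorem depth_tensor_eq_zero (N : Type u) [AddCommGroup N] [Module S N] [Module R N]
    [IsScalarTower R S N] [Module.Flat R N] [Module.Finite S N]
    (M : Type u) [AddCommGroup M] [Module R M] [Module.Finite R M]
    (hM : depth R M = 0) (hN : depth S (N ⊗[R] (R ⧸ maximalIdeal R)) = 0) :
    depth S (N ⊗[R] M) = 0 := by
  haveI : Module.Finite S (N ⊗[R] M) := finite_tensor N M
  haveI : Module.Finite S (N ⊗[R] (R ⧸ maximalIdeal R)) := finite_tensor N (R ⧸ maximalIdeal R)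
  rw [depth_eq_zero_iff] at hM hN ⊢
  obtain ⟨-, ι, hι⟩ := (isAssociatedPrime_iff_exists_injective_linearMap _ _).mp hM
  have hinj : Function.Injective (AlgebraTensorModule.lTensor S N ι) := by
    rw [AlgebraTensorModule.coe_lTensor]
    exact Module.Flat.lTensor_preserves_injective_linearMap _ hι
  exact associatedPrimes.subset_of_injective hinj hN

theorem enat_add_one_cancel {a b : ℕ∞} (h : a + 1 = b + 1) : a = b :=
  ENat.add_left_injective_of_ne_top ENat.one_ne_top h

/-- depth formula when `depth M = 0`: induction on the depth of the closed fibre. -/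
theorem depth_tensor_of_depth_zero (M : Type u) [AddCommGroup M] [Module R M] [Module.Finite R M]
    [Nontrivial M] (hM : depth R M = 0) (s : ℕ) :
    ∀ (N : Type u) [AddCommGroup N] [Module S N] [Module R N] [IsScalarTower R S N]
      [Module.Flat R N] [Module.Finite S N] [Nontrivial N],
      depth S (N ⊗[R] (R ⧸ maximalIdeal R)) = s → depth S (N ⊗[R] M) = s := by
  induction s with
  | zero =>
    intro N _ _ _ _ _ _ _ hN
    rw [Nat.cast_zero] at hN ⊢
    exact depth_tensor_eq_zero N M hM hN
  | succ s ih =>
    intro N _ _ _ _ _ _ _ hN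
    haveI : Module.FaithfullyFlat R N := faithfullyFlat_of_flat_of_finite (S := S) N
    haveI : Module.Finite S (N ⊗[R] M) := finite_tensor N M
    haveI : Module.Finite S (N ⊗[R] (R ⧸ maximalIdeal R)) :=
      finite_tensor N (R ⧸ maximalIdeal R)
    haveI : Nontrivial (N ⊗[R] M) := Module.FaithfullyFlat.lTensor_nontrivial R N M
    haveI : Nontrivial (N ⊗[R] (R ⧸ maximalIdeal R)) :=
      Module.FaithfullyFlat.lTensor_nontrivial R N _
    have h1 : 1 ≤ depth S (N ⊗[R] (R ⧸ maximalIdeal R)) := by
      rw [hN]
      exact_mod_cast Nat.succ_le_succ (Nat.zero_le s)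
    rw [depth, one_le_idealDepth_iff] at h1
    rcases h1 with h | ⟨y, hy, hreg⟩
    · exact absurd h (maximalIdeal_smul_top_ne_top _)
    haveI : Module.Flat R (QuotSMulTop y N) := flat_quotSMulTop N y hreg
    haveI : Nontrivial (QuotSMulTop y N) := nontrivial_quotSMulTop_of_mem_maximalIdeal N hy
    have hk : depth S (QuotSMulTop y N ⊗[R] (R ⧸ maximalIdeal R)) + 1 =
        depth S (N ⊗[R] (R ⧸ maximalIdeal R)) :=
      idealDepth_add_one_of_surjective (maximalIdeal S) (quotTensorMap N y (R ⧸ maximalIdeal R))
        (quotTensorMap_surjective N y _) y (ker_quotTensorMap N y _)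
        (maximalIdeal_smul_top_ne_top _) hy hreg
    have hregM : IsSMulRegular (N ⊗[R] M) y := isSMulRegular_tensor_of_finite N y hreg M
    have hM' : depth S (QuotSMulTop y N ⊗[R] M) + 1 = depth S (N ⊗[R] M) :=
      idealDepth_add_one_of_surjective (maximalIdeal S) (quotTensorMap N y M)
        (quotTensorMap_surjective N y _) y (ker_quotTensorMap N y _)
        (maximalIdeal_smul_top_ne_top _) hy hregM
    have hk' : depth S (QuotSMulTop y N ⊗[R] (R ⧸ maximalIdeal R)) = s := by
      rw [hN, Nat.cast_succ] at hk
      exact enat_add_one_cancel hk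
    rw [← hM', ih (QuotSMulTop y N) hk', Nat.cast_succ]

/-- **Depth formula** for flat local homomorphisms (nontrivial case, fibre written as
`N ⊗ R/m`). -/
theorem depth_tensor_eq_add_aux (N : Type u) [AddCommGroup N] [Module S N] [Module R N]
    [IsScalarTower R S N] [Module.Flat R N] [Module.Finite S N] [Nontrivial N] (s : ℕ)
    (hN : depth S (N ⊗[R] (R ⧸ maximalIdeal R)) = s) (r : ℕ) :
    ∀ (M : Type u) [AddCommGroup M] [Module R M] [Module.Finite R M] [Nontrivial M],
      depth R M = r → depth S (N ⊗[R] M) = (r : ℕ∞) + s := by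
  induction r with
  | zero =>
    intro M _ _ _ _ hM
    rw [Nat.cast_zero] at hM
    rw [depth_tensor_of_depth_zero M hM s N hN, Nat.cast_zero, zero_add]
  | succ r ih =>
    intro M _ _ _ _ hM
    haveI : Module.FaithfullyFlat R N := faithfullyFlat_of_flat_of_finite (S := S) N
    haveI : Module.Finite S (N ⊗[R] M) := finite_tensor N M
    haveI : Nontrivial (N ⊗[R] M) := Module.FaithfullyFlat.lTensor_nontrivial R N M
    have h1 : 1 ≤ depth R M := by
      rw [hM]
      exact_mod_cast Nat.succ_le_succ (Nat.zero_le r)
    rw [depth, one_le_idealDepth_iff] at h1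
    rcases h1 with h | ⟨x, hx, hreg⟩
    · exact absurd h (maximalIdeal_smul_top_ne_top _)
    haveI : Nontrivial (QuotSMulTop x M) := nontrivial_quotSMulTop_of_mem_maximalIdeal M hx
    have hMq : depth R (QuotSMulTop x M) + 1 = depth R M :=
      idealDepth_quotSMulTop_add_one (maximalIdeal R) M (maximalIdeal_smul_top_ne_top M) x hx hreg
    have hMq' : depth R (QuotSMulTop x M) = r := by
      rw [hM, Nat.cast_succ] at hMq
      exact enat_add_one_cancel hMq
    have hregT : IsSMulRegular (N ⊗[R] M) (algebraMap R S x) :=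
      (isSMulRegular_algebraMap_iff (N ⊗[R] M) x).mpr (hreg.lTensor N)
    have hxS : algebraMap R S x ∈ maximalIdeal S :=
      map_maximalIdeal_le (algebraMap R S) (Ideal.mem_map_of_mem _ hx)
    have hsurj : Function.Surjective (AlgebraTensorModule.lTensor S N
        (Submodule.mkQ (x • (⊤ : Submodule R M)))) := by
      rw [AlgebraTensorModule.coe_lTensor]
      exact LinearMap.lTensor_surjective N (Submodule.mkQ_surjective _)
    have hT : depth S (N ⊗[R] QuotSMulTop x M) + 1 = depth S (N ⊗[R] M) :=
      idealDepth_add_one_of_surjective (maximalIdeal S) _ hsurj (algebraMap R S x)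
        (ker_lTensor_mkQ N M x) (maximalIdeal_smul_top_ne_top _) hxS hregT
    rw [← hT, ih (QuotSMulTop x M) hMq', Nat.cast_succ]
    ring

end Main

end Groth.Agent.Lib.Helper67
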