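import Groth.Agent.Lib.Helper67.FlatDepth5

set_option autoImplicit false
set_option linter.style.haveILetI false
set_option linter.unusedSectionVars false

universe u v w

namespace Groth.Agent.Lib.Helper67

open RingTheory.Sequence LocCoh TensorProduct IsLocalRing
open scoped Pointwise

section FinLenDepth

variable {S : Type u} [CommRing S] [IsLocalRing S] [IsNoetherianRing S]

theorem depth_eq_zero_of_isFiniteLength (T : Type v) [AddCommGroup T] [Module S T]
    [Module.Finite S T] [Nontrivial T] (h : IsFiniteLength S T) : depth S T = 0 := by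
  rw [depth_eq_zero_iff]
  obtain ⟨p, hp⟩ := associatedPrimes.nonempty S T
  obtain ⟨hpp, f, hf⟩ := (isAssociatedPrime_iff_exists_injective_linearMap p T).mp hp
  have hfl : IsFiniteLength S (S ⧸ p) := h.of_injective hf
  have hart : IsArtinian S (S ⧸ p) := (isFiniteLength_iff_isNoetherian_isArtinian.mp hfl).2
  haveI : IsArtinianRing (S ⧸ p) := isArtinian_of_tower S hart
  haveI : IsDomain (S ⧸ p) := Ideal.Quotient.isDomain p
  have hmax : p.IsMaximal :=
    Ideal.Quotient.maximal_of_isField p (IsArtinianRing.isField_of_isDomain (S ⧸ p))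
  rw [← IsLocalRing.eq_maximalIdeal hmax]
  exact hp

end FinLenDepth

end Groth.Agent.Lib.Helper67
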