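import Groth.Agent.Lib.Helper67.FlatDepth8

set_option autoImplicit false
set_option linter.style.haveILetI false
set_option linter.unusedSectionVars false

universe u v w

namespace Groth.Agent.Lib.Helper67

open RingTheory.Sequence LocCoh TensorProduct IsLocalRing
open scoped Pointwise

section RegSeq

variable {R : Type u} {S : Type u} [CommRing R] [CommRing S] [Algebra R S] [IsLocalRing R]
  [IsLocalRing S] [IsNoetherianRing R] [IsNoetherianRing S] [IsLocalHom (algebraMap R S)]

/-- A sequence which is weakly regular on the closed fibre `N ⊗ k` is weakly regular on `N ⊗ M`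
for every finite `M` (`N` finite over `S`, flat over `R`). -/
theorem isWeaklyRegular_tensor_of_fibre (M : Type u) [AddCommGroup M] [Module R M]
    [Module.Finite R M] (ys : List S) :
    ∀ (N : Type u) [AddCommGroup N] [Module S N] [Module R N] [IsScalarTower R S N]
      [Module.Flat R N] [Module.Finite S N],
      IsWeaklyRegular (N ⊗[R] (R ⧸ maximalIdeal R)) ys → IsWeaklyRegular (N ⊗[R] M) ys := by
  induction ys with
  | nil => intro N _ _ _ _ _ _ _; exact IsWeaklyRegular.nil S _
  | cons y ys ih =>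
    intro N _ _ _ _ _ _ h
    rw [isWeaklyRegular_cons_iff] at h ⊢
    obtain ⟨hy, hys⟩ := h
    haveI : Module.Flat R (QuotSMulTop y N) := flat_quotSMulTop N y hy
    refine ⟨isSMulRegular_tensor_of_finite N y hy M, ?_⟩
    let e1 := quotSMulTopEquivOfSurjective (quotTensorMap (R := R) N y (R ⧸ maximalIdeal R))
      (quotTensorMap_surjective N y _) y (ker_quotTensorMap N y _)
    let e2 := quotSMulTopEquivOfSurjective (quotTensorMap (R := R) N y M)
      (quotTensorMap_surjective N y _) y (ker_quotTensorMap N y _)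
    have h1 := (e1.isWeaklyRegular_congr ys).mp hys
    exact (e2.isWeaklyRegular_congr ys).mpr (ih (QuotSMulTop y N) h1)

/-- `grade(I, N ⊗ k) ≤ grade(I, N ⊗ M)` for `M ≠ 0` finite, `I` a proper ideal. -/
theorem idealDepth_fibre_le_idealDepth_tensor (N : Type u) [AddCommGroup N] [Module S N]
    [Module R N] [IsScalarTower R S N] [Module.Flat R N] [Module.Finite S N] [Nontrivial N]
    (M : Type u) [AddCommGroup M] [Module R M] [Module.Finite R M]
    (I : Ideal S) (hI : I ≠ ⊤) :
    idealDepth I (N ⊗[R] (R ⧸ maximalIdeal R)) ≤ idealDepth I (N ⊗[R] M) := by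
  haveI : Module.FaithfullyFlat R N := faithfullyFlat_of_flat_of_finite (S := S) N
  haveI : Module.Finite S (N ⊗[R] (R ⧸ maximalIdeal R)) :=
    finite_tensor N (R ⧸ maximalIdeal R)
  haveI : Nontrivial (N ⊗[R] (R ⧸ maximalIdeal R)) :=
    Module.FaithfullyFlat.lTensor_nontrivial R N _
  rw [← ENat.forall_natCast_le_iff_le]
  intro n hn
  rw [le_idealDepth_iff] at hn
  rcases hn with h | ⟨ys, hlen, hreg, hmem⟩
  · exfalso
    have hle : I • (⊤ : Submodule S (N ⊗[R] (R ⧸ maximalIdeal R))) ≤ maximalIdeal S • ⊤ :=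
      Submodule.smul_mono_left (IsLocalRing.le_maximalIdeal hI)
    rw [h] at hle
    exact maximalIdeal_smul_top_ne_top _ (top_le_iff.mp hle)
  · have h2 := isWeaklyRegular_tensor_of_fibre M ys N hreg
    have h3 := length_le_idealDepth I (N ⊗[R] M) ys h2 hmem
    rw [hlen] at h3
    exact h3

/-- Stacks-type inequality for a flat local hom with CM closed fibre:
`dim (S/mS) ≤ dim (S/(mS + I)) + grade(I, S)`. -/
theorem ringKrullDim_fibre_le_add_idealDepth_of_CM_fibre [Module.Flat R S]
    (hCM : IsCohenMacaulayLocalRing (S ⧸ (maximalIdeal R).map (algebraMap R S)))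
    (I : Ideal S) (hI : I ≠ ⊤) :
    ringKrullDim (S ⧸ (maximalIdeal R).map (algebraMap R S)) ≤
      ringKrullDim (S ⧸ ((maximalIdeal R).map (algebraMap R S) ⊔ I)) +
        ((idealDepth I S : ℕ∞) : WithBot ℕ∞) := by
  set mS := (maximalIdeal R).map (algebraMap R S) with hmS
  haveI : IsLocalRing (S ⧸ mS) := hCM.toIsLocalRing
  haveI : IsNoetherianRing (S ⧸ mS) := inferInstance
  set J := I.map (Ideal.Quotient.mk mS) with hJdef
  have hmSle : mS ≤ maximalIdeal S := IsLocalRing.map_maximalIdeal_le (algebraMap R S)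
  have hJ : J ≠ ⊤ := by
    intro h
    have h1 : (1 : S ⧸ mS) ∈ J := by rw [h]; trivial
    rw [hJdef, ← map_one (Ideal.Quotient.mk mS),
      Ideal.mem_map_iff_of_surjective _ Ideal.Quotient.mk_surjective] at h1
    obtain ⟨x, hx, hx1⟩ := h1
    rw [Ideal.Quotient.eq] at hx1
    have h2 : x - 1 ∈ maximalIdeal S := hmSle hx1
    have h3 := (maximalIdeal S).sub_mem (IsLocalRing.le_maximalIdeal hI hx) h2
    rw [sub_sub_cancel] at h3
    exact (maximalIdeal.isMaximal S).ne_top ((Ideal.eq_top_iff_one _).mpr h3)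
  have h1 := supportDim_eq_add_idealDepth_of_CM (R := S ⧸ mS) (S ⧸ mS)
    hCM.supportDim_eq_depth J hJ
  have hJtop : J • (⊤ : Submodule (S ⧸ mS) (S ⧸ mS)) = J := by
    rw [smul_eq_mul, Ideal.mul_top]
  have h5 : Module.supportDim (S ⧸ mS) ((S ⧸ mS) ⧸ J • (⊤ : Submodule (S ⧸ mS) (S ⧸ mS))) =
      ringKrullDim (S ⧸ (mS ⊔ I)) := by
    rw [Module.supportDim_eq_of_equiv (Submodule.quotEquivOfEq _ _ hJtop),
      Module.supportDim_quotient_eq_ringKrullDim]
    exact ringKrullDim_eq_of_ringEquiv (DoubleQuot.quotQuotEquivQuotSup mS I)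
  have h2 : idealDepth J (S ⧸ mS) = idealDepth I (S ⧸ mS) :=
    (idealDepth_eq_idealDepth_map_of_finite (A := S) (B := S ⧸ mS) I (S ⧸ mS)).symm
  have hmStop : mS • (⊤ : Submodule S S) = mS := by
    rw [smul_eq_mul, Ideal.mul_top]
  have h3 : idealDepth I (S ⧸ mS) = idealDepth I (S ⊗[R] (R ⧸ maximalIdeal R)) :=
    idealDepth_congr I ((Submodule.quotEquivOfEq _ _ hmStop).symm ≪≫ₗ
      fibreEquiv S (maximalIdeal R))
  have h4 : idealDepth I (S ⊗[R] (R ⧸ maximalIdeal R)) ≤ idealDepth I S := by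
    have := idealDepth_fibre_le_idealDepth_tensor (R := R) S R I hI
    rwa [idealDepth_congr I (AlgebraTensorModule.rid R S S)] at this
  rw [Module.supportDim_self_eq_ringKrullDim, h5, h2, h3] at h1
  rw [h1]
  gcongr
  exact_mod_cast h4

end RegSeq

end Groth.Agent.Lib.Helper67
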