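import Mathlib
import Groth.Agent.Lib.Helper67.FibreGR2
import Groth.Agent.Lib.Helper56.FibreCM
import Groth.Agent.S0543

/-!
# G-rings via generic formal fibres of the local domains `(R/q)_p`
-/

set_option autoImplicit false
set_option linter.unusedSectionVars false
set_option linter.style.haveILetI false
universe u
open TensorProduct IsLocalRing

namespace Groth.Agent.Lib.Helper67.GRingQuot

open Groth.Agent.Lib.Helper56

section Sigma

variable (R : Type u) [CommRing R] (q p : Ideal R) [q.IsPrime] [p.IsPrime] (P : Ideal (R ⧸ q))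
  [P.IsPrime] (hPp : P.comap (Ideal.Quotient.mk q) = p)

include hPp in
theorem algebraMapSubmonoid_eq :
    Algebra.algebraMapSubmonoid (R ⧸ q) p.primeCompl = P.primeCompl := by
  ext x
  constructor
  · rintro ⟨r, hr, rfl⟩
    intro h
    apply hr
    rw [← hPp]
    exact h
  · intro hx
    obtain ⟨r, rfl⟩ := Ideal.Quotient.mk_surjective x
    refine ⟨r, fun h => hx ?_, rfl⟩
    rw [← hPp] at h
    exact h

/-- `R_p / q R_p ≃ (R/q)_P`. -/
noncomputable def sigma :
    (Localization.AtPrime p ⧸ q.map (algebraMap R (Localization.AtPrime p))) ≃+*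
      Localization.AtPrime P := by
  haveI h0 : IsLocalization (Algebra.algebraMapSubmonoid (R ⧸ q) p.primeCompl)
      (Localization.AtPrime p ⧸ q.map (algebraMap R (Localization.AtPrime p))) := inferInstance
  haveI : IsLocalization P.primeCompl
      (Localization.AtPrime p ⧸ q.map (algebraMap R (Localization.AtPrime p))) := by
    rw [← algebraMapSubmonoid_eq R q p P hPp]
    exact h0
  exact (IsLocalization.algEquiv P.primeCompl
    (Localization.AtPrime p ⧸ q.map (algebraMap R (Localization.AtPrime p)))
    (Localization.AtPrime P)).toRingEquiv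

end Sigma

section Main

variable (R : Type u) [CommRing R]

theorem forward (hR : CAlg.IsGRing R) (q : Ideal R) [q.IsPrime] (P : Ideal (R ⧸ q)) [P.IsPrime] :
    CAlg.IsGeometricallyRegular (⊥ : Ideal (Localization.AtPrime P)).ResidueField
      (EGA4.formalFibre (Localization.AtPrime P) (⊥ : Ideal (Localization.AtPrime P))) := by
  haveI := hR.1
  let p : Ideal R := P.comap (Ideal.Quotient.mk q)
  haveI : p.IsPrime := Ideal.comap_isPrime _ _
  let A := Localization.AtPrime p
  haveI : IsNoetherianRing A := IsLocalization.isNoetherianRing p.primeCompl _ inferInstance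
  let I : Ideal A := q.map (algebraMap R A)
  let σ := sigma R q p P rfl
  haveI : Nontrivial (A ⧸ I) := σ.symm.injective.nontrivial
  have h1 : CAlg.IsRegularHom (A ⧸ I) (EGA4.Cpl (A ⧸ I)) := isRegularHom_cpl_quot A I (hR.2 p)
  have h2 := Groth.Agent.S7414.isRegularHom_completion_of_ringEquiv σ h1
  exact (h2.2 ⊥).2

theorem backward [IsNoetherianRing R]
    (H : ∀ (q : Ideal R) [q.IsPrime] (P : Ideal (R ⧸ q)) [P.IsPrime],
      CAlg.IsGeometricallyRegular (⊥ : Ideal (Localization.AtPrime P)).ResidueField
        (EGA4.formalFibre (Localization.AtPrime P) (⊥ : Ideal (Localization.AtPrime P)))) :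
    CAlg.IsGRing R := by
  refine ⟨inferInstance, fun p _ => ?_⟩
  let A := Localization.AtPrime p
  haveI : IsNoetherianRing A := IsLocalization.isNoetherianRing p.primeCompl _ inferInstance
  haveI : IsNoetherianRing (EGA4.Cpl A) := Groth.Agent.S0543.result A _
  refine ⟨inferInstance, fun Q _ => ⟨isNoetherianRing_fiber A (EGA4.Cpl A) Q, ?_⟩⟩
  let q : Ideal R := Q.comap (algebraMap R A)
  haveI : q.IsPrime := Ideal.comap_isPrime _ _
  have hqp : q ≤ p := by
    have h1 : Q ≤ maximalIdeal A := IsLocalRing.le_maximalIdeal (Ideal.IsPrime.ne_top inferInstance)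
    have h2 : q ≤ (maximalIdeal A).comap (algebraMap R A) :=
      Ideal.comap_mono (f := algebraMap R A) h1
    have h3 : (maximalIdeal A).comap (algebraMap R A) = p :=
      IsLocalization.AtPrime.under_maximalIdeal A p
    rwa [h3] at h2
  let P : Ideal (R ⧸ q) := p.map (Ideal.Quotient.mk q)
  haveI : P.IsPrime := Ideal.map_isPrime_of_surjective Ideal.Quotient.mk_surjective
    (by rw [Ideal.mk_ker]; exact hqp)
  have hPp : P.comap (Ideal.Quotient.mk q) = p := by
    rw [Ideal.comap_map_of_surjective _ Ideal.Quotient.mk_surjective, ← RingHom.ker_eq_comap_bot,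
      Ideal.mk_ker, sup_eq_left.mpr hqp]
  let I : Ideal A := q.map (algebraMap R A)
  have hIQ : I = Q := IsLocalization.map_under p.primeCompl A Q
  let σ := sigma R q p P hPp
  haveI : Nontrivial (A ⧸ I) := σ.symm.injective.nontrivial
  have h0 := H q P
  let Q1 : Ideal (A ⧸ I) := (⊥ : Ideal (Localization.AtPrime P)).comap σ.toRingHom
  haveI : Q1.IsPrime := Ideal.comap_isPrime _ _
  have h1 : CAlg.IsGeometricallyRegular Q1.ResidueField (EGA4.formalFibre (A ⧸ I) Q1) :=
    (FibreGR.geomReg_formalFibre_of_ringEquiv σ ⊥ Q1 rfl).mp h0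
  have hQ : Q = Q1.comap (algebraMap A (A ⧸ I)) := by
    ext a
    rw [Ideal.mem_comap, Ideal.mem_comap, Ideal.mem_bot]
    show _ ↔ σ (Ideal.Quotient.mk I a) = 0
    rw [map_eq_zero_iff σ σ.injective, Ideal.Quotient.eq_zero_iff_mem, hIQ]
  exact (FibreGR.geomReg_formalFibre_quot_iff A I Q1 Q hQ).mp h1

end Main

end Groth.Agent.Lib.Helper67.GRingQuot
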