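import Mathlib
import Groth.Prelude.Def_CAlg2
import Groth.Agent.Lib.Helper87.GULocalize
import Groth.Agent.Lib.Helper87.BranchTensor
import Groth.Agent.Lib.Helper87.MinPrimesLoc

/-!
# The normalization `R → normRed R` is integral and birational (helper67)

For any ring `R`, the map `R → normRed R` (integral closure of `R_red` in its total ring of
fractions) satisfies helper87's `BirRing`.  When `R` has finitely many minimal primes all local
rings of `normRed R` are normal domains, so `R_p` is geometrically unibranch iff there is a unique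
prime of `normRed R` over `p` and its residue field is purely inseparable over that of `p`.
-/

set_option autoImplicit false
set_option linter.style.haveILetI false
universe u

namespace Groth.Agent.Lib.Helper67.GUCons

open Groth.Agent.Lib.Helper87 Groth.Agent.Lib.Helper87.Unibranch
  Groth.Agent.Lib.Helper87.GUIntegral Groth.Agent.Lib.Helper87.GUModel
  Groth.Agent.Lib.Helper87.GeomUnibranchSmooth

section Bir

variable (R : Type u) [CommRing R]

theorem algebraMap_red_normRed_injective' :
    Function.Injective (algebraMap (CAlg2.red R) (CAlg2.normRed R)) := by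
  intro x y hxy
  have h1 := congrArg Subtype.val hxy
  exact IsFractionRing.injective (CAlg2.red R) (FractionRing (CAlg2.red R)) h1

theorem ker_algebraMap_normRed' :
    RingHom.ker (algebraMap R (CAlg2.normRed R)) = nilradical R := by
  ext b
  rw [RingHom.mem_ker, IsScalarTower.algebraMap_apply R (CAlg2.red R) (CAlg2.normRed R),
    map_eq_zero_iff _ (algebraMap_red_normRed_injective' R)]
  exact Ideal.Quotient.eq_zero_iff_mem

/-- the elements of `R` whose class in `R_red` is a non-zero-divisor -/
def nzd : Submonoid R :=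
  (nonZeroDivisors (CAlg2.red R)).comap (Ideal.Quotient.mk (nilradical R))

theorem exists_denom (b : CAlg2.normRed R) : ∃ s ∈ nzd R, ∃ a : R,
    algebraMap R (CAlg2.normRed R) s * b = algebraMap R (CAlg2.normRed R) a := by
  obtain ⟨⟨a', t⟩, h⟩ := IsLocalization.surj (nonZeroDivisors (CAlg2.red R))
    (b : FractionRing (CAlg2.red R))
  obtain ⟨a, rfl⟩ := Ideal.Quotient.mk_surjective a'
  obtain ⟨s, hs⟩ := Ideal.Quotient.mk_surjective (t : CAlg2.red R)
  refine ⟨s, ?_, a, ?_⟩
  · show Ideal.Quotient.mk _ s ∈ nonZeroDivisors _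
    rw [hs]; exact t.2
  · apply Subtype.ext
    show algebraMap (CAlg2.red R) (FractionRing (CAlg2.red R)) (Ideal.Quotient.mk _ s) * b.1 =
      algebraMap (CAlg2.red R) (FractionRing (CAlg2.red R)) (Ideal.Quotient.mk _ a)
    rw [hs, mul_comm]
    exact h

theorem notMem_of_mem_nzd {P : Ideal R} (hP : P ∈ minimalPrimes R) {s : R} (hs : s ∈ nzd R) :
    s ∉ P := by
  intro hsP
  have hP' : P ∈ (nilradical R).minimalPrimes := by
    rw [nilradical, Ideal.radical_minimalPrimes]; exact hP
  obtain ⟨y, hy, hxy⟩ := Ideal.exists_mul_mem_of_mem_minimalPrimes hP' hsP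
  have h1 : Ideal.Quotient.mk (nilradical R) s * Ideal.Quotient.mk (nilradical R) y = 0 := by
    rw [← map_mul]; exact Ideal.Quotient.eq_zero_iff_mem.mpr hxy
  have h2 : Ideal.Quotient.mk (nilradical R) y = 0 :=
    (mem_nonZeroDivisors_iff.mp hs).1 _ h1
  exact hy (Ideal.Quotient.eq_zero_iff_mem.mp h2)

theorem algebraMap_mem_nonZeroDivisors {s : R} (hs : s ∈ nzd R) :
    algebraMap R (CAlg2.normRed R) s ∈ nonZeroDivisors (CAlg2.normRed R) := by
  rw [mem_nonZeroDivisors_iff_right]
  intro x hx
  have h1 : x.1 * algebraMap (CAlg2.red R) (FractionRing (CAlg2.red R))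
      (Ideal.Quotient.mk _ s) = 0 := congrArg Subtype.val hx
  have hu : IsUnit (algebraMap (CAlg2.red R) (FractionRing (CAlg2.red R))
      (Ideal.Quotient.mk _ s)) :=
    IsLocalization.map_units (FractionRing (CAlg2.red R))
      (⟨Ideal.Quotient.mk _ s, hs⟩ : nonZeroDivisors (CAlg2.red R))
  apply Subtype.ext
  exact (hu.mul_left_eq_zero).mp h1

theorem bijOn_comap_minimalPrimes :
    Set.BijOn (fun P : Ideal (CAlg2.normRed R) => P.comap (algebraMap R (CAlg2.normRed R)))
      (minimalPrimes (CAlg2.normRed R)) (minimalPrimes R) :=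
  MinPrimesLoc.bijOn_comap_minimalPrimes (algebraMap R (CAlg2.normRed R)) (nzd R)
    (exists_denom R) (ker_algebraMap_normRed' R).le
    (fun _ hq _ hs => notMem_of_mem_nzd R hq hs)
    (fun _ hP _ hs hmem =>
      notMem_nonZeroDivisors_of_mem_mem_minimalPrimes hmem hP (algebraMap_mem_nonZeroDivisors R hs))

theorem birRing_normRed : BirRing R (CAlg2.normRed R) where
  k1 := by
    intro P hP
    obtain ⟨Q, hQ, hQP⟩ := (bijOn_comap_minimalPrimes R).surjOn hP
    exact ⟨Q, hQ.1.1, hQP⟩
  k2 := by
    intro Q Q' hQ hQ' hmin hcomap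
    have key : ∀ Q₁ Q₂ : Ideal (CAlg2.normRed R), Q₁.IsPrime → Q₂.IsPrime →
        Q₁.comap (algebraMap R (CAlg2.normRed R)) ∈ minimalPrimes R →
        Q₂.comap (algebraMap R (CAlg2.normRed R)) = Q₁.comap (algebraMap R (CAlg2.normRed R)) →
        Q₁ ≤ Q₂ := by
      intro Q₁ Q₂ h₁ h₂ hmin hc b hb
      obtain ⟨s, hs, a, hsa⟩ := exists_denom R b
      have ha : a ∈ Q₁.comap (algebraMap R (CAlg2.normRed R)) := by
        rw [Ideal.mem_comap, ← hsa]; exact Q₁.mul_mem_left _ hb
      rw [← hc, Ideal.mem_comap, ← hsa] at ha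
      have hs' : algebraMap R (CAlg2.normRed R) s ∉ Q₂ := by
        intro h
        have : s ∈ Q₂.comap (algebraMap R (CAlg2.normRed R)) := h
        rw [hc] at this
        exact notMem_of_mem_nzd R hmin hs this
      exact (h₂.mem_or_mem ha).resolve_left hs'
    exact le_antisymm (key Q' Q hQ' hQ (hcomap ▸ hmin) hcomap.symm) (key Q Q' hQ hQ' hmin hcomap)
  k3 := fun Q hQ => (bijOn_comap_minimalPrimes R).mapsTo hQ
  k4 := by
    intro Q hQ hmin b
    obtain ⟨s, hs, a, hsa⟩ := exists_denom R b
    exact ⟨a, s, notMem_of_mem_nzd R hmin hs, by rw [hsa, sub_self]; exact Q.zero_mem⟩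

end Bir

section GU

/-- An integrally closed local domain is geometrically unibranch (copy of helper87's
`FiniteOpenRing.isGeomUnibranch_of_isIntegrallyClosed`, to avoid its heavy imports). -/
theorem isGeomUnibranch_of_isIntegrallyClosed' (D : Type u) [CommRing D] [IsLocalRing D]
    [IsDomain D] [IsIntegrallyClosed D] : CAlg2.IsGeomUnibranch D := by
  have hM : Groth.Agent.Lib.Helper87.GUModel.IsModel D D :=
    { isIntegrallyClosed := inferInstance
      isIntegral := ⟨fun x => isIntegral_algebraMap⟩
      ker_eq := by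
        rw [nilradical_eq_zero]
        exact (RingHom.injective_iff_ker_eq_bot _).mp Function.injective_id
      frac := fun x => ⟨x, 1, by simp, by simp⟩ }
  rw [Groth.Agent.Lib.Helper87.GUModel.isGeomUnibranch_iff_of_isModel hM]
  refine ⟨inferInstance, ?_⟩
  intro M _ x
  obtain ⟨a, rfl⟩ := Ideal.Quotient.mk_surjective x
  exact ⟨0, a, by simp⟩

variable (R : Type u) [CommRing R]

theorem pgu_localization_normRed (hfin : (minimalPrimes R).Finite) (q : Ideal (CAlg2.normRed R))
    [q.IsPrime] : PGU (Localization.AtPrime q) := by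
  obtain ⟨hd, hic⟩ := BranchTensor.normRed_localization R hfin q
  haveI := hd
  haveI := hic
  exact ⟨inferInstance, isGeomUnibranch_of_isIntegrallyClosed' _⟩

/-- `R_p` is geometrically unibranch iff a unique prime of the normalization lies over `p` and
its residue field is purely inseparable over that of `p`. -/
theorem pgu_atPrime_normRed_iff (hfin : (minimalPrimes R).Finite) (p : Ideal R) [p.IsPrime] :
    PGU (Localization.AtPrime p) ↔
      (∀ q q' : Ideal (CAlg2.normRed R), q.IsPrime → q'.IsPrime →
        q.comap (algebraMap R (CAlg2.normRed R)) = p →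
        q'.comap (algebraMap R (CAlg2.normRed R)) = p → q = q') ∧
      ∀ (q : Ideal (CAlg2.normRed R)) [q.IsPrime]
        (hq : p = q.comap (algebraMap R (CAlg2.normRed R))),
        PIelem (Localization.localRingHom p q (algebraMap R (CAlg2.normRed R)) hq) := by
  rw [pgu_atPrime_iff p (birRing_normRed R)]
  constructor
  · rintro ⟨h1, h2⟩
    exact ⟨h1, fun q _ hq => (h2 q hq).1⟩
  · rintro ⟨h1, h2⟩
    exact ⟨h1, fun q _ hq => ⟨h2 q hq, pgu_localization_normRed R hfin q⟩⟩

end GU

end Groth.Agent.Lib.Helper67.GUCons
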