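import Mathlib

/-!
# Radicial fibres of a ring map at a prime, via homs to fields and via the diagonal (helper67)

For an `R`-algebra `S` and a prime `p` of `R`, `RadAt p` says that two ring maps from `S` to a field
that agree on `R` and have kernel `p` on `R` are equal.  It is equivalent to: there is at most
one prime of `S` over `p`, and the residue field extensions are purely inseparable
(`radAt_iff`); and to: every prime of `S ⊗[R] S` over `p` contains all `s ⊗ 1 - 1 ⊗ s`
(`radAt_iff_diag`).
-/

set_option autoImplicit false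
set_option linter.style.haveILetI false
universe u

open TensorProduct

namespace Groth.Agent.Lib.Helper67.GUCons

variable {R S : Type u} [CommRing R] [CommRing S] [Algebra R S] (p : Ideal R) [p.IsPrime]

variable (S) in
/-- two ring maps from `S` to a field agreeing on `R`, with kernel `p` on `R`, are equal -/
def RadAt : Prop :=
  ∀ (Ω : Type u) [Field Ω] (σ τ : S →+* Ω), σ.comp (algebraMap R S) = τ.comp (algebraMap R S) →
    RingHom.ker (σ.comp (algebraMap R S)) = p → σ = τ

theorem eq_of_radAt (h : RadAt S p) (q q' : Ideal S) [q.IsPrime] [q'.IsPrime]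
    (hq : p = q.comap (algebraMap R S)) (hq' : p = q'.comap (algebraMap R S)) : q = q' := by
  let m1 := Ideal.ResidueField.map p q (algebraMap R S) hq
  let m2 := Ideal.ResidueField.map p q' (algebraMap R S) hq'
  letI := m1.toAlgebra
  letI := m2.toAlgebra
  haveI : Nontrivial (q.ResidueField ⊗[p.ResidueField] q'.ResidueField) := inferInstance
  obtain ⟨M, hM⟩ := Ideal.exists_maximal (q.ResidueField ⊗[p.ResidueField] q'.ResidueField)
  letI : Field ((q.ResidueField ⊗[p.ResidueField] q'.ResidueField) ⧸ M) := Ideal.Quotient.field M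
  let j1 : q.ResidueField →+* (q.ResidueField ⊗[p.ResidueField] q'.ResidueField) ⧸ M :=
    (Ideal.Quotient.mk M).comp (Algebra.TensorProduct.includeLeft :
      q.ResidueField →ₐ[p.ResidueField] q.ResidueField ⊗[p.ResidueField] q'.ResidueField).toRingHom
  let j2 : q'.ResidueField →+* (q.ResidueField ⊗[p.ResidueField] q'.ResidueField) ⧸ M :=
    (Ideal.Quotient.mk M).comp (Algebra.TensorProduct.includeRight :
      q'.ResidueField →ₐ[p.ResidueField] q.ResidueField ⊗[p.ResidueField] q'.ResidueField).toRingHom
  have hj : ∀ a : p.ResidueField, j1 (m1 a) = j2 (m2 a) := by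
    intro a
    show Ideal.Quotient.mk M ((Algebra.TensorProduct.includeLeft :
      q.ResidueField →ₐ[p.ResidueField] q.ResidueField ⊗[p.ResidueField] q'.ResidueField)
        (algebraMap p.ResidueField q.ResidueField a)) =
      Ideal.Quotient.mk M ((Algebra.TensorProduct.includeRight :
      q'.ResidueField →ₐ[p.ResidueField] q.ResidueField ⊗[p.ResidueField] q'.ResidueField)
        (algebraMap p.ResidueField q'.ResidueField a))
    rw [AlgHom.commutes, AlgHom.commutes]
  let σ := j1.comp (algebraMap S q.ResidueField)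
  let τ := j2.comp (algebraMap S q'.ResidueField)
  have e1 : ∀ r : R, σ (algebraMap R S r) = j1 (m1 (algebraMap R p.ResidueField r)) := by
    intro r
    show j1 (algebraMap S q.ResidueField (algebraMap R S r)) = _
    rw [Ideal.ResidueField.map_algebraMap p q (algebraMap R S) hq]
  have e2 : ∀ r : R, τ (algebraMap R S r) = j2 (m2 (algebraMap R p.ResidueField r)) := by
    intro r
    show j2 (algebraMap S q'.ResidueField (algebraMap R S r)) = _
    rw [Ideal.ResidueField.map_algebraMap p q' (algebraMap R S) hq']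
  have hστ : σ.comp (algebraMap R S) = τ.comp (algebraMap R S) := by
    ext r
    show σ (algebraMap R S r) = τ (algebraMap R S r)
    rw [e1, e2, hj]
  have hker : RingHom.ker (σ.comp (algebraMap R S)) = p := by
    ext r
    rw [RingHom.mem_ker]
    show σ (algebraMap R S r) = 0 ↔ _
    rw [e1, map_eq_zero, map_eq_zero, Ideal.algebraMap_residueField_eq_zero]
  have hστ' := h _ σ τ hστ hker
  have k1 : RingHom.ker σ = q := by
    ext s
    rw [RingHom.mem_ker]
    show j1 (algebraMap S q.ResidueField s) = 0 ↔ _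
    rw [map_eq_zero, Ideal.algebraMap_residueField_eq_zero]
  have k2 : RingHom.ker τ = q' := by
    ext s
    rw [RingHom.mem_ker]
    show j2 (algebraMap S q'.ResidueField s) = 0 ↔ _
    rw [map_eq_zero, Ideal.algebraMap_residueField_eq_zero]
  calc q = RingHom.ker σ := k1.symm
    _ = RingHom.ker τ := by rw [hστ']
    _ = q' := k2

theorem isPurelyInseparable_of_radAt (h : RadAt S p) (q : Ideal S) [q.IsPrime]
    (hq : p = q.comap (algebraMap R S)) :
    (Ideal.ResidueField.map p q (algebraMap R S) hq).IsPurelyInseparable := by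
  let m := Ideal.ResidueField.map p q (algebraMap R S) hq
  letI := m.toAlgebra
  show IsPurelyInseparable p.ResidueField q.ResidueField
  haveI : Nonempty (q.ResidueField →+* AlgebraicClosure q.ResidueField) := ⟨algebraMap _ _⟩
  apply IsPurelyInseparable.of_injective_comp_algebraMap (F := p.ResidueField)
    (E := q.ResidueField) (AlgebraicClosure q.ResidueField)
  intro f g hfg
  have hfg' : ∀ a : p.ResidueField, f (m a) = g (m a) := fun a => congr($hfg a)
  have e : ∀ (f' : q.ResidueField →+* AlgebraicClosure q.ResidueField) (r : R),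
      (f'.comp (algebraMap S q.ResidueField)) (algebraMap R S r) =
        f' (m (algebraMap R p.ResidueField r)) := by
    intro f' r
    show f' (algebraMap S q.ResidueField (algebraMap R S r)) = _
    rw [Ideal.ResidueField.map_algebraMap p q (algebraMap R S) hq]
  apply Ideal.ResidueField.ringHom_ext
  apply h (AlgebraicClosure q.ResidueField)
  · ext r
    show (f.comp (algebraMap S q.ResidueField)) (algebraMap R S r) =
      (g.comp (algebraMap S q.ResidueField)) (algebraMap R S r)
    rw [e, e, hfg']
  · ext r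
    rw [RingHom.mem_ker]
    show (f.comp (algebraMap S q.ResidueField)) (algebraMap R S r) = 0 ↔ _
    rw [e, map_eq_zero, map_eq_zero, Ideal.algebraMap_residueField_eq_zero]

theorem radAt_of_unique_of_isPurelyInseparable
    (huniq : ∀ q q' : Ideal S, q.IsPrime → q'.IsPrime → q.comap (algebraMap R S) = p →
      q'.comap (algebraMap R S) = p → q = q')
    (hpi : ∀ (q : Ideal S) [q.IsPrime] (hq : p = q.comap (algebraMap R S)),
      (Ideal.ResidueField.map p q (algebraMap R S) hq).IsPurelyInseparable) : RadAt S p := by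
  intro Ω _ σ τ hστ hker
  haveI : (RingHom.ker σ).IsPrime := RingHom.ker_isPrime σ
  haveI : (RingHom.ker τ).IsPrime := RingHom.ker_isPrime τ
  have h1 : p = (RingHom.ker σ).comap (algebraMap R S) := by rw [RingHom.comap_ker, hker]
  have h2 : p = (RingHom.ker τ).comap (algebraMap R S) := by rw [RingHom.comap_ker, ← hστ, hker]
  have hqq : RingHom.ker σ = RingHom.ker τ :=
    huniq _ _ inferInstance inferInstance h1.symm h2.symm
  have u1 : (RingHom.ker σ).primeCompl ≤ (IsUnit.submonoid Ω).comap σ := by
    intro s hs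
    show IsUnit (σ s)
    exact isUnit_iff_ne_zero.mpr (fun h0 => hs (RingHom.mem_ker.mpr h0))
  have u2 : (RingHom.ker σ).primeCompl ≤ (IsUnit.submonoid Ω).comap τ := by
    intro s hs
    show IsUnit (τ s)
    refine isUnit_iff_ne_zero.mpr (fun h0 => hs ?_)
    rw [hqq]
    exact RingHom.mem_ker.mpr h0
  let σ' := Ideal.ResidueField.lift (RingHom.ker σ) σ le_rfl u1
  let τ' := Ideal.ResidueField.lift (RingHom.ker σ) τ hqq.le u2
  let m := Ideal.ResidueField.map p (RingHom.ker σ) (algebraMap R S) h1
  have hm : σ'.comp m = τ'.comp m := by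
    apply Ideal.ResidueField.ringHom_ext
    ext r
    show σ' (m (algebraMap R _ r)) = τ' (m (algebraMap R _ r))
    rw [Ideal.ResidueField.map_algebraMap, Ideal.ResidueField.lift_algebraMap,
      Ideal.ResidueField.lift_algebraMap]
    exact congr($hστ r)
  have hpi' := hpi (RingHom.ker σ) h1
  letI := m.toAlgebra
  haveI : IsPurelyInseparable p.ResidueField (RingHom.ker σ).ResidueField := hpi'
  have hστ' : σ' = τ' :=
    IsPurelyInseparable.injective_comp_algebraMap p.ResidueField (RingHom.ker σ).ResidueField Ω hm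
  ext s
  rw [← Ideal.ResidueField.lift_algebraMap (RingHom.ker σ) σ le_rfl u1 s,
    ← Ideal.ResidueField.lift_algebraMap (RingHom.ker σ) τ hqq.le u2 s]
  exact congr($hστ' _)

theorem radAt_iff : RadAt S p ↔
    (∀ q q' : Ideal S, q.IsPrime → q'.IsPrime → q.comap (algebraMap R S) = p →
      q'.comap (algebraMap R S) = p → q = q') ∧
    ∀ (q : Ideal S) [q.IsPrime] (hq : p = q.comap (algebraMap R S)),
      (Ideal.ResidueField.map p q (algebraMap R S) hq).IsPurelyInseparable := by
  constructor
  · intro h
    refine ⟨fun q q' hq hq' h1 h2 => ?_, fun q _ hq => isPurelyInseparable_of_radAt p h q hq⟩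
    haveI := hq
    haveI := hq'
    exact eq_of_radAt p h q q' h1.symm h2.symm
  · rintro ⟨h1, h2⟩
    exact radAt_of_unique_of_isPurelyInseparable p h1 h2

variable (R S) in
/-- the generators `s ⊗ 1 - 1 ⊗ s` of the ideal of the diagonal -/
def diagSet : Set (S ⊗[R] S) := Set.range fun s : S => s ⊗ₜ[R] (1 : S) - (1 : S) ⊗ₜ[R] s

omit [p.IsPrime] in
theorem radAt_iff_diag : RadAt S p ↔
    ∀ Q : Ideal (S ⊗[R] S), Q.IsPrime → Q.comap (algebraMap R (S ⊗[R] S)) = p →
      diagSet R S ⊆ Q := by
  constructor
  · intro h Q hQ hQp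
    haveI := hQ
    let Ω := FractionRing ((S ⊗[R] S) ⧸ Q)
    let π : S ⊗[R] S →+* Ω := (algebraMap ((S ⊗[R] S) ⧸ Q) Ω).comp (Ideal.Quotient.mk Q)
    have hπ : ∀ t, π t = 0 ↔ t ∈ Q := by
      intro t
      show algebraMap ((S ⊗[R] S) ⧸ Q) Ω (Ideal.Quotient.mk Q t) = 0 ↔ _
      rw [map_eq_zero_iff _ (IsFractionRing.injective _ _), Ideal.Quotient.eq_zero_iff_mem]
    let σ : S →+* Ω := π.comp (Algebra.TensorProduct.includeLeft : S →ₐ[R] S ⊗[R] S).toRingHom
    let τ : S →+* Ω := π.comp (Algebra.TensorProduct.includeRight : S →ₐ[R] S ⊗[R] S).toRingHom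
    have e1 : ∀ r : R, σ (algebraMap R S r) = π (algebraMap R (S ⊗[R] S) r) := by
      intro r
      show π ((Algebra.TensorProduct.includeLeft : S →ₐ[R] S ⊗[R] S) (algebraMap R S r)) = _
      rw [AlgHom.commutes]
    have e2 : ∀ r : R, τ (algebraMap R S r) = π (algebraMap R (S ⊗[R] S) r) := by
      intro r
      show π ((Algebra.TensorProduct.includeRight : S →ₐ[R] S ⊗[R] S) (algebraMap R S r)) = _
      rw [AlgHom.commutes]
    have hστ : σ.comp (algebraMap R S) = τ.comp (algebraMap R S) := by
      ext r
      show σ (algebraMap R S r) = τ (algebraMap R S r)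
      rw [e1, e2]
    have hker : RingHom.ker (σ.comp (algebraMap R S)) = p := by
      ext r
      rw [RingHom.mem_ker]
      show σ (algebraMap R S r) = 0 ↔ _
      rw [e1, hπ, ← hQp, Ideal.mem_comap]
    have hστ' := h Ω σ τ hστ hker
    rintro _ ⟨s, rfl⟩
    show _ ∈ Q
    rw [← hπ, map_sub, sub_eq_zero]
    exact congr($hστ' s)
  · intro h Ω _ σ τ hστ hker
    letI : Algebra R Ω := (σ.comp (algebraMap R S)).toAlgebra
    let σₐ : S →ₐ[R] Ω := { σ with commutes' := fun r => rfl }
    let τₐ : S →ₐ[R] Ω := { τ with commutes' := fun r => (congr($hστ r)).symm }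
    let P : S ⊗[R] S →ₐ[R] Ω := Algebra.TensorProduct.productMap σₐ τₐ
    haveI : (RingHom.ker P.toRingHom).IsPrime := RingHom.ker_isPrime _
    have hcomap : (RingHom.ker P.toRingHom).comap (algebraMap R (S ⊗[R] S)) = p := by
      rw [← hker]
      ext r
      rw [Ideal.mem_comap, RingHom.mem_ker, RingHom.mem_ker]
      show P (algebraMap R (S ⊗[R] S) r) = 0 ↔ _
      rw [AlgHom.commutes]
      rfl
    have hsub := h _ inferInstance hcomap
    ext s
    have h1 : s ⊗ₜ[R] (1 : S) - (1 : S) ⊗ₜ[R] s ∈ RingHom.ker P.toRingHom := hsub ⟨s, rfl⟩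
    rw [RingHom.mem_ker] at h1
    have h2 : P (s ⊗ₜ[R] (1 : S) - (1 : S) ⊗ₜ[R] s) = σ s - τ s := by
      rw [map_sub, Algebra.TensorProduct.productMap_apply_tmul,
        Algebra.TensorProduct.productMap_apply_tmul, map_one, map_one, mul_one, one_mul]
      rfl
    exact sub_eq_zero.mp (h2.symm.trans h1)

end Groth.Agent.Lib.Helper67.GUCons
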