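import Mathlib
import Groth.Agent.Lib.Helper67.GUC1
import Groth.Agent.Lib.Helper67.GUC2
import Groth.Agent.Lib.Helper87.GUScheme

/-!
# Constructibility of the geometrically unibranch locus of a Noetherian ring with finite
normalization (helper67)
-/

set_option autoImplicit false
set_option linter.style.haveILetI false
universe u

open TensorProduct Topology

namespace Groth.Agent.Lib.Helper67.GUCons

open Groth.Agent.Lib.Helper87 Groth.Agent.Lib.Helper87.Unibranch
  Groth.Agent.Lib.Helper87.GUIntegral Groth.Agent.Lib.Helper87.GUModel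
  Groth.Agent.Lib.Helper87.GeomUnibranchSmooth

variable (R : Type u) [CommRing R]

theorem pi_iff_pielem {A B : Type u} [CommRing A] [CommRing B] [Algebra A B] (p : Ideal A)
    [p.IsPrime] (q : Ideal B) [q.IsPrime] (hq : p = q.comap (algebraMap A B)) :
    (Ideal.ResidueField.map p q (algebraMap A B) hq).IsPurelyInseparable ↔
      PIelem (A := Localization.AtPrime p) (B := Localization.AtPrime q)
        (Localization.localRingHom p q (algebraMap A B) hq) :=
  @GUScheme.isPurelyInseparable_iff_pielem (Localization.AtPrime p) (Localization.AtPrime q) _ _ _ _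
    (Localization.localRingHom p q (algebraMap A B) hq) _

theorem pgu_atPrime_iff_radAt (hfin : (minimalPrimes R).Finite) (p : Ideal R) [p.IsPrime] :
    PGU (Localization.AtPrime p) ↔ RadAt (CAlg2.normRed R) p := by
  rw [pgu_atPrime_normRed_iff R hfin p, radAt_iff]
  refine and_congr Iff.rfl ?_
  constructor
  · intro h q _ hq
    exact (pi_iff_pielem p q hq).mpr (h q hq)
  · intro h q _ hq
    exact (pi_iff_pielem p q hq).mp (h q hq)

theorem isConstructible_compl_image_compl_zeroLocus {T : Type u} [CommRing T] [Algebra R T]
    [IsNoetherianRing R] [Module.Finite R T] (s : Set T) :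
    IsConstructible (PrimeSpectrum.comap (algebraMap R T) '' (PrimeSpectrum.zeroLocus s)ᶜ)ᶜ := by
  have hfp : (algebraMap R T).FinitePresentation := by
    rw [RingHom.finitePresentation_algebraMap]
    exact (Algebra.FinitePresentation.of_finiteType (R := R) (A := T)).mp inferInstance
  haveI : IsNoetherianRing T := Algebra.FiniteType.isNoetherianRing R T
  have hZ : IsConstructible (PrimeSpectrum.zeroLocus s)ᶜ := by
    rw [← PrimeSpectrum.zeroLocus_span]
    exact (PrimeSpectrum.isRetrocompact_zeroLocus_compl_of_fg
      (IsNoetherian.noetherian _)).isConstructible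
      (PrimeSpectrum.isClosed_zeroLocus _).isOpen_compl
  exact (PrimeSpectrum.isConstructible_comap_image hfp hZ).compl

theorem isConstructible_pgu_locus [IsNoetherianRing R]
    (hfinite : Module.Finite (CAlg2.red R) (CAlg2.normRed R)) :
    IsConstructible {p : PrimeSpectrum R | PGU (Localization.AtPrime p.asIdeal)} := by
  have hfin : (minimalPrimes R).Finite := minimalPrimes.finite_of_isNoetherianRing R
  haveI : Module.Finite R (CAlg2.normRed R) := Module.Finite.trans (CAlg2.red R) (CAlg2.normRed R)
  haveI : Module.Finite R (CAlg2.normRed R ⊗[R] CAlg2.normRed R) := inferInstance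
  have himg := isConstructible_compl_image_compl_zeroLocus R
    (T := CAlg2.normRed R ⊗[R] CAlg2.normRed R) (diagSet R (CAlg2.normRed R))
  convert himg using 1
  ext p
  simp only [Set.mem_ofPred_eq, Set.mem_compl_iff, Set.mem_image, not_exists, not_and]
  rw [pgu_atPrime_iff_radAt R hfin p.asIdeal, radAt_iff_diag]
  constructor
  · intro h Q hQmem hQp
    apply hQmem
    rw [PrimeSpectrum.mem_zeroLocus]
    exact h Q.asIdeal Q.isPrime (congrArg PrimeSpectrum.asIdeal hQp)
  · intro h Q hQ hQp
    by_contra hsub
    exact h ⟨Q, hQ⟩ (fun hz => hsub ((PrimeSpectrum.mem_zeroLocus _ _).mp hz))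
      (PrimeSpectrum.ext hQp)

end Groth.Agent.Lib.Helper67.GUCons
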