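import Mathlib
import Groth.Agent.Lib.Helper67.HensFF2
import Groth.Agent.Lib.Helper67.EquiCat7
import Groth.Agent.Lib.Helper56.PrimeCpl

/-!
# The henselization of a local ring with geometrically normal formal fibres is universally catenary
-/

set_option autoImplicit false
set_option linter.unusedSectionVars false
set_option linter.style.haveILetI false
universe u
open TensorProduct IsLocalRing

namespace Groth.Agent.Lib.Helper67.HensFF

variable (A S : Type u) [CommRing A] [IsLocalRing A] [IsNoetherianRing A]
  [CommRing S] [IsLocalRing S] [Algebra A S] [IsLocalHom (algebraMap A S)]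
  [Hensel.IsHenselization A S]

/-- a Noetherian henselian local ring with geometrically normal formal fibres is formally
catenary. -/
theorem isFormallyCatenary_of_henselian (R : Type u) [CommRing R] [HenselianLocalRing R]
    [IsNoetherianRing R] (h : EGA4.HasGeomNormalFormalFibres R) : EGA4.IsFormallyCatenary R := by
  intro P hP
  have hnt : Nontrivial (R ⧸ P) := Ideal.Quotient.nontrivial_iff.mpr hP.ne_top
  have hint : Algebra.IsIntegral R (R ⧸ P) :=
    Algebra.isIntegral_of_surjective Ideal.Quotient.mk_surjective
  haveI hhens : HenselianLocalRing (R ⧸ P) :=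
    Groth.Agent.Lib.Helper69.HensFinite.henselianLocalRing_of_isIntegral R (R ⧸ P)
  have hq := Groth.Agent.Lib.Helper56.hasGeomNormalFormalFibres_quot R P h
  haveI : IsDomain (R ⧸ P) := Ideal.Quotient.isDomain P
  have hdom : IsDomain (EGA4.Cpl (R ⧸ P)) :=
    Groth.Agent.Lib.Helper56.isDomain_cpl_of_henselian (R ⧸ P) hq
  exact Groth.Agent.Lib.Helper67.EquiCat.isEquidim_of_isDomain _

theorem isUniversallyCatenary_of_isHenselization (hA : EGA4.HasGeomNormalFormalFibres A) :
    CAlg.IsUniversallyCatenary S := by
  haveI hSN : IsNoetherianRing S := (Groth.Agent.S0511.result A S).mp inferInstance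
  haveI hSh : HenselianLocalRing S := Hensel.IsHenselization.henselian A
  have hS := hasGeomNormalFormalFibres_of_isHenselization A S hA
  exact Groth.Agent.Lib.Helper67.EquiCat.isUniversallyCatenary_of_isFormallyCatenary
    (isFormallyCatenary_of_henselian S hS)

end Groth.Agent.Lib.Helper67.HensFF
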