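import Groth.Agent.Lib.Helper67.SuppLoc

/-!
# Ischebeck's theorem (helper67)

`Ext^i(N, M) = 0` for `i < depth M - dim N`.
-/

universe u v w

namespace Groth.Agent.Lib.Helper67

open RingTheory.Sequence LocCoh CategoryTheory CategoryTheory.Abelian

section ExtContra

variable {C : Type*} [Category C] [Abelian C] [HasExt C]

theorem ext_contra_X2_subsingleton {S : ShortComplex C} (hS : S.ShortExact) (Y : C) (n : ℕ)
    (h1 : Subsingleton (Ext S.X₁ Y n)) (h3 : Subsingleton (Ext S.X₃ Y n)) :
    Subsingleton (Ext S.X₂ Y n) := by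
  refine ⟨fun a b => ?_⟩
  suffices h : ∀ x : Ext S.X₂ Y n, x = 0 by rw [h a, h b]
  intro x
  obtain ⟨x₃, hx₃⟩ := Ext.contravariant_sequence_exact₂ hS Y x (Subsingleton.elim _ _)
  rw [← hx₃, Subsingleton.elim x₃ 0, Ext.comp_zero]

end ExtContra

section Isch

variable {R : Type u} [CommRing R] [IsNoetherianRing R] [IsLocalRing R]

omit [IsNoetherianRing R] [IsLocalRing R] in
theorem ext_subsingleton_of_subsingleton_left (N M : Type u) [AddCommGroup N] [Module R N]
    [AddCommGroup M] [Module R M] [Subsingleton N] (i : ℕ) :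
    Subsingleton (Ext (ModuleCat.of R N) (ModuleCat.of R M) i) := by
  refine ⟨fun a b => ?_⟩
  suffices h : ∀ x : Ext (ModuleCat.of R N) (ModuleCat.of R M) i, x = 0 by rw [h a, h b]
  intro x
  have h1 : (1 : R) ∈ Module.annihilator R (ModuleCat.of R N) := by
    rw [Module.mem_annihilator]
    intro m
    exact Subsingleton.elim _ _
  have := ext_smul_eq_zero_of_mem_annihilator_left x h1
  rwa [one_smul] at this

/-- Ischebeck: `Ext^i(N, M) = 0` when `i + dim N < depth M`. -/
theorem ext_subsingleton_of_add_supportDim_lt_depth (M : Type u) [AddCommGroup M] [Module R M]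
    [Module.Finite R M] [Nontrivial M] (d r i : ℕ) (hd : depth R M = d) (hi : i + r < d)
    (N : Type u) [AddCommGroup N] [Module R N] [hN : Module.Finite R N]
    (hr : Module.supportDim R N ≤ (r : WithBot ℕ∞)) :
    Subsingleton (Ext (ModuleCat.of R N) (ModuleCat.of R M) i) := by
  induction hN using IsNoetherianRing.induction_on_isQuotientEquivQuotientPrime R with
  | subsingleton N => exact ext_subsingleton_of_subsingleton_left N M i
  | quotient N p e =>
    -- first the statement for `R ⧸ p`
    have hdim : ringKrullDim (R ⧸ p.asIdeal) ≤ (r : WithBot ℕ∞) := by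
      rw [← Module.supportDim_quotient_eq_ringKrullDim, ← Module.supportDim_eq_of_equiv e]
      exact hr
    have hpM : p.asIdeal • (⊤ : Submodule R M) ≠ ⊤ := prime_smul_top_ne_top M p.2.ne_top
    have h1 := depth_le_ringKrullDim_quotient_add_idealDepth M p.asIdeal
    have h2 : ((i + 1 : ℕ) : ℕ∞) ≤ idealDepth p.asIdeal M := by
      obtain ⟨g, hg⟩ := ENat.ne_top_iff_exists.mp (idealDepth_ne_top_of_smul_top_ne_top _ M hpM)
      rw [← hg]
      rw [hd, ← hg] at h1
      have h3 : ((d : ℕ∞) : WithBot ℕ∞) ≤ (r : WithBot ℕ∞) + ((g : ℕ∞) : WithBot ℕ∞) :=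
        le_trans h1 (by gcongr)
      have h4 : ((d : ℕ) : WithBot ℕ∞) ≤ ((r + g : ℕ) : WithBot ℕ∞) := by
        push_cast
        exact h3
      have h5 : d ≤ r + g := by exact_mod_cast h4
      have : i + 1 ≤ g := by omega
      exact_mod_cast this
    have h3 := (le_idealDepth_iff_ext p.asIdeal M hpM (i + 1)).mp h2 i (Nat.lt_succ_self i)
    -- transfer along `e`
    have hS := shortExact_of_linearMaps PUnit.{u + 1} N (R ⧸ p.asIdeal) (0 : PUnit →ₗ[R] N)
      e.toLinearMap (fun a b _ => Subsingleton.elim a b) e.surjective (by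
        intro y
        constructor
        · intro hy
          refine ⟨0, ?_⟩
          have : y = 0 := e.injective (by simpa using hy)
          simp [this]
        · rintro ⟨x, rfl⟩
          simp)
    exact ext_contra_X2_subsingleton hS (ModuleCat.of R M) i
      (ext_subsingleton_of_subsingleton_left PUnit M i) h3
  | exact N₁ N₂ N₃ f g hf hg hfg h₁ h₃ =>
    have hS := shortExact_of_linearMaps N₁ N₂ N₃ f g hf hg hfg
    exact ext_contra_X2_subsingleton hS (ModuleCat.of R M) i
      (h₁ (le_trans (Module.supportDim_le_of_injective f hf) hr))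
      (h₃ (le_trans (Module.supportDim_le_of_surjective g hg) hr))

end Isch

end Groth.Agent.Lib.Helper67
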