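import Groth.Agent.Lib.Helper67.IterLoc2

set_option autoImplicit false
set_option linter.style.haveILetI false
set_option linter.unusedSectionVars false

universe u v w

namespace Groth.Agent.Lib.Helper67

open RingTheory.Sequence LocCoh
open scoped Pointwise

section LocSelf

/-- Localizing a module over a local ring at the maximal ideal changes neither depth nor
dimension. -/
theorem depth_supportDim_localizedModule_maximalIdeal (A : Type u) [CommRing A] [IsLocalRing A]
    [IsNoetherianRing A] (M : Type u) [AddCommGroup M] [Module A M] [Module.Finite A M] :
    depth (Localization.AtPrime (IsLocalRing.maximalIdeal A))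
        (LocalizedModule (IsLocalRing.maximalIdeal A).primeCompl M) = depth A M ∧
      Module.supportDim (Localization.AtPrime (IsLocalRing.maximalIdeal A))
        (LocalizedModule (IsLocalRing.maximalIdeal A).primeCompl M) = Module.supportDim A M := by
  haveI : IsLocalization.AtPrime A (IsLocalRing.maximalIdeal A) := by
    apply IsLocalization.self
    intro x hx
    by_contra hnu
    exact hx ((IsLocalRing.mem_maximalIdeal x).mpr hnu)
  haveI : IsLocalizedModule (IsLocalRing.maximalIdeal A).primeCompl (LinearMap.id : M →ₗ[A] M) :=
    isLocalizedModule_id _ M A
  exact depth_supportDim_eq_of_isLocalizedModule (IsLocalRing.maximalIdeal A)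
    (Localization.AtPrime (IsLocalRing.maximalIdeal A)) A
    (LocalizedModule.mkLinearMap (IsLocalRing.maximalIdeal A).primeCompl M)
    (LinearMap.id : M →ₗ[A] M)

end LocSelf

end Groth.Agent.Lib.Helper67
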