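import Mathlib
import Groth.Agent.Lib.Helper67.NormalBC1
import Groth.Agent.Lib.Helper57.NormalRing

/-!
# Normality of a flat algebra over a Dedekind domain from its fibres (helper67)

`isNormalRing_of_fibres`: `B` flat Noetherian over a Dedekind domain `R`, normal at the primes over
`(0)`, with `B/pB` reduced for all nonzero maximal ideals `p` of `R`; then `B` is a normal ring.
-/

set_option autoImplicit false
universe u

namespace Groth.Agent.Lib.Helper67.Nodal

open EGA4

/-- A uniformizer at a nonzero prime of a Dedekind domain, chosen in `R`. -/
theorem exists_span_eq_map_of_dedekind (R : Type u) [CommRing R] [IsDedekindDomain R]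
    (p : Ideal R) [p.IsPrime] (hp : p ≠ ⊥) :
    ∃ a : R, a ≠ 0 ∧ a ∈ p ∧ p.map (algebraMap R (Localization.AtPrime p)) =
      Ideal.span {algebraMap R (Localization.AtPrime p) a} := by
  have : IsDiscreteValuationRing (Localization.AtPrime p) :=
    IsLocalization.AtPrime.isDiscreteValuationRing_of_dedekind_domain R hp _
  obtain ⟨ϖ, hϖ⟩ := (IsPrincipalIdealRing.principal
    (IsLocalRing.maximalIdeal (Localization.AtPrime p))).principal
  obtain ⟨a, s, has⟩ := IsLocalization.exists_mk'_eq p.primeCompl ϖ
  have hspec : ϖ * algebraMap R (Localization.AtPrime p) s =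
      algebraMap R (Localization.AtPrime p) a := by
    rw [← has]; exact IsLocalization.mk'_spec _ a s
  have hu : IsUnit (algebraMap R (Localization.AtPrime p) s) :=
    IsLocalization.map_units (Localization.AtPrime p) s
  have hmax : IsLocalRing.maximalIdeal (Localization.AtPrime p) =
      Ideal.span {algebraMap R (Localization.AtPrime p) a} := by
    rw [hϖ]
    show Ideal.span {ϖ} = _
    rw [Ideal.span_singleton_eq_span_singleton]
    obtain ⟨u, hu'⟩ := hu
    exact ⟨u, by rw [hu', hspec]⟩
  have hmem : algebraMap R (Localization.AtPrime p) a ∈
      IsLocalRing.maximalIdeal (Localization.AtPrime p) := by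
    rw [hmax]; exact Ideal.mem_span_singleton_self _
  refine ⟨a, ?_, ?_, ?_⟩
  · rintro rfl
    rw [map_zero, Ideal.span_singleton_eq_bot.mpr rfl] at hmax
    exact IsDiscreteValuationRing.not_a_field _ hmax
  · exact (IsLocalization.AtPrime.to_map_mem_maximal_iff (Localization.AtPrime p) p a).mp hmem
  · rw [Localization.AtPrime.map_eq_maximalIdeal, hmax]

theorem isNormalRing_of_fibres (R B : Type u) [CommRing R] [IsDedekindDomain R] [CommRing B]
    [Algebra R B] [Module.Flat R B] [IsNoetherianRing B]
    (H1 : ∀ (q : Ideal B) [q.IsPrime], q.comap (algebraMap R B) = ⊥ →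
      IsDomain (Localization.AtPrime q) ∧ IsIntegrallyClosed (Localization.AtPrime q))
    (H2 : ∀ p : Ideal R, p.IsMaximal → p ≠ ⊥ → (p.map (algebraMap R B)).IsRadical) :
    IsNormalRing B := by
  intro q hq
  by_cases hp0 : q.comap (algebraMap R B) = ⊥
  · exact H1 q hp0
  have hpmax : (q.comap (algebraMap R B)).IsMaximal := Ideal.IsPrime.isMaximal inferInstance hp0
  obtain ⟨a, ha0, hamem, hap⟩ := exists_span_eq_map_of_dedekind R (q.comap (algebraMap R B)) hp0
  have hφ : (Localization.localRingHom (q.comap (algebraMap R B)) q (algebraMap R B) rfl).comp
      (algebraMap R (Localization.AtPrime (q.comap (algebraMap R B)))) =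
      algebraMap R (Localization.AtPrime q) := by
    ext x
    rw [RingHom.comp_apply, Localization.localRingHom_to_map,
      IsScalarTower.algebraMap_apply R B (Localization.AtPrime q)]
  have hmap : (q.comap (algebraMap R B)).map (algebraMap R (Localization.AtPrime q)) =
      Ideal.span {algebraMap R (Localization.AtPrime q) a} := by
    rw [← hφ, ← Ideal.map_map, hap, Ideal.map_span, Set.image_singleton]
    rfl
  have : Module.Flat B (Localization.AtPrime q) := IsLocalization.flat _ q.primeCompl
  have : Module.Flat R (Localization.AtPrime q) := Module.Flat.trans R B _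
  have hreg : IsSMulRegular (Localization.AtPrime q) a :=
    Module.Flat.isSMulRegular_of_nonZeroDivisors (mem_nonZeroDivisors_of_ne_zero ha0)
  have hπ : algebraMap R (Localization.AtPrime q) a ∈ nonZeroDivisors (Localization.AtPrime q) := by
    rw [mem_nonZeroDivisors_iff_right]
    intro w hw
    apply hreg
    show a • w = a • 0
    rw [smul_zero, Algebra.smul_def, mul_comm]
    exact hw
  have hrad : (Ideal.span {algebraMap R (Localization.AtPrime q) a}).IsRadical := by
    rw [← hmap, IsScalarTower.algebraMap_eq R B (Localization.AtPrime q), ← Ideal.map_map]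
    have h2 := H2 _ hpmax hp0
    rw [← Ideal.radical_eq_iff] at h2 ⊢
    rw [← IsLocalization.map_radical q.primeCompl, h2]
  have : IsNoetherianRing (Localization.AtPrime q) :=
    IsLocalization.isNoetherianRing q.primeCompl _ inferInstance
  have : IsNoetherianRing (Localization.Away (algebraMap R (Localization.AtPrime q) a)) :=
    IsLocalization.isNoetherianRing (Submonoid.powers (algebraMap R (Localization.AtPrime q) a))
      _ inferInstance
  have hL : IsNormalRing (Localization.Away (algebraMap R (Localization.AtPrime q) a)) := by
    intro Q hQ
    obtain ⟨e1⟩ := Groth.Agent.Lib.Helper57.nonempty_equiv_atPrime_of_isLocalization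
      (Submonoid.powers (algebraMap R (Localization.AtPrime q) a))
      (Localization.Away (algebraMap R (Localization.AtPrime q) a)) Q (Localization.AtPrime Q)
    obtain ⟨e2⟩ := Groth.Agent.Lib.Helper57.nonempty_equiv_atPrime_of_isLocalization
      q.primeCompl (Localization.AtPrime q)
      (Q.comap (algebraMap (Localization.AtPrime q)
        (Localization.Away (algebraMap R (Localization.AtPrime q) a))))
      (Localization.AtPrime (Q.comap (algebraMap (Localization.AtPrime q)
        (Localization.Away (algebraMap R (Localization.AtPrime q) a)))))
    have hq'0 : ((Q.comap (algebraMap (Localization.AtPrime q)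
        (Localization.Away (algebraMap R (Localization.AtPrime q) a)))).comap
          (algebraMap B (Localization.AtPrime q))).comap (algebraMap R B) = ⊥ := by
      by_contra hne
      have hrmax : (((Q.comap (algebraMap (Localization.AtPrime q)
        (Localization.Away (algebraMap R (Localization.AtPrime q) a)))).comap
          (algebraMap B (Localization.AtPrime q))).comap (algebraMap R B)).IsMaximal :=
        Ideal.IsPrime.isMaximal inferInstance hne
      have hle : ((Q.comap (algebraMap (Localization.AtPrime q)
        (Localization.Away (algebraMap R (Localization.AtPrime q) a)))).comap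
          (algebraMap B (Localization.AtPrime q))).comap (algebraMap R B) ≤
          q.comap (algebraMap R B) := by
        apply Ideal.comap_mono
        have h1 : Q.comap (algebraMap (Localization.AtPrime q)
            (Localization.Away (algebraMap R (Localization.AtPrime q) a))) ≤
            IsLocalRing.maximalIdeal (Localization.AtPrime q) :=
          IsLocalRing.le_maximalIdeal (Ideal.IsPrime.ne_top inferInstance)
        have h2 := Ideal.comap_mono (f := algebraMap B (Localization.AtPrime q)) h1
        have h3 : Ideal.comap (algebraMap B (Localization.AtPrime q))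
            (IsLocalRing.maximalIdeal (Localization.AtPrime q)) = q :=
          IsLocalization.AtPrime.under_maximalIdeal (Localization.AtPrime q) q
        exact h2.trans (le_of_eq h3)
      have heq := hrmax.eq_of_le hpmax.ne_top hle
      have hamem' : a ∈ ((Q.comap (algebraMap (Localization.AtPrime q)
        (Localization.Away (algebraMap R (Localization.AtPrime q) a)))).comap
          (algebraMap B (Localization.AtPrime q))).comap (algebraMap R B) := by
        rw [heq]; exact hamem
      rw [Ideal.mem_comap, Ideal.mem_comap, Ideal.mem_comap,
        ← IsScalarTower.algebraMap_apply R B (Localization.AtPrime q)] at hamem'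
      have hunit : IsUnit (algebraMap (Localization.AtPrime q)
          (Localization.Away (algebraMap R (Localization.AtPrime q) a))
          (algebraMap R (Localization.AtPrime q) a)) :=
        IsLocalization.Away.algebraMap_isUnit _
      exact (Ideal.IsPrime.ne_top hQ) (Ideal.eq_top_of_isUnit_mem _ hamem' hunit)
    obtain ⟨hd, hic⟩ := H1 _ hq'0
    exact ⟨MulEquiv.isDomain _ (e2.trans e1).symm.toMulEquiv,
      IsIntegrallyClosed.of_equiv (e2.trans e1)⟩
  have hW : IsNormalRing (Localization.AtPrime q) :=
    Groth.Agent.Lib.Helper67.NormalBC.isNormalRing_of_away (Localization.AtPrime q)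
      (Localization.Away (algebraMap R (Localization.AtPrime q) a))
      (algebraMap R (Localization.AtPrime q) a) hπ hrad hL
  obtain ⟨hd, hic⟩ := hW (IsLocalRing.maximalIdeal (Localization.AtPrime q))
  have e3 : Localization.AtPrime q ≃ₐ[Localization.AtPrime q]
      Localization.AtPrime (IsLocalRing.maximalIdeal (Localization.AtPrime q)) :=
    IsLocalization.atUnits _ (IsLocalRing.maximalIdeal (Localization.AtPrime q)).primeCompl
      (fun x hx => by
        have : x ∉ IsLocalRing.maximalIdeal (Localization.AtPrime q) := hx
        rwa [IsLocalRing.mem_maximalIdeal, mem_nonunits_iff, not_not] at this)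
  exact ⟨MulEquiv.isDomain _ e3.toRingEquiv.toMulEquiv,
    IsIntegrallyClosed.of_equiv e3.symm.toRingEquiv⟩

end Groth.Agent.Lib.Helper67.Nodal
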