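import Mathlib
import Groth.Prelude.Def_CurvBase
import Groth.Agent.Lib.Helper67.Nodal2
import Groth.Agent.Lib.Helper67.Nodal3
import Groth.Agent.Lib.Helper24.FiberAss

/-!
# Nodal families over a Dedekind base with normal generic fibre are normal (helper67)
-/

set_option autoImplicit false
universe u

namespace Groth.Agent.Lib.Helper67.Nodal

open AlgebraicGeometry CategoryTheory Limits

/-- The fibres of an at-worst-nodal family are reduced. -/
theorem isReduced_fiber_of_isNodalFamily {X S : Scheme.{u}} (f : X ⟶ S)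
    (hf : Curv2.IsNodalFamily f) (s : S) : AlgebraicGeometry.IsReduced (f.fiber s) := by
  obtain ⟨hflat, hlfp, hfib⟩ := hf
  have hs := (hfib s).2
  let _ : (f.fiber s).Over (Spec (S.residueField s)) := ⟨f.fiberToSpecResidueField s⟩
  have hlft : LocallyOfFiniteType ((f.fiber s) ↘ Spec (S.residueField s)) := by
    show LocallyOfFiniteType (pullback.snd f (S.fromSpecResidueField s))
    infer_instance
  exact isReduced_of_atWorstNodal (S.residueField s) (f.fiber s) hs

open TensorProduct in
/-- If the fibre of `Spec B ⟶ Spec R` over `p` is reduced and `B` is flat over `R`, then `pB` is a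
radical ideal of `B`. -/
theorem isRadical_map_of_isReduced_fiber {R : Type u} [CommRing R] {B : CommRingCat.{u}}
    (φ : CommRingCat.of R ⟶ B) (hflat : φ.hom.Flat) (p : PrimeSpectrum R)
    (hred : AlgebraicGeometry.IsReduced ((Spec.map φ).fiber p)) :
    (p.asIdeal.map φ.hom).IsRadical := by
  algebraize [φ.hom]
  let e := Spec.fiberToSpecResidueFieldIso R B p
  let e' : (Spec.map φ).fiber p ≅ Spec (.of (p.asIdeal.Fiber B)) := Arrow.leftFunc.mapIso e
  have h2 : AlgebraicGeometry.IsReduced (Spec (.of (p.asIdeal.Fiber B))) :=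
    isReduced_of_isOpenImmersion e'.inv
  have h3 : _root_.IsReduced (p.asIdeal.Fiber B) := (affine_isReduced_iff _).mp h2
  have hmem : ∀ b : B, b ∈ p.asIdeal.map φ.hom ↔ b ∈ (p.asIdeal • ⊤ : Submodule R B) := by
    intro b
    rw [Ideal.smul_top_eq_map]
    rfl
  intro b hb
  obtain ⟨n, hn⟩ := hb
  rw [hmem, ← Groth.Agent.Lib.Helper24.FiberAss.one_tmul_eq_zero_iff] at hn ⊢
  have h4 : ((1 : p.asIdeal.ResidueField) ⊗ₜ[R] b : p.asIdeal.Fiber B) ^ n = 0 := by
    rw [Algebra.TensorProduct.tmul_pow, one_pow]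
    exact hn
  exact IsReduced.eq_zero _ ⟨n, h4⟩

/-- Reducedness of the fibre passes to an open chart. -/
theorem isReduced_fiber_comp_of_isOpenImmersion {X S U : Scheme.{u}} (f : X ⟶ S) (j : U ⟶ X)
    [IsOpenImmersion j] (s : S) (h : AlgebraicGeometry.IsReduced (f.fiber s)) :
    AlgebraicGeometry.IsReduced ((j ≫ f).fiber s) := by
  have h' : AlgebraicGeometry.IsReduced (pullback f (S.fromSpecResidueField s)) := h
  have h1 : AlgebraicGeometry.IsReduced (pullback j (pullback.fst f (S.fromSpecResidueField s))) :=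
    isReduced_of_isOpenImmersion (pullback.snd j (pullback.fst f (S.fromSpecResidueField s)))
  have h2 : IsIso (pullbackRightPullbackFstIso f (S.fromSpecResidueField s) j).inv :=
    inferInstance
  have h3 : IsOpenImmersion (pullbackRightPullbackFstIso f (S.fromSpecResidueField s) j).inv :=
    IsOpenImmersion.of_isIso _
  show AlgebraicGeometry.IsReduced (pullback (j ≫ f) (S.fromSpecResidueField s))
  exact isReduced_of_isOpenImmersion
    (pullbackRightPullbackFstIso f (S.fromSpecResidueField s) j).inv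

/-- Normality on an affine chart. -/
theorem normal_chart {R : Type u} [CommRing R] [IsDedekindDomain R]
    {X : Scheme.{u}} (f : X ⟶ Spec (CommRingCat.of R)) (hf : Curv2.IsNodalFamily f)
    (hgen : ∀ x : X, (f.base x).asIdeal = ⊥ →
      IsDomain (X.presheaf.stalk x) ∧ IsIntegrallyClosed (X.presheaf.stalk x))
    (B : CommRingCat.{u}) (j : Spec B ⟶ X) [IsOpenImmersion j] (q : PrimeSpectrum B) :
    IsDomain (X.presheaf.stalk (j q)) ∧ IsIntegrallyClosed (X.presheaf.stalk (j q)) := by
  obtain ⟨φ, hφ⟩ := Spec.map_surjective (j ≫ f)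
  have hflat : Flat f := hf.1
  have hlfp : LocallyOfFinitePresentation f := hf.2.1
  have hflat' : Flat (Spec.map φ) := by rw [hφ]; infer_instance
  have hlfp' : LocallyOfFinitePresentation (Spec.map φ) := by rw [hφ]; infer_instance
  have hφflat : φ.hom.Flat := (HasRingHomProperty.Spec_iff (P := @Flat)).mp hflat'
  have hφfp : φ.hom.FinitePresentation :=
    (HasRingHomProperty.Spec_iff (P := @LocallyOfFinitePresentation)).mp hlfp'
  algebraize [φ.hom]
  have hnoeth : IsNoetherianRing B := Algebra.FiniteType.isNoetherianRing R B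
  have hB : EGA4.IsNormalRing B := by
    apply isNormalRing_of_fibres R B
    · intro q' hq' hq'0
      obtain ⟨e⟩ := nonempty_stalk_equiv j ⟨q', hq'⟩
      have hbase : (f.base (j.base ⟨q', hq'⟩)).asIdeal = ⊥ := by
        have h1 : f.base (j.base ⟨q', hq'⟩) = (Spec.map φ).base ⟨q', hq'⟩ := by rw [hφ]; rfl
        rw [h1]
        exact hq'0
      obtain ⟨hd, hic⟩ := hgen _ hbase
      exact ⟨MulEquiv.isDomain _ e.symm.toMulEquiv, IsIntegrallyClosed.of_equiv e⟩
    · intro p hpmax hp0
      have hpprime : p.IsPrime := hpmax.isPrime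
      obtain ⟨s, hs⟩ : ∃ s : PrimeSpectrum R, s.asIdeal = p := ⟨⟨p, hpprime⟩, rfl⟩
      have hred : AlgebraicGeometry.IsReduced (f.fiber s) :=
        isReduced_fiber_of_isNodalFamily f hf _
      have h2 : AlgebraicGeometry.IsReduced ((j ≫ f).fiber s) :=
        isReduced_fiber_comp_of_isOpenImmersion f j s hred
      rw [← hφ] at h2
      have h3 := isRadical_map_of_isReduced_fiber φ hφflat s h2
      rw [hs] at h3
      exact h3
  obtain ⟨e⟩ := nonempty_stalk_equiv j q
  obtain ⟨hd, hic⟩ := hB q.asIdeal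
  exact ⟨MulEquiv.isDomain _ e.toMulEquiv, IsIntegrallyClosed.of_equiv e.symm⟩

/-- A nodal family over a Dedekind base whose generic fibre is normal is normal. -/
theorem normal_of_isNodalFamily_dedekind {R : Type u} [CommRing R] [IsDedekindDomain R]
    {X : Scheme.{u}} (f : X ⟶ Spec (CommRingCat.of R)) (hf : Curv2.IsNodalFamily f)
    (hgen : ∀ x : X, (f.base x).asIdeal = ⊥ →
      IsDomain (X.presheaf.stalk x) ∧ IsIntegrallyClosed (X.presheaf.stalk x)) :
    ∀ x : X, IsDomain (X.presheaf.stalk x) ∧ IsIntegrallyClosed (X.presheaf.stalk x) := by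
  intro x
  obtain ⟨i, q, rfl⟩ := X.affineOpenCover.openCover.exists_eq x
  exact @normal_chart R _ _ X f hf hgen (X.affineOpenCover.X i) (X.affineOpenCover.openCover.f i)
    (X.affineOpenCover.openCover.map_prop i) q

end Groth.Agent.Lib.Helper67.Nodal
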