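import Groth.Agent.Lib.Helper67.RegLocus3
import Groth.Agent.Lib.Helper65.RegularSmooth
import Groth.Agent.Lib.Helper56.RegularHom
import Groth.Agent.Lib.Helper56.SepBaseChange
import Mathlib.RingTheory.Smooth.Field
import Mathlib.RingTheory.Smooth.Locus
import Mathlib.RingTheory.Smooth.Flat

/-!
# Ascent of generic regularity along separable finite type extensions of domains
-/

set_option autoImplicit false
set_option linter.style.haveILetI false
set_option linter.unusedSectionVars false

universe u

namespace Groth.Agent.Lib.Helper67.RegLocus

open IsLocalRing TensorProduct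

/-- A smooth algebra over a field is a regular ring. -/
theorem isRegularRing_of_smooth_field (k C : Type u) [Field k] [CommRing C] [Algebra k C]
    [Algebra.Smooth k C] : IsRegularRing C := by
  haveI : Algebra.FinitePresentation k C := Algebra.Smooth.finitePresentation
  haveI : Algebra.FiniteType k C := inferInstance
  haveI : IsNoetherianRing C := Algebra.FiniteType.isNoetherianRing k C
  rw [isRegularRing_iff]
  intro Q _
  haveI : Algebra.FormallySmooth k C := Algebra.Smooth.formallySmooth
  haveI : Algebra.FormallySmooth C (Localization.AtPrime Q) :=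
    Algebra.FormallySmooth.of_isLocalization Q.primeCompl
  haveI : Algebra.FormallySmooth k (Localization.AtPrime Q) :=
    Algebra.FormallySmooth.comp k C _
  haveI : Algebra.EssFiniteType C (Localization.AtPrime Q) :=
    Algebra.EssFiniteType.of_isLocalization _ Q.primeCompl
  haveI : Algebra.EssFiniteType k (Localization.AtPrime Q) := Algebra.EssFiniteType.comp k C _
  exact Groth.Agent.Lib.Helper65.RegularSmooth.isRegularLocalRing_of_formallySmooth k _

/-- A smooth algebra over a Noetherian ring is regular at primes lying over regular points. -/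
theorem isRegularLocalRing_of_smooth (A B : Type u) [CommRing A] [CommRing B] [Algebra A B]
    [IsNoetherianRing A] [Algebra.Smooth A B] (q : Ideal B) [q.IsPrime]
    (hA : IsRegularLocalRing (Localization.AtPrime (q.comap (algebraMap A B)))) :
    IsRegularLocalRing (Localization.AtPrime q) := by
  haveI : Algebra.FinitePresentation A B := Algebra.Smooth.finitePresentation
  haveI : Algebra.FiniteType A B := inferInstance
  haveI : IsNoetherianRing B := Algebra.FiniteType.isNoetherianRing A B
  haveI : Module.Flat A B := inferInstance
  have h1 : IsRegularRing ((q.comap (algebraMap A B)).Fiber B) :=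
    isRegularRing_of_smooth_field (q.comap (algebraMap A B)).ResidueField _
  exact Groth.Agent.Lib.Helper56.isRegularLocalRing_atPrime_of_fibre A B q hA
    (Groth.Agent.Lib.Helper56.isRegularLocalRing_fibLocRing_of_fiber A B q h1)

/-- Generic smoothness for a finite type extension of domains with separable function field
extension (abstract fraction fields). -/
theorem exists_smooth_localization_away' (A A' K L : Type u) [CommRing A] [CommRing A'] [IsDomain A]
    [IsDomain A'] [IsNoetherianRing A] [Algebra A A'] [Algebra.FiniteType A A']
    [Field K] [Field L] [Algebra A K] [IsFractionRing A K] [Algebra A' L] [IsFractionRing A' L]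
    [Algebra K L] [Algebra A L] [IsScalarTower A K L] [IsScalarTower A A' L]
    [Algebra.IsGeometricallyReduced K L] :
    ∃ g : A', g ≠ 0 ∧ Algebra.Smooth A (Localization.Away g) := by
  haveI : Algebra.EssFiniteType A' L := Algebra.EssFiniteType.of_isLocalization L (nonZeroDivisors A')
  haveI : Algebra.EssFiniteType A L := Algebra.EssFiniteType.comp A A' L
  haveI hess : Algebra.EssFiniteType K L := Algebra.EssFiniteType.of_comp A K L
  obtain ⟨s, hs, H⟩ :=
    Groth.Agent.Lib.Helper56.exists_isTranscendenceBasis_and_isSeparable_of_isGeometricallyReduced K L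
  have key : ∀ X Y : Set L, X = Y → Algebra.IsSeparable (IntermediateField.adjoin K X) L →
      Algebra.IsSeparable (IntermediateField.adjoin K Y) L := by
    intro X Y h hX; subst h; exact hX
  haveI H' : Algebra.IsSeparable (IntermediateField.adjoin K (Set.range ((↑) : s → L))) L :=
    key _ _ Subtype.range_coe.symm H
  haveI : Algebra.FormallySmooth K L :=
    Algebra.FormallySmooth.of_algebraicIndependent_of_isSeparable hs.1
  haveI : Algebra.FormallySmooth A K := Algebra.FormallySmooth.of_isLocalization (nonZeroDivisors A)
  haveI : Algebra.FormallySmooth A L := Algebra.FormallySmooth.comp A K L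
  -- `L` is the localization of `A'` at the zero ideal
  haveI : IsLocalization (⊥ : Ideal A').primeCompl L := by
    rw [Ideal.primeCompl_bot]
    infer_instance
  let e : L ≃ₐ[A'] Localization.AtPrime (⊥ : Ideal A') :=
    IsLocalization.algEquiv (⊥ : Ideal A').primeCompl L (Localization.AtPrime (⊥ : Ideal A'))
  haveI : Algebra.IsSmoothAt A (⊥ : Ideal A') :=
    Algebra.FormallySmooth.of_equiv (e.restrictScalars A)
  haveI : Algebra.FinitePresentation A A' := Algebra.FinitePresentation.of_finiteType.mp inferInstance
  obtain ⟨g, hg, hsm⟩ := Algebra.IsSmoothAt.exists_notMem_smooth A (⊥ : Ideal A')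
  refine ⟨g, ?_, hsm⟩
  rintro rfl
  exact hg (Ideal.zero_mem _)

theorem exists_smooth_localization_away (A A' : Type u) [CommRing A] [CommRing A'] [IsDomain A]
    [IsDomain A'] [IsNoetherianRing A] [Algebra A A'] [Algebra.FiniteType A A']
    [Algebra (FractionRing A) (FractionRing A')]
    [IsScalarTower A (FractionRing A) (FractionRing A')]
    [Algebra.IsGeometricallyReduced (FractionRing A) (FractionRing A')] :
    ∃ g : A', g ≠ 0 ∧ Algebra.Smooth A (Localization.Away g) :=
  exists_smooth_localization_away' A A' (FractionRing A) (FractionRing A')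

theorem isRegularLocalRing_congr {R : Type u} [CommRing R] (I J : Ideal R) [I.IsPrime] [J.IsPrime]
    (hIJ : I = J) (h : IsRegularLocalRing (Localization.AtPrime I)) :
    IsRegularLocalRing (Localization.AtPrime J) := by
  subst hIJ
  exact h

/-- Ascent of generic regularity along a finite type extension of domains with separable
function field extension (EGA IV 6.12.5-type). -/
theorem hasGenReg_of_separable' (A A' K L : Type u) [CommRing A] [CommRing A'] [IsDomain A]
    [IsDomain A'] [IsNoetherianRing A] [Algebra A A'] [FaithfulSMul A A'] [Algebra.FiniteType A A']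
    [Field K] [Field L] [Algebra A K] [IsFractionRing A K] [Algebra A' L] [IsFractionRing A' L]
    [Algebra K L] [Algebra A L] [IsScalarTower A K L] [IsScalarTower A A' L]
    [Algebra.IsGeometricallyReduced K L]
    (h : HasGenReg A) : HasGenReg A' := by
  obtain ⟨f, hf, hfreg⟩ := exists_basicOpen_subset_regLocus h
  obtain ⟨g, hg, hsm⟩ := exists_smooth_localization_away' A A' K L
  have hinj : Function.Injective (algebraMap A A') := FaithfulSMul.algebraMap_injective A A'
  have hf' : algebraMap A A' f ≠ 0 := by
    rw [Ne, map_eq_zero_iff _ hinj]; exact hf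
  refine hasGenReg_of_basicOpen (g * algebraMap A A' f) (mul_ne_zero hg hf') (fun Q hQ => ?_)
  haveI := Q.2
  have hgQ : g ∉ Q.asIdeal := fun hmem => hQ (Ideal.mul_mem_right _ _ hmem)
  have hfQ : algebraMap A A' f ∉ Q.asIdeal := fun hmem => hQ (Ideal.mul_mem_left _ _ hmem)
  let B := Localization.Away g
  have hdisj : Disjoint (Submonoid.powers g : Set A') (Q.asIdeal : Set A') := by
    rw [Set.disjoint_left]
    rintro _ ⟨n, rfl⟩ hmem
    exact hgQ (Q.2.mem_of_pow_mem n hmem)
  haveI hQ'prime : (Q.asIdeal.map (algebraMap A' B)).IsPrime :=
    IsLocalization.isPrime_of_isPrime_disjoint (Submonoid.powers g) B Q.asIdeal Q.2 hdisj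
  have hQ'comap : (Q.asIdeal.map (algebraMap A' B)).comap (algebraMap A' B) = Q.asIdeal :=
    IsLocalization.under_map_of_isPrime_disjoint (Submonoid.powers g) B Q.2 hdisj
  have hP : (Q.asIdeal.map (algebraMap A' B)).comap (algebraMap A B) =
      Q.asIdeal.comap (algebraMap A A') := by
    rw [IsScalarTower.algebraMap_eq A A' B, ← Ideal.comap_comap, hQ'comap]
  haveI : (Q.asIdeal.comap (algebraMap A A')).IsPrime := Ideal.comap_isPrime _ _
  have hAP : IsRegularLocalRing (Localization.AtPrime (Q.asIdeal.comap (algebraMap A A'))) :=
    hfreg ⟨Q.asIdeal.comap (algebraMap A A'), inferInstance⟩ hfQ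
  have hAP' : IsRegularLocalRing
      (Localization.AtPrime ((Q.asIdeal.map (algebraMap A' B)).comap (algebraMap A B))) :=
    isRegularLocalRing_congr _ _ hP.symm hAP
  have h1 : IsRegularLocalRing (Localization.AtPrime (Q.asIdeal.map (algebraMap A' B))) :=
    isRegularLocalRing_of_smooth A B _ hAP'
  have h2 := isRegularLocalRing_comap_of_isLocalization (Submonoid.powers g)
    (Q.asIdeal.map (algebraMap A' B)) h1
  exact isRegularLocalRing_congr _ _ hQ'comap h2

theorem hasGenReg_of_separable (A A' : Type u) [CommRing A] [CommRing A'] [IsDomain A]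
    [IsDomain A'] [IsNoetherianRing A] [Algebra A A'] [FaithfulSMul A A'] [Algebra.FiniteType A A']
    [Algebra (FractionRing A) (FractionRing A')]
    [IsScalarTower A (FractionRing A) (FractionRing A')]
    [Algebra.IsGeometricallyReduced (FractionRing A) (FractionRing A')]
    (h : HasGenReg A) : HasGenReg A' :=
  hasGenReg_of_separable' A A' (FractionRing A) (FractionRing A') h

end Groth.Agent.Lib.Helper67.RegLocus
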