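import Groth.Agent.Lib.Helper67.RegLocus4
import Groth.Agent.Lib.Helper56.SepGen
import Groth.Agent.Lib.Helper35.RegField
import Mathlib.RingTheory.DedekindDomain.IntegralClosure

/-!
# The J-2 criterion (EGA IV 6.12.4, Matsumura Thm 73)
-/

set_option autoImplicit false
set_option linter.style.haveILetI false
set_option linter.unusedSectionVars false

universe u

namespace Groth.Agent.Lib.Helper67.RegLocus

open IsLocalRing TensorProduct

theorem isGeometricallyReduced_of_univRegular (k K : Type u) [Field k] [Field K] [Algebra k K]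
    (h : Groth.Agent.Lib.Helper56.UnivRegular k K) : Algebra.IsGeometricallyReduced k K := by
  rw [Algebra.isGeometricallyReduced_field_iff]
  haveI := h (AlgebraicClosure k)
  exact Groth.Agent.Lib.Helper35.RegField.isReduced_of_isRegularRing _

/-- A finite extension of the fraction field of a domain is the fraction field of a finite
subalgebra. -/
theorem exists_finite_subalgebra_isFractionRing (A₁ K K' : Type u) [CommRing A₁] [IsDomain A₁]
    [Field K] [Algebra A₁ K] [IsFractionRing A₁ K] [Field K'] [Algebra K K'] [Algebra A₁ K']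
    [IsScalarTower A₁ K K'] [FiniteDimensional K K'] :
    ∃ A' : Subalgebra A₁ K', Module.Finite A₁ A' ∧ IsFractionRing A' K' := by
  classical
  obtain ⟨s, b, hb⟩ := FiniteDimensional.exists_is_basis_integral A₁ K K'
  let A' : Subalgebra A₁ K' := Algebra.adjoin A₁ (Set.range b)
  have hinjA : Function.Injective (algebraMap A₁ K') := by
    rw [IsScalarTower.algebraMap_eq A₁ K K']
    exact (algebraMap K K').injective.comp (IsFractionRing.injective A₁ K)
  refine ⟨A', ?_, ?_⟩
  · exact Algebra.finite_adjoin_of_finite_of_isIntegral (Set.finite_range b)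
      (by rintro _ ⟨i, rfl⟩; exact hb i)
  · have hinj : Function.Injective (algebraMap A' K') := Subtype.val_injective
    refine ⟨?_, ?_, ?_⟩
    · intro y
      have hy : (y : A') ≠ 0 := nonZeroDivisors.ne_zero y.2
      exact IsUnit.mk0 _ (fun h => hy (hinj (by rw [h, map_zero])))
    · intro z
      -- write z in the basis and clear denominators
      obtain ⟨d, hd⟩ := IsLocalization.exist_integer_multiples (nonZeroDivisors A₁) Finset.univ
        (fun i : s => b.repr z i)
      choose c hc using fun i => hd i (Finset.mem_univ i)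
      have hdz : algebraMap A₁ K' (d : A₁) * z = ∑ i, algebraMap A₁ K' (c i) * b i := by
        conv_lhs => rw [← b.sum_repr z]
        rw [Finset.mul_sum]
        refine Finset.sum_congr rfl (fun i _ => ?_)
        have := hc i
        rw [Algebra.smul_def] at this
        rw [Algebra.smul_def, ← mul_assoc, IsScalarTower.algebraMap_apply A₁ K K',
          IsScalarTower.algebraMap_apply A₁ K K', ← map_mul, ← this]
      have hmem : algebraMap A₁ K' (d : A₁) * z ∈ A' := by
        rw [hdz]
        refine Subalgebra.sum_mem _ (fun i _ => ?_)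
        exact Subalgebra.mul_mem _ (Subalgebra.algebraMap_mem _ _)
          (Algebra.subset_adjoin ⟨i, rfl⟩)
      have hd0 : algebraMap A₁ A' (d : A₁) ≠ 0 := by
        intro h0
        have : algebraMap A₁ K' (d : A₁) = 0 := by
          have := congrArg (algebraMap A' K') h0
          rwa [map_zero, ← IsScalarTower.algebraMap_apply] at this
        exact nonZeroDivisors.ne_zero d.2 (hinjA (by rw [this, map_zero]))
      refine ⟨(⟨⟨_, hmem⟩, ⟨algebraMap A₁ A' (d : A₁), mem_nonZeroDivisors_of_ne_zero hd0⟩⟩), ?_⟩
      show z * algebraMap A' K' (algebraMap A₁ A' (d : A₁)) = algebraMap A₁ K' (d : A₁) * z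
      rw [← IsScalarTower.algebraMap_apply, mul_comm]
    · intro x y hxy
      exact ⟨1, by rw [hinj hxy]⟩

/-- Abstract form of `exists_finite_subalgebra_isFractionRing`. -/
theorem exists_finite_algebra_isFractionRing (A₁ K K' : Type u) [CommRing A₁] [IsDomain A₁]
    [Field K] [Algebra A₁ K] [IsFractionRing A₁ K] [Field K'] [Algebra K K'] [Algebra A₁ K']
    [IsScalarTower A₁ K K'] [FiniteDimensional K K'] :
    ∃ (A' : Type u) (_ : CommRing A') (_ : IsDomain A') (_ : Algebra A₁ A') (_ : Algebra A' K')
      (_ : IsScalarTower A₁ A' K'), Module.Finite A₁ A' ∧ IsFractionRing A' K' := by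
  obtain ⟨A', h1, h2⟩ := exists_finite_subalgebra_isFractionRing A₁ K K'
  exact ⟨A', inferInstance, inferInstance, inferInstance, inferInstance, inferInstance, h1, h2⟩

/-- Key step of the J-2 criterion: generic regularity of finite type domain extensions from
generic regularity of finite domain extensions. -/
theorem hasGenReg_of_finiteType_of_forall_finite (A₁ B : Type u) [CommRing A₁] [IsDomain A₁]
    [IsNoetherianRing A₁] [CommRing B] [IsDomain B] [Algebra A₁ B] [FaithfulSMul A₁ B]
    [Algebra.FiniteType A₁ B]
    (H : ∀ (A' : Type u) [CommRing A'] [IsDomain A'] [Algebra A₁ A'], Module.Finite A₁ A' →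
      HasGenReg A') : HasGenReg B := by
  classical
  let K := FractionRing A₁
  let L := FractionRing B
  have hinj : Function.Injective (algebraMap A₁ B) := FaithfulSMul.algebraMap_injective A₁ B
  have hinjL : Function.Injective (algebraMap A₁ L) := by
    rw [IsScalarTower.algebraMap_eq A₁ B L]
    exact (IsFractionRing.injective B L).comp hinj
  haveI : FaithfulSMul A₁ L := (faithfulSMul_iff_algebraMap_injective A₁ L).mpr hinjL
  letI : Algebra K L := FractionRing.liftAlgebra A₁ L
  haveI : IsScalarTower A₁ K L := FractionRing.isScalarTower_liftAlgebra A₁ L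
  haveI : Algebra.EssFiniteType B L := Algebra.EssFiniteType.of_isLocalization L (nonZeroDivisors B)
  haveI : Algebra.EssFiniteType A₁ L := Algebra.EssFiniteType.comp A₁ B L
  haveI hess : Algebra.EssFiniteType K L := Algebra.EssFiniteType.of_comp A₁ K L
  obtain ⟨K', L', _, _, _, _, _, _, t1, t2, hfin, hpi, hess', hUR⟩ :=
    Groth.Agent.Lib.Helper56.exists_univRegular_ext K L
  haveI : Algebra.IsGeometricallyReduced K' L' := isGeometricallyReduced_of_univRegular K' L' hUR
  -- the finite subalgebra `A'` of `K'`
  letI : Algebra A₁ K' := ((algebraMap K K').comp (algebraMap A₁ K)).toAlgebra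
  haveI : IsScalarTower A₁ K K' := IsScalarTower.of_algebraMap_eq (fun _ => rfl)
  obtain ⟨A', _, _, _, _, _, hA'fin, hA'frac⟩ := exists_finite_algebra_isFractionRing A₁ K K'
  have hA'reg : HasGenReg A' := H A' hA'fin
  haveI : IsNoetherianRing A' := IsNoetherianRing.of_finite A₁ A'
  -- algebra structures on `L'`
  letI : Algebra A₁ L' := ((algebraMap K L').comp (algebraMap A₁ K)).toAlgebra
  haveI : IsScalarTower A₁ K L' := IsScalarTower.of_algebraMap_eq (fun _ => rfl)
  haveI : IsScalarTower A₁ K' L' := IsScalarTower.of_algebraMap_eq (fun x => by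
    show algebraMap K L' (algebraMap A₁ K x) = algebraMap K' L' (algebraMap K K' (algebraMap A₁ K x))
    rw [← IsScalarTower.algebraMap_apply K K' L'])
  letI : Algebra B L' := ((algebraMap L L').comp (algebraMap B L)).toAlgebra
  haveI : IsScalarTower B L L' := IsScalarTower.of_algebraMap_eq (fun _ => rfl)
  haveI : IsScalarTower A₁ B L' := IsScalarTower.of_algebraMap_eq (fun x => by
    show algebraMap K L' (algebraMap A₁ K x) = algebraMap L L' (algebraMap B L (algebraMap A₁ B x))
    rw [← IsScalarTower.algebraMap_apply A₁ B L, IsScalarTower.algebraMap_apply A₁ K L,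
      ← IsScalarTower.algebraMap_apply K L L'])
  letI : Algebra A' L' := ((algebraMap K' L').comp (algebraMap A' K')).toAlgebra
  haveI : IsScalarTower A' K' L' := IsScalarTower.of_algebraMap_eq (fun _ => rfl)
  haveI : IsScalarTower A₁ A' L' := IsScalarTower.of_algebraMap_eq (fun x => by
    show algebraMap A₁ L' x = algebraMap K' L' (algebraMap A' K' (algebraMap A₁ A' x))
    rw [← IsScalarTower.algebraMap_apply A₁ A' K', ← IsScalarTower.algebraMap_apply A₁ K' L'])
  -- the tensor product and its image in `L'`
  let C := A' ⊗[A₁] B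
  let ψ : C →ₐ[A'] L' := Algebra.TensorProduct.lift (Algebra.ofId A' L')
    (IsScalarTower.toAlgHom A₁ B L') (fun _ _ => Commute.all _ _)
  let Q : Ideal C := RingHom.ker ψ
  haveI hQ : Q.IsPrime := RingHom.ker_isPrime ψ
  let B' := C ⧸ Q
  haveI : IsDomain B' := Ideal.Quotient.isDomain Q
  let ψ' : B' →ₐ[A'] L' := Ideal.kerLiftAlg ψ
  have hψ' : Function.Injective ψ' := Ideal.kerLiftAlg_injective ψ
  haveI : Algebra.FiniteType A' B' :=
    Algebra.FiniteType.of_surjective (Ideal.Quotient.mkₐ A' Q) (Ideal.Quotient.mkₐ_surjective A' Q)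
  have hinjA'L' : Function.Injective (algebraMap A' L') := by
    rw [IsScalarTower.algebraMap_eq A' K' L']
    exact (algebraMap K' L').injective.comp (IsFractionRing.injective A' K')
  have hinjA'B' : Function.Injective (algebraMap A' B') := fun x y h =>
    hinjA'L' (by rw [← ψ'.commutes, ← ψ'.commutes, h])
  haveI : FaithfulSMul A' B' := (faithfulSMul_iff_algebraMap_injective A' B').mpr hinjA'B'
  -- the fraction field of `B'`
  let L'' := FractionRing B'
  have hinjA'L'' : Function.Injective (algebraMap A' L'') := by
    rw [IsScalarTower.algebraMap_eq A' B' L'']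
    exact (IsFractionRing.injective B' L'').comp hinjA'B'
  letI : Algebra K' L'' := (IsFractionRing.lift hinjA'L'').toAlgebra
  haveI : IsScalarTower A' K' L'' := IsScalarTower.of_algebraMap_eq
    (fun x => (IsFractionRing.lift_algebraMap hinjA'L'' x).symm)
  have hψ'' : Function.Injective ψ'.toRingHom := hψ'
  let σ : L'' →+* L' := IsFractionRing.lift hψ''
  have hσ : ∀ k : K', σ (algebraMap K' L'' k) = algebraMap K' L' k := by
    have : σ.comp (algebraMap K' L'') = algebraMap K' L' := by
      apply IsLocalization.ringHom_ext (nonZeroDivisors A')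
      ext x
      show σ (algebraMap K' L'' (algebraMap A' K' x)) = algebraMap K' L' (algebraMap A' K' x)
      rw [← IsScalarTower.algebraMap_apply A' K' L'', ← IsScalarTower.algebraMap_apply A' K' L',
        IsScalarTower.algebraMap_apply A' B' L'']
      show IsFractionRing.lift hψ'' (algebraMap B' L'' (algebraMap A' B' x)) = _
      rw [IsFractionRing.lift_algebraMap]
      exact ψ'.commutes x
    exact fun k => congr($this k)
  let σ' : L'' →ₐ[K'] L' := { σ with commutes' := hσ }
  haveI : Algebra.IsGeometricallyReduced K' L'' :=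
    Algebra.IsGeometricallyReduced.of_injective σ' σ.injective
  have hB'reg : HasGenReg B' := hasGenReg_of_separable' A' B' K' L'' hA'reg
  -- descent to `B`
  let ρ : B →+* B' := (Ideal.Quotient.mk Q).comp
    (Algebra.TensorProduct.includeRight : B →ₐ[A₁] C).toRingHom
  letI : Algebra B B' := ρ.toAlgebra
  have hρft : ρ.FiniteType := by
    have h1 : (algebraMap B (B ⊗[A₁] A')).FiniteType := RingHom.finiteType_algebraMap.mpr inferInstance
    have h2 : ((Algebra.TensorProduct.comm A₁ B A').toRingEquiv.toRingHom).FiniteType :=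
      RingHom.FiniteType.of_surjective _ (Algebra.TensorProduct.comm A₁ B A').surjective
    have h3 : (Ideal.Quotient.mk Q).FiniteType :=
      RingHom.FiniteType.of_surjective _ Ideal.Quotient.mk_surjective
    have e : ρ = (Ideal.Quotient.mk Q).comp
        (((Algebra.TensorProduct.comm A₁ B A').toRingEquiv.toRingHom).comp
          (algebraMap B (B ⊗[A₁] A'))) := by
      ext b
      show Ideal.Quotient.mk Q ((1 : A') ⊗ₜ[A₁] b) =
        Ideal.Quotient.mk Q (Algebra.TensorProduct.comm A₁ B A' (algebraMap B (B ⊗[A₁] A') b))
      rw [Algebra.TensorProduct.algebraMap_apply, Algebra.TensorProduct.comm_tmul]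
      rfl
    rw [e]
    exact h3.comp (h2.comp h1)
  haveI : Algebra.FiniteType B B' := hρft
  have hinjρ : Function.Injective (algebraMap B B') := by
    intro x y h
    have h1 : ψ' (ρ x) = ψ' (ρ y) := congrArg ψ' h
    have h2 : ∀ b : B, ψ' (ρ b) = algebraMap B L' b := by
      intro b
      show ψ ((1 : A') ⊗ₜ[A₁] b) = _
      show Algebra.TensorProduct.lift (Algebra.ofId A' L') (IsScalarTower.toAlgHom A₁ B L') _
        ((1 : A') ⊗ₜ[A₁] b) = _
      rw [Algebra.TensorProduct.lift_tmul, map_one, one_mul]
      rfl
    rw [h2, h2] at h1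
    have hinjBL' : Function.Injective (algebraMap B L') := by
      rw [IsScalarTower.algebraMap_eq B L L']
      exact (algebraMap L L').injective.comp (IsFractionRing.injective B L)
    exact hinjBL' h1
  haveI : IsNoetherianRing B := Algebra.FiniteType.isNoetherianRing A₁ B
  exact hasGenReg_descent B B' hinjρ hB'reg

/-- Generic regularity of all finite type domains over `A` from that of the finite ones. -/
theorem hasGenReg_of_finiteType_of_forall_finite' (A : Type u) [CommRing A] [IsNoetherianRing A]
    (H : ∀ (A' : Type u) [CommRing A'] [IsDomain A'] [Algebra A A'], Module.Finite A A' →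
      HasGenReg A')
    (B : Type u) [CommRing B] [IsDomain B] [Algebra A B] [Algebra.FiniteType A B] :
    HasGenReg B := by
  let p : Ideal A := RingHom.ker (algebraMap A B)
  haveI : p.IsPrime := RingHom.ker_isPrime (algebraMap A B)
  let A₁ := A ⧸ p
  letI : Algebra A₁ B := (RingHom.kerLift (algebraMap A B)).toAlgebra
  haveI : IsScalarTower A A₁ B := IsScalarTower.of_algebraMap_eq (fun _ => rfl)
  haveI : FaithfulSMul A₁ B :=
    (faithfulSMul_iff_algebraMap_injective A₁ B).mpr (RingHom.kerLift_injective (algebraMap A B))
  haveI : Algebra.FiniteType A₁ B := Algebra.FiniteType.of_restrictScalars_finiteType A A₁ B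
  refine hasGenReg_of_finiteType_of_forall_finite A₁ B ?_
  intro A' _ _ _ hfin
  letI : Algebra A A' := ((algebraMap A₁ A').comp (Ideal.Quotient.mk p)).toAlgebra
  haveI : IsScalarTower A A₁ A' := IsScalarTower.of_algebraMap_eq (fun _ => rfl)
  haveI : Module.Finite A A' := Module.Finite.trans A₁ A'
  exact H A' inferInstance

/-- The J-2 criterion. -/
theorem isJ2_iff (A : Type u) [CommRing A] [IsNoetherianRing A] :
    EGA4.IsJ2 A ↔
      ∀ (A' : Type u) [CommRing A'] [IsDomain A'] [Algebra A A'], Module.Finite A A' →
        HasGenReg A' := by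
  constructor
  · intro h A' _ _ _ hfin
    exact hasGenReg_of_isOpen_regLocus A' (h A' inferInstance)
  · intro H S _ _ hS
    haveI : IsNoetherianRing S := Algebra.FiniteType.isNoetherianRing A S
    apply nagata_regLocus
    intro Q _
    haveI := Q.2
    haveI : Algebra.FiniteType A (S ⧸ Q.asIdeal) :=
      Algebra.FiniteType.of_surjective (Ideal.Quotient.mkₐ A Q.asIdeal)
        (Ideal.Quotient.mkₐ_surjective A Q.asIdeal)
    exact hasGenReg_of_finiteType_of_forall_finite' A H (S ⧸ Q.asIdeal)

end Groth.Agent.Lib.Helper67.RegLocus
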