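import Mathlib
import Groth.Agent.S1334
import Groth.Agent.S1335
import Groth.Agent.S1338
import Groth.Agent.S1339
import Groth.Agent.S4649
import Groth.Agent.Lib.Helper51.GeomFibreBC
import Groth.Agent.Lib.Helper78.GeomRedCons
import Groth.Agent.Lib.Helper4.ConsTop
import Groth.Agent.Lib.Helper67.ConnLim

/-!
# The locus of geometrically pointwise integral fibres is locally constructible
-/

set_option autoImplicit false
set_option linter.style.haveILetI false
universe u

open AlgebraicGeometry CategoryTheory Limits TopologicalSpace Topology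

namespace Groth.Agent.Lib.Helper67.PtIntCons

open Groth.Agent.Lib.Helper51

/-- Over a separably closed field, the number of geometric irreducible components of the fibre
is the number of irreducible components of the scheme. -/
theorem nGeomIrredComp_eq_encard_of_isSepClosed {Ω : Type u} [Field Ω] [IsSepClosed Ω]
    {W : Scheme.{u}} (g : W ⟶ Spec (CommRingCat.of Ω)) (pt : Spec (CommRingCat.of Ω)) :
    MoreMor.nGeomIrredComp g pt = (irreducibleComponents ↥W).encard := by
  let z : Spec (CommRingCat.of (SeparableClosure ((Spec (CommRingCat.of Ω)).residueField pt))) ⟶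
      Spec (CommRingCat.of Ω) :=
    sepMap (Spec (CommRingCat.of Ω)) pt ≫ (Spec (CommRingCat.of Ω)).fromSpecResidueField pt
  let p : MoreMor.geomFiber g pt ⟶ W :=
    pullback.fst (g.fiberToSpecResidueField pt) (sepMap (Spec (CommRingCat.of Ω)) pt) ≫
      g.fiberι pt
  have hpb : IsPullback p
      (pullback.snd (g.fiberToSpecResidueField pt) (sepMap (Spec (CommRingCat.of Ω)) pt)) g z :=
    (IsPullback.of_hasPullback (g.fiberToSpecResidueField pt)
      (sepMap (Spec (CommRingCat.of Ω)) pt)).paste_horiz
      (IsPullback.of_hasPullback g ((Spec (CommRingCat.of Ω)).fromSpecResidueField pt))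
  obtain ⟨ψ, hψ⟩ := Spec.map_surjective z
  letI : Algebra Ω (SeparableClosure ((Spec (CommRingCat.of Ω)).residueField pt)) :=
    ψ.hom.toAlgebra
  have hz : z = Spec.map (CommRingCat.ofHom
      (algebraMap Ω (SeparableClosure ((Spec (CommRingCat.of Ω)).residueField pt)))) := hψ.symm
  haveI hz1 : GeometricallyIrreducible z := by
    rw [hz]
    exact geometricallyIrreducible_specMap_of_isSepClosed Ω _
  haveI hz2 : UniversallyOpen z := by
    rw [hz]
    infer_instance
  haveI : GeometricallyIrreducible p :=
    MorphismProperty.of_isPullback (P := @GeometricallyIrreducible) hpb.flip hz1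
  haveI : UniversallyOpen p :=
    MorphismProperty.of_isPullback (P := @UniversallyOpen) hpb.flip hz2
  have e := p.irreducibleComponentsEquiv p.isOpenMap
  unfold MoreMor.nGeomIrredComp
  exact Set.encard_congr e

variable {X S : Scheme.{u}}

/-- The counts of geometric components of the fibre over `s`, computed after base change of the
fibre along any morphism from the spectrum of a separably closed field. -/
theorem counts (f : X ⟶ S) (s : S) (Ω : Type u) [Field Ω] [IsSepClosed Ω]
    (j : Spec (CommRingCat.of Ω) ⟶ Spec (S.residueField s)) :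
    MoreMor.nGeomIrredComp f s =
        (irreducibleComponents ↥(pullback (f.fiberToSpecResidueField s) j)).encard ∧
      MoreMor.nGeomConnComp f s =
        ENat.card (_root_.ConnectedComponents ↥(pullback (f.fiberToSpecResidueField s) j)) := by
  let t : Spec (CommRingCat.of Ω) ⟶ S := j ≫ S.fromSpecResidueField s
  have hpb : IsPullback (pullback.fst (f.fiberToSpecResidueField s) j ≫ f.fiberι s)
      (pullback.snd (f.fiberToSpecResidueField s) j) f t :=
    (IsPullback.of_hasPullback (f.fiberToSpecResidueField s) j).paste_horiz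
      (IsPullback.of_hasPullback f (S.fromSpecResidueField s))
  let pt : Spec (CommRingCat.of Ω) := IsLocalRing.closedPoint Ω
  have ht : t pt = s := by
    show (j ≫ S.fromSpecResidueField s) pt = s
    rw [Scheme.Hom.comp_apply, Scheme.fromSpecResidueField_apply]
  constructor
  · have h1 := Groth.Agent.S1334.result f _ _ t hpb pt
    rw [ht] at h1
    rw [← h1, nGeomIrredComp_eq_encard_of_isSepClosed]
  · have h1 := Groth.Agent.S1335.result f _ _ t hpb pt
    rw [ht] at h1
    rw [← h1, Groth.Agent.Lib.Helper67.ConnLim.nGeomConnComp_eq_card_of_isSepClosed]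

/-- A Noetherian space has finitely many connected components. -/
theorem finite_connectedComponents (T : Type*) [TopologicalSpace T] [NoetherianSpace T] :
    Finite (_root_.ConnectedComponents T) := by
  haveI : Finite ↥(irreducibleComponents T) :=
    NoetherianSpace.finite_irreducibleComponents.to_subtype
  have hne : ∀ Z : ↥(irreducibleComponents T), (Z : Set T).Nonempty := fun Z => Z.2.1.nonempty
  choose z hz using hne
  refine Finite.of_surjective
    (fun Z : ↥(irreducibleComponents T) => _root_.ConnectedComponents.mk (z Z)) ?_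
  intro c
  obtain ⟨x, rfl⟩ := _root_.ConnectedComponents.surjective_coe c
  refine ⟨⟨irreducibleComponent x, irreducibleComponent_mem_irreducibleComponents x⟩, ?_⟩
  rw [_root_.ConnectedComponents.coe_eq_coe']
  have hsub : irreducibleComponent x ⊆ connectedComponent x :=
    isIrreducible_irreducibleComponent.isConnected.isPreconnected.subset_connectedComponent
      mem_irreducibleComponent
  exact hsub (hz ⟨irreducibleComponent x, irreducibleComponent_mem_irreducibleComponents x⟩)

/-- **Pointwise criterion**: the fibre over `s` is geometrically pointwise integral iff it is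
geometrically reduced and has as many geometric irreducible components as geometric connected
components. -/
theorem ptIntegral_iff (f : X ⟶ S) [LocallyOfFiniteType f] [QuasiCompact f] (s : S) :
    (∀ x : ↥(f.fiber s), FBase.IsGeomPtIntegralAt (f.fiberToSpecResidueField s) x) ↔
      GeometricallyReduced (f.fiberToSpecResidueField s) ∧
        MoreMor.nGeomIrredComp f s = MoreMor.nGeomConnComp f s := by
  let g : f.fiber s ⟶ Spec (CommRingCat.of (IsLocalRing.ResidueField (S.presheaf.stalk s))) :=
    f.fiberToSpecResidueField s
  have hg1 : LocallyOfFiniteType g :=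
    inferInstanceAs (LocallyOfFiniteType (pullback.snd f (S.fromSpecResidueField s)))
  have hg2 : QuasiCompact g :=
    inferInstanceAs (QuasiCompact (pullback.snd f (S.fromSpecResidueField s)))
  show (∀ x : ↥(f.fiber s), FBase.IsGeomPtIntegralAt g x) ↔ _
  rw [@Groth.Agent.S4649.result (IsLocalRing.ResidueField (S.presheaf.stalk s))
    (AlgebraicClosure (IsLocalRing.ResidueField (S.presheaf.stalk s))) _ _ _ _ (f.fiber s) g
    hg1 hg2]
  show GeometricallyReduced (f.fiberToSpecResidueField s) ∧
    Nat.card ↥(irreducibleComponents ↥(FBase.bc g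
      (AlgebraicClosure (IsLocalRing.ResidueField (S.presheaf.stalk s))))) =
    Nat.card (_root_.ConnectedComponents ↥(FBase.bc g
      (AlgebraicClosure (IsLocalRing.ResidueField (S.presheaf.stalk s))))) ↔ _
  let j : Spec (CommRingCat.of
      (AlgebraicClosure (IsLocalRing.ResidueField (S.presheaf.stalk s)))) ⟶
      Spec (S.residueField s) := Spec.map (CommRingCat.ofHom
        (algebraMap (IsLocalRing.ResidueField (S.presheaf.stalk s))
          (AlgebraicClosure (IsLocalRing.ResidueField (S.presheaf.stalk s)))))
  have hjq : QuasiCompact j := inferInstanceAs (QuasiCompact (Spec.map (CommRingCat.ofHom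
        (algebraMap (IsLocalRing.ResidueField (S.presheaf.stalk s))
          (AlgebraicClosure (IsLocalRing.ResidueField (S.presheaf.stalk s)))))))
  show GeometricallyReduced (f.fiberToSpecResidueField s) ∧
    Nat.card ↥(irreducibleComponents ↥(pullback (f.fiberToSpecResidueField s) j)) =
    Nat.card (_root_.ConnectedComponents ↥(pullback (f.fiberToSpecResidueField s) j)) ↔ _
  obtain ⟨h1, h2⟩ := counts f s
    (AlgebraicClosure (IsLocalRing.ResidueField (S.presheaf.stalk s))) j
  rw [h1, h2]
  -- the base change is a Noetherian space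
  haveI : NoetherianSpace ↥(pullback (f.fiberToSpecResidueField s) j) := by
    haveI : CompactSpace ↥(pullback (f.fiberToSpecResidueField s) j) :=
      QuasiCompact.compactSpace_of_compactSpace (pullback.snd (f.fiberToSpecResidueField s) j)
    haveI : IsLocallyNoetherian (pullback (f.fiberToSpecResidueField s) j) :=
      LocallyOfFiniteType.isLocallyNoetherian (pullback.snd (f.fiberToSpecResidueField s) j)
    haveI : IsNoetherian (pullback (f.fiberToSpecResidueField s) j) := {}
    infer_instance
  haveI : Finite ↥(irreducibleComponents ↥(pullback (f.fiberToSpecResidueField s) j)) :=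
    NoetherianSpace.finite_irreducibleComponents.to_subtype
  haveI : Finite (_root_.ConnectedComponents ↥(pullback (f.fiberToSpecResidueField s) j)) :=
    finite_connectedComponents _
  have e1 : (irreducibleComponents ↥(pullback (f.fiberToSpecResidueField s) j)).encard =
      (Nat.card ↥(irreducibleComponents ↥(pullback (f.fiberToSpecResidueField s) j)) : ℕ∞) := by
    rw [Set.encard, ENat.card_eq_coe_natCard]
  have e2 : ENat.card (_root_.ConnectedComponents ↥(pullback (f.fiberToSpecResidueField s) j)) =
      (Nat.card (_root_.ConnectedComponents ↥(pullback (f.fiberToSpecResidueField s) j)) : ℕ∞) :=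
    ENat.card_eq_coe_natCard _
  rw [e1, e2, Nat.cast_inj]

/-- **EGA IV 9.7.7 (geometrically pointwise integral)**: statement S4838. -/
theorem main (f : X ⟶ S) [LocallyOfFinitePresentation f] [QuasiCompact f] [QuasiSeparated f] :
    Topology.IsLocallyConstructible {s : S |
      ∀ x : ↥(f.fiber s), FBase.IsGeomPtIntegralAt (f.fiberToSpecResidueField s) x} := by
  classical
  have hset : {s : S | ∀ x : ↥(f.fiber s),
      FBase.IsGeomPtIntegralAt (f.fiberToSpecResidueField s) x} =
      {s : S | GeometricallyReduced (f.fiberToSpecResidueField s)} ∩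
        {s : S | MoreMor.nGeomIrredComp f s = MoreMor.nGeomConnComp f s} := by
    ext s
    exact ptIntegral_iff f s
  rw [hset]
  refine (Groth.Agent.Lib.Helper78.GeomRedCons.isLocallyConstructible_geometricallyReduced_locus
    f).inter ?_
  -- the equality locus, on an affine open of the base
  intro y₀
  obtain ⟨_, ⟨V, hV : IsAffineOpen V, rfl⟩, hyV, -⟩ :=
    S.isBasis_affineOpens.exists_subset_of_mem_open (Set.mem_univ y₀) isOpen_univ
  refine ⟨V, V.2.mem_nhds hyV, V.2, ?_⟩
  haveI : IsAffine (V : Scheme.{u}) := hV
  have hL : ∀ n : ℕ∞, IsConstructible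
      ((Subtype.val : ↥(V : Set ↥S) → ↥S) ⁻¹' {y : S | MoreMor.nGeomIrredComp f y = n}) := by
    intro n
    have h1 := (Groth.Agent.S1338.result f n).preimage_of_isOpenEmbedding
      V.2.isOpenEmbedding_subtypeVal
    exact IsLocallyConstructible.isConstructible (X := ↥(Scheme.Opens.toScheme V)) h1
  have hM : ∀ n : ℕ∞, IsConstructible
      ((Subtype.val : ↥(V : Set ↥S) → ↥S) ⁻¹' {y : S | MoreMor.nGeomConnComp f y = n}) := by
    intro n
    have h1 := (Groth.Agent.S1339.result f n).preimage_of_isOpenEmbedding
      V.2.isOpenEmbedding_subtypeVal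
    exact IsLocallyConstructible.isConstructible (X := ↥(Scheme.Opens.toScheme V)) h1
  have i1 : CompactSpace ↥(Scheme.Opens.toScheme V) := inferInstance
  have i2 : QuasiSober ↥(Scheme.Opens.toScheme V) := inferInstance
  have i3 : PrespectralSpace ↥(Scheme.Opens.toScheme V) := inferInstance
  have i4 : QuasiSeparatedSpace ↥(Scheme.Opens.toScheme V) := inferInstance
  obtain ⟨t, ht⟩ := @Groth.Agent.Lib.Helper4.CIn.exists_finite_subcover_of_isConstructible
    ↥(Scheme.Opens.toScheme V) _ i1 i2 i3 i4 ℕ∞
    (fun n : ℕ∞ => (Subtype.val : ↥(V : Set ↥S) → ↥S) ⁻¹'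
      {y : S | MoreMor.nGeomIrredComp f y = n})
    hL (by
      apply Set.eq_univ_of_forall
      intro v
      exact Set.mem_iUnion.2 ⟨MoreMor.nGeomIrredComp f v.1, rfl⟩)
  have heq : ((Subtype.val : ↥(V : Set ↥S) → ↥S) ⁻¹'
      {s : S | MoreMor.nGeomIrredComp f s = MoreMor.nGeomConnComp f s}) =
      ⋃ n ∈ t, ((Subtype.val : ↥(V : Set ↥S) → ↥S) ⁻¹' {y : S | MoreMor.nGeomIrredComp f y = n}) ∩
        ((Subtype.val : ↥(V : Set ↥S) → ↥S) ⁻¹' {y : S | MoreMor.nGeomConnComp f y = n}) := by
    ext v
    simp only [Set.mem_preimage, Set.mem_ofPred_eq, Set.mem_iUnion, Set.mem_inter_iff,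
      exists_prop]
    constructor
    · intro h
      have hv : v ∈ ⋃ n ∈ t, (Subtype.val : ↥(V : Set ↥S) → ↥S) ⁻¹'
          {y : S | MoreMor.nGeomIrredComp f y = n} := by
        have h0 := Set.eq_univ_iff_forall.1 ht v
        exact h0
      obtain ⟨n, hn, hvn⟩ := Set.mem_iUnion₂.1 hv
      have hvn' : MoreMor.nGeomIrredComp f v.1 = n := hvn
      exact ⟨n, hn, hvn', by rw [← h, hvn']⟩
    · rintro ⟨n, -, h1, h2⟩
      rw [h1, h2]
  show IsConstructible ((Subtype.val : ↥(V : Set ↥S) → ↥S) ⁻¹'
      {s : S | MoreMor.nGeomIrredComp f s = MoreMor.nGeomConnComp f s})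
  rw [heq]
  exact IsConstructible.biUnion t.finite_toSet fun n _ => (hL n).inter (hM n)

end Groth.Agent.Lib.Helper67.PtIntCons
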