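import Groth.Agent.Lib.Helper73.DimFT.Spec
import Groth.Agent.Lib.Helper77.MiracleFlat
import Groth.Agent.Lib.Helper77.FlatDepth4
import Groth.Agent.Lib.Helper77.RegularCM
import Mathlib.RingTheory.QuasiFinite.Basic
import Mathlib.RingTheory.RegularLocalRing.Polynomial

/-!
# Quasi-finite algebras over polynomial rings: flatness at a prime ⟺ CM + local dimension
-/

set_option autoImplicit false
set_option linter.style.haveILetI false
set_option linter.unusedSectionVars false

universe u

namespace Groth.Agent.Lib.Helper67.QFinPoly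

open IsLocalRing LocCoh Groth.Agent.Lib.Helper73 Groth.Agent.Lib.Helper77.FlatDepth

section General

variable (k : Type u) [Field k] (R S : Type u) [CommRing R] [CommRing S] [Algebra k R] [Algebra k S]
  [Algebra R S] [IsScalarTower k R S] [Algebra.FiniteType k R] [Algebra.FiniteType k S]
  [Algebra.QuasiFinite R S] (q : Ideal S) [q.IsPrime]

include k in
/-- For a quasi-finite map of finite type algebras over a field, `dim S/q = dim R/(q ∩ R)`. -/
theorem ringKrullDim_quotient_eq_of_quasiFinite :
    ringKrullDim (S ⧸ q) = ringKrullDim (R ⧸ q.comap (algebraMap R S)) := by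
  set p := q.comap (algebraMap R S) with hp
  haveI : q.LiesOver p := ⟨rfl⟩
  letI := Localization.AtPrime.algebraOfLiesOver p q
  haveI : Module.Finite p.ResidueField q.ResidueField := inferInstance
  haveI : Algebra.IsAlgebraic p.ResidueField q.ResidueField := Algebra.IsAlgebraic.of_finite _ _
  obtain ⟨n, hn⟩ := exists_nat_ringKrullDim_eq k (R ⧸ p)
  have h1 : Algebra.trdeg k p.ResidueField = n :=
    trdeg_eq_of_ringKrullDim_eq k p.ResidueField n hn
  have h2 : Algebra.trdeg k q.ResidueField = n := by
    have h := lift_trdeg_add_eq k p.ResidueField q.ResidueField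
    rw [trdeg_eq_zero (R := p.ResidueField) (A := q.ResidueField), h1] at h
    simp only [Cardinal.lift_natCast, Cardinal.lift_zero, add_zero, Cardinal.lift_id] at h
    exact h.symm
  rw [hn]
  exact ringKrullDim_eq_of_trdeg_eq k q.ResidueField n h2

omit [Algebra k R] [Algebra k S] [IsScalarTower k R S] [Algebra.FiniteType k R]
  [Algebra.FiniteType k S] in
/-- For a quasi-finite algebra, every prime `q` is minimal over `(q ∩ R) S`. -/
theorem mem_minimalPrimes_map_comap_of_quasiFinite :
    q ∈ ((q.comap (algebraMap R S)).map (algebraMap R S)).minimalPrimes := by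
  refine ⟨⟨inferInstance, Ideal.map_comap_le⟩, ?_⟩
  rintro q' ⟨hq'prime, hq'ge⟩ hq'le
  have h1 : q'.under R = q.under R := by
    apply le_antisymm
    · exact Ideal.comap_mono hq'le
    · rw [Ideal.under_def, Ideal.under_def, ← Ideal.map_le_iff_le_comap]
      exact hq'ge
  exact (Algebra.QuasiFinite.eq_of_le_of_under_eq (R := R) q' q hq'le h1).ge

end General


section Main

variable (k S : Type u) [Field k] [CommRing S] [Algebra k S] [Algebra.FiniteType k S] (d : ℕ)
  [Algebra (MvPolynomial (Fin d) k) S] [IsScalarTower k (MvPolynomial (Fin d) k) S]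
  [Algebra.QuasiFinite (MvPolynomial (Fin d) k) S] (q : Ideal S) [q.IsPrime]

/-- For `k[y_1..y_d] → S` quasi-finite with `S` of finite type over the field `k`: `S_q` is flat over
the polynomial ring iff `S_q` is Cohen–Macaulay and `Spec S` has local dimension `d` at `q`. -/
theorem flat_atPrime_iff :
    Module.Flat (MvPolynomial (Fin d) k) (Localization.AtPrime q) ↔
      (IsCohenMacaulayLocalRing (Localization.AtPrime q) ∧
        FlatMor.localDim (PrimeSpectrum S) ⟨q, inferInstance⟩ = (d : WithBot ℕ∞)) := by
  set p := q.comap (algebraMap (MvPolynomial (Fin d) k) S) with hp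
  haveI : q.LiesOver p := ⟨rfl⟩
  letI := Localization.AtPrime.algebraOfLiesOver p q
  haveI hNS : IsNoetherianRing S := Algebra.FiniteType.isNoetherianRing k S
  haveI hNA : IsNoetherianRing (Localization.AtPrime p) :=
    IsLocalization.isNoetherianRing p.primeCompl _ inferInstance
  haveI hNB : IsNoetherianRing (Localization.AtPrime q) :=
    IsLocalization.isNoetherianRing q.primeCompl _ inferInstance
  haveI hlh : IsLocalHom (algebraMap (Localization.AtPrime p) (Localization.AtPrime q)) :=
    Localization.isLocalHom_localRingHom p q (algebraMap (MvPolynomial (Fin d) k) S) rfl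
  haveI hreg : IsRegularLocalRing (Localization.AtPrime p) := inferInstance
  haveI hCMA : IsCohenMacaulayLocalRing (Localization.AtPrime p) :=
    Groth.Agent.Lib.Helper77.RegularCM.isCohenMacaulayLocalRing _
  have hI : (maximalIdeal (Localization.AtPrime p)).map
      (algebraMap (Localization.AtPrime p) (Localization.AtPrime q)) =
      p.map (algebraMap (MvPolynomial (Fin d) k) (Localization.AtPrime q)) := by
    rw [← Localization.AtPrime.map_eq_maximalIdeal, Ideal.map_map,
      ← IsScalarTower.algebraMap_eq]
  have hF0 : ringKrullDim (Localization.AtPrime q ⧸ (maximalIdeal (Localization.AtPrime p)).map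
      (algebraMap (Localization.AtPrime p) (Localization.AtPrime q))) = 0 := by
    rw [dim_quot_congr _ _ hI]
    exact dim_fibLoc_eq_zero_of_minimal (MvPolynomial (Fin d) k) S q
      (mem_minimalPrimes_map_comap_of_quasiFinite (MvPolynomial (Fin d) k) S q)
  have hdimA : ringKrullDim (Localization.AtPrime p) = p.height :=
    IsLocalization.AtPrime.ringKrullDim_eq_height p _
  have hdimB : ringKrullDim (Localization.AtPrime q) = q.height :=
    IsLocalization.AtPrime.ringKrullDim_eq_height q _
  have hld : FlatMor.localDim (PrimeSpectrum S) ⟨q, inferInstance⟩ =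
      (q.height : WithBot ℕ∞) + ringKrullDim (S ⧸ q) := by
    have h : ((quotDim (⟨q, inferInstance⟩ : PrimeSpectrum S) : ℕ) : WithBot ℕ∞) =
        ringKrullDim (S ⧸ q) := coe_quotDim k _
    rw [localDim_primeSpectrum_eq k, ← h]
    push_cast
    rfl
  have hquot : ringKrullDim (S ⧸ q) = ringKrullDim (MvPolynomial (Fin d) k ⧸ p) :=
    ringKrullDim_quotient_eq_of_quasiFinite k (MvPolynomial (Fin d) k) S q
  have hPd : (p.height : WithBot ℕ∞) + ringKrullDim (MvPolynomial (Fin d) k ⧸ p) = d := by
    rw [height_add_ringKrullDim_quotient k p, ringKrullDim_mvPolynomial_field]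
  have hflatiff : Module.Flat (Localization.AtPrime p) (Localization.AtPrime q) ↔
      Module.Flat (MvPolynomial (Fin d) k) (Localization.AtPrime q) :=
    Module.flat_iff_of_isLocalization (Localization.AtPrime p) p.primeCompl _
  obtain ⟨n, hn⟩ := exists_nat_ringKrullDim_eq k (MvPolynomial (Fin d) k ⧸ p)
  obtain ⟨a, ha⟩ := ENat.ne_top_iff_exists.mp (Ideal.height_ne_top_of_isPrime (I := p))
  obtain ⟨b, hb⟩ := ENat.ne_top_iff_exists.mp (Ideal.height_ne_top_of_isPrime (I := q))
  rw [hld, hquot]
  constructor
  · intro hflat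
    haveI := hflatiff.mpr hflat
    have hdim := dim_eq_add (Localization.AtPrime p) (Localization.AtPrime q)
    rw [hF0, add_zero, hdimA, hdimB] at hdim
    refine ⟨(isCM_iff (Localization.AtPrime p) (Localization.AtPrime q)).mpr
      ⟨hCMA, isCM_of_dim_zero _ hF0⟩, ?_⟩
    rw [hdim]
    exact hPd
  · rintro ⟨hCM, hd⟩
    rw [← hflatiff]
    apply Groth.Agent.Lib.Helper77.MiracleFlat.miracle_flatness
    rw [hF0, add_zero, hdimA, hdimB]
    rw [← hPd, hn, ← ha, ← hb] at hd
    have hd' : b + n = a + n := by exact_mod_cast hd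
    have hab : b = a := by omega
    rw [← ha, ← hb, hab]

end Main

end Groth.Agent.Lib.Helper67.QFinPoly
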