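import Groth.Agent.Lib.Helper67.FlatDepth10

set_option autoImplicit false
set_option linter.style.haveILetI false
set_option linter.unusedSectionVars false

universe u v w

namespace Groth.Agent.Lib.Helper67

open RingTheory.Sequence LocCoh TensorProduct IsLocalRing
open scoped Pointwise

section FlatOfQuot

variable {R : Type u} {S : Type v} [CommRing R] [CommRing S] [Algebra R S]
  (N : Type w) [AddCommGroup N] [Module S N] [Module R N] [IsScalarTower R S N]

/-- If `y ∈ rad S` is `N`-regular, `N` is a finite module over the noetherian ring `S` and `N/yN` is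
flat over `R`, then `N` is flat over `R`. -/
theorem flat_of_flat_quotSMulTop [IsNoetherianRing S] [Module.Finite S N] (y : S)
    (hy : y ∈ Ideal.jacobson (⊥ : Ideal S)) (hreg : IsSMulRegular N y)
    (hflat : Module.Flat R (QuotSMulTop y N)) : Module.Flat R N := by
  rw [Module.Flat.iff_lTensor_injective]
  intro I hI
  haveI : Module.Finite R I := Module.Finite.iff_fg.mpr hI
  haveI hfin : Module.Finite S (N ⊗[R] I) := finite_tensor N I
  haveI : IsNoetherian S (N ⊗[R] I) := isNoetherian_of_isNoetherianRing_of_finite S _
  have hK : LinearMap.ker (AlgebraTensorModule.lTensor S N I.subtype) = ⊥ := by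
    apply Submodule.eq_bot_of_le_smul_of_le_jacobson_bot (Ideal.span {y})
    · exact IsNoetherian.noetherian _
    · intro z hz
      rw [LinearMap.mem_ker] at hz
      -- image in `N/yN ⊗ I` vanishes
      have h1 : quotTensorMap N y I z = 0 := by
        have hinj : Function.Injective (LinearMap.lTensor (QuotSMulTop y N) I.subtype) :=
          Module.Flat.lTensor_preserves_injective_linearMap _ (Submodule.injective_subtype _)
        apply hinj
        rw [map_zero, ← quotTensorMap_lTensor]
        have : LinearMap.lTensor N I.subtype z = 0 := hz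
        rw [this, map_zero]
      have h2 : z ∈ LinearMap.ker (quotTensorMap (R := R) N y I) := h1
      rw [ker_quotTensorMap, Submodule.mem_smul_pointwise_iff_exists] at h2
      obtain ⟨w, -, rfl⟩ := h2
      have hw : w ∈ LinearMap.ker (AlgebraTensorModule.lTensor S N I.subtype) := by
        rw [LinearMap.mem_ker]
        rw [map_smul] at hz
        have hregT : IsSMulRegular (N ⊗[R] R) y :=
          ((AlgebraTensorModule.rid R S N).isSMulRegular_congr y).mpr hreg
        exact hregT.right_eq_zero_of_smul hz
      rw [Submodule.ideal_span_singleton_smul]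
      exact Submodule.smul_mem_pointwise_smul w y _ hw
    · rw [Ideal.span_singleton_le_iff_mem]
      exact hy
  intro a b hab
  have : a - b ∈ LinearMap.ker (AlgebraTensorModule.lTensor S N I.subtype) := by
    rw [LinearMap.mem_ker, map_sub, sub_eq_zero]
    exact hab
  rw [hK] at this
  exact sub_eq_zero.mp ((Submodule.mem_bot S).mp this)

/-- EGA 0_III 10.2.4-type: if `fs ⊆ rad S` is `N`-regular and `N/(fs)N` is `R`-flat, then all the
intermediate quotients `N/(f₁,…,fᵢ)N` are `R`-flat. -/
theorem flat_quot_take_of_flat_quot [IsNoetherianRing S] (fs : List S)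
    (hfs : ∀ f ∈ fs, f ∈ Ideal.jacobson (⊥ : Ideal S)) :
    ∀ (N : Type w) [AddCommGroup N] [Module S N] [Module R N] [IsScalarTower R S N]
      [Module.Finite S N], IsWeaklyRegular N fs →
      Module.Flat R (N ⧸ (Ideal.ofList fs • (⊤ : Submodule S N))) →
      ∀ i ≤ fs.length, Module.Flat R (N ⧸ (Ideal.ofList (fs.take i) • (⊤ : Submodule S N))) := by
  induction fs with
  | nil =>
    intro N _ _ _ _ _ _ hflat i hi
    have hi0 : i = 0 := by simpa using hi
    subst hi0
    exact hflat
  | cons f fs ih =>
    intro N _ _ _ _ _ hreg hflat i hi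
    rw [isWeaklyRegular_cons_iff] at hreg
    obtain ⟨hf, hreg'⟩ := hreg
    have hfs' : ∀ g ∈ fs, g ∈ Ideal.jacobson (⊥ : Ideal S) := fun g hg =>
      hfs g (List.mem_cons_of_mem f hg)
    have hflat' : Module.Flat R (QuotSMulTop f N ⧸
        (Ideal.ofList fs • (⊤ : Submodule S (QuotSMulTop f N)))) :=
      Module.Flat.of_linearEquiv
        ((Submodule.quotOfListConsSMulTopEquivQuotSMulTopInner N f fs).symm.restrictScalars R)
    have h2 := ih hfs' (QuotSMulTop f N) hreg' hflat'
    have hflatQ : Module.Flat R (QuotSMulTop f N) := by
      have h0 := h2 0 (Nat.zero_le _)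
      have hbot : Ideal.ofList (List.take 0 fs) • (⊤ : Submodule S (QuotSMulTop f N)) = ⊥ := by
        simp
      exact Module.Flat.of_linearEquiv
        ((Submodule.quotEquivOfEqBot _ hbot).symm.restrictScalars R)
    have hflatN : Module.Flat R N :=
      flat_of_flat_quotSMulTop N f (hfs f List.mem_cons_self) hf hflatQ
    rcases i with _ | j
    · have hbot : Ideal.ofList (List.take 0 (f :: fs)) • (⊤ : Submodule S N) = ⊥ := by
        simp
      exact Module.Flat.of_linearEquiv
        ((Submodule.quotEquivOfEqBot _ hbot).restrictScalars R)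
    · have hj : j ≤ fs.length := by simpa using hi
      have h3 := h2 j hj
      rw [List.take_succ_cons]
      exact Module.Flat.of_linearEquiv
        ((Submodule.quotOfListConsSMulTopEquivQuotSMulTopInner N f (fs.take j)).restrictScalars R)

end FlatOfQuot

end Groth.Agent.Lib.Helper67
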