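import Groth.Agent.Lib.Helper67.RegFlat
import Mathlib.RingTheory.Flat.Equalizer
import Mathlib.RingTheory.Noetherian.OfPrime

set_option autoImplicit false
set_option linter.style.haveILetI false
set_option linter.unusedSectionVars false

universe u v w

namespace Groth.Agent.Lib.Helper67

open RingTheory.Sequence LocCoh TensorProduct IsLocalRing
open scoped Pointwise

section FlatQuotInf

variable {R : Type u} [CommRing R] {M : Type v} [AddCommGroup M] [Module R M]

/-- If `M/K` is flat then `𝔞M ∩ K = 𝔞K`. -/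
theorem smul_top_inf_eq_smul_of_flat_quotient (K : Submodule R M) [Module.Flat R (M ⧸ K)]
    (𝔞 : Ideal R) : (𝔞 • (⊤ : Submodule R M)) ⊓ K = 𝔞 • K := by
  apply le_antisymm
  · rintro x ⟨hx1, hx2⟩
    have hinj : Function.Injective (LinearMap.lTensor (R ⧸ 𝔞) K.subtype) :=
      LinearMap.lTensor_injective_of_exact_of_flat K.mkQ (Submodule.mkQ_surjective K) K.subtype
        K.injective_subtype (LinearMap.exact_subtype_mkQ K) (R ⧸ 𝔞)
    have h0 : ((1 : R ⧸ 𝔞) ⊗ₜ[R] (⟨x, hx2⟩ : K)) = 0 := by
      apply hinj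
      rw [map_zero, LinearMap.lTensor_tmul, Submodule.subtype_apply]
      apply (TensorProduct.quotTensorEquivQuotSMul M 𝔞).injective
      rw [map_zero, TensorProduct.quotTensorEquivQuotSMul_mk_one_tmul,
        Submodule.Quotient.mk_eq_zero]
      exact hx1
    have h1 : (⟨x, hx2⟩ : K) ∈ (𝔞 • (⊤ : Submodule R K)) := by
      have := congrArg (TensorProduct.quotTensorEquivQuotSMul K 𝔞) h0
      rw [map_zero, TensorProduct.quotTensorEquivQuotSMul_mk_one_tmul,
        Submodule.Quotient.mk_eq_zero] at this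
      exact this
    have h2 : x ∈ Submodule.map K.subtype (𝔞 • (⊤ : Submodule R K)) := ⟨⟨x, hx2⟩, h1, rfl⟩
    rw [Submodule.map_smul'', Submodule.map_subtype_top] at h2
    exact h2
  · exact le_inf (Submodule.smul_mono le_rfl le_top) Submodule.smul_le_right

end FlatQuotInf

section IdealVersion

variable {C : Type u} {A : Type v} [CommRing C] [CommRing A] [Algebra C A]

/-- If `A/I` is flat over `C` then `𝔞A ∩ I = 𝔞I`. -/
theorem map_inf_eq_mul_of_flat_quotient (I : Ideal A) [Module.Flat C (A ⧸ I)] (𝔞 : Ideal C) :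
    𝔞.map (algebraMap C A) ⊓ I = 𝔞.map (algebraMap C A) * I := by
  haveI : Module.Flat C (A ⧸ I.restrictScalars C) :=
    Module.Flat.of_linearEquiv (Submodule.Quotient.restrictScalarsEquiv C I)
  have h := smul_top_inf_eq_smul_of_flat_quotient (I.restrictScalars C) 𝔞
  ext x
  constructor
  · intro hx
    have h1 : x ∈ 𝔞 • I.restrictScalars C := by
      rw [← h]
      refine ⟨?_, hx.2⟩
      rw [Ideal.smul_top_eq_map]
      exact hx.1
    rw [← Ideal.smul_restrictScalars] at h1
    exact h1
  · intro hx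
    exact ⟨Ideal.mul_le_left hx, Ideal.mul_le_right hx⟩

/-- Nakayama for nilpotent ideals and flat quotients: if `I' ≤ I ≤ I' + 𝔞A` with `𝔞` nilpotent
and `A/I` flat over `C`, then `I ≤ I'`. -/
theorem le_of_le_sup_map_of_isNilpotent (I I' : Ideal A) [Module.Flat C (A ⧸ I)] (𝔞 : Ideal C)
    (h𝔞 : IsNilpotent 𝔞) (hle : I' ≤ I) (h : I ≤ I' ⊔ 𝔞.map (algebraMap C A)) : I ≤ I' := by
  have key : ∀ n : ℕ, I ≤ I' ⊔ (𝔞 ^ (n + 1)).map (algebraMap C A) := by
    intro n
    induction n with
    | zero => simpa using h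
    | succ n ih =>
      intro x hx
      obtain ⟨y, hy, z, hz, rfl⟩ := Submodule.mem_sup.mp (ih hx)
      have hzI : z ∈ I := by
        have := I.sub_mem hx (hle hy)
        simpa using this
      have hz2 : z ∈ (𝔞 ^ (n + 1)).map (algebraMap C A) * I := by
        rw [← map_inf_eq_mul_of_flat_quotient]
        exact ⟨hz, hzI⟩
      have hz3 : (𝔞 ^ (n + 1)).map (algebraMap C A) * I ≤
          I' ⊔ (𝔞 ^ (n + 1 + 1)).map (algebraMap C A) := by
        calc (𝔞 ^ (n + 1)).map (algebraMap C A) * I
            ≤ (𝔞 ^ (n + 1)).map (algebraMap C A) * (I' ⊔ 𝔞.map (algebraMap C A)) :=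
              Ideal.mul_mono_right h
          _ = (𝔞 ^ (n + 1)).map (algebraMap C A) * I' ⊔
                (𝔞 ^ (n + 1)).map (algebraMap C A) * 𝔞.map (algebraMap C A) := Ideal.mul_sup _ _ _
          _ ≤ I' ⊔ (𝔞 ^ (n + 1 + 1)).map (algebraMap C A) := by
              refine sup_le_sup Ideal.mul_le_right ?_
              rw [← Ideal.map_mul, ← pow_succ]
      exact Submodule.add_mem _ (Submodule.mem_sup_left hy) (hz3 hz2)
  obtain ⟨n, hn⟩ := h𝔞
  have := key n
  rw [pow_succ, hn] at this
  simpa using this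

end IdealVersion

section NilpotentLift

variable {R : Type u} [CommRing R]

theorem isNoetherianRing_of_isNilpotent_of_fg (N : Ideal R) (hN : IsNilpotent N) (hfg : N.FG)
    [IsNoetherianRing (R ⧸ N)] : IsNoetherianRing R := by
  apply IsNoetherianRing.of_prime
  intro P hP
  have hNP : N ≤ P := by
    obtain ⟨n, hn⟩ := hN
    apply hP.le_of_pow_le (n := n)
    rw [hn]
    exact bot_le
  apply Ideal.fg_of_fg_map_of_fg_inf_ker_of_surjective (f := Ideal.Quotient.mk N) ?_ ?_
    Ideal.Quotient.mk_surjective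
  · exact (isNoetherianRing_iff_ideal_fg _).mp inferInstance _
  · rw [Ideal.mk_ker, inf_eq_right.mpr hNP]
    exact hfg

theorem isLocalRing_of_isNilpotent (N : Ideal R) (hN : IsNilpotent N) [IsLocalRing (R ⧸ N)] :
    IsLocalRing R := by
  haveI : Nontrivial R := by
    by_contra hcon
    rw [not_nontrivial_iff_subsingleton] at hcon
    exact not_subsingleton (R ⧸ N) inferInstance
  apply IsLocalRing.of_isUnit_or_isUnit_of_isUnit_add
  intro a b hab
  have h1 : IsUnit (Ideal.Quotient.mk N a + Ideal.Quotient.mk N b) := by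
    rw [← map_add]
    exact hab.map _
  rcases IsLocalRing.isUnit_or_isUnit_of_isUnit_add h1 with h | h
  · exact Or.inl ((IsNilpotent.isUnit_quotient_mk_iff hN).mp h)
  · exact Or.inr ((IsNilpotent.isUnit_quotient_mk_iff hN).mp h)

end NilpotentLift

end Groth.Agent.Lib.Helper67
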