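import Groth.Agent.Lib.Helper67.RegFlat2

set_option autoImplicit false
set_option linter.style.haveILetI false
set_option linter.unusedSectionVars false

universe u v w

namespace Groth.Agent.Lib.Helper67

open RingTheory.Sequence LocCoh TensorProduct IsLocalRing
open scoped Pointwise

section Descent

variable {R : Type u} {S : Type v} [CommRing R] [CommRing S] [Algebra R S]

/-- `(N/yN)/I(N/yN) ≃ (N/IN)/y(N/IN)` for a general ideal `I` of the base. -/
noncomputable def quotSMulTopFibreEquiv' (N : Type w) [AddCommGroup N] [Module S N] [Module R N]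
    [IsScalarTower R S N] (y : S) (I : Ideal R) :
    QuotSMulTop y (N ⧸ I.map (algebraMap R S) • (⊤ : Submodule S N)) ≃ₗ[S]
      (QuotSMulTop y N ⧸ I.map (algebraMap R S) •
        (⊤ : Submodule S (QuotSMulTop y N))) :=
  QuotSMulTop.congr y (fibreEquiv N I) ≪≫ₗ
    quotSMulTopEquivOfSurjective (quotTensorMap (R := R) N y (R ⧸ I))
      (quotTensorMap_surjective N y _) y (ker_quotTensorMap N y _) ≪≫ₗ
    (fibreEquiv (QuotSMulTop y N) I).symm

/-- If `f` is `N`-regular and `N/fN` is `R`-flat, then `f` is regular on `N/IN`. -/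
theorem isSMulRegular_fibre_of_flat_quotSMulTop (N : Type w) [AddCommGroup N] [Module S N]
    [Module R N] [IsScalarTower R S N] (I : Ideal R) (f : S) (hf : IsSMulRegular N f)
    [Module.Flat R (QuotSMulTop f N)] :
    IsSMulRegular (N ⧸ I.map (algebraMap R S) • (⊤ : Submodule S N)) f := by
  rw [isSMulRegular_iff_right_eq_zero_of_smul]
  intro x hx
  obtain ⟨x, rfl⟩ := Submodule.mkQ_surjective _ x
  rw [← map_smul, Submodule.mkQ_apply, Submodule.Quotient.mk_eq_zero] at hx
  rw [Submodule.mkQ_apply, Submodule.Quotient.mk_eq_zero]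
  set K : Submodule R N := (f • (⊤ : Submodule S N)).restrictScalars R with hK
  haveI : Module.Flat R (N ⧸ K) :=
    Module.Flat.of_linearEquiv
      (Submodule.Quotient.restrictScalarsEquiv R (f • (⊤ : Submodule S N)))
  have h := smul_top_inf_eq_smul_of_flat_quotient K I
  have h1 : f • x ∈ I • K := by
    rw [← h]
    refine ⟨?_, ?_⟩
    · have := Ideal.smul_restrictScalars (R := R) I (⊤ : Submodule S N)
      rw [Submodule.restrictScalars_top] at this
      rw [← this]
      exact hx
    · exact Submodule.smul_mem_pointwise_smul x f ⊤ trivial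
  rw [hK, ← Ideal.smul_restrictScalars] at h1
  have h2 : I.map (algebraMap R S) • (f • (⊤ : Submodule S N)) ≤
      f • (I.map (algebraMap R S) • (⊤ : Submodule S N)) := by
    rw [Submodule.smul_le]
    intro r hr n hn
    obtain ⟨n', -, rfl⟩ := (Submodule.mem_smul_pointwise_iff_exists _ _ _).mp hn
    rw [smul_comm r f n']
    exact Submodule.smul_mem_pointwise_smul _ f _ (Submodule.smul_mem_smul hr Submodule.mem_top)
  obtain ⟨y, hy, hyx⟩ := (Submodule.mem_smul_pointwise_iff_exists _ _ _).mp (h2 h1)
  have : y = x := hf hyx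
  rw [← this]
  exact hy

/-- If `fs` is `N`-regular with all quotients `N/(f₁..fᵢ)N` flat over `R`, then `fs` is regular
on `N/IN` for every ideal `I` of `R`. -/
theorem isWeaklyRegular_fibre_of_flat_quotients (I : Ideal R) (fs : List S) :
    ∀ (N : Type w) [AddCommGroup N] [Module S N] [Module R N] [IsScalarTower R S N],
      IsWeaklyRegular N fs →
      (∀ i ≤ fs.length,
        Module.Flat R (N ⧸ (Ideal.ofList (fs.take i) • (⊤ : Submodule S N)))) →
      IsWeaklyRegular (N ⧸ I.map (algebraMap R S) • (⊤ : Submodule S N)) fs := by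
  induction fs with
  | nil =>
    intro N _ _ _ _ _ _
    exact IsWeaklyRegular.nil S _
  | cons f fs ih =>
    intro N _ _ _ _ hreg H
    rw [isWeaklyRegular_cons_iff] at hreg ⊢
    obtain ⟨hf, hfs⟩ := hreg
    have H' : ∀ j ≤ fs.length, Module.Flat R (QuotSMulTop f N ⧸
        (Ideal.ofList (fs.take j) • (⊤ : Submodule S (QuotSMulTop f N)))) := by
      intro j hj
      have h3 := H (j + 1) (by simpa using hj)
      rw [List.take_succ_cons] at h3
      exact Module.Flat.of_linearEquiv
        ((Submodule.quotOfListConsSMulTopEquivQuotSMulTopInner N f (fs.take j)).symm.restrictScalars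
          R)
    haveI hflatQ : Module.Flat R (QuotSMulTop f N) := by
      have h0 := H' 0 (Nat.zero_le _)
      have hbot : Ideal.ofList (List.take 0 fs) • (⊤ : Submodule S (QuotSMulTop f N)) = ⊥ := by
        simp
      exact Module.Flat.of_linearEquiv
        ((Submodule.quotEquivOfEqBot _ hbot).symm.restrictScalars R)
    refine ⟨isSMulRegular_fibre_of_flat_quotSMulTop N I f hf, ?_⟩
    have h4 := ih (QuotSMulTop f N) hfs H'
    exact ((quotSMulTopFibreEquiv' (R := R) N f I).isWeaklyRegular_congr fs).mpr h4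

end Descent

section Converters

variable {A : Type u} [CommRing A]

/-- `A/(I • ⊤) ≃ A/I`. -/
noncomputable def quotSMulTopSelfEquiv (I : Ideal A) :
    (A ⧸ (I • (⊤ : Submodule A A))) ≃ₗ[A] A ⧸ I :=
  Submodule.quotEquivOfEq _ _ (by rw [smul_eq_mul, Ideal.mul_top])

theorem ofList_ofFn {r : ℕ} (a : Fin r → A) :
    Ideal.ofList (List.ofFn a) = Ideal.span (Set.range a) := by
  unfold Ideal.ofList
  congr 1
  ext x
  simp [List.mem_ofFn]

theorem isRegular_of_isWeaklyRegular_of_isRegular_map {B : Type v} [CommRing B] (φ : A →+* B)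
    (fs : List A) (h : IsWeaklyRegular A fs) (hB : IsRegular B (fs.map φ)) : IsRegular A fs := by
  refine ⟨h, fun htop => hB.top_ne_smul ?_⟩
  have h1 : Ideal.ofList fs = ⊤ := by
    have := htop.symm
    rwa [smul_eq_mul, Ideal.mul_top] at this
  rw [← Ideal.map_ofList, h1, Ideal.map_top, smul_eq_mul, Ideal.mul_top]

end Converters

section ArtinBase

variable {C : Type u} [CommRing C] [IsLocalRing C] [IsArtinianRing C]
  {A : Type u} [CommRing A] [Algebra C A]

theorem isNilpotent_map_maximalIdeal :
    IsNilpotent ((maximalIdeal C).map (algebraMap C A)) := by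
  have h := IsArtinianRing.isNilpotent_jacobson_bot (R := C)
  rw [IsLocalRing.jacobson_eq_maximalIdeal ⊥ bot_ne_top] at h
  obtain ⟨n, hn⟩ := h
  exact ⟨n, by rw [← Ideal.map_pow, hn, Ideal.zero_eq_bot, Ideal.map_bot, Ideal.zero_eq_bot]⟩

variable (C A)

theorem isNoetherianRing_of_artin_base
    [IsNoetherianRing (A ⧸ (maximalIdeal C).map (algebraMap C A))] : IsNoetherianRing A :=
  isNoetherianRing_of_isNilpotent_of_fg _ (isNilpotent_map_maximalIdeal (C := C) (A := A))
    (Ideal.FG.map (IsNoetherian.noetherian _) _)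

theorem isLocalRing_of_artin_base
    [IsLocalRing (A ⧸ (maximalIdeal C).map (algebraMap C A))] : IsLocalRing A :=
  isLocalRing_of_isNilpotent _ (isNilpotent_map_maximalIdeal (C := C) (A := A))

theorem isLocalHom_of_artin_base
    [IsLocalRing (A ⧸ (maximalIdeal C).map (algebraMap C A))] : IsLocalHom (algebraMap C A) := by
  haveI := isLocalRing_of_artin_base C A
  constructor
  intro c hc
  by_contra hcu
  have hcm : c ∈ maximalIdeal C := (IsLocalRing.mem_maximalIdeal c).mpr hcu
  have h1 : algebraMap C A c ∈ (maximalIdeal C).map (algebraMap C A) :=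
    Ideal.mem_map_of_mem _ hcm
  obtain ⟨n, hn⟩ := isNilpotent_map_maximalIdeal (C := C) (A := A)
  have h2 : (algebraMap C A c) ^ n = 0 := by
    have := Ideal.pow_mem_pow h1 n
    rw [hn] at this
    exact this
  have h3 : IsUnit ((algebraMap C A c) ^ n) := hc.pow n
  rw [h2] at h3
  exact not_isUnit_zero h3

variable {C A}

variable [IsNoetherianRing (A ⧸ (maximalIdeal C).map (algebraMap C A))]
  [IsLocalRing (A ⧸ (maximalIdeal C).map (algebraMap C A))]

/-- Over an Artin local base: a sequence regular on the closed fibre of a flat algebra with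
noetherian local closed fibre is regular, with flat quotient. -/
theorem isWeaklyRegular_and_flat_of_fibre_artin [Module.Flat C A] (fs : List A)
    (h : IsWeaklyRegular (A ⧸ (maximalIdeal C).map (algebraMap C A) • (⊤ : Submodule A A)) fs) :
    IsWeaklyRegular A fs ∧ Module.Flat C (A ⧸ Ideal.ofList fs) := by
  haveI := isNoetherianRing_of_artin_base C A
  haveI := isLocalRing_of_artin_base C A
  haveI := isLocalHom_of_artin_base C A
  obtain ⟨h1, h2⟩ := isWeaklyRegular_and_flat_of_fibre (R := C) (S := A) fs A h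
  refine ⟨h1, ?_⟩
  have h3 := h2 fs.length le_rfl
  rw [List.take_length] at h3
  exact Module.Flat.of_linearEquiv ((quotSMulTopSelfEquiv (Ideal.ofList fs)).symm.restrictScalars C)

/-- the fibre module `A/(mA • ⊤)` (as `A`-module) carries the regular sequence iff the fibre ring
`A/mA` does. -/
theorem isWeaklyRegular_fibre_iff (I : Ideal A) (fs : List A) :
    IsWeaklyRegular (A ⧸ I • (⊤ : Submodule A A)) fs ↔
      IsWeaklyRegular (A ⧸ I) (fs.map (Ideal.Quotient.mk I)) := by
  rw [(quotSMulTopSelfEquiv I).isWeaklyRegular_congr fs]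
  exact (isWeaklyRegular_map_algebraMap_iff (A ⧸ I) (A ⧸ I) fs).symm

/-- Uniqueness: an ideal with flat quotient is determined by its image modulo a nilpotent ideal
of the base, among ideals containing given elements. -/
theorem eq_of_le_of_map_eq_of_isNilpotent {C : Type u} [CommRing C] {A : Type v} [CommRing A]
    [Algebra C A] (I I' : Ideal A) [Module.Flat C (A ⧸ I)] (𝔞 : Ideal C) (h𝔞 : IsNilpotent 𝔞)
    (hle : I' ≤ I)
    (hmap : I.map (Ideal.Quotient.mk (𝔞.map (algebraMap C A))) =
      I'.map (Ideal.Quotient.mk (𝔞.map (algebraMap C A)))) : I = I' := by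
  apply le_antisymm _ hle
  apply le_of_le_sup_map_of_isNilpotent I I' 𝔞 h𝔞 hle
  have h1 : I ≤ (I.map (Ideal.Quotient.mk (𝔞.map (algebraMap C A)))).comap
      (Ideal.Quotient.mk (𝔞.map (algebraMap C A))) := Ideal.le_comap_map
  rw [hmap, Ideal.comap_map_of_surjective _ Ideal.Quotient.mk_surjective] at h1
  have h2 : Ideal.comap (Ideal.Quotient.mk (𝔞.map (algebraMap C A))) ⊥ =
      𝔞.map (algebraMap C A) := by
    rw [← RingHom.ker_eq_comap_bot, Ideal.mk_ker]
  rwa [h2] at h1

/-- **Lifting regular sequences** (S11456): over an Artin local base, an ideal with flat quotient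
whose image in the closed fibre is generated by a regular sequence is generated by a regular
sequence. -/
theorem exists_regular_generators [Module.Flat C A] (I : Ideal A) [Module.Flat C (A ⧸ I)] {r : ℕ}
    (b : Fin r → A ⧸ (maximalIdeal C).map (algebraMap C A))
    (hb : IsRegular (A ⧸ (maximalIdeal C).map (algebraMap C A)) (List.ofFn b))
    (hI : I.map (Ideal.Quotient.mk ((maximalIdeal C).map (algebraMap C A))) =
      Ideal.span (Set.range b)) :
    ∃ a : Fin r → A, (∀ i, a i ∈ I) ∧
      (∀ i, Ideal.Quotient.mk ((maximalIdeal C).map (algebraMap C A)) (a i) = b i) ∧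
      IsRegular A (List.ofFn a) ∧ Module.Flat C (A ⧸ Ideal.span (Set.range a)) ∧
      I = Ideal.span (Set.range a) := by
  have hex : ∀ i, ∃ x ∈ I, Ideal.Quotient.mk ((maximalIdeal C).map (algebraMap C A)) x = b i := by
    intro i
    have hbi : b i ∈ I.map (Ideal.Quotient.mk ((maximalIdeal C).map (algebraMap C A))) := by
      rw [hI]
      exact Ideal.subset_span ⟨i, rfl⟩
    exact (Ideal.mem_map_iff_of_surjective _ Ideal.Quotient.mk_surjective).mp hbi
  choose a haI hab using hex
  have hmapfn : (List.ofFn a).map (Ideal.Quotient.mk ((maximalIdeal C).map (algebraMap C A))) =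
      List.ofFn b := by
    rw [List.map_ofFn]
    congr 1
    funext i
    exact hab i
  have hwr : IsWeaklyRegular (A ⧸ (maximalIdeal C).map (algebraMap C A) •
      (⊤ : Submodule A A)) (List.ofFn a) := by
    rw [isWeaklyRegular_fibre_iff, hmapfn]
    exact hb.toIsWeaklyRegular
  obtain ⟨h1, h2⟩ := isWeaklyRegular_and_flat_of_fibre_artin (C := C) (List.ofFn a) hwr
  have hreg : IsRegular A (List.ofFn a) :=
    isRegular_of_isWeaklyRegular_of_isRegular_map
      (Ideal.Quotient.mk ((maximalIdeal C).map (algebraMap C A))) _ h1 (by rw [hmapfn]; exact hb)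
  rw [ofList_ofFn] at h2
  refine ⟨a, haI, hab, hreg, h2, ?_⟩
  have h𝔪 : IsNilpotent (maximalIdeal C) := by
    have h := IsArtinianRing.isNilpotent_jacobson_bot (R := C)
    rwa [IsLocalRing.jacobson_eq_maximalIdeal ⊥ bot_ne_top] at h
  apply eq_of_le_of_map_eq_of_isNilpotent I (Ideal.span (Set.range a)) (maximalIdeal C) h𝔪
  · rw [Ideal.span_le]
    rintro _ ⟨i, rfl⟩
    exact haI i
  · rw [hI, Ideal.map_span]
    congr 1
    ext x
    constructor
    · rintro ⟨i, rfl⟩
      exact ⟨a i, ⟨i, rfl⟩, hab i⟩
    · rintro ⟨_, ⟨i, rfl⟩, rfl⟩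
      exact ⟨i, (hab i).symm⟩

end ArtinBase

end Groth.Agent.Lib.Helper67
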