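import Groth.Agent.Lib.Helper67.RegFlat3

set_option autoImplicit false
set_option linter.style.haveILetI false
set_option linter.unusedSectionVars false

universe u v w

namespace Groth.Agent.Lib.Helper67

open RingTheory.Sequence LocCoh TensorProduct IsLocalRing
open scoped Pointwise

section QuotQuot

variable {A : Type u} [CommRing A]

/-- The canonical `A`-linear surjection `A → (A/K)/(L(A/K))`. -/
noncomputable def toQuotQuot (K L : Ideal A) :
    A →ₗ[A] ((A ⧸ K) ⧸ (L.map (Ideal.Quotient.mk K) • (⊤ : Submodule (A ⧸ K) (A ⧸ K)))) :=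
  ((Submodule.mkQ (L.map (Ideal.Quotient.mk K) •
    (⊤ : Submodule (A ⧸ K) (A ⧸ K)))).restrictScalars A) ∘ₗ (Algebra.linearMap A (A ⧸ K))

theorem toQuotQuot_surjective (K L : Ideal A) : Function.Surjective (toQuotQuot K L) := by
  intro y
  obtain ⟨y, rfl⟩ := Submodule.mkQ_surjective _ y
  obtain ⟨x, rfl⟩ := Ideal.Quotient.mk_surjective y
  exact ⟨x, rfl⟩

theorem ker_toQuotQuot (K L : Ideal A) (hKL : K ≤ L) :
    LinearMap.ker (toQuotQuot K L) = L • (⊤ : Submodule A A) := by
  ext x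
  rw [LinearMap.mem_ker]
  have h1 : toQuotQuot K L x = Submodule.mkQ (L.map (Ideal.Quotient.mk K) •
    (⊤ : Submodule (A ⧸ K) (A ⧸ K))) (Ideal.Quotient.mk K x) := rfl
  rw [h1, Submodule.mkQ_apply, Submodule.Quotient.mk_eq_zero, smul_eq_mul, Ideal.mul_top,
    smul_eq_mul, Ideal.mul_top, ← Ideal.mem_comap,
    Ideal.comap_map_of_surjective _ Ideal.Quotient.mk_surjective,
    ← RingHom.ker_eq_comap_bot, Ideal.mk_ker, sup_eq_left.mpr hKL]

/-- `(A/K)/(L(A/K)) ≃ A/L` for `K ≤ L`, `A`-linearly. -/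
noncomputable def quotQuotSMulTopEquiv (K L : Ideal A) (hKL : K ≤ L) :
    ((A ⧸ K) ⧸ (L.map (Ideal.Quotient.mk K) • (⊤ : Submodule (A ⧸ K) (A ⧸ K)))) ≃ₗ[A]
      (A ⧸ (L • (⊤ : Submodule A A))) :=
  ((Submodule.quotEquivOfEq _ _ (ker_toQuotQuot K L hKL).symm) ≪≫ₗ
    (toQuotQuot K L).quotKerEquivOfSurjective (toQuotQuot_surjective K L)).symm

end QuotQuot

section SmallExt

variable (C' : Type u) [CommRing C'] [IsLocalRing C'] [IsArtinianRing C'] (J : Ideal C')
  (A' : Type u) [CommRing A'] [Algebra C' A'] [Module.Flat C' A']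
  [IsNoetherianRing (A' ⧸ (maximalIdeal C').map (algebraMap C' A'))]
  [IsLocalRing (A' ⧸ (maximalIdeal C').map (algebraMap C' A'))]

/-- **Lifting regular sequences along a quotient of an Artin local base** (S11454). -/
theorem isRegular_and_flat_of_quotient (hJne : J ≠ ⊤) {r : ℕ} (a' : Fin r → A')
    (hreg : IsRegular (A' ⧸ J.map (algebraMap C' A'))
      (List.ofFn (fun i => Ideal.Quotient.mk (J.map (algebraMap C' A')) (a' i))))
    [Module.Flat (C' ⧸ J) ((A' ⧸ J.map (algebraMap C' A')) ⧸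
      Ideal.span (Set.range (fun i => Ideal.Quotient.mk (J.map (algebraMap C' A')) (a' i))))] :
    IsRegular A' (List.ofFn a') ∧ Module.Flat C' (A' ⧸ Ideal.span (Set.range a')) := by
  haveI hN : IsNoetherianRing A' := isNoetherianRing_of_artin_base C' A'
  haveI hL : IsLocalRing A' := isLocalRing_of_artin_base C' A'
  haveI hLH : IsLocalHom (algebraMap C' A') := isLocalHom_of_artin_base C' A'
  have hJm : J ≤ maximalIdeal C' := IsLocalRing.le_maximalIdeal hJne
  have hJAm : J.map (algebraMap C' A') ≤ (maximalIdeal C').map (algebraMap C' A') :=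
    Ideal.map_mono hJm
  have hmA : (maximalIdeal C').map (algebraMap C' A') ≤ maximalIdeal A' :=
    IsLocalRing.map_maximalIdeal_le (algebraMap C' A')
  haveI : Nontrivial (A' ⧸ J.map (algebraMap C' A')) :=
    Ideal.Quotient.nontrivial_iff.mpr
      (ne_top_of_le_ne_top (Ideal.IsPrime.ne_top inferInstance) (hJAm.trans hmA))
  haveI : IsLocalRing (A' ⧸ J.map (algebraMap C' A')) :=
    IsLocalRing.of_surjective' (Ideal.Quotient.mk (J.map (algebraMap C' A')))
      Ideal.Quotient.mk_surjective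
  set fs : List (A' ⧸ J.map (algebraMap C' A')) :=
    List.ofFn (fun i => Ideal.Quotient.mk (J.map (algebraMap C' A')) (a' i)) with hfs
  have hfsmap : (List.ofFn a').map (Ideal.Quotient.mk (J.map (algebraMap C' A'))) = fs := by
    rw [List.map_ofFn]
    rfl
  have hjac : ∀ f ∈ fs, f ∈ Ideal.jacobson (⊥ : Ideal (A' ⧸ J.map (algebraMap C' A'))) := by
    intro f hf
    rw [IsLocalRing.jacobson_eq_maximalIdeal ⊥ bot_ne_top]
    have hne : Ideal.ofList fs ≠ ⊤ := by
      intro htop
      apply hreg.top_ne_smul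
      rw [htop, smul_eq_mul, Ideal.mul_top]
    exact IsLocalRing.le_maximalIdeal hne (Ideal.subset_span hf)
  have hflat0 : Module.Flat (C' ⧸ J) ((A' ⧸ J.map (algebraMap C' A')) ⧸
      Ideal.ofList fs • (⊤ : Submodule (A' ⧸ J.map (algebraMap C' A'))
        (A' ⧸ J.map (algebraMap C' A')))) := by
    have e : ((A' ⧸ J.map (algebraMap C' A')) ⧸
      Ideal.ofList fs • (⊤ : Submodule (A' ⧸ J.map (algebraMap C' A'))
        (A' ⧸ J.map (algebraMap C' A')))) ≃ₗ[A' ⧸ J.map (algebraMap C' A')]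
        ((A' ⧸ J.map (algebraMap C' A')) ⧸
      Ideal.span (Set.range (fun i => Ideal.Quotient.mk (J.map (algebraMap C' A')) (a' i)))) :=
      Submodule.quotEquivOfEq _ _ (by rw [smul_eq_mul, Ideal.mul_top, hfs, ofList_ofFn])
    exact Module.Flat.of_linearEquiv (e.restrictScalars (C' ⧸ J))
  have H := flat_quot_take_of_flat_quot (R := C' ⧸ J) (S := A' ⧸ J.map (algebraMap C' A')) fs hjac
    (A' ⧸ J.map (algebraMap C' A')) hreg.toIsWeaklyRegular hflat0
  have h1 := isWeaklyRegular_fibre_of_flat_quotients (R := C' ⧸ J)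
    (S := A' ⧸ J.map (algebraMap C' A')) ((maximalIdeal C').map (Ideal.Quotient.mk J)) fs
    (A' ⧸ J.map (algebraMap C' A')) hreg.toIsWeaklyRegular H
  have heq : ((maximalIdeal C').map (Ideal.Quotient.mk J)).map
      (algebraMap (C' ⧸ J) (A' ⧸ J.map (algebraMap C' A'))) =
      ((maximalIdeal C').map (algebraMap C' A')).map
        (Ideal.Quotient.mk (J.map (algebraMap C' A'))) := by
    rw [Ideal.map_map, Ideal.map_map]
    congr 1
  rw [heq, ← hfsmap] at h1
  have h2 : IsWeaklyRegular ((A' ⧸ J.map (algebraMap C' A')) ⧸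
      ((maximalIdeal C').map (algebraMap C' A')).map
        (Ideal.Quotient.mk (J.map (algebraMap C' A'))) •
        (⊤ : Submodule (A' ⧸ J.map (algebraMap C' A')) (A' ⧸ J.map (algebraMap C' A'))))
      (List.ofFn a') :=
    (isWeaklyRegular_map_algebraMap_iff (A' ⧸ J.map (algebraMap C' A')) _ (List.ofFn a')).mp h1
  have h3 : IsWeaklyRegular (A' ⧸ (maximalIdeal C').map (algebraMap C' A') •
      (⊤ : Submodule A' A')) (List.ofFn a') :=
    ((quotQuotSMulTopEquiv _ _ hJAm).isWeaklyRegular_congr (List.ofFn a')).mp h2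
  obtain ⟨h4, h5⟩ := isWeaklyRegular_and_flat_of_fibre_artin (C := C') (List.ofFn a') h3
  rw [ofList_ofFn] at h5
  refine ⟨?_, h5⟩
  exact isRegular_of_isWeaklyRegular_of_isRegular_map
    (Ideal.Quotient.mk (J.map (algebraMap C' A'))) _ h4 (by rw [hfsmap]; exact hreg)

end SmallExt

end Groth.Agent.Lib.Helper67
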