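import Groth.Agent.Lib.Helper67.RegLocus5

/-!
# Applications of the J-2 criterion
-/

set_option autoImplicit false
set_option linter.style.haveILetI false
set_option linter.unusedSectionVars false

universe u

namespace Groth.Agent.Lib.Helper67.RegLocus

open IsLocalRing TensorProduct

/-- A domain with finitely many primes has generically regular spectrum. -/
theorem hasGenReg_of_finite_primeSpectrum (D : Type u) [CommRing D] [IsDomain D]
    [Finite (PrimeSpectrum D)] : HasGenReg D := by
  refine ⟨{⟨⊥, Ideal.isPrime_bot⟩}, ?_, Set.singleton_nonempty _, ?_⟩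
  · rw [isOpen_iff_forall_specializes]
    intro x y hxy hy
    rw [Set.mem_singleton_iff] at hy ⊢
    subst hy
    rw [← PrimeSpectrum.le_iff_specializes] at hxy
    exact PrimeSpectrum.ext (le_bot_iff.mp hxy)
  · intro q hq
    rw [Set.mem_singleton_iff] at hq
    subst hq
    exact bot_mem_regLocus D

/-- A field is J-2. -/
theorem isJ2_field (k : Type u) [Field k] : EGA4.IsJ2 k := by
  rw [isJ2_iff]
  intro A' _ _ _ hfin
  haveI : IsArtinianRing A' := IsArtinianRing.of_finite k A'
  exact hasGenReg_of_finite_primeSpectrum A'

end Groth.Agent.Lib.Helper67.RegLocus
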