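import Groth.Agent.Lib.Helper67.RegLocus8
import Mathlib.RingTheory.DedekindDomain.Basic
import Mathlib.RingTheory.Algebraic.Integral

/-!
# Nagata rings of dimension one are J-2
-/

set_option autoImplicit false
set_option linter.style.haveILetI false
set_option linter.unusedSectionVars false

universe u

namespace Groth.Agent.Lib.Helper67.RegLocus

open IsLocalRing TensorProduct

/-- A finite extension domain of an N-2 Noetherian domain of dimension `≤ 1` is generically
regular (its normalization is a Dedekind domain, finite over it). -/
theorem hasGenReg_of_isN2 (B A' : Type u) [CommRing B] [IsDomain B] [IsNoetherianRing B]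
    [CommRing A'] [IsDomain A'] [Algebra B A'] [Module.Finite B A']
    (hinj : Function.Injective (algebraMap B A')) (hB : CAlg.IsN2 B)
    [Ring.DimensionLEOne B] : HasGenReg A' := by
  haveI : FaithfulSMul B A' := (faithfulSMul_iff_algebraMap_injective B A').mpr hinj
  haveI : Module.IsTorsionFree B A' := inferInstance
  letI := FractionRing.liftAlgebra B (FractionRing A')
  haveI := FractionRing.isScalarTower_liftAlgebra B (FractionRing A')
  haveI : FiniteDimensional (FractionRing B) (FractionRing A') := inferInstance
  have hfin : Module.Finite B (integralClosure B (FractionRing A')) :=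
    hB (FractionRing A') inferInstance
  haveI := hfin
  haveI : IsNoetherianRing (integralClosure B (FractionRing A')) :=
    Algebra.FiniteType.isNoetherianRing B _
  haveI : IsIntegrallyClosed (integralClosure B (FractionRing A')) :=
    integralClosure.isIntegrallyClosedOfFiniteExtension (FractionRing B)
  haveI : Ring.DimensionLEOne (integralClosure B (FractionRing A')) := inferInstance
  haveI : IsDedekindRing (integralClosure B (FractionRing A')) :=
    { (inferInstance : IsNoetherianRing (integralClosure B (FractionRing A'))),
      (inferInstance : Ring.DimensionLEOne (integralClosure B (FractionRing A'))),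
      (inferInstance : IsIntegrallyClosed (integralClosure B (FractionRing A'))) with }
  haveI : IsDedekindDomain (integralClosure B (FractionRing A')) := inferInstance
  haveI : Algebra.IsIntegral B A' := inferInstance
  -- `A' → C`
  let φ : A' →+* integralClosure B (FractionRing A') :=
    (algebraMap A' (FractionRing A')).codRestrict
      (integralClosure B (FractionRing A')).toSubring
      (fun a => (Algebra.IsIntegral.isIntegral (R := B) a).algebraMap)
  letI : Algebra A' (integralClosure B (FractionRing A')) := φ.toAlgebra
  haveI : IsScalarTower B A' (integralClosure B (FractionRing A')) :=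
    .of_algebraMap_eq (fun b => Subtype.ext (IsScalarTower.algebraMap_apply B A' (FractionRing A') b))
  haveI : Module.Finite A' (integralClosure B (FractionRing A')) :=
    Module.Finite.of_restrictScalars_finite B A' _
  haveI : IsNoetherianRing A' := Algebra.FiniteType.isNoetherianRing B A'
  have hφ : Function.Injective (algebraMap A' (integralClosure B (FractionRing A'))) := by
    intro a b hab
    have := congrArg Subtype.val hab
    exact IsFractionRing.injective A' (FractionRing A') this
  exact hasGenReg_descent A' (integralClosure B (FractionRing A')) hφ
    (hasGenReg_of_isRegularRing _)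

/-- A Nagata ring of dimension one is J-2. -/
theorem isJ2_of_nagata_dim_one (R : Type u) [CommRing R] (hR : CAlg.IsNagata R)
    (hdim : ringKrullDim R = 1) : EGA4.IsJ2 R := by
  haveI := hR.1
  rw [isJ2_iff]
  intro A' _ _ _ hfin
  haveI : (RingHom.ker (algebraMap R A')).IsPrime := RingHom.ker_isPrime _
  letI : Algebra (R ⧸ RingHom.ker (algebraMap R A')) A' :=
    (RingHom.kerLift (algebraMap R A')).toAlgebra
  haveI : IsScalarTower R (R ⧸ RingHom.ker (algebraMap R A')) A' :=
    .of_algebraMap_eq (fun r => rfl)
  haveI : Module.Finite (R ⧸ RingHom.ker (algebraMap R A')) A' :=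
    Module.Finite.of_restrictScalars_finite R _ A'
  have hinj : Function.Injective (algebraMap (R ⧸ RingHom.ker (algebraMap R A')) A') :=
    RingHom.kerLift_injective _
  haveI : Ring.KrullDimLE 1 (R ⧸ RingHom.ker (algebraMap R A')) := by
    rw [Ring.krullDimLE_iff]
    refine (ringKrullDim_quotient_le _).trans ?_
    rw [hdim]; rfl
  haveI : Ring.DimensionLEOne (R ⧸ RingHom.ker (algebraMap R A')) :=
    ⟨fun {q} hq hq' => Ideal.IsPrime.isMaximal_of_ne_bot hq' hq⟩
  exact hasGenReg_of_isN2 (R ⧸ RingHom.ker (algebraMap R A')) A' hinj (hR.2 _)

end Groth.Agent.Lib.Helper67.RegLocus
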