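import Groth.Agent.Lib.Helper67.IterLoc
import Groth.Agent.Lib.Helper67.DepthAlg

set_option autoImplicit false
set_option linter.style.haveILetI false
set_option linter.unusedSectionVars false

universe u v w

namespace Groth.Agent.Lib.Helper67

open RingTheory.Sequence LocCoh
open scoped Pointwise

section Spread

variable {A : Type u} [CommRing A]

/-- If `g ∈ S` kills the kernel of `x` on `M`, then `x/1` is regular on `S⁻¹M`. -/
theorem isSMulRegular_localizedModule_of_forall (S : Submonoid A) (M : Type v) [AddCommGroup M]
    [Module A M] (x g : A) (hg : ∀ m : M, x • m = 0 → g • m = 0) (hgS : g ∈ S) :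
    IsSMulRegular (LocalizedModule S M) (algebraMap A (Localization S) x) := by
  rw [isSMulRegular_algebraMap_iff, isSMulRegular_iff_right_eq_zero_of_smul]
  intro y hy
  induction y using LocalizedModule.induction_on with
  | h m s =>
    rw [LocalizedModule.smul'_mk, ← LocalizedModule.zero_mk s, LocalizedModule.mk_eq] at hy
    obtain ⟨u, hu⟩ := hy
    rw [smul_zero, smul_zero] at hu
    have h1 : x • ((u * s : S) • m) = 0 := by
      simp only [Submonoid.smul_def, Submonoid.coe_mul, smul_smul] at hu ⊢
      rw [show x * ((u : A) * (s : A)) = (u : A) * ((s : A) * x) by ring]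
      exact hu
    have h2 := hg _ h1
    rw [← LocalizedModule.zero_mk s, LocalizedModule.mk_eq]
    refine ⟨⟨g, hgS⟩ * u, ?_⟩
    rw [smul_zero, smul_zero]
    simp only [Submonoid.smul_def, Submonoid.coe_mul, smul_smul] at h2 ⊢
    rw [mul_assoc]
    exact h2


/-- If `x/1` is regular on `M_p` (for `M` noetherian), a single `g ∉ p` kills the kernel of `x`. -/
theorem exists_forall_smul_eq_zero_of_isSMulRegular_atPrime [IsNoetherianRing A]
    (M : Type v) [AddCommGroup M] [Module A M] [Module.Finite A M] (p : Ideal A) [p.IsPrime]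
    (x : A) (hx : IsSMulRegular (LocalizedModule p.primeCompl M)
      (algebraMap A (Localization.AtPrime p) x)) :
    ∃ g : A, g ∉ p ∧ ∀ m : M, x • m = 0 → g • m = 0 := by
  set K : Submodule A M := LinearMap.ker (LinearMap.lsmul A M x) with hK
  have hKmem : ∀ m : M, m ∈ K ↔ x • m = 0 := fun m => by
    rw [hK, LinearMap.mem_ker, LinearMap.lsmul_apply]
  haveI : IsNoetherian A M := isNoetherian_of_isNoetherianRing_of_finite A M
  haveI : Module.Finite A K := Module.Finite.of_fg (IsNoetherian.noetherian K)
  rw [isSMulRegular_algebraMap_iff, isSMulRegular_iff_right_eq_zero_of_smul] at hx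
  have hns : (⟨p, inferInstance⟩ : PrimeSpectrum A) ∉ Module.support A K := by
    rw [Module.notMem_support_iff']
    rintro ⟨k, hk⟩
    have h1 : x • (LocalizedModule.mk k (1 : p.primeCompl)) = 0 := by
      rw [LocalizedModule.smul'_mk, (hKmem k).mp hk, LocalizedModule.zero_mk]
    have h2 := hx _ h1
    rw [← LocalizedModule.zero_mk (1 : p.primeCompl), LocalizedModule.mk_eq] at h2
    obtain ⟨u, hu⟩ := h2
    refine ⟨(u : A), u.2, ?_⟩
    simp only [one_smul, smul_zero] at hu
    ext
    simpa [Submonoid.smul_def] using hu
  rw [Module.mem_support_iff_of_finite, SetLike.not_le_iff_exists] at hns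
  obtain ⟨g, hgann, hgp⟩ := hns
  refine ⟨g, hgp, fun m hm => ?_⟩
  have h3 := Module.mem_annihilator.mp hgann ⟨m, (hKmem m).mpr hm⟩
  exact congrArg Subtype.val h3


/-- Spreading out: a sequence of elements of `A` which is weakly regular on `M_p` is weakly regular
on `S⁻¹M` for every multiplicative set `S` containing a multiple of a fixed `g ∉ p`. -/
theorem exists_isWeaklyRegular_localizedModule_of_atPrime [IsNoetherianRing A]
    (p : Ideal A) [p.IsPrime] (rs : List A) :
    ∀ (M : Type v) [AddCommGroup M] [Module A M] [Module.Finite A M],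
      IsWeaklyRegular (LocalizedModule p.primeCompl M)
        (rs.map (algebraMap A (Localization.AtPrime p))) →
      ∃ g : A, g ∉ p ∧ ∀ (S : Submonoid A) (h : A), g * h ∈ S →
        IsWeaklyRegular (LocalizedModule S M) (rs.map (algebraMap A (Localization S))) := by
  induction rs with
  | nil =>
    intro M _ _ _ _
    exact ⟨1, fun h => (inferInstance : p.IsPrime).ne_top ((Ideal.eq_top_iff_one p).mpr h),
      fun S h _ => by simp⟩
  | cons x rs ih =>
    intro M _ _ _ hreg
    rw [List.map_cons, isWeaklyRegular_cons_iff] at hreg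
    obtain ⟨hx, hrs⟩ := hreg
    have e := quotSMulTopLocalizedEquiv p.primeCompl x M
    have hrs' := (LinearEquiv.isWeaklyRegular_congr e _).mp hrs
    obtain ⟨g1, hg1, H1⟩ := ih (QuotSMulTop x M) hrs'
    obtain ⟨g2, hg2, H2⟩ := exists_forall_smul_eq_zero_of_isSMulRegular_atPrime M p x hx
    refine ⟨g1 * g2, fun h => ?_, fun S h hS => ?_⟩
    · rcases (inferInstance : p.IsPrime).mem_or_mem h with h | h
      · exact hg1 h
      · exact hg2 h
    · rw [List.map_cons, isWeaklyRegular_cons_iff]
      constructor
      · refine isSMulRegular_localizedModule_of_forall S M x (g1 * g2 * h) (fun m hm => ?_) hS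
        rw [show g1 * g2 * h = (g1 * h) * g2 by ring, mul_smul, H2 m hm, smul_zero]
      · have e' := quotSMulTopLocalizedEquiv S x M
        refine (LinearEquiv.isWeaklyRegular_congr e' _).mpr ?_
        exact H1 S (g2 * h) (by rw [← mul_assoc]; exact hS)


/-- multiplying by a unit does not change `r • ⊤`. -/
theorem smul_top_eq_of_isUnit_mul {B : Type w} [CommRing B] (N : Type v) [AddCommGroup N]
    [Module B N] (r u : B) (hu : IsUnit u) :
    (r * u) • (⊤ : Submodule B N) = r • (⊤ : Submodule B N) := by
  obtain ⟨u', rfl⟩ := hu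
  ext y
  rw [Submodule.mem_smul_pointwise_iff_exists, Submodule.mem_smul_pointwise_iff_exists]
  constructor
  · rintro ⟨n, -, rfl⟩
    exact ⟨(u' : B) • n, trivial, by rw [smul_smul]⟩
  · rintro ⟨n, -, rfl⟩
    refine ⟨((u'⁻¹ : Bˣ) : B) • n, trivial, ?_⟩
    rw [smul_smul, mul_assoc, Units.mul_inv, mul_one]

/-- A weakly regular sequence in `I·S⁻¹A` can be replaced by one with numerators in `I`. -/
theorem exists_numerators_isWeaklyRegular (S : Submonoid A) (I : Ideal A)
    (rs : List (Localization S)) :
    ∀ (N : Type v) [AddCommGroup N] [Module (Localization S) N],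
      IsWeaklyRegular N rs → (∀ r ∈ rs, r ∈ I.map (algebraMap A (Localization S))) →
      ∃ as : List A, as.length = rs.length ∧ (∀ a ∈ as, a ∈ I) ∧
        IsWeaklyRegular N (as.map (algebraMap A (Localization S))) := by
  induction rs with
  | nil =>
    intro N _ _ _ _
    exact ⟨[], rfl, by simp, by simp⟩
  | cons r rs ih =>
    intro N _ _ hreg hmem
    rw [isWeaklyRegular_cons_iff] at hreg
    obtain ⟨hr, hrs⟩ := hreg
    have hrI := hmem r (by simp)
    rw [IsLocalization.mem_map_algebraMap_iff S (Localization S)] at hrI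
    obtain ⟨⟨a, t⟩, hat⟩ := hrI
    have hunit : IsUnit (algebraMap A (Localization S) (t : A)) :=
      IsLocalization.map_units (Localization S) t
    obtain ⟨as, hlen, hasI, hasreg⟩ := ih (QuotSMulTop r N) hrs
      (fun r' hr' => hmem r' (List.mem_cons_of_mem _ hr'))
    refine ⟨(a : A) :: as, by simp [hlen], ?_, ?_⟩
    · intro b hb
      rcases List.mem_cons.mp hb with rfl | hb
      · exact a.2
      · exact hasI b hb
    · rw [List.map_cons, isWeaklyRegular_cons_iff]
      have heq : algebraMap A (Localization S) (a : A) =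
          r * algebraMap A (Localization S) (t : A) := hat.symm
      constructor
      · rw [heq]
        exact hr.mul (hunit.isSMulRegular N)
      · have e : QuotSMulTop r N ≃ₗ[Localization S]
            QuotSMulTop (algebraMap A (Localization S) (a : A)) N :=
          Submodule.quotEquivOfEq _ _ (by rw [heq, smul_top_eq_of_isUnit_mul N r _ hunit])
        exact (LinearEquiv.isWeaklyRegular_congr e _).mp hasreg

end Spread

end Groth.Agent.Lib.Helper67
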