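import Mathlib.Order.Filter.FilterProduct
import Mathlib.Order.Filter.Ultrafilter.Basic
import Mathlib.Analysis.Complex.Basic
import Mathlib.Topology.MetricSpace.ProperSpace
import Mathlib.RingTheory.Valuation.ValuationSubring
import Mathlib.Topology.Algebra.Field

/-!
# The ultrapower of `ℂ`: finite elements and the standard part

For an ultrafilter `𝒰` on `I`, the germs `K = Germ 𝒰 ℂ` form a field.  The germs that are bounded
(`finite`) form a valuation subring `O` of `K`, and taking the limit along `𝒰` is a surjective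
ring homomorphism `O → ℂ` (the standard part).
-/

set_option autoImplicit false
open Filter Topology

namespace Groth.Agent.Lib.Helper67.UltraC

variable {I : Type} (𝒰 : Ultrafilter I)

/-- The ultrapower of `ℂ`. -/
abbrev K : Type := Germ (𝒰 : Filter I) ℂ

/-- A germ is finite if it is eventually bounded by a natural number. -/
def IsFin (g : K 𝒰) : Prop := ∃ n : ℕ, g.LiftPred (fun z => ‖z‖ ≤ n)

variable {𝒰}

lemma isFin_coe {f : I → ℂ} : IsFin 𝒰 (f : K 𝒰) ↔ ∃ n : ℕ, ∀ᶠ i in 𝒰, ‖f i‖ ≤ n := by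
  unfold IsFin
  simp only [Germ.liftPred_coe]

lemma isFin_of_tendsto {f : I → ℂ} {z : ℂ} (h : Tendsto f 𝒰 (𝓝 z)) : IsFin 𝒰 (f : K 𝒰) := by
  rw [isFin_coe]
  obtain ⟨n, hn⟩ := exists_nat_gt (‖z‖ + 1)
  refine ⟨n, ?_⟩
  have h1 : ∀ᶠ i in 𝒰, ‖f i‖ < ‖z‖ + 1 :=
    (h.norm).eventually (gt_mem_nhds (lt_add_one ‖z‖))
  exact h1.mono fun i hi => (hi.trans hn).le

variable (𝒰)

/-- The subring of finite germs. -/
def finSubring : Subring (K 𝒰) where
  carrier := {g | IsFin 𝒰 g}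
  zero_mem' := by
    change IsFin 𝒰 ((fun _ => (0 : ℂ) : I → ℂ) : K 𝒰)
    rw [isFin_coe]
    exact ⟨0, Eventually.of_forall fun _ => by simp⟩
  one_mem' := by
    change IsFin 𝒰 ((fun _ => (1 : ℂ) : I → ℂ) : K 𝒰)
    rw [isFin_coe]
    exact ⟨1, Eventually.of_forall fun _ => by simp⟩
  add_mem' := by
    intro a b
    refine Germ.inductionOn₂ a b fun f g hf hg => ?_
    change IsFin 𝒰 _ at hf hg
    change IsFin 𝒰 ((f + g : I → ℂ) : K 𝒰)
    rw [isFin_coe] at hf hg ⊢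
    obtain ⟨n, hn⟩ := hf
    obtain ⟨m, hm⟩ := hg
    refine ⟨n + m, ?_⟩
    filter_upwards [hn, hm] with i h1 h2
    push_cast
    exact (norm_add_le _ _).trans (add_le_add h1 h2)
  mul_mem' := by
    intro a b
    refine Germ.inductionOn₂ a b fun f g hf hg => ?_
    change IsFin 𝒰 _ at hf hg
    change IsFin 𝒰 ((f * g : I → ℂ) : K 𝒰)
    rw [isFin_coe] at hf hg ⊢
    obtain ⟨n, hn⟩ := hf
    obtain ⟨m, hm⟩ := hg
    refine ⟨n * m, ?_⟩
    filter_upwards [hn, hm] with i h1 h2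
    push_cast
    rw [Pi.mul_apply, norm_mul]
    exact mul_le_mul h1 h2 (norm_nonneg _) (Nat.cast_nonneg n)
  neg_mem' := by
    intro a
    refine Germ.inductionOn a fun f hf => ?_
    change IsFin 𝒰 _ at hf
    change IsFin 𝒰 ((-f : I → ℂ) : K 𝒰)
    rw [isFin_coe] at hf ⊢
    obtain ⟨n, hn⟩ := hf
    refine ⟨n, ?_⟩
    filter_upwards [hn] with i h1
    rwa [Pi.neg_apply, norm_neg]

lemma mem_finSubring {g : K 𝒰} : g ∈ finSubring 𝒰 ↔ IsFin 𝒰 g := Iff.rfl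

lemma mem_or_inv_mem (g : K 𝒰) : g ∈ finSubring 𝒰 ∨ g⁻¹ ∈ finSubring 𝒰 := by
  refine Germ.inductionOn g fun f => ?_
  rcases (Ultrafilter.eventually_or (f := 𝒰) (p := fun i => ‖f i‖ ≤ 1)
      (q := fun i => 1 ≤ ‖f i‖)).mp (Eventually.of_forall fun i => le_total _ _) with h | h
  · left
    rw [mem_finSubring, isFin_coe]
    exact ⟨1, h.mono fun i hi => by simpa using hi⟩
  · right
    rw [← Germ.coe_inv, mem_finSubring, isFin_coe]
    refine ⟨1, h.mono fun i hi => ?_⟩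
    rw [Pi.inv_apply, norm_inv]
    simpa using inv_le_one_of_one_le₀ hi

/-- The valuation subring of finite germs. -/
noncomputable def O : ValuationSubring (K 𝒰) := ValuationSubring.ofSubring (finSubring 𝒰) (mem_or_inv_mem 𝒰)

lemma mem_O {g : K 𝒰} : g ∈ O 𝒰 ↔ IsFin 𝒰 g := Iff.rfl

variable {𝒰}

lemma exists_tendsto_of_isFin {f : I → ℂ} (h : IsFin 𝒰 (f : K 𝒰)) :
    ∃ z, Tendsto f 𝒰 (𝓝 z) := by
  rw [isFin_coe] at h
  obtain ⟨n, hn⟩ := h
  have hc : IsCompact (Metric.closedBall (0 : ℂ) n) := isCompact_closedBall 0 n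
  have hle : ((𝒰.map f : Ultrafilter ℂ) : Filter ℂ) ≤ 𝓟 (Metric.closedBall (0 : ℂ) n) := by
    rw [Ultrafilter.coe_map, le_principal_iff, mem_map]
    exact hn.mono fun i hi => by simpa using hi
  obtain ⟨z, -, hz⟩ := hc.ultrafilter_le_nhds (𝒰.map f) hle
  exact ⟨z, hz⟩

open Classical in
/-- The standard part of a germ (the limit along the ultrafilter, `0` if there is none). -/
noncomputable def st (g : K 𝒰) : ℂ := if h : ∃ z, g.Tendsto (𝓝 z) then Classical.choose h else 0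

lemma st_eq_of_tendsto {f : I → ℂ} {z : ℂ} (h : Tendsto f 𝒰 (𝓝 z)) : st (f : K 𝒰) = z := by
  have hex : ∃ z, (f : K 𝒰).Tendsto (𝓝 z) := ⟨z, Germ.coe_tendsto.mpr h⟩
  unfold st
  rw [dif_pos hex]
  exact tendsto_nhds_unique (Germ.coe_tendsto.mp (Classical.choose_spec hex)) h

lemma tendsto_st {f : I → ℂ} (h : IsFin 𝒰 (f : K 𝒰)) : Tendsto f 𝒰 (𝓝 (st (f : K 𝒰))) := by
  obtain ⟨z, hz⟩ := exists_tendsto_of_isFin h
  rw [st_eq_of_tendsto hz]
  exact hz

variable (𝒰)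

/-- The standard part as a ring homomorphism on the finite germs. -/
noncomputable def stHom : O 𝒰 →+* ℂ where
  toFun g := st (g : K 𝒰)
  map_zero' := by
    change st ((fun _ => (0 : ℂ) : I → ℂ) : K 𝒰) = 0
    exact st_eq_of_tendsto tendsto_const_nhds
  map_one' := by
    change st ((fun _ => (1 : ℂ) : I → ℂ) : K 𝒰) = 1
    exact st_eq_of_tendsto tendsto_const_nhds
  map_add' := by
    rintro ⟨a, ha⟩ ⟨b, hb⟩
    change st (a + b) = st a + st b
    induction a using Germ.inductionOn with | _ f => ?_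
    induction b using Germ.inductionOn with | _ g => ?_
    have h1 := tendsto_st ((mem_O 𝒰).mp ha)
    have h2 := tendsto_st ((mem_O 𝒰).mp hb)
    rw [← Germ.coe_add]
    exact st_eq_of_tendsto (h1.add h2)
  map_mul' := by
    rintro ⟨a, ha⟩ ⟨b, hb⟩
    change st (a * b) = st a * st b
    induction a using Germ.inductionOn with | _ f => ?_
    induction b using Germ.inductionOn with | _ g => ?_
    have h1 := tendsto_st ((mem_O 𝒰).mp ha)
    have h2 := tendsto_st ((mem_O 𝒰).mp hb)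
    rw [← Germ.coe_mul]
    exact st_eq_of_tendsto (h1.mul h2)

lemma stHom_apply (g : O 𝒰) : stHom 𝒰 g = st (g : K 𝒰) := rfl

/-- Constants are finite. -/
lemma const_mem_O (c : ℂ) : ((fun _ => c : I → ℂ) : K 𝒰) ∈ O 𝒰 :=
  (mem_O 𝒰).mpr (isFin_of_tendsto tendsto_const_nhds)

lemma stHom_const (c : ℂ) : stHom 𝒰 ⟨((fun _ => c : I → ℂ) : K 𝒰), const_mem_O 𝒰 c⟩ = c :=
  st_eq_of_tendsto tendsto_const_nhds

lemma stHom_surjective : Function.Surjective (stHom 𝒰) := fun c => ⟨_, stHom_const 𝒰 c⟩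

/-- If a function tends to `z` along `𝒰` then its germ is finite with standard part `z`. -/
lemma stHom_of_tendsto {f : I → ℂ} {z : ℂ} (h : Tendsto f 𝒰 (𝓝 z))
    (hf : (f : K 𝒰) ∈ O 𝒰) : stHom 𝒰 ⟨(f : K 𝒰), hf⟩ = z :=
  st_eq_of_tendsto h

/-- A representative of a finite germ tends to its standard part. -/
lemma tendsto_stHom {f : I → ℂ} (hf : (f : K 𝒰) ∈ O 𝒰) :
    Tendsto f 𝒰 (𝓝 (stHom 𝒰 ⟨(f : K 𝒰), hf⟩)) :=
  tendsto_st ((mem_O 𝒰).mp hf)

lemma coe_ne_zero_iff {f : I → ℂ} : (f : K 𝒰) ≠ 0 ↔ ∀ᶠ i in 𝒰, f i ≠ 0 := by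
  have h : (∀ᶠ i in 𝒰, f i ≠ 0) ↔ ¬ ∀ᶠ i in 𝒰, f i = 0 := Ultrafilter.eventually_not
  rw [h]
  change ¬ ((f : K 𝒰) = ((fun _ => (0 : ℂ) : I → ℂ) : K 𝒰)) ↔ _
  rw [Germ.coe_eq]
  rfl

end Groth.Agent.Lib.Helper67.UltraC
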